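import Cfsg.Agent.Lib.Characters.Decomp
import Cfsg.Agent.Lib.Characters.Scalar
import Cfsg.Prelude.Def_Blocks

/-!
# Counting products from two conjugacy classes with prescribed value

The character formula for the number of pairs `(x, y)` in `K_a × K_b` with `x * y` in a given
set, and its congruence consequences modulo a prime when no character of `p`-defect zero exists.
-/

set_option autoImplicit false

noncomputable section

namespace CfsgLib.ClassCount

open Cfsg CfsgLib.Characters
open scoped ComplexConjugate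

variable {G : Type*} [Group G] [Fintype G]

open scoped Classical in
/-- The conjugacy class of `a`, as a finset. -/
def cls (a : G) : Finset G := Finset.univ.filter fun x => IsConj a x

theorem mem_cls {a x : G} : x ∈ cls a ↔ IsConj a x := by
  classical
  simp [cls]

theorem mem_cls_self (a : G) : a ∈ cls a := mem_cls.2 (IsConj.refl a)

theorem card_cls (a : G) : (cls a).card = (Subgroup.centralizer ({a} : Set G)).index := by
  classical
  rw [← card_isConj_eq_index, Nat.card_eq_fintype_card, Fintype.card_subtype]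
  rfl

theorem card_cls_mul_centralizer (a : G) :
    (cls a).card * Nat.card (Subgroup.centralizer ({a} : Set G)) = Nat.card G := by
  rw [card_cls, Subgroup.index_mul_card]

/-- The centralizer order, as a complex number, is non-zero. -/
theorem centralizer_ne_zero (a : G) :
    (Nat.card (Subgroup.centralizer ({a} : Set G)) : ℂ) ≠ 0 :=
  Nat.cast_ne_zero.2 Nat.card_pos.ne'

theorem centralChar_mul_centralizer (χ : G → ℂ) (a : G) :
    centralChar χ a * (Nat.card (Subgroup.centralizer ({a} : Set G)) : ℂ) =
      (Nat.card G : ℂ) * χ a / χ 1 := by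
  rw [centralChar, div_mul_eq_mul_div, mul_right_comm, ← Nat.cast_mul, Subgroup.index_mul_card]

theorem irr_class_scalar {V : Type*} [AddCommGroup V] [Module ℂ V] [FiniteDimensional ℂ V]
    (ρ : Representation ℂ G V) [ρ.IsIrreducible] (a : G) :
    ∑ x ∈ cls a, ρ x = centralChar ρ.character a • (1 : Module.End ℂ V) := by
  classical
  let δ : G → ℂ := fun x => if IsConj a x then 1 else 0
  have hδ : IsClassFunction G δ := fun c d => by
    have h : IsConj c (d * c * d⁻¹) := isConj_iff.mpr ⟨d, rfl⟩
    simp only [δ]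
    by_cases hc : IsConj a c
    · rw [if_pos hc, if_pos (hc.trans h)]
    · rw [if_neg hc, if_neg fun h' => hc (h'.trans h.symm)]
  have h1 := funEnd_eq_smul ρ hδ
  have h2 : funEnd ρ δ = ∑ x ∈ cls a, ρ x := by
    rw [funEnd, cls, Finset.sum_filter]
    refine Finset.sum_congr rfl fun x _ => ?_
    by_cases h : IsConj a x <;> simp [δ, h]
  rw [← h2, h1]
  congr 1
  have h3 : ∑ x : G, δ x * ρ.character x = ((cls a).card : ℂ) * ρ.character a := by
    simp only [δ, ite_mul, one_mul, zero_mul, ← Finset.sum_filter]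
    rw [Finset.sum_congr rfl fun x hx => by
      rw [← classFunction_eq_of_isConj (isClassFunction_of_isCharacter
        (isCharacter_character ρ)) (Finset.mem_filter.mp hx).2]]
    rw [Finset.sum_const, nsmul_eq_mul]
    rfl
  rw [h3, centralChar, card_cls, Representation.char_one]

/-- Summing an irreducible character over `x * y * h`. -/
theorem sum_char_mul (χ : IrrCharacter G) (a b h : G) :
    ∑ x ∈ cls a, ∑ y ∈ cls b, (χ : G → ℂ) (x * y * h) =
      centralChar (χ : G → ℂ) a * centralChar (χ : G → ℂ) b * (χ : G → ℂ) h := by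
  obtain ⟨c, n, ρ, hρ, rfl⟩ := χ
  have := hρ
  show _ = centralChar ρ.character a * centralChar ρ.character b * ρ.character h
  have h1 : ∑ x ∈ cls a, ∑ y ∈ cls b, ρ.character (x * y * h) =
      LinearMap.trace ℂ _ ((∑ x ∈ cls a, ρ x) * (∑ y ∈ cls b, ρ y) * ρ h) := by
    simp only [Finset.sum_mul, Finset.mul_sum, map_sum, Representation.character, map_mul]
    rw [Finset.sum_comm]
  rw [h1, irr_class_scalar, irr_class_scalar]
  simp only [smul_mul_assoc, one_mul, map_smul, smul_eq_mul, mul_assoc]
  rfl

open scoped Classical in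
/-- The pairs from two classes with product in `T`. -/
def pairs (a b : G) (T : Finset G) : Finset (G × G) :=
  (cls a ×ˢ cls b).filter fun z => z.1 * z.2 ∈ T

/-- Burnside's count of pairs with prescribed product. -/
theorem card_pairs_mul (a b : G) (T : Finset G) :
    ((pairs a b T).card : ℂ) * Nat.card G =
      ∑ χ : IrrCharacter G, (χ : G → ℂ) 1 * (centralChar (χ : G → ℂ) a *
        centralChar (χ : G → ℂ) b * ∑ t ∈ T, (χ : G → ℂ) t⁻¹) := by
  classical
  simp only [Finset.mul_sum, ← sum_char_mul]
  rw [Finset.sum_comm]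
  simp only [← Finset.sum_product' (cls a) (cls b)]
  have hswap : ∀ t : G, ∑ χ : IrrCharacter G, ∑ z ∈ cls a ×ˢ cls b,
      (χ : G → ℂ) 1 * (χ : G → ℂ) (z.1 * z.2 * t⁻¹) =
      ∑ z ∈ cls a ×ˢ cls b, if z.1 * z.2 = t then (Nat.card G : ℂ) else 0 := by
    intro t
    rw [Finset.sum_comm]
    refine Finset.sum_congr rfl fun z _ => ?_
    rw [sum_degree_mul_irr]
    simp [mul_inv_eq_one]
  simp only [Finset.mul_sum, hswap]
  rw [Finset.sum_comm]
  simp only [Finset.sum_ite_eq]
  rw [← Finset.sum_filter, Finset.sum_const, nsmul_eq_mul]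
  rfl

/-- The multiplicity of the trivial character in the restriction to a subgroup. -/
theorem exists_mult (χ : IrrCharacter G) (H : Subgroup G) [Fintype H] :
    ∃ m : ℕ, ∑ t : H, (χ : G → ℂ) ((t : G)⁻¹) = (Nat.card H : ℂ) * m := by
  obtain ⟨c, n, ρ, hρ, rfl⟩ := χ
  let σ : Representation ℂ H (Fin n → ℂ) := ρ.comp H.subtype
  have : Invertible (Nat.card H : ℂ) := invertibleOfNonzero (Nat.cast_ne_zero.2 Nat.card_pos.ne')
  refine ⟨Module.finrank ℂ (Representation.invariants σ), ?_⟩
  rw [← Representation.card_inv_mul_sum_char_eq_finrank σ, ← mul_assoc,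
    mul_inv_cancel₀ (Nat.cast_ne_zero.2 Nat.card_pos.ne'), one_mul]
  exact Fintype.sum_equiv (Equiv.inv H) _ _ fun t => rfl

theorem irr_isIntegral (χ : IrrCharacter G) (g : G) : IsIntegral ℤ ((χ : G → ℂ) g) := by
  obtain ⟨c, n, ρ, hρ, rfl⟩ := χ
  exact CharScalar.isIntegral_character ρ g

theorem centralChar_isIntegral (χ : IrrCharacter G) (a : G) :
    IsIntegral ℤ (centralChar (χ : G → ℂ) a) := by
  obtain ⟨c, n, ρ, hρ, rfl⟩ := χ
  have := hρ
  have := CharScalar.nontrivial_of_irreducible ρ
  refine CharScalar.isIntegral_scalar_of_span ρ (cls a) (fun _ => (1 : ℂ))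
    (fun _ _ => isIntegral_one) id ?_
  simp [irr_class_scalar]

/-- The degree of an irreducible character as a natural number. -/
theorem degree_eq (χ : IrrCharacter G) :
    (χ : G → ℂ) 1 = (charDegree (χ : G → ℂ) : ℂ) ∧ charDegree (χ : G → ℂ) ∣ Nat.card G ∧
      0 < charDegree (χ : G → ℂ) := by
  obtain ⟨c, n, ρ, hρ, rfl⟩ := χ
  have := hρ
  have h : charDegree ρ.character = Module.finrank ℂ (Fin n → ℂ) := by
    simp [charDegree, Representation.char_one]
  refine ⟨?_, ?_, ?_⟩
  · show ρ.character 1 = _
    rw [h, Representation.char_one]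
  · show charDegree ρ.character ∣ _
    rw [h]; exact CharScalar.finrank_dvd_card ρ
  · show 0 < charDegree ρ.character
    rw [h]; exact CharScalar.finrank_pos ρ

/-- `|G| / χ(1)` as a natural number. -/
def cofDegree (χ : IrrCharacter G) : ℕ := Nat.card G / charDegree (χ : G → ℂ)

theorem degree_mul_cofDegree (χ : IrrCharacter G) :
    charDegree (χ : G → ℂ) * cofDegree χ = Nat.card G :=
  Nat.mul_div_cancel' (degree_eq χ).2.1

theorem card_div_degree (χ : IrrCharacter G) :
    (Nat.card G : ℂ) / (χ : G → ℂ) 1 = (cofDegree χ : ℂ) := by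
  rw [(degree_eq χ).1, ← degree_mul_cofDegree χ, Nat.cast_mul, mul_div_assoc,
    mul_div_left_comm, div_self (Nat.cast_ne_zero.2 (degree_eq χ).2.2.ne'), mul_one]

/-- The count formula cleared of denominators. -/
theorem card_pairs_mul_centralizers (a b : G) (T : Finset G) :
    ((pairs a b T).card : ℂ) * (Nat.card (Subgroup.centralizer ({a} : Set G)) : ℂ) *
        (Nat.card (Subgroup.centralizer ({b} : Set G)) : ℂ) =
      ∑ χ : IrrCharacter G, (cofDegree χ : ℂ) *
        ((χ : G → ℂ) a * (χ : G → ℂ) b * ∑ t ∈ T, (χ : G → ℂ) t⁻¹) := by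
  have hG : (Nat.card G : ℂ) ≠ 0 := Nat.cast_ne_zero.2 Nat.card_pos.ne'
  apply mul_left_cancel₀ hG
  calc (Nat.card G : ℂ) * (((pairs a b T).card : ℂ) *
        (Nat.card (Subgroup.centralizer ({a} : Set G)) : ℂ) *
        (Nat.card (Subgroup.centralizer ({b} : Set G)) : ℂ))
      = (((pairs a b T).card : ℂ) * Nat.card G) *
          (Nat.card (Subgroup.centralizer ({a} : Set G)) : ℂ) *
          (Nat.card (Subgroup.centralizer ({b} : Set G)) : ℂ) := by ring
    _ = _ := by
      rw [card_pairs_mul, Finset.sum_mul, Finset.sum_mul, Finset.mul_sum]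
      refine Finset.sum_congr rfl fun χ _ => ?_
      rw [← card_div_degree χ]
      calc _ = (χ : G → ℂ) 1 *
            ((centralChar (χ : G → ℂ) a * (Nat.card (Subgroup.centralizer ({a} : Set G)) : ℂ)) *
            (centralChar (χ : G → ℂ) b * (Nat.card (Subgroup.centralizer ({b} : Set G)) : ℂ))) *
            ∑ t ∈ T, (χ : G → ℂ) t⁻¹ := by ring
        _ = _ := by
          rw [centralChar_mul_centralizer, centralChar_mul_centralizer]
          have h1 : (χ : G → ℂ) 1 ≠ 0 := irr_one_ne_zero χ
          field_simp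

end CfsgLib.ClassCount
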