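import Cfsg.Agent.Lib.Blocks.LocalRing
import Mathlib.RingTheory.RootsOfUnity.Complex
import Mathlib.RingTheory.Polynomial.Cyclotomic.Basic
import Mathlib.GroupTheory.FiniteAbelian.Basic
import Mathlib.FieldTheory.Finite.Basic
import Mathlib.RingTheory.IntegralClosure.IsIntegral.Basic

/-!
# Roots of unity modulo `M`
-/

set_option autoImplicit false
set_option linter.style.haveILetI false

namespace CfsgLib.Blocks

open Cfsg Polynomial

variable {p : ℕ} {M : Ideal AlgInt}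

/-- Roots of unity of order prime to `p` stay distinct modulo `M`. -/
theorem rootOfUnity_eq_one_of_mem (hM : IsPModular p M) {z : AlgInt} {m : ℕ} (hm : ¬ p ∣ m)
    (hz : z ^ m = 1) (h : z - 1 ∈ M) : z = 1 := by
  by_contra hne
  have h1 : (∑ i ∈ Finset.range m, z ^ i) * (z - 1) = 0 := by
    rw [geom_sum_mul, hz, sub_self]
  have h2 : ∑ i ∈ Finset.range m, z ^ i = 0 :=
    (mul_eq_zero.1 h1).resolve_right (sub_ne_zero.2 hne)
  refine hm ((natCast_mem_iff hM m).1 ?_)
  have h3 : (m : AlgInt) = -∑ i ∈ Finset.range m, (z ^ i - 1) := by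
    rw [Finset.sum_sub_distrib, h2]
    simp
  rw [h3]
  refine M.neg_mem (Ideal.sum_mem _ fun i _ => ?_)
  obtain ⟨c, hc⟩ := sub_one_dvd_pow_sub_one z i
  rw [hc]
  exact M.mul_mem_right _ h

/-- A nonzero residue is a root of unity of order prime to `p`. -/
theorem exists_pow_eq_one_residue (hM : IsPModular p M) {x : AlgInt ⧸ M} (hx : x ≠ 0) :
    ∃ m : ℕ, ¬ p ∣ m ∧ 0 < m ∧ x ^ m = 1 := by
  haveI := IsPModular.isMaximal hM
  letI := Ideal.Quotient.field M
  haveI := charP_residue hM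
  haveI : Fact p.Prime := ⟨hM.1⟩
  obtain ⟨a, rfl⟩ := Ideal.Quotient.mk_surjective x
  have hint : IsIntegral ℤ (Ideal.Quotient.mk M a) := by
    have h0 : IsIntegral ℤ a :=
      (isIntegral_algHom_iff (AlgInt).val Subtype.val_injective).1 a.2
    exact h0.map (Ideal.Quotient.mk M).toIntAlgHom
  set A := Algebra.adjoin ℤ {Ideal.Quotient.mk M a}
  haveI : Module.Finite ℤ A.toSubmodule := Module.Finite.iff_fg.2 hint.fg_adjoin_singleton
  have htors : Module.IsTorsion ℤ A.toSubmodule := by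
    intro z
    refine ⟨⟨(p : ℤ), mem_nonZeroDivisors_of_ne_zero (by exact_mod_cast hM.1.ne_zero)⟩, ?_⟩
    apply Subtype.ext
    show (p : ℤ) • (z : AlgInt ⧸ M) = 0
    rw [zsmul_eq_mul]
    push_cast
    rw [CharP.cast_eq_zero, zero_mul]
  haveI : _root_.Finite A.toSubmodule := Module.finite_of_fg_torsion _ htors
  set y : AlgInt ⧸ M := Ideal.Quotient.mk M a
  obtain ⟨i, j, hne, hij⟩ := Finite.exists_ne_map_eq_of_infinite fun n : ℕ =>
    (⟨y ^ n, pow_mem (Algebra.self_mem_adjoin_singleton ℤ y) n⟩ : A.toSubmodule)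
  have hij' : y ^ i = y ^ j := congrArg Subtype.val hij
  obtain ⟨m, hm, hym⟩ : ∃ m : ℕ, 0 < m ∧ y ^ m = 1 := by
    rcases Nat.lt_or_gt_of_ne hne with h | h
    · refine ⟨j - i, by omega, mul_left_cancel₀ (pow_ne_zero i hx) ?_⟩
      rw [← pow_add, mul_one, Nat.add_sub_cancel' h.le, hij']
    · refine ⟨i - j, by omega, mul_left_cancel₀ (pow_ne_zero j hx) ?_⟩
      rw [← pow_add, mul_one, Nat.add_sub_cancel' h.le, hij']
  set v := m.factorization p
  refine ⟨m / p ^ v, Nat.not_dvd_ordCompl hM.1 hm.ne', Nat.ordCompl_pos p hm.ne', ?_⟩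
  have h1 : (y ^ (m / p ^ v)) ^ p ^ v = 1 ^ p ^ v := by
    rw [← pow_mul, mul_comm, Nat.mul_div_cancel' (Nat.ordProj_dvd m p), hym, one_pow]
  exact iterateFrobenius_inj (AlgInt ⧸ M) p v (by simpa [iterateFrobenius_def] using h1)

/-- Every algebraic integer outside `M` is congruent to a root of unity of order prime to `p`. -/
theorem exists_rootOfUnity_congr (hM : IsPModular p M) {a : AlgInt} (ha : a ∉ M) :
    ∃ e : AlgInt, (∃ m : ℕ, ¬ p ∣ m ∧ (e : ℂ) ^ m = 1) ∧ a - e ∈ M := by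
  haveI := IsPModular.isPrime hM
  obtain ⟨m, hm, hm0, hx⟩ := exists_pow_eq_one_residue hM (mk_ne_zero_of_notMem ha)
  let ζ : ℂ := Complex.exp (2 * Real.pi * Complex.I / m)
  have hζ : IsPrimitiveRoot ζ m := Complex.isPrimitiveRoot_exp m hm0.ne'
  let z : AlgInt := ⟨ζ, IsIntegral.of_pow hm0 (by rw [hζ.pow_eq_one]; exact isIntegral_one)⟩
  have hz : IsPrimitiveRoot z m :=
    IsPrimitiveRoot.of_map_of_injective (f := (AlgInt).val) hζ Subtype.val_injective
  have hfac := congrArg (Polynomial.eval₂ (Ideal.Quotient.mk M) (Ideal.Quotient.mk M a))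
    (Polynomial.X_pow_sub_one_eq_prod hm0 hz)
  simp only [Polynomial.eval₂_sub, Polynomial.eval₂_pow, Polynomial.eval₂_X, Polynomial.eval₂_one,
    hx, sub_self, Polynomial.eval₂_finsetProd, Polynomial.eval₂_C] at hfac
  obtain ⟨e, he, he0⟩ := Finset.prod_eq_zero_iff.1 hfac.symm
  refine ⟨e, ⟨m, hm, ?_⟩, Ideal.Quotient.eq.1 (sub_eq_zero.1 he0)⟩
  have h1 := (Polynomial.mem_nthRootsFinset hm0 (1 : AlgInt)).1 he
  exact congrArg Subtype.val h1

end CfsgLib.Blocks
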