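import Mathlib.Algebra.MonoidAlgebra.Basic
import Mathlib.GroupTheory.PGroup
import Mathlib.GroupTheory.Subgroup.Centralizer
import Mathlib.Algebra.Algebra.Subalgebra.Basic
import Mathlib.RingTheory.Nilpotent.Basic
import Mathlib.GroupTheory.GroupAction.Quotient

/-!
# The Brauer map and defect ideals in a group algebra over a ring killed by `p`

Everything lives inside the group algebra of the ambient group `G`: the algebra of a subgroup `K`
is the set of elements supported on `K`, and the Brauer map at `P` is the truncation to the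
centraliser of `P`.
-/

set_option autoImplicit false
set_option linter.style.haveILetI false
set_option linter.unusedSectionVars false

namespace CfsgLib.BlockAlg

open MonoidAlgebra

section PSum

variable {p : ℕ} {P X A : Type*} [Group P] [MulAction P X] [Fintype X] [AddCommMonoid A]

/-- A sum of values of a function invariant under a `p`-group only sees the fixed points, if
`p` kills the target. -/
theorem sum_eq_sum_fixed [Fact p.Prime] (hA : ∀ a : A, p • a = 0) (hP : IsPGroup p P) (f : X → A)
    (hf : ∀ (u : P) (x : X), f (u • x) = f x) [DecidablePred (· ∈ MulAction.fixedPoints P X)] :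
    ∑ x, f x = ∑ x ∈ Finset.univ.filter (· ∈ MulAction.fixedPoints P X), f x := by
  classical
  rw [← Finset.sum_filter_add_sum_filter_not Finset.univ (· ∈ MulAction.fixedPoints P X)]
  suffices h : ∑ x ∈ Finset.univ.filter (fun x => x ∉ MulAction.fixedPoints P X), f x = 0 by
    rw [h, add_zero]
  rw [← Finset.sum_fiberwise _ (Quotient.mk (MulAction.orbitRel P X)) f]
  refine Finset.sum_eq_zero fun q _ => ?_
  induction q using Quotient.inductionOn with
  | _ x₀ =>
    by_cases hx₀ : x₀ ∈ MulAction.fixedPoints P X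
    · refine Finset.sum_eq_zero fun y hy => ?_
      simp only [Finset.mem_filter, Finset.mem_univ, true_and] at hy
      obtain ⟨u, hu⟩ := (MulAction.orbitRel_apply).1 (Quotient.exact hy.2)
      exact absurd ((hu.symm.trans (hx₀ u)) ▸ hx₀) hy.1
    · have key : ∀ y, (y ∉ MulAction.fixedPoints P X ∧
          Quotient.mk (MulAction.orbitRel P X) y = Quotient.mk _ x₀) ↔ y ∈ MulAction.orbit P x₀ := by
        intro y
        constructor
        · exact fun h => MulAction.orbitRel_apply.1 (Quotient.exact h.2)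
        · intro h
          refine ⟨fun hfix => ?_, Quotient.sound (MulAction.orbitRel_apply.2 h)⟩
          obtain ⟨u, hu⟩ := MulAction.mem_orbit_symm.1 h
          exact hx₀ ((hu.symm.trans (hfix u)) ▸ hfix)
      have hconst : ∀ y ∈ MulAction.orbit P x₀, f y = f x₀ := by
        rintro y ⟨u, rfl⟩; exact hf u x₀
      rw [Finset.filter_filter]
      rw [Finset.sum_congr rfl (fun y hy => hconst y ((key y).1 (Finset.mem_filter.1 hy).2))]
      rw [Finset.sum_const]
      have : Finite (MulAction.orbit P x₀) := Subtype.finite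
      obtain ⟨n, hn⟩ := hP.card_orbit x₀
      have hcard : (Finset.univ.filter fun y => y ∉ MulAction.fixedPoints P X ∧
          Quotient.mk (MulAction.orbitRel P X) y = Quotient.mk _ x₀).card = p ^ n := by
        rw [← hn, Nat.card_eq_fintype_card, ← Set.toFinset_card]
        congr 1
        ext y
        simp only [Finset.mem_filter, Finset.mem_univ, true_and, Set.mem_toFinset]
        exact key y
      rw [hcard]
      rcases n with _ | m
      · exfalso
        apply hx₀
        intro u
        have hs : Subsingleton (MulAction.orbit P x₀) := by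
          rw [← Finite.card_le_one_iff_subsingleton, hn]; simp
        exact congrArg Subtype.val (hs.elim ⟨_, MulAction.mem_orbit x₀ u⟩
          ⟨_, MulAction.mem_orbit_self x₀⟩)
      · rw [pow_succ, mul_comm, mul_nsmul, hA, nsmul_zero]

end PSum

variable {k G : Type*} [CommRing k] [Group G]

/-- An element is supported on the subgroup `K`. -/
def SuppIn (K : Subgroup G) (x : MonoidAlgebra k G) : Prop :=
  ∀ g, g ∉ K → x.coeff g = 0

/-- An element is invariant under conjugation by the subgroup `H`. -/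
def Inv (H : Subgroup G) (x : MonoidAlgebra k G) : Prop :=
  ∀ h ∈ H, ∀ g, x.coeff (h * g * h⁻¹) = x.coeff g

/-- Conjugate of `x` by `g`: its coefficient at `c` is that of `x` at `g⁻¹ * c * g`. -/
noncomputable def conjA (g : G) (x : MonoidAlgebra k G) : MonoidAlgebra k G :=
  single g 1 * x * single g⁻¹ 1

theorem coeff_conjA (g c : G) (x : MonoidAlgebra k G) :
    (conjA g x).coeff c = x.coeff (g⁻¹ * c * g) := by
  simp [conjA, mul_assoc]

theorem conjA_mul (g : G) (x y : MonoidAlgebra k G) : conjA g (x * y) = conjA g x * conjA g y := by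
  have h : (single g⁻¹ 1 : MonoidAlgebra k G) * single g 1 = 1 := by
    rw [single_mul_single, inv_mul_cancel, one_mul]; rfl
  simp only [conjA, mul_assoc]
  rw [← mul_assoc (single g⁻¹ 1) (single g 1), h, one_mul]

theorem inv_iff_conjA {H : Subgroup G} {x : MonoidAlgebra k G} :
    Inv H x ↔ ∀ h ∈ H, conjA h x = x := by
  constructor
  · intro hx h hh
    ext c
    rw [coeff_conjA, ← hx h⁻¹ (H.inv_mem hh) c, inv_inv]
  · intro hx h hh g
    conv_lhs => rw [← hx h hh]
    rw [coeff_conjA]
    congr 1; group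

theorem Inv.mono {H H' : Subgroup G} {x : MonoidAlgebra k G} (hx : Inv H x) (h : H' ≤ H) :
    Inv H' x := fun u hu g => hx u (h hu) g

theorem SuppIn.mono {K K' : Subgroup G} {x : MonoidAlgebra k G} (hx : SuppIn K x) (h : K ≤ K') :
    SuppIn K' x := fun g hg => hx g fun hgK => hg (h hgK)

theorem suppIn_top (x : MonoidAlgebra k G) : SuppIn ⊤ x :=
  fun _ hg => absurd (Subgroup.mem_top _) hg

variable [Fintype G]

theorem coeff_mul_sum (x y : MonoidAlgebra k G) (g : G) :
    (x * y).coeff g = ∑ a : G, x.coeff a * y.coeff (a⁻¹ * g) := by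
  rw [coeff_mul_apply_left, Finsupp.sum_fintype]
  simp

theorem SuppIn.mul {K : Subgroup G} {x y : MonoidAlgebra k G} (hx : SuppIn K x) (hy : SuppIn K y) :
    SuppIn K (x * y) := by
  intro g hg
  rw [coeff_mul_sum]
  refine Finset.sum_eq_zero fun a _ => ?_
  by_cases ha : a ∈ K
  · rw [hy _ fun h => hg (by simpa using K.mul_mem ha h), mul_zero]
  · rw [hx a ha, zero_mul]

theorem Inv.mul {H : Subgroup G} {x y : MonoidAlgebra k G} (hx : Inv H x) (hy : Inv H y) :
    Inv H (x * y) := by
  rw [inv_iff_conjA] at *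
  intro h hh
  rw [conjA_mul, hx h hh, hy h hh]

/-- The elements supported on `K` and invariant under conjugation by `H`. -/
def invAlg (k : Type*) [CommRing k] (K H : Subgroup G) : Subalgebra k (MonoidAlgebra k G) where
  carrier := {x | SuppIn K x ∧ Inv H x}
  mul_mem' hx hy := ⟨hx.1.mul hy.1, hx.2.mul hy.2⟩
  add_mem' hx hy :=
    ⟨fun g hg => by simp [hx.1 g hg, hy.1 g hg], fun h hh g => by simp [hx.2 h hh g, hy.2 h hh g]⟩
  algebraMap_mem' r := by
    classical
    constructor
    · intro g hg
      have hg1 : g ≠ 1 := fun h => hg (h ▸ K.one_mem)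
      simp [Algebra.algebraMap_eq_smul_one, one_def, Finsupp.single_eq_of_ne hg1]
    · intro h _ g
      simp [Algebra.algebraMap_eq_smul_one, one_def, Finsupp.single_apply,
        eq_comm (a := (1 : G))]

theorem mem_invAlg {K H : Subgroup G} {x : MonoidAlgebra k G} :
    x ∈ invAlg k K H ↔ SuppIn K x ∧ Inv H x := Iff.rfl

theorem invAlg_mono {K K' H H' : Subgroup G} (hK : K ≤ K') (hH : H' ≤ H) :
    invAlg k K H ≤ invAlg k K' H' := fun _ hx => ⟨hx.1.mono hK, hx.2.mono hH⟩

/-- Elements supported on `K` commute with elements invariant under `K`. -/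
theorem commute_of_inv {K : Subgroup G} {x y : MonoidAlgebra k G} (hx : SuppIn K x) (hy : Inv K y) :
    Commute x y := by
  classical
  change x * y = y * x
  ext g
  rw [coeff_mul_sum, coeff_mul_sum,
    ← (Equiv.divLeft g).sum_comp (fun a => y.coeff a * x.coeff (a⁻¹ * g))]
  refine Finset.sum_congr rfl fun a _ => ?_
  by_cases ha : a ∈ K
  · simp only [Equiv.divLeft_apply, div_eq_mul_inv]
    have h := hy a ha (a⁻¹ * g)
    rw [show (g * a⁻¹)⁻¹ * g = a by group, show g * a⁻¹ = a * (a⁻¹ * g) * a⁻¹ by group, h,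
      mul_comm]
  · simp only [Equiv.divLeft_apply, div_eq_mul_inv]
    rw [show (g * a⁻¹)⁻¹ * g = a by group, hx a ha, zero_mul, mul_zero]

/-- The element with given coefficients. -/
noncomputable def ofFun (f : G → k) : MonoidAlgebra k G :=
  ofCoeff (Finsupp.equivFunOnFinite.symm f)

@[simp] theorem coeff_ofFun (f : G → k) (g : G) : (ofFun f).coeff g = f g := rfl

/-- The Brauer map at `P`: truncation to the centraliser of `P`. -/
noncomputable def br (P : Subgroup G) (x : MonoidAlgebra k G) : MonoidAlgebra k G :=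
  letI := Classical.decPred (· ∈ Subgroup.centralizer (P : Set G))
  ofFun fun g => if g ∈ Subgroup.centralizer (P : Set G) then x.coeff g else 0

theorem coeff_br (P : Subgroup G) (x : MonoidAlgebra k G) (g : G)
    [Decidable (g ∈ Subgroup.centralizer (P : Set G))] :
    (br P x).coeff g = if g ∈ Subgroup.centralizer (P : Set G) then x.coeff g else 0 := by
  unfold br
  rw [coeff_ofFun]
  congr

theorem coeff_br_of_mem {P : Subgroup G} {x : MonoidAlgebra k G} {g : G}
    (hg : g ∈ Subgroup.centralizer (P : Set G)) : (br P x).coeff g = x.coeff g := by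
  classical rw [coeff_br, if_pos hg]

theorem suppIn_br (P : Subgroup G) (x : MonoidAlgebra k G) :
    SuppIn (Subgroup.centralizer (P : Set G)) (br P x) := by
  classical
  intro g hg
  rw [coeff_br, if_neg hg]

theorem br_add (P : Subgroup G) (x y : MonoidAlgebra k G) : br P (x + y) = br P x + br P y := by
  classical
  ext g
  by_cases h : g ∈ Subgroup.centralizer (P : Set G) <;> simp [coeff_br, h]

theorem br_smul (P : Subgroup G) (a : k) (x : MonoidAlgebra k G) : br P (a • x) = a • br P x := by
  classical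
  ext g
  by_cases h : g ∈ Subgroup.centralizer (P : Set G) <;> simp [coeff_br, h]

theorem br_of_suppIn {P : Subgroup G} {x : MonoidAlgebra k G}
    (hx : SuppIn (Subgroup.centralizer (P : Set G)) x) : br P x = x := by
  classical
  ext g
  by_cases h : g ∈ Subgroup.centralizer (P : Set G)
  · simp [coeff_br, h]
  · simp [coeff_br, h, hx g h]

theorem br_one (P : Subgroup G) : br P (1 : MonoidAlgebra k G) = 1 :=
  br_of_suppIn (fun g hg => by
    simp [one_def, Finsupp.single_eq_of_ne (a := (1 : G)) (a' := g) (b := (1 : k))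
      (fun h : g = 1 => hg (h ▸ Subgroup.one_mem _))])

theorem br_br {P Q : Subgroup G} (h : Q ≤ P) (x : MonoidAlgebra k G) : br P (br Q x) = br P x := by
  classical
  ext g
  by_cases hg : g ∈ Subgroup.centralizer (P : Set G)
  · rw [coeff_br_of_mem hg, coeff_br_of_mem hg, coeff_br_of_mem]
    exact Subgroup.centralizer_le (SetLike.coe_subset_coe.2 h) hg
  · rw [suppIn_br P _ g hg, suppIn_br P _ g hg]

theorem inv_br {H P : Subgroup G} (hH : H ≤ Subgroup.normalizer (P : Set G))
    {x : MonoidAlgebra k G} (hx : Inv H x) : Inv H (br P x) := by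
  classical
  intro h hh g
  have hmem : h * g * h⁻¹ ∈ Subgroup.centralizer (P : Set G) ↔
      g ∈ Subgroup.centralizer (P : Set G) := by
    simp only [Subgroup.mem_centralizer_iff, SetLike.mem_coe]
    constructor
    · intro H1 u hu
      have h2 := H1 (h * u * h⁻¹) ((Subgroup.mem_normalizer_iff.1 (hH hh) u).1 hu)
      calc u * g = h⁻¹ * (h * u * h⁻¹ * (h * g * h⁻¹)) * h := by group
        _ = h⁻¹ * (h * g * h⁻¹ * (h * u * h⁻¹)) * h := by rw [h2]
        _ = g * u := by group
    · intro H1 u hu
      have h2 := H1 (h⁻¹ * u * h)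
        ((Subgroup.mem_normalizer_iff''.1 (hH hh) u).1 hu)
      calc u * (h * g * h⁻¹) = h * (h⁻¹ * u * h * g) * h⁻¹ := by group
        _ = h * (g * (h⁻¹ * u * h)) * h⁻¹ := by rw [h2]
        _ = h * g * h⁻¹ * u := by group
  rw [coeff_br, coeff_br, if_congr hmem (hx h hh g) rfl]

theorem centralizer_le_normalizer' (P : Subgroup G) :
    Subgroup.centralizer (P : Set G) ≤ Subgroup.normalizer (P : Set G) :=
  Subgroup.centralizer_le_normalizer _

section CharP

variable {p : ℕ} [Fact p.Prime]

/-- The coefficient of a product at an element centralised by the `p`-group `P`. -/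
theorem coeff_mul_of_pGroup (hpk : (p : k) = 0) {P : Subgroup G} (hP : IsPGroup p P)
    {x y : MonoidAlgebra k G} (hx : Inv P x) (hy : Inv P y) {c : G}
    (hc : c ∈ Subgroup.centralizer (P : Set G)) :
    (x * y).coeff c = (br P x * br P y).coeff c := by
  classical
  rw [coeff_mul_sum, coeff_mul_sum]
  letI : MulAction P G := MulAction.compHom G (MulAut.conj.comp P.subtype)
  have hsmul : ∀ (u : P) (a : G), u • a = (u : G) * a * (u : G)⁻¹ := fun u a => rfl
  have hA : ∀ a : k, p • a = 0 := fun a => by rw [nsmul_eq_mul, hpk, zero_mul]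
  have hfix : ∀ a : G, a ∈ MulAction.fixedPoints P G ↔
      a ∈ Subgroup.centralizer (P : Set G) := by
    intro a
    simp only [MulAction.mem_fixedPoints, hsmul, Subgroup.mem_centralizer_iff, SetLike.mem_coe]
    exact ⟨fun h u hu => mul_inv_eq_iff_eq_mul.1 (h ⟨u, hu⟩),
      fun h u => mul_inv_eq_iff_eq_mul.2 (h u u.2)⟩
  rw [sum_eq_sum_fixed hA hP (fun a => x.coeff a * y.coeff (a⁻¹ * c)), Finset.sum_filter]
  · refine Finset.sum_congr rfl fun a _ => ?_
    by_cases ha : a ∈ Subgroup.centralizer (P : Set G)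
    · rw [if_pos ((hfix a).2 ha), coeff_br_of_mem ha,
        coeff_br_of_mem (Subgroup.mul_mem _ (Subgroup.inv_mem _ ha) hc)]
    · rw [if_neg (fun h => ha ((hfix a).1 h)), suppIn_br P x a ha, zero_mul]
  · intro u a
    have hcu := Subgroup.mem_centralizer_iff.1 hc u u.2
    have hc' : ((u : G) * a * (u : G)⁻¹)⁻¹ * c = (u : G) * (a⁻¹ * c) * (u : G)⁻¹ := by
      rw [show ((u : G) * a * (u : G)⁻¹)⁻¹ * c = (u : G) * a⁻¹ * ((u : G)⁻¹ * c) by group,
        show (u : G)⁻¹ * c = c * (u : G)⁻¹ from (Commute.inv_left hcu).eq]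
      group
    simp only [hsmul, hc', hx (u : G) u.2, hy (u : G) u.2]

/-- The Brauer map is multiplicative on elements fixed by the `p`-group `P`. -/
theorem br_mul (hpk : (p : k) = 0) {P : Subgroup G} (hP : IsPGroup p P)
    {x y : MonoidAlgebra k G} (hx : Inv P x) (hy : Inv P y) :
    br P (x * y) = br P x * br P y := by
  classical
  ext c
  by_cases hc : c ∈ Subgroup.centralizer (P : Set G)
  · rw [coeff_br_of_mem hc, coeff_mul_of_pGroup hpk hP hx hy hc]
  · rw [suppIn_br P _ c hc, ((suppIn_br P x).mul (suppIn_br P y)) c hc]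

/-- The Brauer map at `P` on the elements supported on `K` and invariant under a subgroup `H`
containing `P` and `C_G(P)`. -/
noncomputable def brHom (hpk : (p : k) = 0) {P : Subgroup G} (hP : IsPGroup p P) (K H L : Subgroup G)
    (hPH : P ≤ H) (hL : L ≤ H) (hLN : L ≤ Subgroup.normalizer (P : Set G)) :
    invAlg k K H →ₐ[k] invAlg k (Subgroup.centralizer (P : Set G)) L where
  toFun x := ⟨br P x.1, suppIn_br P _, inv_br hLN (x.2.2.mono hL)⟩
  map_one' := Subtype.ext (br_one P)
  map_mul' x y := Subtype.ext (br_mul hpk hP (x.2.2.mono hPH) (y.2.2.mono hPH))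
  map_zero' := Subtype.ext (by ext g; classical simp [coeff_br])
  map_add' x y := Subtype.ext (br_add P _ _)
  commutes' r := Subtype.ext (br_of_suppIn
    ((invAlg k (Subgroup.centralizer (P : Set G)) ⊥).algebraMap_mem r).1)

/-- `InDefectIdeal p H D x`: every `p`-subgroup of `H` centralising an element of the support of
`x` is conjugate inside `H` into `D`. -/
def InDefectIdeal (p : ℕ) (H D : Subgroup G) (x : MonoidAlgebra k G) : Prop :=
  ∀ c, x.coeff c ≠ 0 → ∀ R : Subgroup G, IsPGroup p R → R ≤ H →
    R ≤ Subgroup.centralizer ({c} : Set G) → ∃ h ∈ H, ∀ r ∈ R, h * r * h⁻¹ ∈ D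

theorem InDefectIdeal.mul (hpk : (p : k) = 0) {H D : Subgroup G} {x y : MonoidAlgebra k G}
    (hxD : InDefectIdeal p H D x) (hx : Inv H x) (hy : Inv H y) :
    InDefectIdeal p H D (x * y) := by
  intro c hc R hR hRH hRc
  have hcR : c ∈ Subgroup.centralizer (R : Set G) := by
    rw [Subgroup.mem_centralizer_iff]
    intro r hr
    exact (Subgroup.mem_centralizer_iff.1 (hRc hr) c rfl).symm
  rw [coeff_mul_of_pGroup hpk hR (hx.mono hRH) (hy.mono hRH) hcR, coeff_mul_sum] at hc
  obtain ⟨a, -, ha⟩ := Finset.exists_ne_zero_of_sum_ne_zero hc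
  have hax : (br R x).coeff a ≠ 0 := fun h => ha (by rw [h, zero_mul])
  have haR : a ∈ Subgroup.centralizer (R : Set G) :=
    by_contra fun h => hax (suppIn_br R x a h)
  rw [coeff_br_of_mem haR] at hax
  refine hxD a hax R hR hRH fun r hr => ?_
  rw [Subgroup.mem_centralizer_iff]
  rintro _ rfl
  exact (Subgroup.mem_centralizer_iff.1 haR r hr).symm

theorem InDefectIdeal.br_eq_zero {H D P : Subgroup G} {x : MonoidAlgebra k G}
    (hxD : InDefectIdeal p H D x) (hP : IsPGroup p P) (hPH : P ≤ H)
    (hnot : ¬ ∃ h ∈ H, ∀ r ∈ P, h * r * h⁻¹ ∈ D) : br P x = 0 := by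
  classical
  ext g
  by_cases hg : g ∈ Subgroup.centralizer (P : Set G)
  · rw [coeff_br_of_mem hg]
    by_contra hne
    refine hnot (hxD g hne P hP hPH fun r hr => ?_)
    rw [Subgroup.mem_centralizer_iff]
    rintro _ rfl
    exact (Subgroup.mem_centralizer_iff.1 hg r hr).symm
  · simp [suppIn_br P x g hg]

/-- The relative trace from `T` to `G`. -/
noncomputable def trace (T : Subgroup G) (x : MonoidAlgebra k G) : MonoidAlgebra k G :=
  letI := Fintype.ofFinite (G ⧸ T)
  ∑ q : G ⧸ T, conjA q.out x

omit [Fact p.Prime] in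
theorem coeff_trace (T : Subgroup G) [Fintype (G ⧸ T)] (x : MonoidAlgebra k G) (c : G) :
    (trace T x).coeff c = ∑ q : G ⧸ T, x.coeff (q.out⁻¹ * c * q.out) := by
  unfold trace
  rw [coeff_sum, Finsupp.finsetSum_apply]
  refine Finset.sum_congr (by convert rfl) fun q _ => coeff_conjA _ _ _

omit [Fact p.Prime] [Fintype G] in
theorem conj_eq_of_mk_eq {T : Subgroup G} {x : MonoidAlgebra k G} (hx : Inv T x) {a b : G}
    (h : (a : G ⧸ T) = (b : G ⧸ T)) (c : G) :
    x.coeff (a⁻¹ * c * a) = x.coeff (b⁻¹ * c * b) := by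
  have ht : a⁻¹ * b ∈ T := QuotientGroup.eq.1 h
  have := hx (a⁻¹ * b) ht (b⁻¹ * c * b)
  rw [← this]; congr 1; group

omit [Fact p.Prime] in
theorem inv_trace (T : Subgroup G) {x : MonoidAlgebra k G} (hx : Inv T x) :
    Inv ⊤ (trace T x) := by
  letI := Fintype.ofFinite (G ⧸ T)
  intro h _ c
  rw [coeff_trace, coeff_trace,
    ← Equiv.sum_comp (MulAction.toPerm h : Equiv.Perm (G ⧸ T))
      (fun q : G ⧸ T => x.coeff (q.out⁻¹ * (h * c * h⁻¹) * q.out))]
  refine Finset.sum_congr rfl fun q _ => ?_
  simp only [MulAction.toPerm_apply]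
  rw [conj_eq_of_mk_eq hx (a := (h • q).out) (b := h * q.out)]
  · congr 1; group
  · rw [QuotientGroup.out_eq']
    conv_lhs => rw [← QuotientGroup.out_eq' q]
    rfl

/-- The coefficient of a relative trace at `c` only sees the cosets fixed by a `p`-subgroup
centralising `c`. -/
theorem exists_of_coeff_trace_ne_zero (hpk : (p : k) = 0) {T : Subgroup G}
    {x : MonoidAlgebra k G} (hx : Inv T x) {c : G} (hc : (trace T x).coeff c ≠ 0)
    {R : Subgroup G} (hR : IsPGroup p R) (hRc : R ≤ Subgroup.centralizer ({c} : Set G)) :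
    ∃ g : G, x.coeff (g⁻¹ * c * g) ≠ 0 ∧ ∀ r ∈ R, g⁻¹ * r * g ∈ T := by
  classical
  letI := Fintype.ofFinite (G ⧸ T)
  rw [coeff_trace, sum_eq_sum_fixed (P := R) (fun a => by rw [nsmul_eq_mul, hpk, zero_mul]) hR] at hc
  · obtain ⟨q, hq, hne⟩ := Finset.exists_ne_zero_of_sum_ne_zero hc
    refine ⟨q.out, hne, fun r hr => ?_⟩
    have hfix := (Finset.mem_filter.1 hq).2 ⟨r, hr⟩
    have h2 : (((r * q.out : G)) : G ⧸ T) = (q.out : G ⧸ T) := by
      have h4 : r • ((q.out : G) : G ⧸ T) = q := by rw [QuotientGroup.out_eq']; exact hfix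
      rw [QuotientGroup.out_eq']
      conv_rhs => rw [← h4]
      rfl
    have h3 := T.inv_mem (QuotientGroup.eq.1 h2)
    simpa [mul_assoc] using h3
  · intro r q
    rw [conj_eq_of_mk_eq hx (a := (r • q).out) (b := (r : G) * q.out)]
    · have := Subgroup.mem_centralizer_iff.1 (hRc r.2) c rfl
      congr 1
      rw [show ((r : G) * q.out)⁻¹ * c * ((r : G) * q.out) =
        q.out⁻¹ * (r : G)⁻¹ * (c * r) * q.out by group, this]
      group
    · rw [QuotientGroup.out_eq']
      conv_lhs => rw [← QuotientGroup.out_eq' q]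
      rfl

theorem InDefectIdeal.trace (hpk : (p : k) = 0) {T D : Subgroup G} {x : MonoidAlgebra k G}
    (hx : Inv T x) (hxD : InDefectIdeal p T D x) :
    InDefectIdeal p ⊤ D (CfsgLib.BlockAlg.trace T x) := by
  intro c hc R hR _ hRc
  obtain ⟨g, hne, hgT⟩ := exists_of_coeff_trace_ne_zero hpk hx hc hR hRc
  obtain ⟨h, -, hh⟩ := hxD (g⁻¹ * c * g) hne (R.map (MulAut.conj g⁻¹).toMonoidHom) (hR.map _)
    (by rintro _ ⟨r, hr, rfl⟩; simpa using hgT r hr)
    (by
      rintro _ ⟨r, hr, rfl⟩
      rw [Subgroup.mem_centralizer_iff]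
      rintro _ rfl
      have hcr := Subgroup.mem_centralizer_iff.1 (hRc hr) c rfl
      calc g⁻¹ * c * g * ((MulAut.conj g⁻¹).toMonoidHom r) = g⁻¹ * (c * r) * g := by
            simp only [MulEquiv.coe_toMonoidHom, MulAut.conj_apply]; group
        _ = g⁻¹ * (r * c) * g := by rw [hcr]
        _ = (MulAut.conj g⁻¹).toMonoidHom r * (g⁻¹ * c * g) := by
            simp only [MulEquiv.coe_toMonoidHom, MulAut.conj_apply]; group)
  refine ⟨h * g⁻¹, Subgroup.mem_top _, fun r hr => ?_⟩
  have := hh _ (Subgroup.mem_map_of_mem _ hr)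
  simpa [mul_assoc] using this

end CharP

section Idempotent

variable {R : Type*} [Ring R]

theorem IsIdempotentElem.eq_zero_of_isNilpotent' {e : R} (he : IsIdempotentElem e)
    (hn : IsNilpotent e) : e = 0 := by
  obtain ⟨n, hn⟩ := hn
  have h : e * e = e := he
  have : e ^ (n + 1) = e := by
    clear hn
    induction n with
    | zero => simp
    | succ m ih => rw [pow_succ, ih, h]
  rw [← this, pow_succ, hn, zero_mul]

/-- Commuting idempotents with nilpotent difference are equal. -/
theorem idempotent_eq_of_sub_nilpotent {e f : R} (he : IsIdempotentElem e) (hf : IsIdempotentElem f)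
    (hc : Commute e f) (hn : IsNilpotent (e - f)) : e = f := by
  have he' : e * e = e := he
  have hf' : f * f = f := hf
  have h3 : (e - f) * (e - f) * (e - f) = e - f := by
    have : f * e = e * f := hc.eq.symm
    have h1 : (e - f) * (e - f) = e + f - (e * f + e * f) := by
      simp only [mul_sub, sub_mul, he', hf', this]; abel
    rw [h1]
    have h2 : e * f * e = e * f := by rw [mul_assoc, this, ← mul_assoc, he']
    have h5 : e * f * f = e * f := by rw [mul_assoc, hf']
    simp only [mul_sub, add_mul, sub_mul, he', hf', this, h2, h5]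
    abel
  obtain ⟨n, hn⟩ := hn
  have h4 : ∀ m, (e - f) ^ (2 * m + 1) = e - f := by
    intro m
    induction m with
    | zero => simp
    | succ m ih => rw [show 2 * (m + 1) + 1 = (2 * m + 1) + 1 + 1 by ring, pow_succ, pow_succ, ih, h3]
  have := h4 n
  rw [show 2 * n + 1 = n + (n + 1) by ring, pow_add, hn, zero_mul] at this
  exact sub_eq_zero.1 this.symm

/-- If `(a - lam a) * e` is nilpotent for all `a`, every algebra map sending `e` to `1` is `lam`. -/
theorem algHom_eq_of_nilpotent {A k' : Type*} [CommRing k'] [IsReduced k'] [CommRing A]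
    [Algebra k' A] (e : A) (lam mu : A →ₐ[k'] k')
    (h : ∀ a, IsNilpotent ((a - algebraMap k' A (lam a)) * e)) (hmu : mu e = 1) : mu = lam := by
  ext a
  have := IsNilpotent.eq_zero ((h a).map mu)
  rw [map_mul, hmu, mul_one, map_sub, AlgHom.commutes] at this
  exact sub_eq_zero.1 this

end Idempotent

end CfsgLib.BlockAlg
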