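import Cfsg.Agent.Lib.Blocks.Idempotent
import Cfsg.Agent.Lib.Blocks.BrauerMap
import Cfsg.Agent.Lib.Characters.Values

/-!
# Normal `p'`-subgroups and blocks
-/

set_option autoImplicit false
set_option linter.style.haveILetI false

namespace CfsgLib.Blocks

open Cfsg MonoidAlgebra CfsgLib.Characters

variable {G : Type*} [Group G] [Fintype G] {p : ℕ} {M : Ideal AlgInt}

open scoped Classical in
/-- The averaging idempotent of a subgroup. -/
noncomputable def avgElt (N : Subgroup G) : MonoidAlgebra ℂ G :=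
  Blocks.ofFun fun x => if x ∈ N then (Nat.card N : ℂ)⁻¹ else 0

theorem avgElt_mem_center (N : Subgroup G) [hN : N.Normal] :
    avgElt N ∈ Subalgebra.center ℂ (MonoidAlgebra ℂ G) := by
  classical
  rw [mem_center_iff_coeff]
  intro g h
  simp only [avgElt, Blocks.coeff_ofFun]
  refine if_congr ⟨fun hh => ?_, fun hh => hN.conj_mem g hh h⟩ rfl rfl
  have := hN.conj_mem _ hh h⁻¹
  simpa [mul_assoc] using this

theorem isIdempotentElem_avgElt (N : Subgroup G) : IsIdempotentElem (avgElt N) := by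
  classical
  refine MonoidAlgebra.ext (Finsupp.ext fun g => ?_)
  rw [CfsgLib.BlockAlg.coeff_mul_sum]
  simp only [avgElt, Blocks.coeff_ofFun]
  by_cases hg : g ∈ N
  · rw [if_pos hg]
    have h1 : ∀ a : G, ((if a ∈ N then (Nat.card N : ℂ)⁻¹ else 0) *
        if a⁻¹ * g ∈ N then (Nat.card N : ℂ)⁻¹ else 0) =
        if a ∈ N then (Nat.card N : ℂ)⁻¹ * (Nat.card N : ℂ)⁻¹ else 0 := by
      intro a
      by_cases ha : a ∈ N
      · rw [if_pos ha, if_pos ha, if_pos (N.mul_mem (N.inv_mem ha) hg)]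
      · rw [if_neg ha, zero_mul, if_neg ha]
    rw [Finset.sum_congr rfl (fun a _ => h1 a), ← Finset.sum_filter, Finset.sum_const, nsmul_eq_mul,
      ← Fintype.card_subtype, ← Nat.card_eq_fintype_card, ← mul_assoc, mul_inv_cancel₀, one_mul]
    simp
  · rw [if_neg hg]
    refine Finset.sum_eq_zero fun a _ => ?_
    by_cases ha : a ∈ N
    · have hne : a⁻¹ * g ∉ N := fun h => hg (by simpa using N.mul_mem ha h)
      rw [if_neg hne, mul_zero]
    · rw [if_neg ha, zero_mul]

open scoped Classical in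
theorem omega_avgElt (χ : G → ℂ) (N : Subgroup G) :
    omega χ (avgElt N) = (∑ x ∈ Finset.univ.filter (· ∈ N), χ x) / (Nat.card N : ℂ) / χ 1 := by
  rw [omega_apply, Finset.sum_filter]
  congr 1
  rw [Finset.sum_div]
  refine Finset.sum_congr rfl fun x _ => ?_
  simp only [avgElt, Blocks.coeff_ofFun]
  split_ifs with h <;> simp [div_eq_inv_mul]

theorem avgElt_memLocalRing (hM : IsPModular p M) {N : Subgroup G} (hN : ¬ p ∣ Nat.card N) (x : G) :
    MemLocalRing M ((avgElt N).coeff x) := by
  classical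
  simp only [avgElt, Blocks.coeff_ofFun]
  split_ifs
  · exact inv_natCast_mem_lRing hM hN
  · exact (lRing hM).zero_mem

/-- A value that averages to the degree is the degree. -/
theorem apply_eq_one_of_omega_avgElt {χ : IrrCharacter G} {N : Subgroup G}
    (h : omega (χ : G → ℂ) (avgElt N) = 1) {n : G} (hn : n ∈ N) :
    (χ : G → ℂ) n = (χ : G → ℂ) 1 := by
  classical
  obtain ⟨d, -, hd⟩ := irr_exists_degree χ.2
  have h0 := irr_one_ne_zero χ
  have hc : (Nat.card N : ℂ) ≠ 0 := by simp
  rw [omega_avgElt, div_eq_one_iff_eq h0, div_eq_iff hc] at h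
  set s := Finset.univ.filter (· ∈ N)
  have hs : (s.card : ℝ) = (Nat.card N : ℝ) := by
    rw [Nat.card_eq_fintype_card, Fintype.card_subtype]
  have hre := congrArg Complex.re h
  rw [Complex.re_sum, hd, Complex.mul_re, Complex.natCast_re, Complex.natCast_im, Complex.natCast_re,
    Complex.natCast_im, mul_zero, sub_zero] at hre
  have hle : ∀ x ∈ s, ((χ : G → ℂ) x).re ≤ (d : ℝ) := by
    intro x _
    have h1 := norm_le_degree_of_isCharacter (irr_isCharacter χ) x
    rw [hd, Complex.norm_natCast] at h1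
    exact (Complex.re_le_norm _).trans h1
  have heq : ∀ x ∈ s, ((χ : G → ℂ) x).re = (d : ℝ) := by
    refine (Finset.sum_eq_sum_iff_of_le hle).1 ?_
    rw [hre, Finset.sum_const, nsmul_eq_mul, hs, mul_comm]
  have hns : n ∈ s := Finset.mem_filter.2 ⟨Finset.mem_univ n, hn⟩
  have h1 := norm_le_degree_of_isCharacter (irr_isCharacter χ) n
  rw [hd, Complex.norm_natCast] at h1
  have h2 := heq n hns
  have him : ((χ : G → ℂ) n).im = 0 := by
    have h3 : ‖(χ : G → ℂ) n‖ ^ 2 ≤ (d : ℝ) ^ 2 := by gcongr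
    rw [Complex.sq_norm, Complex.normSq_apply, h2] at h3
    nlinarith [mul_self_nonneg ((χ : G → ℂ) n).im]
  rw [hd]
  exact Complex.ext (by simpa using h2) (by simpa using him)

/-- Characters of one block agree on the kernels coming from normal `p'`-subgroups. -/
theorem kernel_of_sameBlock (hM : IsPModular p M) {χ ψ : IrrCharacter G}
    (h : SameBlock M (χ : G → ℂ) (ψ : G → ℂ)) {N : Subgroup G} [N.Normal] (hN : ¬ p ∣ Nat.card N)
    (hker : ∀ n ∈ N, (χ : G → ℂ) n = (χ : G → ℂ) 1) {n : G} (hn : n ∈ N) :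
    (ψ : G → ℂ) n = (ψ : G → ℂ) 1 := by
  classical
  refine apply_eq_one_of_omega_avgElt ?_ hn
  have h1 : omega (χ : G → ℂ) (avgElt N) = 1 := by
    rw [omega_avgElt, Finset.sum_congr rfl (fun x hx => hker x (Finset.mem_filter.1 hx).2),
      Finset.sum_const, nsmul_eq_mul, ← Fintype.card_subtype, ← Nat.card_eq_fintype_card,
      mul_div_cancel_left₀ _ (by simp), div_self (irr_one_ne_zero χ)]
  have h2 := omega_congr_of_sameBlock hM h (avgElt_mem_center N) (avgElt_memLocalRing hM hN)
  have h3 : omega (ψ : G → ℂ) (avgElt N) * omega (ψ : G → ℂ) (avgElt N) =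
      omega (ψ : G → ℂ) (avgElt N) := by
    rw [← omega_mul ψ (avgElt_mem_center N), isIdempotentElem_avgElt N]
  rcases mul_left_eq_self₀.1 h3 with h4 | h4
  · exact h4
  · rw [h1, h4, sub_zero] at h2
    exact absurd h2 (not_memLocalIdeal_one hM)

/-- Normal `p'`-subgroups are in the kernel of the principal block. -/
theorem principalBlock_kernel (hM : IsPModular p M) {χ : IrrCharacter G}
    (hχ : χ ∈ principalBlock M G) {N : Subgroup G} [N.Normal] (hN : ¬ p ∣ Nat.card N) {n : G}
    (hn : n ∈ N) : (χ : G → ℂ) n = (χ : G → ℂ) 1 :=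
  kernel_of_sameBlock hM (χ := principalIrr G) hχ hN (fun _ _ => rfl) hn

end CfsgLib.Blocks
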