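import Cfsg.Prelude.Def_Blocks
import Mathlib.Algebra.MonoidAlgebra.Basic
import Mathlib.GroupTheory.GroupAction.Quotient
import Mathlib.GroupTheory.Perm.Basic
import Mathlib.Algebra.BigOperators.Fin

/-!
# Class sums of idempotent coefficients at `p`-singular classes

If `e` is an idempotent of the group algebra of a finite group over a commutative ring, then the
sum of its coefficients over the class of an element of order divisible by `p` is divisible by
every power of `p`.
-/

set_option autoImplicit false
set_option linter.style.haveILetI false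

namespace CfsgLib.Blocks

open MonoidAlgebra

variable {G : Type*} [Group G]

/-- The product `f 0 * f 1 * ⋯ * f (N-1)`. -/
def seqProd (f : ℕ → G) : ℕ → G
  | 0 => 1
  | N + 1 => seqProd f N * f N

theorem seqProd_succ' (f : ℕ → G) (N : ℕ) :
    seqProd f (N + 1) = f 0 * seqProd (fun i => f (i + 1)) N := by
  induction N with
  | zero => simp [seqProd]
  | succ N ih =>
    rw [seqProd, ih, seqProd, mul_assoc]

theorem seqProd_shift (f : ℕ → G) {N : ℕ} (hf : f N = f 0) :
    seqProd (fun i => f (i + 1)) N = (f 0)⁻¹ * seqProd f N * f 0 := by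
  have h := seqProd_succ' f N
  rw [seqProd, hf] at h
  rw [mul_assoc, h]
  group

theorem seqProd_add (f : ℕ → G) (a b : ℕ) :
    seqProd f (a + b) = seqProd f a * seqProd (fun i => f (a + i)) b := by
  induction b with
  | zero => simp [seqProd]
  | succ b ih => rw [← Nat.add_assoc, seqProd, ih, seqProd, mul_assoc]

theorem seqProd_periodic (f : ℕ → G) (d : ℕ) (hf : ∀ i, f (i + d) = f i) (m : ℕ) :
    seqProd f (d * m) = seqProd f d ^ m := by
  induction m with
  | zero => simp [seqProd]
  | succ m ih =>
    rw [Nat.mul_succ, seqProd_add, ih, pow_succ]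
    congr 2
    funext i
    have : ∀ k, f (d * k + i) = f i := by
      intro k
      induction k with
      | zero => simp
      | succ k ihk => rw [show d * (k + 1) + i = d * k + i + d by ring, hf, ihk]
    exact this m

theorem seqProd_congr {f g : ℕ → G} {N : ℕ} (h : ∀ i < N, f i = g i) :
    seqProd f N = seqProd g N := by
  induction N with
  | zero => rfl
  | succ N ih => rw [seqProd, seqProd, ih (fun i hi => h i (by omega)), h N (by omega)]

/-- A tuple as a periodic sequence. -/
def periodicSeq {N : ℕ} [NeZero N] (s : Fin N → G) (i : ℕ) : G := s (Fin.ofNat N i)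

theorem sum_pow_single {k : Type*} [CommSemiring k] [Fintype G] (a : G → k) (N : ℕ) [NeZero N] :
    (∑ x : G, single x (a x)) ^ N =
      ∑ s : Fin N → G, single (seqProd (periodicSeq s) N) (∏ i, a (s i)) := by
  have h : ∀ n : ℕ, (∑ x : G, single x (a x)) ^ n =
      ∑ s : Fin n → G, single (seqProd (fun i => if hi : i < n then s ⟨i, hi⟩ else 1) n)
        (∏ i, a (s i)) := by
    intro n
    induction n with
    | zero => simp [seqProd, one_def]
    | succ n ih =>
      rw [pow_succ, ih, Finset.sum_mul_sum, ← Fintype.sum_prod_type']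
      refine Fintype.sum_equiv
        ((Equiv.prodComm _ _).trans (Fin.snocEquiv fun _ => G)) _ _ fun ⟨s, x⟩ => ?_
      rw [single_mul_single]
      simp only [Equiv.trans_apply, Equiv.prodComm_apply, Prod.swap_prod_mk, Fin.snocEquiv,
        Equiv.coe_fn_mk, seqProd, Fin.prod_univ_castSucc, Fin.snoc_castSucc, Fin.snoc_last]
      congr 2
      · refine seqProd_congr fun i hi => ?_
        rw [dif_pos hi, dif_pos (Nat.lt_succ_of_lt hi)]
        exact (Fin.snoc_castSucc (α := fun _ => G) x s ⟨i, hi⟩).symm
      · rw [dif_pos (Nat.lt_succ_self n)]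
        exact (Fin.snoc_last (α := fun _ => G) x s).symm
  rw [h N]
  refine Finset.sum_congr rfl fun s _ => ?_
  congr 1
  refine seqProd_congr fun i hi => ?_
  rw [dif_pos hi, periodicSeq]
  congr 1
  exact Fin.ext (Nat.mod_eq_of_lt hi).symm

/-- Rotation of tuples. -/
def rotTuple (X : Type*) (N : ℕ) [NeZero N] : Equiv.Perm (Fin N → X) :=
  Equiv.arrowCongr (Equiv.subRight (1 : Fin N)) (Equiv.refl X)

theorem rotTuple_apply {X : Type*} {N : ℕ} [NeZero N] (s : Fin N → X) (i : Fin N) :
    rotTuple X N s i = s (i + 1) := by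
  simp [rotTuple]

open Fin.NatCast in
theorem rotTuple_pow_apply {X : Type*} {N : ℕ} [NeZero N] (k : ℕ) (s : Fin N → X) (i : Fin N) :
    (rotTuple X N ^ k) s i = s (i + (k : Fin N)) := by
  induction k generalizing s i with
  | zero => simp
  | succ k ih =>
    rw [pow_succ, Equiv.Perm.mul_apply, ih, rotTuple_apply, Nat.cast_succ, add_assoc]

open Fin.NatCast in
theorem periodicSeq_rot {N : ℕ} [NeZero N] (k : ℕ) (s : Fin N → G) (i : ℕ) :
    periodicSeq ((rotTuple G N ^ k) s) i = periodicSeq s (i + k) := by
  rw [periodicSeq, periodicSeq, rotTuple_pow_apply]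
  congr 1
  change (i : Fin N) + (k : Fin N) = ((i + k : ℕ) : Fin N)
  rw [Nat.cast_add]

theorem periodicSeq_add_self {N : ℕ} [NeZero N] (s : Fin N → G) (i : ℕ) :
    periodicSeq s (i + N) = periodicSeq s i := by
  rw [periodicSeq, periodicSeq]
  congr 1
  exact Fin.ext (Nat.add_mod_right i N)

/-- An invariant sum over a set with an action of a cyclic `p`-group vanishes modulo `p ^ c` when
the summand is killed on points with a period dividing `p ^ c`. -/
theorem dvd_sum_of_perm {k X : Type*} [CommSemiring k] [Fintype X] {p n c : ℕ} (hp : p.Prime)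
    (σ : Equiv.Perm X) (hσ : σ ^ p ^ n = 1) (F : X → k) (hF : ∀ x, F (σ x) = F x)
    (hzero : ∀ x, (σ ^ p ^ c) x = x → F x = 0) : (p : k) ^ c ∣ ∑ x, F x := by
  classical
  let K := Subgroup.zpowers σ
  have hinv : ∀ (g : K) (x : X), F (g • x) = F x := by
    have : ∀ g ∈ K, ∀ x, F ((g : Equiv.Perm X) x) = F x := by
      intro g hg
      obtain ⟨j, rfl⟩ := Subgroup.mem_zpowers_iff.1 hg
      induction j using Int.induction_on with
      | zero => simp
      | succ j ih =>
        intro x
        rw [zpow_add_one, Equiv.Perm.mul_apply, ih ⟨_, rfl⟩, hF]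
      | pred j ih =>
        intro x
        rw [zpow_sub_one, Equiv.Perm.mul_apply, ih ⟨_, rfl⟩]
        have := hF (σ⁻¹ x)
        rw [show σ (σ⁻¹ x) = x from Equiv.apply_symm_apply σ x] at this
        exact this.symm
    exact fun g x => this g g.2 x
  rw [← (MulAction.selfEquivSigmaOrbits K X).symm.sum_comp, Fintype.sum_sigma]
  refine Finset.dvd_sum fun ω _ => ?_
  set x₀ := ω.out
  have hval : ∀ y : MulAction.orbit K x₀, F (y : X) = F x₀ := by
    rintro ⟨y, g, rfl⟩
    exact hinv g x₀
  have hsum : ∀ y : MulAction.orbit K x₀,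
      F ((MulAction.selfEquivSigmaOrbits K X).symm ⟨ω, y⟩) = F x₀ := fun y => hval y
  rw [Finset.sum_congr rfl (fun y _ => hsum y), Finset.sum_const, Finset.card_univ, nsmul_eq_mul,
    ← Nat.card_eq_fintype_card]
  change _ ∣ (Nat.card (MulAction.orbit K x₀) : k) * F x₀
  have hK : Nat.card K ∣ p ^ n := by
    rw [Nat.card_zpowers]
    exact orderOf_dvd_of_pow_eq_one hσ
  have hidx : (MulAction.stabilizer K x₀).index = Nat.card (MulAction.orbit K x₀) := by
    rw [MulAction.index_stabilizer, Nat.card_coe_set_eq]
  obtain ⟨i, hi, hcard⟩ := (Nat.dvd_prime_pow hp).1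
    ((hidx ▸ Subgroup.index_dvd_card (MulAction.stabilizer K x₀)).trans hK)
  rcases le_or_gt c i with h | h
  · refine Dvd.dvd.mul_right ?_ _
    rw [hcard, Nat.cast_pow]
    exact pow_dvd_pow _ h
  · have hfix : (σ ^ p ^ c) x₀ = x₀ := by
      have hmem : (⟨σ, Subgroup.mem_zpowers σ⟩ : K) ^ p ^ i ∈ MulAction.stabilizer K x₀ := by
        rw [← hcard, ← hidx]
        exact Subgroup.pow_index_mem (MulAction.stabilizer K x₀) _
      have hmem2 : (⟨σ, Subgroup.mem_zpowers σ⟩ : K) ^ p ^ c ∈ MulAction.stabilizer K x₀ := by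
        rw [← Nat.add_sub_cancel' h.le, pow_add, pow_mul]
        exact pow_mem hmem _
      exact hmem2
    rw [hzero x₀ hfix, mul_zero]
    exact dvd_zero _

open scoped Classical in
/-- The sum of the coefficients over a conjugacy class. -/
noncomputable def classTrace {k : Type*} [CommSemiring k] [Fintype G] (g : G)
    (z : MonoidAlgebra k G) : k :=
  ∑ x : G, if IsConj g x then z.coeff x else 0

theorem isPRegular_pow_card [Finite G] {p : ℕ} (hp : p.Prime) (x : G) :
    ¬ p ∣ orderOf (x ^ p ^ (Nat.card G).factorization p) := by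
  intro h
  set a := (Nat.card G).factorization p
  have h1 : (x ^ p ^ a) ^ (Nat.card G / p ^ a) = 1 := by
    rw [← pow_mul, Nat.mul_div_cancel' (Nat.ordProj_dvd _ p), pow_card_eq_one']
  exact Nat.not_dvd_ordCompl hp Nat.card_pos.ne' (h.trans (orderOf_dvd_of_pow_eq_one h1))

/-- The class sums of an idempotent at `p`-singular classes are divisible by all powers of `p`. -/
theorem dvd_classTrace_idempotent {k : Type*} [CommSemiring k] [Fintype G] {p : ℕ} (hp : p.Prime)
    {e : MonoidAlgebra k G} (he : IsIdempotentElem e) {y : G} (hy : p ∣ orderOf y) (c : ℕ) :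
    (p : k) ^ c ∣ classTrace y e := by
  classical
  set a := (Nat.card G).factorization p
  set N := p ^ (c + a) with hN
  haveI : NeZero N := ⟨pow_ne_zero _ hp.ne_zero⟩
  have hexp : e = ∑ x : G, single x (e.coeff x) := by
    ext x
    simp [Finsupp.single_apply]
  let F : (Fin N → G) → k := fun s =>
    if IsConj y (seqProd (periodicSeq s) N) then ∏ i, e.coeff (s i) else 0
  have htr : classTrace y e = ∑ s, F s := by
    conv_lhs => rw [← he.pow_eq (NeZero.ne N)]
    rw [hexp, sum_pow_single, classTrace]
    simp only [coeff_sum, Finsupp.finsetSum_apply, coeff_single, Finsupp.single_apply]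
    rw [← Finset.sum_filter, Finset.sum_comm]
    refine Finset.sum_congr rfl fun s _ => ?_
    rw [Finset.sum_ite_eq]
    simp [F, ← hexp]
  rw [htr]
  refine dvd_sum_of_perm hp (rotTuple G N) ?_ F ?_ ?_ (n := c + a)
  · ext s i
    rw [← hN, rotTuple_pow_apply, Equiv.Perm.one_apply]
    congr 1
    open Fin.NatCast in simp
  · intro s
    simp only [F]
    have hper : periodicSeq (rotTuple G N s) = fun i => periodicSeq s (i + 1) :=
      funext fun i => by simpa using periodicSeq_rot 1 s i
    have hconj : IsConj (seqProd (periodicSeq s) N) (seqProd (periodicSeq (rotTuple G N s)) N) := by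
      rw [hper, seqProd_shift _ (by simpa using periodicSeq_add_self s 0)]
      exact isConj_iff.2 ⟨(periodicSeq s 0)⁻¹, by group⟩
    have hprod : ∏ i, e.coeff (rotTuple G N s i) = ∏ i, e.coeff (s i) := by
      simp only [rotTuple_apply]
      exact Fintype.prod_equiv (Equiv.addRight (1 : Fin N)) _ _ fun i => rfl
    rw [hprod]
    exact if_congr ⟨fun h => h.trans hconj.symm, fun h => h.trans hconj⟩ rfl rfl
  · intro s hs
    simp only [F]
    rw [if_neg]
    intro hconj
    have hper : ∀ i, periodicSeq s (i + p ^ c) = periodicSeq s i := fun i => by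
      rw [← periodicSeq_rot, hs]
    have hprod : seqProd (periodicSeq s) N = seqProd (periodicSeq s) (p ^ c) ^ p ^ a := by
      rw [← seqProd_periodic _ _ hper _]
      exact congrArg _ (hN.trans (pow_add p c a))
    rw [hprod] at hconj
    obtain ⟨d, hd⟩ := isConj_iff.1 hconj
    have h1 : orderOf y = orderOf (seqProd (periodicSeq s) (p ^ c) ^ p ^ a) := by
      rw [← hd]
      exact ((MulAut.conj d).orderOf_eq y).symm
    exact isPRegular_pow_card hp _ (h1 ▸ hy)

end CfsgLib.Blocks
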