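import Cfsg.Agent.Lib.Blocks.Idempotent
import Cfsg.Agent.Lib.Blocks.TraceVanish

/-!
# Weak block orthogonality

Idempotents of the group algebra over the local ring have vanishing class sums at `p`-singular
classes; hence a block idempotent is supported on `p`-regular elements, characters of one block
satisfy weak orthogonality, and characters of different blocks are orthogonal on `p`-regular
elements.
-/

set_option autoImplicit false
set_option linter.style.haveILetI false

namespace CfsgLib.Blocks

open Cfsg MonoidAlgebra CfsgLib.Characters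
open scoped ComplexConjugate

variable {G : Type*} [Group G] [Fintype G] {p : ℕ} {M : Ideal AlgInt}

theorem classTrace_mapRingHom {k k' : Type*} [CommSemiring k] [CommSemiring k'] (f : k →+* k')
    (y : G) (z : MonoidAlgebra k G) :
    classTrace y (MonoidAlgebra.mapRingHom G f z) = f (classTrace y z) := by
  classical
  simp [classTrace, map_sum, apply_ite f]

theorem classTrace_add {k : Type*} [CommSemiring k] (y : G) (a b : MonoidAlgebra k G) :
    classTrace y (a + b) = classTrace y a + classTrace y b := by
  classical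
  simp only [classTrace]
  rw [← Finset.sum_add_distrib]
  exact Finset.sum_congr rfl fun x _ => by split_ifs <;> simp

theorem classTrace_smul {k : Type*} [CommSemiring k] (y : G) (r : k) (a : MonoidAlgebra k G) :
    classTrace y (r • a) = r * classTrace y a := by
  classical
  simp only [classTrace, Finset.mul_sum]
  exact Finset.sum_congr rfl fun x _ => by split_ifs <;> simp

theorem classTrace_sum {k : Type*} [CommSemiring k] {ι : Type*} (y : G) (s : Finset ι)
    (f : ι → MonoidAlgebra k G) :
    classTrace y (∑ i ∈ s, f i) = ∑ i ∈ s, classTrace y (f i) := by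
  classical
  induction s using Finset.induction_on with
  | empty => simp [classTrace]
  | insert i s hi ih => rw [Finset.sum_insert hi, Finset.sum_insert hi, classTrace_add, ih]

/-- An idempotent with local integral coefficients has class sum zero at `p`-singular classes. -/
theorem classTrace_eq_zero (hM : IsPModular p M) {e : MonoidAlgebra ℂ G}
    (he : IsIdempotentElem e) (hR : ∀ x, MemLocalRing M (e.coeff x)) {y : G}
    (hy : p ∣ orderOf y) : classTrace y e = 0 := by
  obtain ⟨e', rfl⟩ := (mem_range_mapRingHom_iff hM e).2 hR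
  have he' : IsIdempotentElem e' := by
    refine MonoidAlgebra.ext (Finsupp.ext fun x => Subtype.ext ?_)
    have h : MonoidAlgebra.mapRingHom G (lRing hM).subtype (e' * e') =
        MonoidAlgebra.mapRingHom G (lRing hM).subtype e' := (map_mul _ _ _).trans he
    simpa only [coeff_mapRingHom, Finsupp.mapRange_apply, Subring.subtype_apply] using
      congrArg (fun z : MonoidAlgebra ℂ G => z.coeff x) h
  rw [classTrace_mapRingHom]
  refine eq_zero_of_forall_pow_dvd hM (classTrace y e').2 fun c => ?_
  obtain ⟨w, hw⟩ := dvd_classTrace_idempotent hM.1 he' hy c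
  exact ⟨w, w.2, by rw [hw]; simp⟩

open scoped Classical in
/-- Translating a class: the sum of `χ (h * x)` over `h` conjugate to `y`. -/
theorem sum_isConj_mul (χ : IrrCharacter G) (y x : G) :
    (∑ h : G, if IsConj y h then (χ : G → ℂ) (h * x) else 0) =
      centralChar (χ : G → ℂ) y * (χ : G → ℂ) x := by
  have h1 := omega_mul χ (classSum_mem_center y) (single x 1)
  have h2 : classSum ℂ y * single x 1 =
      ∑ h : G, if IsConj y h then single (h * x) (1 : ℂ) else 0 := by
    have h3 : classSum ℂ y = ∑ h : G, if IsConj y h then single h (1 : ℂ) else 0 := by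
      ext z
      simp only [coeff_classSum, coeff_sum, Finsupp.finsetSum_apply]
      rw [Finset.sum_eq_single z]
      · split_ifs <;> simp [Finsupp.single_apply]
      · intro b _ hb
        split_ifs <;> simp [Finsupp.single_apply, hb]
      · simp
    rw [h3, Finset.sum_mul]
    exact Finset.sum_congr rfl fun h _ => by split_ifs <;> simp
  rw [omega_classSum_irr, omega_single, one_mul, h2, map_sum] at h1
  have h0 := irr_one_ne_zero χ
  rw [mul_div_assoc'] at h1
  have h4 : (∑ h : G, if IsConj y h then (χ : G → ℂ) (h * x) else 0) =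
      (∑ h : G, omega (χ : G → ℂ) (if IsConj y h then single (h * x) (1 : ℂ) else 0)) *
        (χ : G → ℂ) 1 := by
    rw [Finset.sum_mul]
    refine Finset.sum_congr rfl fun h _ => ?_
    split_ifs
    · rw [omega_single, one_mul, div_mul_cancel₀ _ h0]
    · simp
  rw [h4, h1, div_mul_cancel₀ _ h0]

/-- Weak block orthogonality. -/
theorem weak_orth (hM : IsPModular p M) {B : Set (IrrCharacter G)}
    (hB : IsPBlock M B) [DecidablePred (· ∈ B)] {x y : G} (hx : ¬ p ∣ orderOf x)
    (hy : p ∣ orderOf y) :
    ∑ χ ∈ Finset.univ.filter (· ∈ B), (χ : G → ℂ) x * conj ((χ : G → ℂ) y) = 0 := by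
  classical
  set m := orderOf x
  have hm : 0 < m := orderOf_pos x
  have hm0 : (m : ℂ) ≠ 0 := by exact_mod_cast hm.ne'
  let ζ : ℂ := Complex.exp (2 * Real.pi * Complex.I / m)
  have hζ : IsPrimitiveRoot ζ m := Complex.isPrimitiveRoot_exp m hm.ne'
  let f : ℕ → MonoidAlgebra ℂ G := fun j =>
    (m : ℂ)⁻¹ • ∑ i ∈ Finset.range m, single (x ^ i) ((ζ ^ j) ^ i)
  -- each `f j` absorbs powers of `x`
  have habs : ∀ j, single x (ζ ^ j) * f j = f j := by
    intro j
    simp only [f, mul_smul_comm, Finset.mul_sum, single_mul_single, ← pow_succ']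
    congr 1
    refine eq_of_sub_eq_zero ?_
    rw [← Finset.sum_sub_distrib, Finset.sum_range_sub (fun i => single (x ^ i) ((ζ ^ j) ^ i)),
      pow_orderOf_eq_one, ← pow_mul, mul_comm j m, pow_mul, hζ.pow_eq_one, one_pow, pow_zero,
      pow_zero, sub_self]
  have hidem : ∀ j, IsIdempotentElem (f j) := by
    intro j
    have hi : ∀ i : ℕ, single (x ^ i) ((ζ ^ j) ^ i) * f j = f j := by
      intro i
      induction i with
      | zero => simp [← one_def]
      | succ i ih => rw [pow_succ, pow_succ, ← single_mul_single, mul_assoc, habs, ih]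
    rw [IsIdempotentElem]
    conv_lhs => arg 1; simp only [f]
    rw [smul_mul_assoc, Finset.sum_mul, Finset.sum_congr rfl (fun i _ => hi i), Finset.sum_const,
      Finset.card_range, ← Nat.cast_smul_eq_nsmul ℂ, smul_smul, inv_mul_cancel₀ hm0, one_smul]
  have hfR : ∀ j z, MemLocalRing M ((f j).coeff z) := by
    intro j z
    simp only [f, coeff_smul, coeff_sum, Finsupp.smul_apply, Finsupp.finsetSum_apply, coeff_single,
      Finsupp.single_apply, smul_eq_mul]
    refine (lRing hM).mul_mem (inv_natCast_mem_lRing hM hx) ((lRing hM).sum_mem fun i _ => ?_)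
    split_ifs
    · refine (lRing hM).pow_mem ((lRing hM).pow_mem (isIntegral_mem_lRing hM ?_) j) i
      exact IsIntegral.of_pow hm (by rw [hζ.pow_eq_one]; exact isIntegral_one)
    · exact (lRing hM).zero_mem
  have hcomm : ∀ z, blockIdem B * z = z * blockIdem B := fun z =>
    ((Subalgebra.mem_center_iff.1 (blockIdem_mem_center B)) z).symm
  have htr : ∀ j, classTrace y (blockIdem B * f j) = 0 := by
    intro j
    refine classTrace_eq_zero hM
      ((isIdempotentElem_blockIdem B).mul_of_commute (hcomm (f j)) (hidem j)) ?_ hy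
    obtain ⟨u, hu⟩ := (mem_range_mapRingHom_iff hM (blockIdem B)).2
      (fun z => by simpa using memLocalRing_blockCoeff hM hB z)
    obtain ⟨v, hv⟩ := (mem_range_mapRingHom_iff hM (f j)).2 (hfR j)
    exact (mem_range_mapRingHom_iff hM _).1 ⟨u * v, by rw [map_mul, hu, hv]⟩
  -- Fourier inversion
  have hinv : single x 1 = ∑ j ∈ Finset.range m, (ζ⁻¹) ^ j • f j := by
    have : ∑ j ∈ Finset.range m, (ζ⁻¹) ^ j • f j = ∑ i ∈ Finset.range m,
        single (x ^ i) ((m : ℂ)⁻¹ * ∑ j ∈ Finset.range m, (ζ⁻¹ * ζ ^ i) ^ j) := by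
      simp only [f, Finset.smul_sum, smul_single, smul_eq_mul]
      rw [Finset.sum_comm]
      refine Finset.sum_congr rfl fun i _ => ?_
      rw [Finset.mul_sum, ← singleAddHom_apply, map_sum]
      refine Finset.sum_congr rfl fun j _ => ?_
      rw [singleAddHom_apply]
      congr 1
      rw [mul_pow, ← pow_mul, ← pow_mul, mul_comm j i]
      ring
    rw [this]
    have hζ0 : ζ ≠ 0 := hζ.ne_zero hm.ne'
    rw [Finset.sum_eq_single (1 % m)]
    · rw [pow_mod_orderOf, pow_one]
      congr 1
      have : ζ⁻¹ * ζ ^ (1 % m) = 1 := by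
        rw [← pow_eq_pow_mod 1 hζ.pow_eq_one, pow_one, inv_mul_cancel₀ hζ0]
      simp [this, inv_mul_cancel₀ hm0]
    · intro i hi hne
      have hi' := Finset.mem_range.1 hi
      have hne1 : ζ⁻¹ * ζ ^ i ≠ 1 := by
        intro h
        rw [inv_mul_eq_one₀ hζ0] at h
        have h2 : ζ ^ i = ζ ^ (1 % m) := by
          rw [← pow_eq_pow_mod 1 hζ.pow_eq_one, pow_one]; exact h.symm
        exact hne (hζ.pow_inj hi' (Nat.mod_lt _ hm) h2)
      rw [geom_sum_eq hne1, mul_pow, inv_pow, ← pow_mul, mul_comm i m, pow_mul, hζ.pow_eq_one,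
        one_pow, inv_one, one_mul, sub_self, zero_div, mul_zero, single_zero]
    · intro h
      exact absurd (Finset.mem_range.2 (Nat.mod_lt _ hm)) h
  have hzero : classTrace y (blockIdem B * single x 1) = 0 := by
    rw [hinv, Finset.mul_sum, classTrace_sum]
    refine Finset.sum_eq_zero fun j _ => ?_
    rw [mul_smul_comm, classTrace_smul, htr, mul_zero]
  have hG : (Nat.card G : ℂ) ≠ 0 := by simp
  have hval : classTrace y (blockIdem B * single x 1) = (Nat.card G : ℂ)⁻¹ *
      ((Subgroup.centralizer ({y} : Set G)).index : ℂ) *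
        ∑ χ ∈ Finset.univ.filter (· ∈ B), (χ : G → ℂ) x * conj ((χ : G → ℂ) y) := by
    rw [classTrace]
    simp only [coeff_mul_single_apply, mul_one, coeff_blockIdem, blockCoeff_eq_sum]
    rw [← Finset.sum_filter, ← Finset.mul_sum, Finset.sum_comm, mul_assoc]
    congr 1
    rw [Finset.mul_sum]
    refine Finset.sum_congr ?_ fun χ _ => ?_
    · ext z; simp only [Finset.mem_filter]
    have := congrArg conj (sum_isConj_mul χ y x⁻¹)
    simp only [map_sum, apply_ite conj, map_zero, map_mul, irr_apply_inv χ x, Complex.conj_conj,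
      centralChar, map_div₀, map_natCast] at this
    rw [← Finset.sum_filter] at this
    rw [← Finset.mul_sum, this]
    have h1 : conj ((χ : G → ℂ) 1) = (χ : G → ℂ) 1 := by
      rw [← irr_apply_inv, inv_one]
    rw [h1]
    field_simp [irr_one_ne_zero χ]
  rw [hzero] at hval
  refine (mul_eq_zero.1 hval.symm).resolve_left (mul_ne_zero (inv_ne_zero hG) ?_)
  exact_mod_cast Subgroup.index_ne_zero_of_finite

/-- The block idempotent is supported on `p`-regular elements. -/
theorem blockCoeff_eq_zero_of_singular (hM : IsPModular p M) {B : Set (IrrCharacter G)}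
    (hB : IsPBlock M B) {y : G} (hy : p ∣ orderOf y) : blockCoeff B y = 0 := by
  classical
  have h1 : ¬ p ∣ orderOf (1 : G) := by
    rw [orderOf_one]
    exact hM.1.not_dvd_one
  rw [blockCoeff_eq_sum, weak_orth hM hB h1 hy, mul_zero]

open scoped Classical in
/-- Characters of different blocks are orthogonal over the `p`-regular elements. -/
theorem sum_regular_eq_zero_of_not_sameBlock (hM : IsPModular p M) {χ ψ : IrrCharacter G}
    (h : ¬ SameBlock M (χ : G → ℂ) (ψ : G → ℂ)) :
    ∑ x ∈ Finset.univ.filter (fun x : G => ¬ p ∣ orderOf x),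
      (χ : G → ℂ) x * conj ((ψ : G → ℂ) x) = 0 := by
  set B := blockOf M (ψ : G → ℂ)
  have hB : IsPBlock M B := isPBlock_blockOf ψ
  have hχ : χ ∉ B := fun hχ => h (SameBlock.symm hM hχ)
  set reg := Finset.univ.filter (fun x : G => ¬ p ∣ orderOf x)
  set c : IrrCharacter G → ℂ := fun φ => ∑ x ∈ reg, (χ : G → ℂ) x * conj ((φ : G → ℂ) x) with hc
  have hfun : ∑ φ ∈ Finset.univ.filter (· ∈ B), c φ • (φ : G → ℂ) = 0 := by
    funext g
    simp only [Finset.sum_apply, Pi.smul_apply, smul_eq_mul, hc, Finset.sum_mul, Pi.zero_apply]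
    rw [Finset.sum_comm]
    have hD : ∀ a b : G, ¬ p ∣ orderOf a → p ∣ orderOf b →
        ∑ φ ∈ Finset.univ.filter (· ∈ B), (φ : G → ℂ) a * conj ((φ : G → ℂ) b) = 0 :=
      fun a b ha hb => weak_orth hM hB ha hb
    by_cases hg : p ∣ orderOf g
    · refine Finset.sum_eq_zero fun x hx => ?_
      have h1 := congrArg conj (hD x g (Finset.mem_filter.1 hx).2 hg)
      simp only [map_sum, map_mul, Complex.conj_conj, map_zero] at h1
      rw [← mul_zero ((χ : G → ℂ) x), ← h1, Finset.mul_sum]
      exact Finset.sum_congr rfl fun φ _ => by ring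
    · rw [Finset.sum_subset (Finset.subset_univ reg) (fun x _ hx => ?_)]
      · rw [Finset.sum_comm]
        refine Finset.sum_eq_zero fun φ hφ => ?_
        have h2 := classInner_irr_ne χ.2 φ.2 (fun heq => hχ (by
          rw [show χ = φ from Subtype.ext heq]; exact (Finset.mem_filter.1 hφ).2))
        rw [classInner] at h2
        rw [← Finset.sum_mul, (mul_eq_zero.1 h2).resolve_left (by simp), zero_mul]
      · have hx' : p ∣ orderOf x := by
          by_contra h3
          exact hx (Finset.mem_filter.2 ⟨Finset.mem_univ x, h3⟩)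
        rw [← mul_zero ((χ : G → ℂ) x), ← hD g x hg hx', Finset.mul_sum]
        exact Finset.sum_congr rfl fun φ _ => by ring
  exact linearIndependent_iff'.1 irr_linearIndependent _ c hfun ψ
    (Finset.mem_filter.2 ⟨Finset.mem_univ ψ, mem_blockOf_self hM ψ⟩)

end CfsgLib.Blocks
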