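import Cfsg.Agent.Lib.Blocks.SecondMain
import Cfsg.Agent.Lib.Blocks.WeakOrth
import Cfsg.Agent.Lib.Blocks.Kernel

/-!
# Block parts on `p`-sections: the Second Main Theorem and its consequences
-/

set_option autoImplicit false
set_option linter.style.haveILetI false

namespace CfsgLib.Blocks

open Cfsg MonoidAlgebra CfsgLib.Characters
open scoped ComplexConjugate

variable {G : Type*} [Group G] [Fintype G] {p : ℕ} {M : Ideal AlgInt}

/-- The induced block is unique. -/
theorem IsInducedBlock.unique (hM : IsPModular p M) {H : Subgroup G} [Fintype H]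
    {b : Set (IrrCharacter H)} {B B' : Set (IrrCharacter G)} (h : IsInducedBlock M H b B)
    (h' : IsInducedBlock M H b B') : B = B' := by
  obtain ⟨ξ, hξ⟩ := IsPBlock.nonempty hM h.1
  obtain ⟨χ, hχ⟩ := IsPBlock.nonempty hM h.2.1
  obtain ⟨χ', hχ'⟩ := IsPBlock.nonempty hM h'.2.1
  rw [IsPBlock.eq_blockOf hM h.2.1 hχ, IsPBlock.eq_blockOf hM h'.2.1 hχ']
  refine blockOf_eq_of_sameBlock hM fun g => ?_
  simpa using MemLocalIdeal.sub hM (h'.2.2 ξ hξ χ' hχ' g) (h.2.2 ξ hξ χ hχ g)

open scoped Classical in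
theorem blockPart_eq_sum (B : Set (IrrCharacter G)) (ϑ : G → ℂ) (g : G) :
    blockPart B ϑ g = ∑ χ ∈ Finset.univ.filter (· ∈ B),
      classInner ϑ (χ : G → ℂ) * (χ : G → ℂ) g := by
  unfold blockPart
  rw [Subsingleton.elim (Fintype.ofFinite G) ‹Fintype G›]
  rw [finsum_mem_eq_sum_of_inter_support_eq]
  simp

open scoped Classical in
/-- Multiplying by a block idempotent takes the block part. -/
theorem sum_blockCoeff_mul_eq_blockPart (B : Set (IrrCharacter G)) {ϑ : G → ℂ}
    (hϑ : IsClassFunction G ϑ) (y : G) :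
    ∑ k : G, blockCoeff B k * ϑ (k * y) = blockPart B ϑ y := by
  have hexp : ∀ g, ϑ g = ∑ χ : IrrCharacter G, classInner ϑ (χ : G → ℂ) * (χ : G → ℂ) g := by
    intro g
    conv_lhs => rw [classFunction_eq_sum hϑ]
    simp
  have h1 : ∀ χ : IrrCharacter G, ∑ k : G, blockCoeff B k * (χ : G → ℂ) (k * y) =
      if χ ∈ B then (χ : G → ℂ) y else 0 := by
    intro χ
    have h2 := omega_mul χ (blockIdem_mem_center B) (single y 1)
    rw [omega_apply _ (blockIdem B * single y 1), omega_blockIdem, omega_single, one_mul] at h2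
    have h3 : ∑ x : G, (blockIdem B * single y 1).coeff x * (χ : G → ℂ) x =
        ∑ k : G, blockCoeff B k * (χ : G → ℂ) (k * y) := by
      refine (Fintype.sum_equiv (Equiv.mulRight y) _ _ fun k => ?_).symm
      simp
    rw [h3, div_eq_iff (irr_one_ne_zero χ)] at h2
    rw [h2]
    split_ifs
    · rw [one_mul, div_mul_cancel₀ _ (irr_one_ne_zero χ)]
    · rw [zero_mul, zero_mul]
  calc ∑ k : G, blockCoeff B k * ϑ (k * y)
      = ∑ χ : IrrCharacter G, classInner ϑ (χ : G → ℂ) *
          ∑ k : G, blockCoeff B k * (χ : G → ℂ) (k * y) := by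
        simp only [hexp (_ * y), Finset.mul_sum]
        rw [Finset.sum_comm]
        exact Finset.sum_congr rfl fun χ _ => Finset.sum_congr rfl fun k _ => by ring
    _ = blockPart B ϑ y := by
        simp only [h1, mul_ite, mul_zero]
        rw [← Finset.sum_filter, blockPart_eq_sum]

open scoped Classical in
/-- A union of blocks whose parts all vanish has vanishing part. -/
theorem blockPart_union_eq_zero (hM : IsPModular p M) {A : Set (IrrCharacter G)}
    (hA : ∀ χ ψ : IrrCharacter G, χ ∈ A → SameBlock M (χ : G → ℂ) (ψ : G → ℂ) → ψ ∈ A)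
    {ϑ : G → ℂ} {y : G} (h : ∀ χ ∈ A, blockPart (blockOf M (χ : G → ℂ)) ϑ y = 0) :
    blockPart A ϑ y = 0 := by
  rw [blockPart_eq_sum, ← Finset.sum_fiberwise_of_maps_to
    (t := (Finset.univ.filter (· ∈ A)).image (fun χ : IrrCharacter G => blockOf M (χ : G → ℂ)))
    (fun x hx => Finset.mem_image_of_mem _ hx)]
  refine Finset.sum_eq_zero fun B hB => ?_
  obtain ⟨χ, hχ, rfl⟩ := Finset.mem_image.1 hB
  rw [← h χ (Finset.mem_filter.1 hχ).2, blockPart_eq_sum]
  refine Finset.sum_congr ?_ fun _ _ => rfl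
  ext ψ
  simp only [Finset.mem_filter, Finset.mem_univ, true_and]
  constructor
  · rintro ⟨-, heq⟩
    rw [← heq]
    exact mem_blockOf_self hM ψ
  · intro hψ
    exact ⟨hA χ ψ (Finset.mem_filter.1 hχ).2 hψ, (blockOf_eq_of_sameBlock hM hψ).symm⟩

section Section

variable {x : G}

/-- A character of `G` as a class function of `C(x)`, shifted by `x`. -/
def sectionFun (x : G) (φ : G → ℂ) : Subgroup.centralizer ({x} : Set G) → ℂ :=
  fun c => φ (x * (c : G))

omit [Fintype G] in
theorem commute_centralizer (c : Subgroup.centralizer ({x} : Set G)) : Commute x (c : G) :=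
  Subgroup.mem_centralizer_iff.1 c.2 x (Set.mem_singleton x)

omit [Fintype G] in
theorem isClassFunction_sectionFun {φ : G → ℂ} (hφ : IsClassFunction G φ) :
    IsClassFunction (Subgroup.centralizer ({x} : Set G)) (sectionFun x φ) := by
  intro g h
  simp only [sectionFun, Subgroup.coe_mul, Subgroup.coe_inv]
  rw [show x * ((h : G) * g * (h : G)⁻¹) = (h : G) * (x * g) * (h : G)⁻¹ by
    rw [← mul_assoc, ← mul_assoc, (commute_centralizer h).eq, mul_assoc (h : G)]]
  exact hφ _ _

theorem inducedBlockDefined_centralizer (hM : IsPModular p M) (hx : ∃ k : ℕ, orderOf x = p ^ k)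
    [Fintype (Subgroup.centralizer ({x} : Set G))]
    {b : Set (IrrCharacter (Subgroup.centralizer ({x} : Set G)))} (hb : IsPBlock M b) :
    InducedBlockDefined M (Subgroup.centralizer ({x} : Set G)) b := by
  obtain ⟨k, hk⟩ := hx
  have hP : IsPGroup p (Subgroup.zpowers x) := IsPGroup.of_card (by rw [Nat.card_zpowers, hk])
  have hcent : Subgroup.centralizer ((Subgroup.zpowers x : Subgroup G) : Set G) =
      Subgroup.centralizer ({x} : Set G) := by
    rw [Subgroup.zpowers_eq_closure, Subgroup.centralizer_closure]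
  refine inducedBlockDefined (H := Subgroup.centralizer ({x} : Set G)) hM hP ?_ hcent.le ?_ hb
  · refine Subgroup.zpowers_le.2 (Subgroup.mem_centralizer_iff.2 fun y hy => ?_)
    obtain rfl : y = x := hy
    rfl
  · rw [← hcent]
    exact Subgroup.centralizer_le_normalizer _

/-- The Second Main Theorem for the blocks of `C(x)`. -/
theorem blockPart_sectionFun_eq_zero (hM : IsPModular p M) (hx : ∃ k : ℕ, orderOf x = p ^ k)
    [Fintype (Subgroup.centralizer ({x} : Set G))]
    {b : Set (IrrCharacter (Subgroup.centralizer ({x} : Set G)))} (hb : IsPBlock M b)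
    {χ : IrrCharacter G}
    (hnot : ¬ IsInducedBlock M (Subgroup.centralizer ({x} : Set G)) b (blockOf M (χ : G → ℂ)))
    {y : Subgroup.centralizer ({x} : Set G)} (hy : ¬ p ∣ orderOf y) :
    blockPart b (sectionFun x (χ : G → ℂ)) y = 0 := by
  obtain ⟨B', hB'⟩ := inducedBlockDefined_centralizer hM hx hb
  have hχ : χ ∉ B' := fun h => hnot (IsPBlock.eq_blockOf hM hB'.2.1 h ▸ hB')
  have hxC : x ∈ Subgroup.centralizer ({x} : Set G) :=
    Subgroup.mem_centralizer_iff.2 fun y hy => by rw [Set.mem_singleton_iff.1 hy]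
  let h : Subgroup.centralizer ({x} : Set G) := ⟨x, hxC⟩ * y
  have hu : IsPPart p (h : G) x := by
    refine isPPart_mul (commute_centralizer y) hx ?_
    rwa [Subgroup.orderOf_coe]
  have h1 := secondMain_idempotent hM hB' h hu le_rfl hχ
  rw [← sum_blockCoeff_mul_eq_blockPart b
    (isClassFunction_sectionFun (irr_isClassFunction χ)) y, ← h1]
  refine Finset.sum_congr rfl fun k _ => ?_
  simp only [sectionFun, h, Subgroup.coe_mul]
  rw [← mul_assoc, (commute_centralizer k).eq, mul_assoc]

end Section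

open scoped Classical in
/-- Block orthogonality for two different `p`-sections. -/
theorem sum_block_eq_zero_of_not_isConj (hM : IsPModular p M) {B : Set (IrrCharacter G)}
    (hB : IsPBlock M B) {g h x z : G} (hg : IsPPart p g x) (hh : IsPPart p h z)
    (hne : ¬ IsConj x z) :
    ∑ χ ∈ Finset.univ.filter (· ∈ B), (χ : G → ℂ) g * (χ : G → ℂ) h⁻¹ = 0 := by
  obtain ⟨y, hy, hxy, hx, hyp⟩ := hg
  have hyC : y ∈ Subgroup.centralizer ({x} : Set G) :=
    Subgroup.mem_centralizer_iff.2 fun w hw => by rw [Set.mem_singleton_iff.1 hw]; exact hxy.eq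
  set C := Subgroup.centralizer ({x} : Set G)
  set y' : C := ⟨y, hyC⟩
  have hy' : ¬ p ∣ orderOf y' := by rw [← Subgroup.orderOf_coe]; exact hyp
  let θ : C → ℂ := fun c => ∑ χ : IrrCharacter G, (χ : G → ℂ) h⁻¹ * sectionFun x (χ : G → ℂ) c
  have hθ0 : ∀ c : C, ¬ p ∣ orderOf c → θ c = 0 := by
    intro c hc
    have hpart : IsPPart p (x * (c : G)) x :=
      isPPart_mul (commute_centralizer c) hx (by rwa [Subgroup.orderOf_coe])
    have hnc : ¬ IsConj (x * (c : G)) h := by
      intro hconj
      obtain ⟨d, hd⟩ := isConj_iff.1 hconj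
      have h3 := IsPPart.conj hpart d
      rw [hd] at h3
      exact hne (isConj_iff.2 ⟨d, IsPPart.unique hM.1 h3 hh⟩)
    have h4 := column_orth (x * (c : G)) h
    rw [if_neg hnc] at h4
    rw [← h4]
    exact Finset.sum_congr rfl fun χ _ => by rw [irr_apply_inv, mul_comm]; rfl
  have hbz : ∀ {b : Set (IrrCharacter C)}, IsPBlock M b → blockPart b θ y' = 0 := by
    intro b hb
    rw [blockPart_eq_sum]
    simp only [classInner, Finset.sum_mul, Finset.mul_sum]
    rw [Finset.sum_comm]
    refine Finset.sum_eq_zero fun c _ => ?_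
    by_cases hc : p ∣ orderOf c
    · have hwo := weak_orth hM hb hy' hc
      rw [← mul_zero ((Nat.card C : ℂ)⁻¹ * θ c), ← hwo, Finset.mul_sum]
      exact Finset.sum_congr rfl fun ξ _ => by ring
    · simp [hθ0 c hc]
  let T : Set (IrrCharacter C) := {ξ | IsInducedBlock M C (blockOf M (ξ : C → ℂ)) B}
  have hT : ∀ ξ η : IrrCharacter C, ξ ∈ T → SameBlock M (ξ : C → ℂ) (η : C → ℂ) → η ∈ T := by
    intro ξ η hξ hs
    show IsInducedBlock M C (blockOf M (η : C → ℂ)) B
    rw [← blockOf_eq_of_sameBlock hM hs]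
    exact hξ
  have hTc : ∀ ξ η : IrrCharacter C, ξ ∈ Tᶜ → SameBlock M (ξ : C → ℂ) (η : C → ℂ) → η ∈ Tᶜ :=
    fun ξ η hξ hs hη => hξ (hT η ξ hη (SameBlock.symm hM hs))
  have hz : blockPart T θ y' = 0 :=
    blockPart_union_eq_zero hM hT fun ξ _ => hbz (isPBlock_blockOf ξ)
  have hlin : blockPart T θ y' = ∑ χ : IrrCharacter G,
      (χ : G → ℂ) h⁻¹ * blockPart T (sectionFun x (χ : G → ℂ)) y' := by
    simp only [blockPart_eq_sum, classInner, θ, Finset.mul_sum, Finset.sum_mul]
    symm
    rw [Finset.sum_comm]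
    refine Finset.sum_congr rfl fun ξ _ => ?_
    rw [Finset.sum_comm]
    exact Finset.sum_congr rfl fun k _ => Finset.sum_congr rfl fun χ _ => by ring
  have hpart : ∀ χ : IrrCharacter G, blockPart T (sectionFun x (χ : G → ℂ)) y' =
      if χ ∈ B then (χ : G → ℂ) g else 0 := by
    intro χ
    split_ifs with hχ
    · have h0 : blockPart Tᶜ (sectionFun x (χ : G → ℂ)) y' = 0 :=
        blockPart_union_eq_zero hM hTc fun ξ hξ =>
          blockPart_sectionFun_eq_zero hM hx (isPBlock_blockOf ξ)
            (by rw [← IsPBlock.eq_blockOf hM hB hχ]; exact hξ) hy'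
      have hall : sectionFun x (χ : G → ℂ) y' =
          blockPart T (sectionFun x (χ : G → ℂ)) y' + blockPart Tᶜ (sectionFun x (χ : G → ℂ)) y' := by
        conv_lhs => rw [classFunction_eq_sum (isClassFunction_sectionFun (irr_isClassFunction χ))]
        simp only [blockPart_eq_sum, Finset.sum_apply, Pi.smul_apply, smul_eq_mul,
          Set.mem_compl_iff]
        exact (Finset.sum_filter_add_sum_filter_not _ _ _).symm
      rw [h0, add_zero] at hall
      rw [← hall, ← hy]
      rfl
    · refine blockPart_union_eq_zero hM hT fun ξ hξ =>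
        blockPart_sectionFun_eq_zero hM hx (isPBlock_blockOf ξ) (fun h' => hχ ?_) hy'
      have := IsInducedBlock.unique hM hξ h'
      rw [this]
      exact mem_blockOf_self hM χ
  rw [← hz, hlin]
  simp only [hpart, mul_ite, mul_zero]
  rw [← Finset.sum_filter]
  exact Finset.sum_congr rfl fun χ _ => mul_comm _ _

/-- Block parts of functions vanishing on a section vanish there. -/
theorem blockPart_eq_zero_of_section (hM : IsPModular p M) {B : Set (IrrCharacter G)}
    (hB : IsPBlock M B) {ϑ : G → ℂ} {x : G}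
    (hϑ : ∀ u z : G, IsPPart p u z → IsConj x z → ϑ u = 0) {u z : G} (hu : IsPPart p u z)
    (hxz : IsConj x z) : blockPart B ϑ u = 0 := by
  classical
  rw [blockPart_eq_sum]
  simp only [classInner, Finset.sum_mul, Finset.mul_sum]
  rw [Finset.sum_comm]
  refine Finset.sum_eq_zero fun v _ => ?_
  obtain ⟨w, hw⟩ := exists_isPPart hM.1 v
  by_cases hxw : IsConj x w
  · simp [hϑ v w hw hxw]
  · have h1 := sum_block_eq_zero_of_not_isConj hM hB hu hw fun hzw => hxw (hxz.trans hzw)
    rw [← mul_zero ((Nat.card G : ℂ)⁻¹ * ϑ v), ← h1, Finset.mul_sum]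
    exact Finset.sum_congr rfl fun χ _ => by rw [irr_apply_inv]; ring

/-- Characters of the principal block are constant on `u * O_{p'}(C(u))`. -/
theorem principal_apply_mul (hM : IsPModular p M) {u : G} (hu : ∃ k : ℕ, orderOf u = p ^ k)
    {N : Subgroup (Subgroup.centralizer ({u} : Set G))} [N.Normal] (hN : ¬ p ∣ Nat.card N)
    {v : Subgroup.centralizer ({u} : Set G)} (hv : v ∈ N) {χ : IrrCharacter G}
    (hχ : χ ∈ principalBlock M G) : (χ : G → ℂ) (u * (v : G)) = (χ : G → ℂ) u := by
  classical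
  let B₀ := principalBlock M (Subgroup.centralizer ({u} : Set G))
  have hB₀ : IsPBlock M B₀ := isPBlock_principalBlock M
  have hoff : ∀ w : Subgroup.centralizer ({u} : Set G), ¬ p ∣ orderOf w → blockPart B₀ᶜ (sectionFun u (χ : G → ℂ)) w = 0 := by
    intro w hw
    refine blockPart_union_eq_zero (A := B₀ᶜ) hM (fun ξ η hξ hs hη => hξ ?_) fun ξ hξ =>
      blockPart_sectionFun_eq_zero hM hu (isPBlock_blockOf ξ) (fun hind => hξ ?_) hw
    · exact (IsPBlock.mem_iff hM hB₀ hη ξ).2 (SameBlock.symm hM hs)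
    · rw [← IsPBlock.eq_blockOf hM (isPBlock_principalBlock M) hχ] at hind
      have := (isInducedBlock_principal_iff hM _ ⟨_, hind⟩).1 hind
      show ξ ∈ principalBlock M (Subgroup.centralizer ({u} : Set G))
      rw [← this]
      exact mem_blockOf_self hM ξ
  have hval : ∀ w : Subgroup.centralizer ({u} : Set G), ¬ p ∣ orderOf w →
      sectionFun u (χ : G → ℂ) w = blockPart B₀ (sectionFun u (χ : G → ℂ)) w := by
    intro w hw
    rw [← add_zero (blockPart B₀ _ w), ← hoff w hw]
    conv_lhs => rw [classFunction_eq_sum (isClassFunction_sectionFun (irr_isClassFunction χ))]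
    simp only [blockPart_eq_sum, Finset.sum_apply, Pi.smul_apply, smul_eq_mul, Set.mem_compl_iff]
    exact (Finset.sum_filter_add_sum_filter_not _ _ _).symm
  have hv' : ¬ p ∣ orderOf v := fun h =>
    hN (h.trans (by rw [← Subgroup.orderOf_mk v hv]; exact orderOf_dvd_natCard _))
  have h1 : ¬ p ∣ orderOf (1 : Subgroup.centralizer ({u} : Set G)) := by rw [orderOf_one]; exact hM.1.not_dvd_one
  have e1 := hval v hv'
  have e2 := hval 1 h1
  simp only [sectionFun, OneMemClass.coe_one, mul_one] at e1 e2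
  rw [e1, e2, blockPart_eq_sum, blockPart_eq_sum]
  refine Finset.sum_congr rfl fun ξ hξ => ?_
  rw [principalBlock_kernel hM (Finset.mem_filter.1 hξ).2 hN hv]

end CfsgLib.Blocks
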