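import Cfsg.Prelude.Def_Blocks
import Mathlib.RingTheory.Ideal.Quotient.Basic
import Mathlib.RingTheory.IntegralClosure.IntegrallyClosed
import Mathlib.FieldTheory.Minpoly.IsIntegrallyClosed
import Mathlib.Algebra.CharP.Quotient
import Mathlib.RingTheory.RootsOfUnity.Complex
import Mathlib.RingTheory.Polynomial.Cyclotomic.Eval
import Mathlib.FieldTheory.Finite.Basic
import Mathlib.RingTheory.IntegralClosure.IsIntegralClosure.Basic

/-!
# The local ring of the algebraic integers at a modular maximal ideal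

`lRing hM` is the subring of `ℂ` of local integers, `lRes hM` its residue map to
`AlgInt ⧸ M`.
-/

set_option linter.style.haveILetI false

namespace CfsgLib.Blocks

open Cfsg Polynomial

variable {p : ℕ} {M : Ideal AlgInt}

theorem IsPModular.prime (hM : IsPModular p M) : p.Prime := hM.1

theorem IsPModular.isMaximal (hM : IsPModular p M) : M.IsMaximal := hM.2.1

theorem IsPModular.isPrime (hM : IsPModular p M) : M.IsPrime := hM.2.1.isPrime

theorem IsPModular.p_mem (hM : IsPModular p M) : (p : AlgInt) ∈ M := hM.2.2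

theorem IsPModular.one_notMem (hM : IsPModular p M) : (1 : AlgInt) ∉ M :=
  fun h => hM.2.1.ne_top ((Ideal.eq_top_iff_one M).2 h)

theorem IsPModular.mul_notMem (hM : IsPModular p M) {a b : AlgInt} (ha : a ∉ M) (hb : b ∉ M) :
    a * b ∉ M :=
  fun h => ((IsPModular.isPrime hM).mem_or_mem h).elim ha hb

theorem coe_ne_zero_of_notMem {b : AlgInt} (hb : b ∉ M) : (b : ℂ) ≠ 0 := by
  intro h
  apply hb
  have : b = 0 := by exact_mod_cast Subtype.ext h
  rw [this]; exact M.zero_mem

/-- An integer lies in `M` exactly when `p` divides it. -/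
theorem intCast_mem_iff (hM : IsPModular p M) (n : ℤ) : (n : AlgInt) ∈ M ↔ (p : ℤ) ∣ n := by
  constructor
  · intro h
    by_contra hn
    obtain ⟨a, b, hab⟩ := ((Nat.prime_iff_prime_int.1 hM.1).coprime_iff_not_dvd).2 hn
    have h1 : ((a : AlgInt) * (p : AlgInt) + (b : AlgInt) * (n : AlgInt)) ∈ M :=
      M.add_mem (M.mul_mem_left _ hM.2.2) (M.mul_mem_left _ h)
    have h2 : ((a : AlgInt) * (p : AlgInt) + (b : AlgInt) * (n : AlgInt)) = 1 := by
      have h3 := congrArg (fun z : ℤ => (z : AlgInt)) hab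
      push_cast at h3
      linear_combination h3
    exact IsPModular.one_notMem hM (h2 ▸ h1)
  · rintro ⟨k, rfl⟩
    push_cast
    exact M.mul_mem_right _ hM.2.2

/-- A natural number lies in `M` exactly when `p` divides it. -/
theorem natCast_mem_iff (hM : IsPModular p M) (n : ℕ) : (n : AlgInt) ∈ M ↔ p ∣ n := by
  have := intCast_mem_iff hM (n : ℤ)
  simpa [Int.natCast_dvd_natCast] using this

theorem memLocalRing_coe (hM : IsPModular p M) (a : AlgInt) : MemLocalRing M (a : ℂ) :=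
  ⟨a, 1, IsPModular.one_notMem hM, by simp⟩

theorem memLocalRing_of_isIntegral (hM : IsPModular p M) {z : ℂ} (hz : IsIntegral ℤ z) :
    MemLocalRing M z :=
  memLocalRing_coe hM ⟨z, hz⟩

theorem memLocalIdeal_coe (hM : IsPModular p M) {a : AlgInt} (ha : a ∈ M) :
    MemLocalIdeal M (a : ℂ) :=
  ⟨a, 1, ha, IsPModular.one_notMem hM, by simp⟩

theorem memLocalIdeal_coe_iff (hM : IsPModular p M) (a : AlgInt) :
    MemLocalIdeal M (a : ℂ) ↔ a ∈ M := by
  refine ⟨?_, memLocalIdeal_coe hM⟩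
  rintro ⟨c, b, hc, hb, h⟩
  have h1 : c = a * b := by
    apply Subtype.ext
    have hb0 := coe_ne_zero_of_notMem hb
    rw [div_eq_iff hb0] at h
    push_cast
    exact h
  rw [h1] at hc
  exact ((IsPModular.isPrime hM).mem_or_mem hc).resolve_right hb

theorem MemLocalIdeal.memLocalRing {z : ℂ} (h : MemLocalIdeal M z) : MemLocalRing M z := by
  obtain ⟨a, b, _, hb, h⟩ := h
  exact ⟨a, b, hb, h⟩

/-- The ring of local integers at `M`. -/
def lRing (hM : IsPModular p M) : Subring ℂ where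
  carrier := {z | MemLocalRing M z}
  one_mem' := by simpa using memLocalRing_coe hM 1
  zero_mem' := by simpa using memLocalRing_coe hM 0
  mul_mem' := by
    rintro x y ⟨a, b, hb, rfl⟩ ⟨c, d, hd, rfl⟩
    exact ⟨a * c, b * d, IsPModular.mul_notMem hM hb hd, by push_cast; ring⟩
  add_mem' := by
    rintro x y ⟨a, b, hb, rfl⟩ ⟨c, d, hd, rfl⟩
    refine ⟨a * d + c * b, b * d, IsPModular.mul_notMem hM hb hd, ?_⟩
    rw [div_add_div _ _ (coe_ne_zero_of_notMem hb) (coe_ne_zero_of_notMem hd)]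
    push_cast; ring
  neg_mem' := by
    rintro x ⟨a, b, hb, rfl⟩
    exact ⟨-a, b, hb, by push_cast; ring⟩

@[simp] theorem mem_lRing {hM : IsPModular p M} {z : ℂ} : z ∈ lRing hM ↔ MemLocalRing M z :=
  Iff.rfl

theorem coe_mem_lRing (hM : IsPModular p M) (a : AlgInt) : (a : ℂ) ∈ lRing hM :=
  memLocalRing_coe hM a

theorem isIntegral_mem_lRing (hM : IsPModular p M) {z : ℂ} (hz : IsIntegral ℤ z) :
    z ∈ lRing hM :=
  memLocalRing_of_isIntegral hM hz

/-- The residue map of the local ring. -/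
noncomputable def lResFun (hM : IsPModular p M) (z : lRing hM) : AlgInt ⧸ M :=
  haveI := IsPModular.isMaximal hM
  letI := Ideal.Quotient.field M
  Ideal.Quotient.mk M z.2.choose / Ideal.Quotient.mk M z.2.choose_spec.choose

theorem lResFun_eq (hM : IsPModular p M) {z : lRing hM} {a b : AlgInt} (hb : b ∉ M)
    (h : (a : ℂ) / (b : ℂ) = z) :
    lResFun hM z * Ideal.Quotient.mk M b = Ideal.Quotient.mk M a := by
  haveI := IsPModular.isMaximal hM
  letI := Ideal.Quotient.field M
  obtain ⟨hb', h'⟩ := z.2.choose_spec.choose_spec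
  unfold lResFun
  set c := z.2.choose
  set d := z.2.choose_spec.choose
  have hd : Ideal.Quotient.mk M d ≠ 0 := fun h0 => hb' (Ideal.Quotient.eq_zero_iff_mem.1 h0)
  have key : c * b = a * d := by
    apply Subtype.ext
    have := h'.trans h.symm
    rw [div_eq_div_iff (coe_ne_zero_of_notMem hb') (coe_ne_zero_of_notMem hb)] at this
    push_cast
    exact this
  rw [div_mul_eq_mul_div, div_eq_iff hd, ← map_mul, key, map_mul]

theorem mk_ne_zero_of_notMem {b : AlgInt} (hb : b ∉ M) : Ideal.Quotient.mk M b ≠ 0 :=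
  fun h0 => hb (Ideal.Quotient.eq_zero_iff_mem.1 h0)

theorem lResFun_coe (hM : IsPModular p M) (a : AlgInt) (h : (a : ℂ) ∈ lRing hM) :
    lResFun hM ⟨(a : ℂ), h⟩ = Ideal.Quotient.mk M a := by
  have := lResFun_eq hM (z := ⟨(a : ℂ), h⟩) (a := a) (b := 1) (IsPModular.one_notMem hM) (by simp)
  simpa using this

/-- The residue homomorphism of the local ring at `M`. -/
noncomputable def lRes (hM : IsPModular p M) : lRing hM →+* AlgInt ⧸ M where
  toFun := lResFun hM
  map_one' := by
    have := lResFun_eq hM (z := 1) (a := 1) (b := 1) (IsPModular.one_notMem hM) (by simp)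
    simpa using this
  map_zero' := by
    have := lResFun_eq hM (z := 0) (a := 0) (b := 1) (IsPModular.one_notMem hM) (by simp)
    simpa using this
  map_mul' := by
    intro x y
    haveI := IsPModular.isMaximal hM
    letI := Ideal.Quotient.field M
    obtain ⟨a, b, hb, hx⟩ := x.2
    obtain ⟨c, d, hd, hy⟩ := y.2
    have hbd := mk_ne_zero_of_notMem (IsPModular.mul_notMem hM hb hd)
    apply mul_right_cancel₀ hbd
    rw [lResFun_eq hM (z := x * y) (a := a * c) (IsPModular.mul_notMem hM hb hd)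
      (by rw [Subring.coe_mul, ← hx, ← hy]; push_cast; ring)]
    rw [map_mul, map_mul, mul_mul_mul_comm, lResFun_eq hM hb hx, lResFun_eq hM hd hy]
  map_add' := by
    intro x y
    haveI := IsPModular.isMaximal hM
    letI := Ideal.Quotient.field M
    obtain ⟨a, b, hb, hx⟩ := x.2
    obtain ⟨c, d, hd, hy⟩ := y.2
    have hbd := mk_ne_zero_of_notMem (IsPModular.mul_notMem hM hb hd)
    apply mul_right_cancel₀ hbd
    rw [lResFun_eq hM (z := x + y) (a := a * d + c * b) (IsPModular.mul_notMem hM hb hd)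
      (by
        rw [Subring.coe_add, ← hx, ← hy,
          div_add_div _ _ (coe_ne_zero_of_notMem hb) (coe_ne_zero_of_notMem hd)]
        push_cast; ring)]
    rw [map_add, map_mul, map_mul, map_mul, ← lResFun_eq hM hb hx, ← lResFun_eq hM hd hy]
    ring

theorem lRes_coe (hM : IsPModular p M) (a : AlgInt) :
    lRes hM ⟨(a : ℂ), coe_mem_lRing hM a⟩ = Ideal.Quotient.mk M a :=
  lResFun_coe hM a _

theorem lRes_mul_mk (hM : IsPModular p M) {z : lRing hM} {a b : AlgInt} (hb : b ∉ M)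
    (h : (a : ℂ) / (b : ℂ) = z) :
    lRes hM z * Ideal.Quotient.mk M b = Ideal.Quotient.mk M a :=
  lResFun_eq hM hb h

theorem lRes_eq_zero_iff (hM : IsPModular p M) (z : lRing hM) :
    lRes hM z = 0 ↔ MemLocalIdeal M (z : ℂ) := by
  haveI := IsPModular.isMaximal hM
  letI := Ideal.Quotient.field M
  constructor
  · intro h0
    obtain ⟨a, b, hb, hx⟩ := z.2
    refine ⟨a, b, ?_, hb, hx⟩
    rw [← Ideal.Quotient.eq_zero_iff_mem, ← lRes_mul_mk hM hb hx, h0, zero_mul]
  · rintro ⟨a, b, ha, hb, hx⟩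
    have := lRes_mul_mk hM hb hx
    rw [Ideal.Quotient.eq_zero_iff_mem.2 ha] at this
    exact (mul_eq_zero.1 this).resolve_right (mk_ne_zero_of_notMem hb)

theorem lRes_eq_iff (hM : IsPModular p M) (x y : lRing hM) :
    lRes hM x = lRes hM y ↔ MemLocalIdeal M ((x : ℂ) - y) := by
  rw [← sub_eq_zero, ← map_sub, lRes_eq_zero_iff]
  simp

theorem lRes_natCast (hM : IsPModular p M) (n : ℕ) :
    lRes hM (n : lRing hM) = (n : AlgInt ⧸ M) :=
  map_natCast _ n

theorem memLocalIdeal_zero (hM : IsPModular p M) : MemLocalIdeal M 0 := by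
  simpa using memLocalIdeal_coe hM M.zero_mem

theorem MemLocalIdeal.add (hM : IsPModular p M) {x y : ℂ} (hx : MemLocalIdeal M x)
    (hy : MemLocalIdeal M y) : MemLocalIdeal M (x + y) := by
  let X : lRing hM := ⟨x, MemLocalIdeal.memLocalRing hx⟩
  let Y : lRing hM := ⟨y, MemLocalIdeal.memLocalRing hy⟩
  have hX : lRes hM X = 0 := (lRes_eq_zero_iff hM X).2 hx
  have hY : lRes hM Y = 0 := (lRes_eq_zero_iff hM Y).2 hy
  exact (lRes_eq_zero_iff hM (X + Y)).1 (by rw [map_add, hX, hY, add_zero])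

theorem MemLocalIdeal.neg (hM : IsPModular p M) {x : ℂ} (hx : MemLocalIdeal M x) :
    MemLocalIdeal M (-x) := by
  obtain ⟨a, b, ha, hb, rfl⟩ := hx
  exact ⟨-a, b, M.neg_mem ha, hb, by push_cast; ring⟩

theorem MemLocalIdeal.sub (hM : IsPModular p M) {x y : ℂ} (hx : MemLocalIdeal M x)
    (hy : MemLocalIdeal M y) : MemLocalIdeal M (x - y) :=
  sub_eq_add_neg x y ▸ MemLocalIdeal.add hM hx (MemLocalIdeal.neg hM hy)

theorem MemLocalIdeal.mul_left (hM : IsPModular p M) {x y : ℂ} (hx : MemLocalRing M x)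
    (hy : MemLocalIdeal M y) : MemLocalIdeal M (x * y) := by
  obtain ⟨a, b, hb, rfl⟩ := hx
  obtain ⟨c, d, hc, hd, rfl⟩ := hy
  exact ⟨a * c, b * d, M.mul_mem_left _ hc, IsPModular.mul_notMem hM hb hd, by push_cast; ring⟩

theorem MemLocalIdeal.mul_right (hM : IsPModular p M) {x y : ℂ} (hx : MemLocalIdeal M x)
    (hy : MemLocalRing M y) : MemLocalIdeal M (x * y) :=
  mul_comm y x ▸ MemLocalIdeal.mul_left hM hy hx

theorem MemLocalIdeal.sum (hM : IsPModular p M) {ι : Type*} (s : Finset ι) {f : ι → ℂ}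
    (h : ∀ i ∈ s, MemLocalIdeal M (f i)) : MemLocalIdeal M (∑ i ∈ s, f i) := by
  classical
  induction s using Finset.induction_on with
  | empty => simpa using memLocalIdeal_zero hM
  | insert i s hi ih =>
    rw [Finset.sum_insert hi]
    exact MemLocalIdeal.add hM (h i (Finset.mem_insert_self _ _))
      (ih fun j hj => h j (Finset.mem_insert_of_mem hj))

theorem memLocalIdeal_natCast_iff (hM : IsPModular p M) (n : ℕ) :
    MemLocalIdeal M (n : ℂ) ↔ p ∣ n := by
  rw [← natCast_mem_iff hM n, ← memLocalIdeal_coe_iff hM]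
  simp

theorem memLocalIdeal_p (hM : IsPModular p M) : MemLocalIdeal M (p : ℂ) :=
  (memLocalIdeal_natCast_iff hM p).2 dvd_rfl

theorem not_memLocalIdeal_one (hM : IsPModular p M) : ¬ MemLocalIdeal M 1 := by
  intro h
  have := (memLocalIdeal_natCast_iff hM 1).1 (by simpa using h)
  exact hM.1.ne_one (Nat.dvd_one.1 this)

/-- A local integer outside the local ideal has a local-integral inverse. -/
theorem inv_mem_lRing (hM : IsPModular p M) {z : ℂ} (hz : MemLocalRing M z)
    (hz' : ¬ MemLocalIdeal M z) : z⁻¹ ∈ lRing hM := by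
  obtain ⟨a, b, hb, rfl⟩ := hz
  exact ⟨b, a, fun ha => hz' ⟨a, b, ha, hb, rfl⟩, by rw [inv_div]⟩

theorem inv_natCast_mem_lRing (hM : IsPModular p M) {n : ℕ} (hn : ¬ p ∣ n) :
    (n : ℂ)⁻¹ ∈ lRing hM :=
  inv_mem_lRing hM (by simpa using memLocalRing_coe hM (n : AlgInt))
    (fun h => hn ((memLocalIdeal_natCast_iff hM n).1 h))

theorem MemLocalIdeal.mul_cases (hM : IsPModular p M) {x y : ℂ} (hx : MemLocalRing M x)
    (hy : MemLocalRing M y) (h : MemLocalIdeal M (x * y)) :
    MemLocalIdeal M x ∨ MemLocalIdeal M y := by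
  by_contra! hne
  apply hne.2
  have hx0 : x ≠ 0 := fun h0 => hne.1 (h0 ▸ memLocalIdeal_zero hM)
  have := MemLocalIdeal.mul_left hM (inv_mem_lRing hM hx hne.1) h
  rwa [← mul_assoc, inv_mul_cancel₀ hx0, one_mul] at this

/-- Only zero is divisible by every power of `p` among the local integers. -/
theorem eq_zero_of_forall_pow_dvd (hM : IsPModular p M) {z : ℂ} (hz : MemLocalRing M z)
    (h : ∀ n : ℕ, ∃ w : ℂ, MemLocalRing M w ∧ z = (p : ℂ) ^ n * w) : z = 0 := by
  obtain ⟨a, b, hb, rfl⟩ := hz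
  by_contra hne
  have hb0 := coe_ne_zero_of_notMem hb
  have ha0 : (a : ℂ) ≠ 0 := fun h0 => hne (by rw [h0, zero_div])
  have haint : IsIntegral ℤ (a : ℂ) := a.2
  set q := minpoly ℤ (a : ℂ)
  have hq0 : q.coeff 0 ≠ 0 := by
    have h1 := minpoly.coeff_zero_ne_zero (A := ℚ) haint.tower_top ha0
    rw [minpoly.isIntegrallyClosed_eq_field_fractions' ℚ haint, coeff_map] at h1
    exact fun h0 => h1 (by rw [h0, map_zero])
  -- `a` divides the integer `q.coeff 0`
  obtain ⟨a', ha'⟩ : ∃ a' : AlgInt, ((q.coeff 0 : ℤ) : ℂ) = (a : ℂ) * (a' : ℂ) := by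
    refine ⟨-(aeval a q.divX), ?_⟩
    have h1 : aeval (a : ℂ) q = 0 := minpoly.aeval ℤ _
    rw [← q.X_mul_divX_add] at h1
    simp only [map_add, map_mul, aeval_X, eq_intCast, map_intCast] at h1
    push_cast
    linear_combination h1
  obtain ⟨v, N, hN, hqN⟩ : ∃ (v : ℕ) (N : ℤ), ¬ (p : ℤ) ∣ N ∧ q.coeff 0 = (p : ℤ) ^ v * N :=
    WfDvdMonoid.max_power_factor hq0 (Nat.prime_iff_prime_int.1 hM.1).irreducible
  obtain ⟨w, ⟨c, d, hd, rfl⟩, hw⟩ := h (v + 1)
  have hd0 := coe_ne_zero_of_notMem hd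
  have hp0 : (p : ℂ) ≠ 0 := by exact_mod_cast hM.1.ne_zero
  have key : (N : AlgInt) * d = (p : AlgInt) * (a' * b * c) := by
    apply Subtype.ext
    push_cast
    apply mul_left_cancel₀ (pow_ne_zero v hp0)
    rw [hqN] at ha'
    push_cast at ha'
    field_simp at hw
    linear_combination (d : ℂ) * ha' + (a' : ℂ) * hw
  have : (N : AlgInt) * d ∈ M := key ▸ M.mul_mem_right _ hM.2.2
  rcases (IsPModular.isPrime hM).mem_or_mem this with h1 | h1
  · exact hN ((intCast_mem_iff hM N).1 h1)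
  · exact hd h1

/-- The residue field has characteristic `p`. -/
theorem charP_residue (hM : IsPModular p M) : CharP (AlgInt ⧸ M) p := by
  refine ⟨fun n => ?_⟩
  rw [← map_natCast (Ideal.Quotient.mk M), Ideal.Quotient.eq_zero_iff_mem, natCast_mem_iff hM]

end CfsgLib.Blocks
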