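import Cfsg.Agent.Lib.Characters.BrauerInduction
import Cfsg.Agent.Lib.Characters.Scalar
import Cfsg.Agent.Lib.Blocks.ClassCount
import Cfsg.Prelude.Def_Blocks
import Mathlib.GroupTheory.SchurZassenhaus

/-!
# Characters of `p`-defect zero vanish on the `p`-singular elements

The function equal to `φ` on the `p`-regular elements and to zero elsewhere has, by Brauer's
induction theorem and the integrality of central characters, an integral inner product with `φ`;
this integer lies in `(0, 1]`, so it is one.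
-/

set_option autoImplicit false
set_option linter.style.haveILetI false

noncomputable section

namespace CfsgLib.DefectZeroVanish

open Cfsg CfsgLib.Characters
open scoped ComplexConjugate

universe u

/-- The `p`-regular elements of an elementary group form a normal subgroup. -/
theorem elementary_split {E : Type u} [Group E] [Finite E] {p q : ℕ} [hp : Fact p.Prime]
    (hq : q.Prime) (hE : IsElementary q E) :
    ∃ S : Subgroup E, ¬ p ∣ Nat.card S ∧ (∀ g, g ∈ S ↔ ¬ p ∣ orderOf g) ∧
      (∃ a, S.index = p ^ a) ∧ ∀ s ∈ S, S.index ∣ Nat.card (Subgroup.centralizer ({s} : Set E)) := by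
  obtain ⟨x, hx, hcop, k, hk⟩ := hE
  have hreg : ∀ (S : Subgroup E) [S.Normal], ¬ p ∣ Nat.card S → (∃ a, S.index = p ^ a) →
      ∀ g, g ∈ S ↔ ¬ p ∣ orderOf g := by
    rintro S _ hS ⟨a, ha⟩ g
    refine ⟨fun hg hd => hS (hd.trans (Subgroup.orderOf_dvd_natCard S hg)), fun hg => ?_⟩
    rw [← QuotientGroup.eq_one_iff, ← orderOf_eq_one_iff]
    refine Nat.eq_one_of_dvd_coprimes ((hp.out.coprime_iff_not_dvd.mpr hg).pow_left a) ?_
      (orderOf_map_dvd (QuotientGroup.mk' S) g)
    rw [← ha, Subgroup.index_eq_card]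
    exact orderOf_dvd_natCard _
  have hxc : ∀ y, Commute y x := fun y => Subgroup.mem_center_iff.mp hx y
  by_cases hqp : q = p
  · subst hqp
    haveI : (Subgroup.zpowers x).Normal := ⟨fun z hz g => by
      obtain ⟨i, rfl⟩ := Subgroup.mem_zpowers_iff.mp hz
      rw [((hxc g).zpow_right i).eq, mul_inv_cancel_right]
      exact Subgroup.zpow_mem_zpowers x i⟩
    have hS : ¬ q ∣ Nat.card (Subgroup.zpowers x) := by
      rw [Nat.card_zpowers, ← hq.coprime_iff_not_dvd]
      exact hcop.symm
    refine ⟨Subgroup.zpowers x, hS, hreg _ hS ⟨k, hk⟩, ⟨k, hk⟩, fun s hs => ?_⟩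
    obtain ⟨i, rfl⟩ := Subgroup.mem_zpowers_iff.mp hs
    have htop : Subgroup.centralizer ({x ^ i} : Set E) = ⊤ := by
      refine (Subgroup.eq_top_iff' _).mpr fun y => ?_
      rw [Subgroup.mem_centralizer_singleton_iff]
      exact ((hxc y).zpow_right i).eq
    rw [htop, Subgroup.card_top]
    exact Subgroup.index_dvd_card _
  · -- the `p`-part is central
    set a := (orderOf x).factorization p with ha
    have hox : orderOf x ≠ 0 := (orderOf_pos x).ne'
    set y := x ^ (orderOf x / p ^ a) with hy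
    have hoy : orderOf y = p ^ a := by
      rw [hy, orderOf_pow_of_dvd (Nat.div_pos (Nat.le_of_dvd (Nat.pos_of_ne_zero hox)
        (Nat.ordProj_dvd _ _)) (pow_pos hp.out.pos a)).ne'
        (Nat.div_dvd_of_dvd (Nat.ordProj_dvd _ _)), Nat.div_div_self (Nat.ordProj_dvd _ _) hox]
    have hyc : ∀ z, Commute z y := fun z => (hxc z).pow_right _
    set Q := Subgroup.zpowers y with hQ
    haveI hQn : Q.Normal := ⟨fun z hz g => by
      obtain ⟨i, rfl⟩ := Subgroup.mem_zpowers_iff.mp hz
      rw [((hyc g).zpow_right i).eq, mul_inv_cancel_right]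
      exact Subgroup.zpow_mem_zpowers y i⟩
    have hQc : Nat.card Q = p ^ a := by rw [hQ, Nat.card_zpowers, hoy]
    have hindex : Q.index = (orderOf x / p ^ a) * q ^ k := by
      have h1 := Subgroup.card_mul_index Q
      rw [hQc, ← Subgroup.card_mul_index (Subgroup.zpowers x), Nat.card_zpowers, hk] at h1
      have h2 : p ^ a * (orderOf x / p ^ a) = orderOf x := Nat.mul_div_cancel' (Nat.ordProj_dvd _ _)
      refine Nat.eq_of_mul_eq_mul_left (pow_pos hp.out.pos a) ?_
      rw [h1, ← mul_assoc, h2]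
    have hcopQ : Nat.Coprime (Nat.card Q) Q.index := by
      rw [hQc, hindex]
      refine Nat.Coprime.pow_left a (hp.out.coprime_iff_not_dvd.mpr fun hd => ?_)
      rcases hp.out.dvd_mul.mp hd with h | h
      · exact Nat.not_dvd_ordCompl hp.out hox h
      · exact hqp ((Nat.prime_dvd_prime_iff_eq hp.out hq).mp (hp.out.dvd_of_dvd_pow h)).symm
    obtain ⟨S, hS⟩ := Subgroup.exists_right_complement'_of_coprime hcopQ
    haveI hSn : S.Normal := ⟨fun s hs g => by
      obtain ⟨⟨c, t⟩, rfl⟩ := hS.2 g
      obtain ⟨i, hi⟩ := Subgroup.mem_zpowers_iff.mp c.2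
      have hc : ∀ z, Commute z (c : E) := fun z => hi ▸ (hyc z).zpow_right i
      change (c : E) * t * s * ((c : E) * t)⁻¹ ∈ S
      rw [show (c : E) * t * s * ((c : E) * t)⁻¹ = (c : E) * ((t : E) * s * (t : E)⁻¹) * (c : E)⁻¹ by
        group, ← (hc _).eq, mul_inv_cancel_right]
      exact S.mul_mem (S.mul_mem t.2 hs) (S.inv_mem t.2)⟩
    have hSi : S.index = p ^ a := by rw [hS.index_eq_card, hQc]
    have hScard : ¬ p ∣ Nat.card S := by
      rw [← hS.symm.index_eq_card]
      intro hd
      rw [hindex] at hd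
      rcases hp.out.dvd_mul.mp hd with h | h
      · exact Nat.not_dvd_ordCompl hp.out hox h
      · exact hqp ((Nat.prime_dvd_prime_iff_eq hp.out hq).mp (hp.out.dvd_of_dvd_pow h)).symm
    refine ⟨S, hScard, hreg S hScard ⟨a, hSi⟩, ⟨a, hSi⟩, fun s _ => ?_⟩
    rw [hSi, ← hQc]
    refine Subgroup.card_dvd_of_le fun z hz => ?_
    obtain ⟨i, rfl⟩ := Subgroup.mem_zpowers_iff.mp hz
    rw [Subgroup.mem_centralizer_singleton_iff]
    exact ((hyc s).zpow_right i).eq.symm

variable {G : Type u} [Group G] [Fintype G] {p : ℕ} [hp : Fact p.Prime]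

/-- The truncation to the `p`-regular elements. -/
def regPart (p : ℕ) (f : G → ℂ) (g : G) : ℂ := if p ∣ orderOf g then 0 else f g

theorem isClassFunction_regPart {f : G → ℂ} (hf : IsClassFunction G f) :
    IsClassFunction G (regPart p f) := fun a b => by
  have : orderOf (b * a * b⁻¹) = orderOf a := (MulAut.conj b).orderOf_eq a
  simp only [regPart, this, hf a b]

/-- The inner product with a linear character of an elementary subgroup is integral. -/
theorem exists_int_inner (φ : IrrCharacter G) {b : ℕ} (hb : ¬ p ∣ b)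
    (hφb : charDegree (φ : G → ℂ) * b = Nat.card G) (E : Subgroup G) [Fintype E] {q : ℕ}
    (hq : q.Prime) (hE : IsElementary q E) (l : E →* ℂˣ) :
    ∃ z : ℤ, classInner (fun e : E => regPart p (φ : G → ℂ) e) (fun e => (l e : ℂ)) = (z : ℂ) := by
  classical
  obtain ⟨S, hScard, hmem, ⟨a, ha⟩, hcent⟩ := elementary_split (p := p) hq hE
  haveI := Fintype.ofFinite S
  obtain ⟨n, hn⟩ := classInner_char_nat
    (CfsgLib.Clifford.isCharacter_subtype (CfsgLib.Clifford.isCharacter_subtype (irr_isCharacter φ) E) S)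
    (isCharacter_of_irr (isIrrCharacter_of_hom (l.comp S.subtype)))
  set Q := S.index with hQ
  have hQ0 : (Q : ℂ) ≠ 0 := Nat.cast_ne_zero.mpr Subgroup.index_ne_zero_of_finite
  have hS0 : (Nat.card S : ℂ) ≠ 0 := Nat.cast_ne_zero.mpr Nat.card_pos.ne'
  rw [classInner, inv_mul_eq_iff_eq_mul₀ hS0] at hn
  -- the sum only sees `S`
  have hsum : ∑ e : E, regPart p (φ : G → ℂ) e * conj (l e : ℂ) =
      ∑ s : S, (φ : G → ℂ) ((s : E) : G) * conj (l s : ℂ) := by
    simp only [regPart, Subgroup.orderOf_coe, ite_mul, zero_mul]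
    rw [Finset.sum_ite, Finset.sum_const_zero, zero_add]
    exact Finset.sum_subtype _ (fun e => by simp [hmem e])
      (fun e : E => (φ : G → ℂ) (e : G) * conj (l e : ℂ))
  -- integrality
  have hint : IsIntegral ℤ (((b * Nat.card S * n : ℕ) : ℂ) / (Q : ℕ)) := by
    have hterm : ∀ s : S, IsIntegral ℤ ((φ : G → ℂ) ((s : E) : G) * b / Q * conj (l s : ℂ)) := by
      intro s
      refine IsIntegral.mul ?_ ?_
      · set C := Subgroup.centralizer ({((s : E) : G)} : Set G) with hC
        obtain ⟨c, hc⟩ : Q ∣ Nat.card C := (hcent s s.2).trans (by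
          rw [← Subgroup.card_map_of_injective E.subtype_injective]
          refine Subgroup.card_dvd_of_le ?_
          rintro _ ⟨z, hz, rfl⟩
          rw [Subgroup.mem_centralizer_singleton_iff]
          exact congrArg Subtype.val (Subgroup.mem_centralizer_singleton_iff.mp hz))
        have hω := CfsgLib.ClassCount.centralChar_isIntegral φ ((s : E) : G)
        rw [centralChar, ← hC] at hω
        obtain ⟨d, hd0, hd⟩ := irr_exists_degree φ.2
        have hd' : charDegree (φ : G → ℂ) = d := by simp [charDegree, hd]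
        rw [hd', ← Subgroup.index_mul_card C, hc] at hφb
        rw [hd] at hω
        have hcast : (d : ℂ) * b = (C.index : ℂ) * ((Q : ℂ) * c) := by exact_mod_cast hφb
        have hd0' : (d : ℂ) ≠ 0 := by exact_mod_cast hd0.ne'
        have heq : (φ : G → ℂ) ((s : E) : G) * b / Q =
            (C.index : ℂ) * (φ : G → ℂ) ((s : E) : G) / d * c := by
          field_simp
          linear_combination ((φ : G → ℂ) ((s : E) : G)) * hcast
        rw [heq]
        exact hω.mul (by simpa using (isIntegral_algebraMap (R := ℤ) (A := ℂ) (x := (c : ℤ))))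
      · have h1 : conj (l s : ℂ) = (l (s : E)⁻¹ : ℂ) :=
          (irr_apply_inv ⟨_, isIrrCharacter_of_hom l⟩ (s : E)).symm
        rw [h1]
        refine IsIntegral.of_pow (orderOf_pos ((s : E)⁻¹)) ?_
        rw [← Units.val_pow_eq_pow_val, ← map_pow, pow_orderOf_eq_one, map_one, Units.val_one]
        exact isIntegral_one
    have hall : ∑ s : S, (φ : G → ℂ) ((s : E) : G) * b / Q * conj (l s : ℂ) =
        ((b * Nat.card S * n : ℕ) : ℂ) / (Q : ℕ) := by
      rw [Finset.sum_congr rfl fun (s : S) _ => show (φ : G → ℂ) ((s : E) : G) * b / Q * conj (l s : ℂ) =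
        (b : ℂ) / Q * ((φ : G → ℂ) ((s : E) : G) * conj (l s : ℂ)) by ring, ← Finset.mul_sum]
      rw [show ∑ s : S, (φ : G → ℂ) ((s : E) : G) * conj (l s : ℂ) = (Nat.card S : ℂ) * n from hn]
      push_cast
      ring
    rw [← hall]
    exact IsIntegral.sum _ fun s _ => hterm s
  have hdvd : Q ∣ b * Nat.card S * n :=
    CfsgLib.CharScalar.dvd_of_isIntegral_div Subgroup.index_ne_zero_of_finite hint
  have hQn : Q ∣ n := by
    refine Nat.Coprime.dvd_of_dvd_mul_left ?_ hdvd
    rw [ha]
    exact Nat.Coprime.pow_left a (hp.out.coprime_iff_not_dvd.mpr fun h =>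
      (hp.out.dvd_mul.mp h).elim hb hScard)
  obtain ⟨m, rfl⟩ := hQn
  refine ⟨m, ?_⟩
  rw [classInner, hsum,
    show ∑ s : S, (φ : G → ℂ) ((s : E) : G) * conj (l s : ℂ) = (Nat.card S : ℂ) * (Q * m : ℕ) from hn,
    ← Subgroup.card_mul_index S, ← hQ]
  push_cast
  field_simp

/-- A character of `p`-defect zero vanishes on the `p`-singular elements. -/
theorem vanish_of_defect_zero (φ : IrrCharacter G)
    (h : p ^ (Nat.card G).factorization p ∣ charDegree (φ : G → ℂ)) {g : G} (hg : p ∣ orderOf g) :
    (φ : G → ℂ) g = 0 := by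
  classical
  obtain ⟨d, hd0, hd⟩ := irr_exists_degree φ.2
  have hd' : charDegree (φ : G → ℂ) = d := by simp [charDegree, hd]
  obtain ⟨b, hb⟩ : charDegree (φ : G → ℂ) ∣ Nat.card G := by
    obtain ⟨-, n, ρ, hρ, hchar⟩ := φ
    have := hρ
    have h1 : charDegree ρ.character = Module.finrank ℂ (Fin n → ℂ) := by
      simp [charDegree, Representation.char_one]
    subst hchar
    exact h1 ▸ CfsgLib.CharScalar.finrank_dvd_card ρ
  have hpb : ¬ p ∣ b := fun hdiv => by
    have h1 := mul_dvd_mul h hdiv
    rw [← hb, ← pow_succ] at h1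
    exact Nat.pow_succ_factorization_not_dvd Nat.card_pos.ne' hp.out h1
  set f := regPart p (φ : G → ℂ) with hf
  have hfc : IsClassFunction G f := isClassFunction_regPart (irr_isClassFunction φ)
  have hint : ∀ F ∈ CfsgLib.Brauer.brauerSpan G, ∃ z : ℤ, classInner f F = (z : ℂ) := by
    intro F hF
    induction hF using AddSubgroup.closure_induction with
    | mem x hx =>
      obtain ⟨E, q, l, hq, hE, rfl⟩ := hx
      haveI := Fintype.ofFinite E
      rw [CfsgLib.Induction.classInner_indFun_right E _ hfc]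
      exact exists_int_inner φ hpb hb.symm E hq hE l
    | zero => exact ⟨0, by simp [classInner]⟩
    | add x y _ _ hx hy =>
      obtain ⟨a, ha⟩ := hx
      obtain ⟨c, hc⟩ := hy
      exact ⟨a + c, by rw [classInner_add_right, ha, hc]; push_cast; ring⟩
    | neg x _ hx =>
      obtain ⟨a, ha⟩ := hx
      exact ⟨-a, by rw [classInner_neg_right, ha]; push_cast; ring⟩
  obtain ⟨z, hz⟩ := hint _ (CfsgLib.Brauer.irr_mem_brauerSpan G _ φ.2)
  have hG0 : (Nat.card G : ℂ) ≠ 0 := Nat.cast_ne_zero.mpr Nat.card_pos.ne'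
  rw [classInner, inv_mul_eq_iff_eq_mul₀ hG0] at hz
  have hR : ∑ x : G, (if p ∣ orderOf x then 0 else Complex.normSq ((φ : G → ℂ) x)) =
      (Nat.card G : ℝ) * z := by
    have h1 := congrArg Complex.re hz
    simp only [Complex.re_sum, Complex.mul_re, Complex.natCast_re, Complex.natCast_im,
      Complex.intCast_re, Complex.intCast_im, mul_zero, sub_zero] at h1
    rw [← h1]
    refine Finset.sum_congr rfl fun x _ => ?_
    simp only [hf, regPart]
    split_ifs <;> simp [Complex.normSq_apply]
  have hall : ∑ x : G, Complex.normSq ((φ : G → ℂ) x) = (Nat.card G : ℝ) := by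
    have h1 := classInner_irr_self φ.2
    rw [classInner, inv_mul_eq_iff_eq_mul₀ hG0, mul_one] at h1
    have h2 := congrArg Complex.re h1
    simp only [Complex.re_sum, Complex.mul_re, Complex.natCast_re] at h2
    rw [← h2]
    refine Finset.sum_congr rfl fun x _ => ?_
    simp [Complex.normSq_apply]
  have hsplit : ∑ x : G, (if p ∣ orderOf x then Complex.normSq ((φ : G → ℂ) x) else 0) =
      (Nat.card G : ℝ) * (1 - z) := by
    rw [mul_sub, mul_one, ← hR, ← hall, ← Finset.sum_sub_distrib]
    exact Finset.sum_congr rfl fun x _ => by split_ifs <;> simp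
  have hpos : (0 : ℝ) < (Nat.card G : ℝ) * z := by
    rw [← hR]
    refine Finset.sum_pos' (fun x _ => by split_ifs <;> simp [Complex.normSq_nonneg])
      ⟨1, Finset.mem_univ _, ?_⟩
    rw [if_neg (by rw [orderOf_one]; exact hp.out.not_dvd_one), Complex.normSq_pos]
    exact irr_one_ne_zero φ
  have hz1 : (1 : ℤ) ≤ z := by
    have : (0 : ℝ) < z := pos_of_mul_pos_right hpos (Nat.cast_nonneg _)
    exact_mod_cast this
  have hle : ∑ x : G, (if p ∣ orderOf x then Complex.normSq ((φ : G → ℂ) x) else 0) ≤ 0 := by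
    rw [hsplit]
    refine mul_nonpos_iff.mpr (Or.inl ⟨Nat.cast_nonneg _, ?_⟩)
    have : (1 : ℝ) ≤ z := by exact_mod_cast hz1
    linarith
  have h0 := (Finset.sum_eq_zero_iff_of_nonneg fun x _ => by
    split_ifs <;> simp [Complex.normSq_nonneg]).mp
      (le_antisymm hle (Finset.sum_nonneg fun x _ => by split_ifs <;> simp [Complex.normSq_nonneg]))
      g (Finset.mem_univ _)
  rw [if_pos hg] at h0
  exact Complex.normSq_eq_zero.mp h0

end CfsgLib.DefectZeroVanish
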