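import Cfsg.Prelude.Def_Blocks
import Cfsg.Agent.Lib.Blocks.LocalRing
import Cfsg.Agent.Lib.Characters.Basic
import Mathlib.Algebra.MonoidAlgebra.Basic
import Mathlib.RingTheory.IntegralClosure.IsIntegral.Basic
import Mathlib.GroupTheory.GroupAction.Quotient

/-!
# Central characters on the centre of the group algebra, and blocks as a partition
-/

set_option autoImplicit false
set_option linter.style.haveILetI false

namespace CfsgLib.Blocks

open Cfsg MonoidAlgebra

variable {k : Type*} [CommSemiring k] {G : Type*} [Group G]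

/-- The element of the group algebra with prescribed coefficients. -/
noncomputable def ofFun [Finite G] (f : G → k) : MonoidAlgebra k G :=
  MonoidAlgebra.ofCoeff (Finsupp.equivFunOnFinite.symm f)

@[simp] theorem coeff_ofFun [Finite G] (f : G → k) (x : G) : (ofFun f).coeff x = f x := by
  simp [ofFun]

open scoped Classical in
/-- The sum of the elements conjugate to `g`. -/
noncomputable def classSum (k : Type*) [CommSemiring k] [Finite G] (g : G) : MonoidAlgebra k G :=
  ofFun fun x => if IsConj g x then 1 else 0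

open scoped Classical in
theorem coeff_classSum [Finite G] (g x : G) :
    (classSum k g).coeff x = if IsConj g x then 1 else 0 := by
  simp [classSum]

/-- Central elements are the ones with class functions as coefficients. -/
theorem mem_center_iff_coeff (z : MonoidAlgebra k G) :
    z ∈ Subalgebra.center k (MonoidAlgebra k G) ↔
      ∀ g h : G, z.coeff (h * g * h⁻¹) = z.coeff g := by
  rw [Subalgebra.mem_center_iff]
  constructor
  · intro hz g h
    have := congrArg (fun y => y.coeff (h * g)) (hz (single h 1))
    simp only [coeff_single_mul_apply, coeff_mul_single_apply, one_mul, mul_one] at this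
    rw [← this]
    congr 1
    group
  · intro hz y
    induction y using MonoidAlgebra.induction_on with
    | of h =>
      ext x
      simp only [of_apply, coeff_single_mul_apply, coeff_mul_single_apply, one_mul, mul_one]
      rw [← hz (h⁻¹ * x) h]
      congr 1
      group
    | add a b ha hb => rw [mul_add, add_mul, ha, hb]
    | smul r a ha => rw [mul_smul_comm, smul_mul_assoc, ha]

theorem isConj_conj_iff (g x h : G) : IsConj g (h * x * h⁻¹) ↔ IsConj g x :=
  ⟨fun H => H.trans (isConj_iff.2 ⟨h⁻¹, by group⟩),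
    fun H => H.trans (isConj_iff.2 ⟨h, rfl⟩)⟩

theorem classSum_mem_center [Finite G] (g : G) :
    classSum k g ∈ Subalgebra.center k (MonoidAlgebra k G) := by
  classical
  rw [mem_center_iff_coeff]
  intro x h
  simp only [coeff_classSum, isConj_conj_iff]

/-- Changing the coefficients along a ring map keeps central elements central. -/
theorem mapRingHom_mem_center {k' : Type*} [CommSemiring k'] (f : k →+* k')
    {z : MonoidAlgebra k G} (hz : z ∈ Subalgebra.center k (MonoidAlgebra k G)) :
    MonoidAlgebra.mapRingHom G f z ∈ Subalgebra.center k' (MonoidAlgebra k' G) := by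
  rw [mem_center_iff_coeff] at hz ⊢
  intro g h
  simp [hz g h]

/-- The size of a conjugacy class is the index of the centralizer. -/
theorem natCard_isConj [Finite G] (g : G) :
    Nat.card {x : G // IsConj g x} = (Subgroup.centralizer ({g} : Set G)).index := by
  change _ = (Subgroup.centralizer ({ConjAct.toConjAct g} : Set (ConjAct G))).index
  rw [← ConjAct.stabilizer_eq_centralizer, MulAction.index_stabilizer,
    ConjAct.orbit_eq_carrier_conjClasses, ← Nat.card_coe_set_eq]
  refine Nat.card_congr (Equiv.subtypeEquivRight fun x => ?_)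
  rw [ConjClasses.mem_carrier_iff_mk_eq, ConjClasses.mk_eq_mk_iff_isConj]
  exact ⟨IsConj.symm, IsConj.symm⟩

section Omega

variable [Fintype G]

/-- The central character of `χ` as a linear functional on the complex group algebra. -/
noncomputable def omega (χ : G → ℂ) : MonoidAlgebra ℂ G →ₗ[ℂ] ℂ where
  toFun z := (∑ x : G, z.coeff x * χ x) / χ 1
  map_add' y z := by simp [add_mul, Finset.sum_add_distrib, add_div]
  map_smul' r z := by simp [← Finset.mul_sum, mul_assoc, mul_div_assoc]

theorem omega_apply (χ : G → ℂ) (z : MonoidAlgebra ℂ G) :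
    omega χ z = (∑ x : G, z.coeff x * χ x) / χ 1 := rfl

theorem omega_ofFun (χ : G → ℂ) (f : G → ℂ) :
    omega χ (ofFun f) = (∑ x : G, f x * χ x) / χ 1 := by
  simp [omega_apply]

theorem omega_single (χ : G → ℂ) (g : G) (r : ℂ) :
    omega χ (single g r) = r * χ g / χ 1 := by
  classical
  simp [omega_apply, Finsupp.single_apply]

theorem omega_one (χ : IrrCharacter G) : omega (χ : G → ℂ) 1 = 1 := by
  rw [one_def, omega_single, one_mul, div_self (CfsgLib.Characters.irr_one_ne_zero χ)]

theorem omega_algebraMap (χ : IrrCharacter G) (r : ℂ) :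
    omega (χ : G → ℂ) (algebraMap ℂ _ r) = r := by
  rw [Algebra.algebraMap_eq_smul_one, map_smul, omega_one, smul_eq_mul, mul_one]

/-- On a class sum the functional is the central character. -/
theorem omega_classSum {χ : G → ℂ} (hχ : IsClassFunction G χ) (g : G) :
    omega χ (classSum ℂ g) = centralChar χ g := by
  classical
  rw [omega_apply, centralChar]
  congr 1
  simp only [coeff_classSum, ite_mul, one_mul, zero_mul]
  rw [← Finset.sum_filter,
    Finset.sum_congr rfl (fun x hx => (CfsgLib.Characters.classFunction_eq_of_isConj hχ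
      (Finset.mem_filter.1 hx).2).symm),
    Finset.sum_const, nsmul_eq_mul]
  congr 2
  rw [← natCard_isConj g, Nat.card_eq_fintype_card, Fintype.card_subtype]

theorem asAlgebraHom_eq_sum {n : ℕ} (ρ : Representation ℂ G (Fin n → ℂ))
    (z : MonoidAlgebra ℂ G) : ρ.asAlgebraHom z = ∑ x : G, z.coeff x • ρ x := by
  rw [Representation.asAlgebraHom_def, MonoidAlgebra.lift_apply, Finsupp.sum_fintype]
  simp

/-- A central element acts on an irreducible representation by the scalar `omega`. -/
theorem asAlgebraHom_eq_omega {n : ℕ} (ρ : Representation ℂ G (Fin n → ℂ)) (hρ : ρ.IsIrreducible)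
    {z : MonoidAlgebra ℂ G} (hz : z ∈ Subalgebra.center ℂ (MonoidAlgebra ℂ G)) :
    ρ.asAlgebraHom z = omega ρ.character z • 1 := by
  haveI := hρ
  let T : Representation.IntertwiningMap ρ ρ :=
    { toLinearMap := ρ.asAlgebraHom z
      isIntertwining' := fun g => by
        have h := congrArg ρ.asAlgebraHom ((Subalgebra.mem_center_iff.1 hz) (single g 1))
        rw [map_mul, map_mul, Representation.asAlgebraHom_single_one] at h
        exact h.symm }
  obtain ⟨c, hc⟩ :=
    (Representation.IsIrreducible.algebraMap_intertwiningMap_bijective_of_isAlgClosed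
      (ρ := ρ)).2 T
  have hc' : ρ.asAlgebraHom z = c • (1 : Module.End ℂ (Fin n → ℂ)) := by
    rw [← show T.toLinearMap = ρ.asAlgebraHom z from rfl, ← hc]
    rfl
  rw [hc']
  congr 1
  have hn : ρ.character 1 ≠ 0 :=
    CfsgLib.Characters.irr_one_ne_zero ⟨ρ.character, n, ρ, hρ, rfl⟩
  have htr := congrArg (LinearMap.trace ℂ (Fin n → ℂ)) hc'
  rw [asAlgebraHom_eq_sum, map_sum, map_smul, smul_eq_mul,
    show LinearMap.trace ℂ (Fin n → ℂ) 1 = ρ.character 1 from
      (congrArg (LinearMap.trace ℂ (Fin n → ℂ)) (map_one ρ)).symm] at htr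
  rw [omega_apply, eq_div_iff hn, ← htr]
  exact Finset.sum_congr rfl fun x _ => by rw [map_smul, smul_eq_mul]; rfl

/-- `omega` is multiplicative against central elements. -/
theorem omega_mul (χ : IrrCharacter G) {y : MonoidAlgebra ℂ G}
    (hy : y ∈ Subalgebra.center ℂ (MonoidAlgebra ℂ G)) (z : MonoidAlgebra ℂ G) :
    omega (χ : G → ℂ) (y * z) = omega (χ : G → ℂ) y * omega (χ : G → ℂ) z := by
  obtain ⟨_, n, ρ, hρ, rfl⟩ := χ
  change omega ρ.character (y * z) = omega ρ.character y * omega ρ.character z
  have h : ∀ w : MonoidAlgebra ℂ G,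
      omega ρ.character w = LinearMap.trace ℂ (Fin n → ℂ) (ρ.asAlgebraHom w) / ρ.character 1 := by
    intro w
    rw [omega_apply, asAlgebraHom_eq_sum, map_sum]
    congr 1
    exact Finset.sum_congr rfl fun x _ => by rw [map_smul, smul_eq_mul]; rfl
  rw [h (y * z), h z, map_mul, asAlgebraHom_eq_omega ρ hρ hy, smul_mul_assoc, one_mul, map_smul,
    smul_eq_mul, mul_div_assoc]

/-- The central character as an algebra map on the centre. -/
noncomputable def omegaAlgHom (χ : IrrCharacter G) :
    Subalgebra.center ℂ (MonoidAlgebra ℂ G) →ₐ[ℂ] ℂ where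
  toFun z := omega (χ : G → ℂ) z
  map_one' := omega_one χ
  map_mul' y z := omega_mul χ y.2 _
  map_zero' := map_zero _
  map_add' y z := map_add _ _ _
  commutes' r := by
    show omega (χ : G → ℂ) ((algebraMap ℂ (Subalgebra.center ℂ (MonoidAlgebra ℂ G)) r : _) :
      MonoidAlgebra ℂ G) = r
    exact omega_algebraMap χ r

@[simp] theorem omegaAlgHom_apply (χ : IrrCharacter G)
    (z : Subalgebra.center ℂ (MonoidAlgebra ℂ G)) :
    omegaAlgHom χ z = omega (χ : G → ℂ) z := rfl

theorem omega_pow (χ : IrrCharacter G) {y : MonoidAlgebra ℂ G}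
    (hy : y ∈ Subalgebra.center ℂ (MonoidAlgebra ℂ G)) (n : ℕ) :
    omega (χ : G → ℂ) (y ^ n) = omega (χ : G → ℂ) y ^ n := by
  induction n with
  | zero => rw [pow_zero, pow_zero, omega_one]
  | succ n ih => rw [pow_succ', pow_succ', omega_mul χ hy, ih]

/-- The integral centre maps to algebraic integers. -/
theorem isIntegral_omega_int (χ : IrrCharacter G) {z : MonoidAlgebra ℤ G}
    (hz : z ∈ Subalgebra.center ℤ (MonoidAlgebra ℤ G)) :
    IsIntegral ℤ (omega (χ : G → ℂ) (MonoidAlgebra.mapRingHom G (Int.castRingHom ℂ) z)) := by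
  haveI : Module.Finite ℤ (MonoidAlgebra ℤ G) :=
    Module.Finite.of_basis (MonoidAlgebra.basis G ℤ)
  obtain ⟨q, hq, hqz⟩ := IsIntegral.of_finite ℤ z
  refine ⟨q, hq, ?_⟩
  set f := MonoidAlgebra.mapRingHom G (Int.castRingHom ℂ)
  set c := omega (χ : G → ℂ) (f z)
  have key : ∀ r : Polynomial ℤ,
      omega (χ : G → ℂ) (f (Polynomial.eval₂ (algebraMap ℤ (MonoidAlgebra ℤ G)) z r)) =
        Polynomial.eval₂ (algebraMap ℤ ℂ) c r := by
    intro r
    induction r using Polynomial.induction_on' with
    | add r s hr hs => rw [Polynomial.eval₂_add, Polynomial.eval₂_add, map_add, map_add, hr, hs]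
    | monomial n a =>
      rw [Polynomial.eval₂_monomial, Polynomial.eval₂_monomial, map_mul, map_pow,
        algebraMap_int_eq, eq_intCast, map_intCast, eq_intCast,
        ← zsmul_eq_mul, map_zsmul, omega_pow χ (mapRingHom_mem_center _ hz), zsmul_eq_mul]
  rw [← key q, hqz, map_zero, map_zero]

theorem mapRingHom_classSum {k k' : Type*} [CommSemiring k] [CommSemiring k'] (f : k →+* k')
    (g : G) : MonoidAlgebra.mapRingHom G f (classSum k g) = classSum k' g := by
  classical
  ext x
  simp [coeff_classSum, apply_ite f]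

/-- Central character values are algebraic integers. -/
theorem isIntegral_centralChar (χ : IrrCharacter G) (g : G) :
    IsIntegral ℤ (centralChar (χ : G → ℂ) g) := by
  rw [← omega_classSum (CfsgLib.Characters.irr_isClassFunction χ) g,
    ← mapRingHom_classSum (Int.castRingHom ℂ) g]
  exact isIntegral_omega_int χ (classSum_mem_center g)

end Omega

section SameBlock

variable [Finite G] {p : ℕ} {M : Ideal AlgInt}

theorem centralChar_mem_lRing (hM : IsPModular p M) (χ : IrrCharacter G) (g : G) :
    centralChar (χ : G → ℂ) g ∈ lRing hM :=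
  letI := Fintype.ofFinite G
  isIntegral_mem_lRing hM (isIntegral_centralChar χ g)

omit [Finite G] in
theorem sameBlock_refl (hM : IsPModular p M) (χ : G → ℂ) : SameBlock M χ χ :=
  fun g => by rw [sub_self]; exact memLocalIdeal_zero hM

omit [Finite G] in
theorem SameBlock.symm (hM : IsPModular p M) {χ ψ : G → ℂ} (h : SameBlock M χ ψ) :
    SameBlock M ψ χ :=
  fun g => by simpa using MemLocalIdeal.neg hM (h g)

omit [Finite G] in
theorem SameBlock.trans (hM : IsPModular p M) {χ ψ φ : G → ℂ} (h : SameBlock M χ ψ)
    (h' : SameBlock M ψ φ) : SameBlock M χ φ :=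
  fun g => by simpa using MemLocalIdeal.add hM (h g) (h' g)

omit [Finite G] in
theorem mem_blockOf_self (hM : IsPModular p M) (χ : IrrCharacter G) :
    χ ∈ blockOf M (χ : G → ℂ) :=
  sameBlock_refl hM _

omit [Finite G] in
theorem blockOf_eq_of_sameBlock (hM : IsPModular p M) {χ ψ : G → ℂ} (h : SameBlock M χ ψ) :
    blockOf M χ = blockOf M ψ :=
  Set.ext fun _ => ⟨fun h' => SameBlock.trans hM (SameBlock.symm hM h) h',
    fun h' => SameBlock.trans hM h h'⟩

omit [Finite G] in
/-- A block is the block of each of its members. -/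
theorem IsPBlock.eq_blockOf (hM : IsPModular p M) {B : Set (IrrCharacter G)}
    (hB : IsPBlock M B) {χ : IrrCharacter G} (hχ : χ ∈ B) : B = blockOf M (χ : G → ℂ) := by
  obtain ⟨ψ, rfl⟩ := hB
  exact blockOf_eq_of_sameBlock hM hχ

omit [Finite G] in
theorem isPBlock_blockOf (χ : IrrCharacter G) : IsPBlock M (blockOf M (χ : G → ℂ)) :=
  ⟨χ, rfl⟩

omit [Finite G] in
theorem IsPBlock.nonempty (hM : IsPModular p M) {B : Set (IrrCharacter G)}
    (hB : IsPBlock M B) : B.Nonempty := by
  obtain ⟨ψ, rfl⟩ := hB
  exact ⟨ψ, mem_blockOf_self hM ψ⟩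

omit [Finite G] in
theorem IsPBlock.mem_iff (hM : IsPModular p M) {B : Set (IrrCharacter G)}
    (hB : IsPBlock M B) {χ : IrrCharacter G} (hχ : χ ∈ B) (ψ : IrrCharacter G) :
    ψ ∈ B ↔ SameBlock M (χ : G → ℂ) (ψ : G → ℂ) := by
  rw [IsPBlock.eq_blockOf hM hB hχ]; rfl

omit [Finite G] in
/-- The principal block is the block of the principal character. -/
theorem principalBlock_eq (M : Ideal AlgInt) :
    principalBlock M G = blockOf M (CfsgLib.Characters.principalIrr G : G → ℂ) := rfl

omit [Finite G] in
theorem isPBlock_principalBlock (M : Ideal AlgInt) : IsPBlock M (principalBlock M G) :=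
  ⟨CfsgLib.Characters.principalIrr G, rfl⟩

end SameBlock

end CfsgLib.Blocks
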