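import Cfsg.Agent.Lib.Blocks.CentralChar
import Cfsg.Agent.Lib.Characters.Decomp
import Mathlib.Algebra.Group.ConjFinite

/-!
# Block idempotents

Osima's theorem (the coefficients of a block idempotent are local integers), the criterion
for a set of irreducible characters to be a union of blocks, and defect classes.
-/

set_option autoImplicit false
set_option linter.style.haveILetI false

namespace CfsgLib.Blocks

open Cfsg MonoidAlgebra CfsgLib.Characters
open scoped ComplexConjugate

variable {G : Type*} [Group G] [Fintype G]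

/-- The coefficients of a central element are recovered from the central characters. -/
theorem coeff_eq_sum_omega {z : MonoidAlgebra ℂ G}
    (hz : z ∈ Subalgebra.center ℂ (MonoidAlgebra ℂ G)) (g : G) :
    z.coeff g = (Nat.card G : ℂ)⁻¹ *
      ∑ χ : IrrCharacter G, omega (χ : G → ℂ) z * ((χ : G → ℂ) 1 * conj ((χ : G → ℂ) g)) := by
  have hφ : IsClassFunction G (fun x => z.coeff x⁻¹) := fun a b => by
    have := (mem_center_iff_coeff z).1 hz a⁻¹ b
    simpa [mul_assoc] using this
  have h1 := congrFun (classFunction_eq_sum hφ) g⁻¹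
  simp only [inv_inv, Finset.sum_apply, Pi.smul_apply, smul_eq_mul] at h1
  rw [h1, Finset.mul_sum]
  refine Finset.sum_congr rfl fun χ _ => ?_
  have h2 : classInner (fun x => z.coeff x⁻¹) (χ : G → ℂ) =
      (Nat.card G : ℂ)⁻¹ * (omega (χ : G → ℂ) z * (χ : G → ℂ) 1) := by
    rw [omega_apply, div_mul_cancel₀ _ (irr_one_ne_zero χ), classInner]
    congr 1
    refine Fintype.sum_equiv (Equiv.inv G) _ _ fun x => ?_
    simp [irr_apply_inv]
  rw [h2, irr_apply_inv]
  ring

/-- Central elements are determined by their central characters. -/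
theorem central_ext {y z : MonoidAlgebra ℂ G}
    (hy : y ∈ Subalgebra.center ℂ (MonoidAlgebra ℂ G))
    (hz : z ∈ Subalgebra.center ℂ (MonoidAlgebra ℂ G))
    (h : ∀ χ : IrrCharacter G, omega (χ : G → ℂ) y = omega (χ : G → ℂ) z) : y = z := by
  ext g
  rw [coeff_eq_sum_omega hy, coeff_eq_sum_omega hz]
  simp [h]

theorem omega_classSum_irr (χ : IrrCharacter G) (g : G) :
    omega (χ : G → ℂ) (classSum ℂ g) = centralChar (χ : G → ℂ) g :=
  omega_classSum (irr_isClassFunction χ) g

theorem centralChar_of_isConj (χ : IrrCharacter G) {g h : G} (hgh : IsConj g h) :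
    centralChar (χ : G → ℂ) g = centralChar (χ : G → ℂ) h := by
  rw [centralChar, centralChar, classFunction_eq_of_isConj (irr_isClassFunction χ) hgh,
    ← natCard_isConj, ← natCard_isConj]
  congr 3
  exact Nat.card_congr (Equiv.subtypeEquivRight fun x =>
    ⟨fun H => hgh.symm.trans H, fun H => hgh.trans H⟩)

open scoped Classical in
/-- The central character of a central element, grouped by classes. -/
theorem omega_eq_sum_classes (χ : IrrCharacter G) {z : MonoidAlgebra ℂ G}
    (hz : z ∈ Subalgebra.center ℂ (MonoidAlgebra ℂ G)) :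
    omega (χ : G → ℂ) z =
      ∑ c : ConjClasses G, z.coeff c.out * centralChar (χ : G → ℂ) c.out := by
  rw [omega_apply, ← Finset.sum_fiberwise Finset.univ ConjClasses.mk, Finset.sum_div]
  refine Finset.sum_congr rfl fun c _ => ?_
  have hc : ∀ x : G, ConjClasses.mk x = c ↔ IsConj c.out x := by
    intro x
    rw [isConj_comm, ← ConjClasses.mk_eq_mk_iff_isConj,
      show ConjClasses.mk c.out = c from Quotient.out_eq c]
  rw [Finset.sum_congr rfl (fun x hx => ?_ : ∀ x ∈ Finset.univ.filter (ConjClasses.mk · = c),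
      z.coeff x * (χ : G → ℂ) x = z.coeff c.out * (χ : G → ℂ) c.out), Finset.sum_const,
    nsmul_eq_mul, centralChar, ← natCard_isConj, Nat.card_eq_fintype_card, Fintype.card_subtype,
    Finset.filter_congr (fun x _ => hc x)]
  · ring
  · have h := (hc x).1 (Finset.mem_filter.1 hx).2
    rw [← classFunction_eq_of_isConj (irr_isClassFunction χ) h]
    obtain ⟨d, hd⟩ := isConj_iff.1 h
    rw [← hd, (mem_center_iff_coeff z).1 hz]

/-- The block idempotent attached to a set of irreducible characters. -/
noncomputable def blockIdem (A : Set (IrrCharacter G)) : MonoidAlgebra ℂ G :=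
  ofFun (blockCoeff A)

@[simp] theorem coeff_blockIdem (A : Set (IrrCharacter G)) (g : G) :
    (blockIdem A).coeff g = blockCoeff A g := by simp [blockIdem]

open scoped Classical in
theorem blockCoeff_eq_sum (A : Set (IrrCharacter G)) (g : G) :
    blockCoeff A g = (Nat.card G : ℂ)⁻¹ * ∑ χ ∈ Finset.univ.filter (· ∈ A),
      (χ : G → ℂ) 1 * conj ((χ : G → ℂ) g) := by
  rw [blockCoeff, finsum_mem_eq_sum_of_inter_support_eq]
  simp

theorem blockCoeff_conj (A : Set (IrrCharacter G)) (g h : G) :
    blockCoeff A (h * g * h⁻¹) = blockCoeff A g := by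
  classical
  rw [blockCoeff_eq_sum, blockCoeff_eq_sum]
  congr 1
  exact Finset.sum_congr rfl fun χ _ => by rw [irr_isClassFunction χ g h]

theorem blockCoeff_of_isConj (A : Set (IrrCharacter G)) {g h : G} (hgh : IsConj g h) :
    blockCoeff A g = blockCoeff A h := by
  obtain ⟨c, rfl⟩ := isConj_iff.1 hgh
  rw [blockCoeff_conj]

theorem blockIdem_mem_center (A : Set (IrrCharacter G)) :
    blockIdem A ∈ Subalgebra.center ℂ (MonoidAlgebra ℂ G) := by
  rw [mem_center_iff_coeff]
  intro g h
  simp only [coeff_blockIdem, blockCoeff_conj]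

open scoped Classical in
theorem omega_blockIdem (A : Set (IrrCharacter G)) (χ : IrrCharacter G) :
    omega (χ : G → ℂ) (blockIdem A) = if χ ∈ A then 1 else 0 := by
  rw [omega_apply]
  have h : ∑ x : G, (blockIdem A).coeff x * (χ : G → ℂ) x =
      ∑ ψ ∈ Finset.univ.filter (· ∈ A), (ψ : G → ℂ) 1 * classInner (χ : G → ℂ) (ψ : G → ℂ) := by
    simp only [coeff_blockIdem, blockCoeff_eq_sum, classInner, Finset.mul_sum, Finset.sum_mul]
    rw [Finset.sum_comm]
    exact Finset.sum_congr rfl fun ψ _ => Finset.sum_congr rfl fun x _ => by ring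
  rw [h]
  simp only [classInner_irr, mul_ite, mul_one, mul_zero, Finset.sum_ite_eq]
  by_cases hχ : χ ∈ A
  · simp [hχ, div_self (irr_one_ne_zero χ)]
  · simp [hχ]

open scoped Classical in
theorem eq_blockIdem {A : Set (IrrCharacter G)} {z : MonoidAlgebra ℂ G}
    (hz : z ∈ Subalgebra.center ℂ (MonoidAlgebra ℂ G))
    (h : ∀ χ : IrrCharacter G, omega (χ : G → ℂ) z = if χ ∈ A then 1 else 0) :
    z = blockIdem A :=
  central_ext hz (blockIdem_mem_center A) fun χ => by rw [h, omega_blockIdem]

theorem blockIdem_mul (A A' : Set (IrrCharacter G)) :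
    blockIdem A * blockIdem A' = blockIdem (A ∩ A') := by
  classical
  refine eq_blockIdem (mul_mem (blockIdem_mem_center A) (blockIdem_mem_center A')) fun χ => ?_
  rw [omega_mul χ (blockIdem_mem_center A), omega_blockIdem, omega_blockIdem]
  by_cases h : χ ∈ A <;> by_cases h' : χ ∈ A' <;> simp [h, h']

theorem isIdempotentElem_blockIdem (A : Set (IrrCharacter G)) :
    IsIdempotentElem (blockIdem A) := by
  rw [IsIdempotentElem, blockIdem_mul, Set.inter_self]

theorem blockIdem_univ : blockIdem (Set.univ : Set (IrrCharacter G)) = 1 := by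
  classical
  exact (eq_blockIdem (one_mem _) fun χ => by simp [omega_one]).symm

theorem blockIdem_empty : blockIdem (∅ : Set (IrrCharacter G)) = 0 := by
  classical
  exact (eq_blockIdem (zero_mem _) fun χ => by simp).symm

section Local

variable {p : ℕ} {M : Ideal AlgInt}

/-- The centre of the group algebra over the local ring, inside the complex group algebra. -/
noncomputable def lCentre (hM : IsPModular p M) :
    Subring (Subalgebra.center ℂ (MonoidAlgebra ℂ G)) :=
  ((MonoidAlgebra.mapRingHom G (lRing hM).subtype).range).comap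
    (Subalgebra.center ℂ (MonoidAlgebra ℂ G)).val.toRingHom

theorem mem_range_mapRingHom_iff (hM : IsPModular p M) (z : MonoidAlgebra ℂ G) :
    z ∈ (MonoidAlgebra.mapRingHom G (lRing hM).subtype).range ↔
      ∀ x : G, MemLocalRing M (z.coeff x) := by
  constructor
  · rintro ⟨y, rfl⟩ x
    simp only [coeff_mapRingHom, Finsupp.mapRange_apply, AddMonoidHom.coe_coe]
    exact (y.coeff x).2
  · intro h
    refine ⟨ofFun fun x => ⟨z.coeff x, h x⟩, ?_⟩
    ext x
    simp

theorem mem_lCentre (hM : IsPModular p M) (z : Subalgebra.center ℂ (MonoidAlgebra ℂ G)) :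
    z ∈ lCentre hM ↔ ∀ x : G, MemLocalRing M ((z : MonoidAlgebra ℂ G).coeff x) :=
  mem_range_mapRingHom_iff hM _

theorem algebraMap_mem_lCentre (hM : IsPModular p M) {r : ℂ} (hr : MemLocalRing M r) :
    algebraMap ℂ (Subalgebra.center ℂ (MonoidAlgebra ℂ G)) r ∈ lCentre hM := by
  classical
  rw [mem_lCentre]
  intro x
  simp only [Subalgebra.coe_algebraMap, coe_algebraMap, Function.comp_apply, coeff_single,
    Algebra.algebraMap_self, RingHom.id_apply, Finsupp.single_apply]
  split_ifs
  · exact hr
  · exact (lRing hM).zero_mem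

theorem classSum_mem_lCentre (hM : IsPModular p M) (g : G) :
    (⟨classSum ℂ g, classSum_mem_center g⟩ : Subalgebra.center ℂ (MonoidAlgebra ℂ G)) ∈
      lCentre hM := by
  classical
  rw [mem_lCentre]
  intro x
  simp only [coeff_classSum]
  split_ifs
  · exact (lRing hM).one_mem
  · exact (lRing hM).zero_mem

/-- Central characters are local integers on the local centre. -/
theorem omega_mem_lRing (hM : IsPModular p M) (χ : IrrCharacter G) {z : MonoidAlgebra ℂ G}
    (hz : z ∈ Subalgebra.center ℂ (MonoidAlgebra ℂ G))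
    (hR : ∀ x : G, MemLocalRing M (z.coeff x)) : omega (χ : G → ℂ) z ∈ lRing hM := by
  classical
  rw [omega_eq_sum_classes χ hz]
  exact (lRing hM).sum_mem fun c _ =>
    (lRing hM).mul_mem (hR _) (centralChar_mem_lRing hM χ _)

/-- Characters of one block agree modulo `M` on the local centre. -/
theorem omega_congr_of_sameBlock (hM : IsPModular p M) {χ ψ : IrrCharacter G}
    (h : SameBlock M (χ : G → ℂ) (ψ : G → ℂ)) {z : MonoidAlgebra ℂ G}
    (hz : z ∈ Subalgebra.center ℂ (MonoidAlgebra ℂ G))
    (hR : ∀ x : G, MemLocalRing M (z.coeff x)) :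
    MemLocalIdeal M (omega (χ : G → ℂ) z - omega (ψ : G → ℂ) z) := by
  classical
  rw [omega_eq_sum_classes χ hz, omega_eq_sum_classes ψ hz, ← Finset.sum_sub_distrib]
  refine MemLocalIdeal.sum hM _ fun c _ => ?_
  rw [← mul_sub]
  exact MemLocalIdeal.mul_left hM (hR _) (h _)

/-- Osima: a block is cut out by a central element with local integral coefficients. -/
theorem blockIdem_mem_lCentre (hM : IsPModular p M) {B : Set (IrrCharacter G)}
    (hB : IsPBlock M B) :
    (⟨blockIdem B, blockIdem_mem_center B⟩ : Subalgebra.center ℂ (MonoidAlgebra ℂ G)) ∈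
      lCentre hM := by
  classical
  obtain ⟨χ₀, rfl⟩ := hB
  set B := blockOf M (χ₀ : G → ℂ) with hBdef
  have hsep : ∀ ψ : IrrCharacter G, ∃ g : G, ψ ∉ B →
      ¬ MemLocalIdeal M (centralChar (χ₀ : G → ℂ) g - centralChar (ψ : G → ℂ) g) := by
    intro ψ
    by_cases h : ψ ∈ B
    · exact ⟨1, fun h' => absurd h h'⟩
    · obtain ⟨g, hg⟩ := not_forall.1 h
      exact ⟨g, fun _ => hg⟩
  choose gs hgs using hsep
  set S := lCentre (G := G) hM
  set outB : Finset (IrrCharacter G) := Finset.univ.filter (· ∉ B)
  set inB : Finset (IrrCharacter G) := Finset.univ.filter (· ∈ B)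
  let K : G → Subalgebra.center ℂ (MonoidAlgebra ℂ G) := fun g =>
    ⟨classSum ℂ g, classSum_mem_center g⟩
  let w : Subalgebra.center ℂ (MonoidAlgebra ℂ G) :=
    ∏ ψ ∈ outB, (K (gs ψ) - algebraMap ℂ _ (centralChar (ψ : G → ℂ) (gs ψ)))
  have hwS : w ∈ S := S.prod_mem fun ψ _ => S.sub_mem (classSum_mem_lCentre hM _)
    (algebraMap_mem_lCentre hM (centralChar_mem_lRing hM ψ _))
  have hK : ∀ (φ : IrrCharacter G) (g : G), omegaAlgHom φ (K g) = centralChar (φ : G → ℂ) g :=
    fun φ g => omega_classSum_irr φ g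
  have hw : ∀ φ : IrrCharacter G, omegaAlgHom φ w =
      ∏ ψ ∈ outB, (centralChar (φ : G → ℂ) (gs ψ) - centralChar (ψ : G → ℂ) (gs ψ)) := by
    intro φ
    simp only [w, map_prod, map_sub, hK, AlgHom.commutes, Algebra.algebraMap_self,
      RingHom.id_apply]
  have hw0 : ∀ φ : IrrCharacter G, φ ∉ B → omegaAlgHom φ w = 0 := by
    intro φ hφ
    rw [hw]
    exact Finset.prod_eq_zero (i := φ) (by simp [outB, hφ]) (sub_self _)
  have hwR : ∀ φ : IrrCharacter G, MemLocalRing M (omegaAlgHom φ w) := fun φ => by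
    rw [hw, ← mem_lRing (hM := hM)]
    exact (lRing hM).prod_mem fun ψ _ =>
      (lRing hM).sub_mem (centralChar_mem_lRing hM φ _) (centralChar_mem_lRing hM ψ _)
  have hw1 : ∀ φ : IrrCharacter G, φ ∈ B → ¬ MemLocalIdeal M (omegaAlgHom φ w) := by
    intro φ hφ
    rw [hw]
    have : ∀ s : Finset (IrrCharacter G), s ⊆ outB → ¬ MemLocalIdeal M
        (∏ ψ ∈ s, (centralChar (φ : G → ℂ) (gs ψ) - centralChar (ψ : G → ℂ) (gs ψ))) := by
      intro s
      induction s using Finset.induction_on with
      | empty => intro _; simpa using not_memLocalIdeal_one hM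
      | insert ψ s hψ ih =>
        intro hs h
        rw [Finset.prod_insert hψ] at h
        rcases MemLocalIdeal.mul_cases hM
          ((lRing hM).sub_mem (centralChar_mem_lRing hM φ _) (centralChar_mem_lRing hM ψ _))
          ((lRing hM).prod_mem fun χ _ =>
            (lRing hM).sub_mem (centralChar_mem_lRing hM φ _) (centralChar_mem_lRing hM χ _))
          h with h1 | h1
        · refine hgs ψ ((Finset.mem_filter.1 (hs (Finset.mem_insert_self _ _))).2) ?_
          simpa using MemLocalIdeal.add hM (hφ (gs ψ)) h1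
        · exact ih (fun x hx => hs (Finset.mem_insert_of_mem hx)) h1
    exact this outB subset_rfl
  let h0 : ℂ := ∏ φ ∈ inB, - omegaAlgHom φ w
  have hh0 : h0⁻¹ ∈ lRing hM := by
    simp only [h0, ← Finset.prod_inv_distrib]
    refine (lRing hM).prod_mem fun φ hφ => inv_mem_lRing hM ((lRing hM).neg_mem (hwR φ))
      fun h => hw1 φ (Finset.mem_filter.1 hφ).2 ?_
    simpa using MemLocalIdeal.neg hM h
  have hh0' : h0 ≠ 0 := by
    refine Finset.prod_ne_zero_iff.2 fun φ hφ h => ?_
    exact hw1 φ (Finset.mem_filter.1 hφ).2 (by rw [neg_eq_zero.1 h]; exact memLocalIdeal_zero hM)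
  let e : Subalgebra.center ℂ (MonoidAlgebra ℂ G) :=
    1 - algebraMap ℂ _ h0⁻¹ * ∏ φ ∈ inB, (w - algebraMap ℂ _ (omegaAlgHom φ w))
  have heS : e ∈ S := S.sub_mem S.one_mem (S.mul_mem (algebraMap_mem_lCentre hM hh0)
    (S.prod_mem fun φ _ => S.sub_mem hwS (algebraMap_mem_lCentre hM (hwR φ))))
  have he : (e : MonoidAlgebra ℂ G) = blockIdem B := by
    refine eq_blockIdem e.2 fun ψ => ?_
    rw [← omegaAlgHom_apply]
    simp only [e, map_sub, map_one, map_mul, map_prod, AlgHom.commutes, Algebra.algebraMap_self,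
      RingHom.id_apply]
    by_cases hψ : ψ ∈ B
    · rw [if_pos hψ, Finset.prod_eq_zero (i := ψ) (by simp [inB, hψ]) (sub_self _), mul_zero,
        sub_zero]
    · simp only [if_neg hψ, hw0 ψ hψ, zero_sub]
      rw [inv_mul_cancel₀ hh0', sub_self]
  have : e = ⟨blockIdem B, blockIdem_mem_center B⟩ := Subtype.ext he
  exact this ▸ heS

/-- Osima's theorem. -/
theorem memLocalRing_blockCoeff (hM : IsPModular p M) {B : Set (IrrCharacter G)}
    (hB : IsPBlock M B) (g : G) : MemLocalRing M (blockCoeff B g) := by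
  have := (mem_lCentre hM _).1 (blockIdem_mem_lCentre hM hB) g
  simpa using this

/-- A set with local integral idempotent is a union of blocks. -/
theorem blockOf_subset_of_coeff (hM : IsPModular p M) {A : Set (IrrCharacter G)}
    (hA : ∀ g : G, MemLocalRing M (blockCoeff A g)) {χ : IrrCharacter G} (hχ : χ ∈ A) :
    blockOf M (χ : G → ℂ) ⊆ A := by
  classical
  intro ψ hψ
  by_contra hψA
  have := omega_congr_of_sameBlock hM hψ (blockIdem_mem_center A)
    (fun x => by simpa using hA x)
  rw [omega_blockIdem, omega_blockIdem, if_pos hχ, if_neg hψA, sub_zero] at this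
  exact not_memLocalIdeal_one hM this

open scoped Classical in
/-- The central character of a member at the idempotent of its block, by classes. -/
theorem sum_blockCoeff_mul_centralChar {B : Set (IrrCharacter G)} {χ : IrrCharacter G}
    (hχ : χ ∈ B) :
    ∑ c : ConjClasses G, blockCoeff B c.out * centralChar (χ : G → ℂ) c.out = 1 := by
  have h := omega_eq_sum_classes χ (blockIdem_mem_center B)
  rw [omega_blockIdem, if_pos hχ] at h
  simpa using h.symm

/-- Every block has a defect class. -/
theorem exists_isDefectClass (hM : IsPModular p M) {B : Set (IrrCharacter G)}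
    (hB : IsPBlock M B) : ∃ g : G, IsDefectClass M B g := by
  classical
  obtain ⟨χ, hχ⟩ := IsPBlock.nonempty hM hB
  by_contra hne
  apply not_memLocalIdeal_one hM
  rw [← sum_blockCoeff_mul_centralChar hχ]
  refine MemLocalIdeal.sum hM _ fun c _ => ?_
  have hR := memLocalRing_blockCoeff hM hB c.out
  by_cases h1 : MemLocalIdeal M (blockCoeff B c.out)
  · exact MemLocalIdeal.mul_right hM h1 (centralChar_mem_lRing hM χ _)
  refine MemLocalIdeal.mul_left hM hR ?_
  by_contra h2
  refine hne ⟨c.out, hR, h1, fun ψ hψ h3 => h2 ?_⟩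
  have := (IsPBlock.mem_iff hM hB hχ ψ).1 hψ c.out
  simpa using MemLocalIdeal.add hM this h3

end Local

end CfsgLib.Blocks
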