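import Cfsg.Agent.Lib.Blocks.Idempotent

/-!
# The centre of the group algebra modulo `M`

Block idempotents and central characters over the residue ring `AlgInt ⧸ M`.
-/

set_option autoImplicit false
set_option linter.style.haveILetI false

namespace CfsgLib.Blocks

open Cfsg MonoidAlgebra CfsgLib.Characters
open scoped ComplexConjugate

variable {p : ℕ} {M : Ideal AlgInt}

open scoped Classical in
/-- The residue map extended by zero outside the local ring. -/
noncomputable def lResD (hM : IsPModular p M) (z : ℂ) : AlgInt ⧸ M :=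
  if h : z ∈ lRing hM then lRes hM ⟨z, h⟩ else 0

theorem lResD_of_mem (hM : IsPModular p M) {z : ℂ} (h : z ∈ lRing hM) :
    lResD hM z = lRes hM ⟨z, h⟩ := dif_pos h

theorem lResD_coe (hM : IsPModular p M) (z : lRing hM) : lResD hM (z : ℂ) = lRes hM z :=
  lResD_of_mem hM z.2

theorem lResD_zero (hM : IsPModular p M) : lResD hM 0 = 0 := by
  rw [lResD_of_mem hM (lRing hM).zero_mem]
  exact map_zero (lRes hM)

theorem lResD_one (hM : IsPModular p M) : lResD hM 1 = 1 := by
  rw [lResD_of_mem hM (lRing hM).one_mem]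
  exact map_one (lRes hM)

theorem lResD_add (hM : IsPModular p M) {x y : ℂ} (hx : x ∈ lRing hM) (hy : y ∈ lRing hM) :
    lResD hM (x + y) = lResD hM x + lResD hM y := by
  rw [lResD_of_mem hM hx, lResD_of_mem hM hy, lResD_of_mem hM ((lRing hM).add_mem hx hy),
    ← map_add]
  rfl

theorem lResD_mul (hM : IsPModular p M) {x y : ℂ} (hx : x ∈ lRing hM) (hy : y ∈ lRing hM) :
    lResD hM (x * y) = lResD hM x * lResD hM y := by
  rw [lResD_of_mem hM hx, lResD_of_mem hM hy, lResD_of_mem hM ((lRing hM).mul_mem hx hy),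
    ← map_mul]
  rfl

theorem lResD_sum (hM : IsPModular p M) {ι : Type*} (s : Finset ι) {f : ι → ℂ}
    (hf : ∀ i ∈ s, f i ∈ lRing hM) : lResD hM (∑ i ∈ s, f i) = ∑ i ∈ s, lResD hM (f i) := by
  classical
  induction s using Finset.induction_on with
  | empty => simp [lResD_zero]
  | insert i s hi ih =>
    rw [Finset.sum_insert hi, Finset.sum_insert hi,
      lResD_add hM (hf i (Finset.mem_insert_self _ _))
        ((lRing hM).sum_mem fun j hj => hf j (Finset.mem_insert_of_mem hj)),
      ih fun j hj => hf j (Finset.mem_insert_of_mem hj)]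

theorem lResD_eq_zero_iff (hM : IsPModular p M) {z : ℂ} (h : z ∈ lRing hM) :
    lResD hM z = 0 ↔ MemLocalIdeal M z := by
  rw [lResD_of_mem hM h, lRes_eq_zero_iff]

theorem lResD_eq_iff (hM : IsPModular p M) {x y : ℂ} (hx : x ∈ lRing hM) (hy : y ∈ lRing hM) :
    lResD hM x = lResD hM y ↔ MemLocalIdeal M (x - y) := by
  rw [lResD_of_mem hM hx, lResD_of_mem hM hy, lRes_eq_iff]

theorem lResD_algInt (hM : IsPModular p M) (a : AlgInt) :
    lResD hM (a : ℂ) = Ideal.Quotient.mk M a := by
  rw [lResD_of_mem hM (coe_mem_lRing hM a), lRes_coe]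

theorem lRes_surjective (hM : IsPModular p M) : Function.Surjective (lRes hM) := by
  intro x
  obtain ⟨a, rfl⟩ := Ideal.Quotient.mk_surjective x
  exact ⟨⟨a, coe_mem_lRing hM a⟩, lRes_coe hM a⟩

variable {G : Type*} [Group G] [Fintype G]

/-- Reduction modulo `M` of a group algebra element with local integral coefficients. -/
noncomputable def redAlg (hM : IsPModular p M) (z : MonoidAlgebra ℂ G) :
    MonoidAlgebra (AlgInt ⧸ M) G :=
  ofFun fun x => lResD hM (z.coeff x)

@[simp] theorem coeff_redAlg (hM : IsPModular p M) (z : MonoidAlgebra ℂ G) (x : G) :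
    (redAlg hM z).coeff x = lResD hM (z.coeff x) := by simp [redAlg]

theorem redAlg_mapRingHom (hM : IsPModular p M) (y : MonoidAlgebra (lRing hM) G) :
    redAlg hM (MonoidAlgebra.mapRingHom G (lRing hM).subtype y) =
      MonoidAlgebra.mapRingHom G (lRes hM) y := by
  ext x
  simp [lResD_coe]

theorem redAlg_mul (hM : IsPModular p M) {y z : MonoidAlgebra ℂ G}
    (hy : ∀ x, MemLocalRing M (y.coeff x)) (hz : ∀ x, MemLocalRing M (z.coeff x)) :
    redAlg hM (y * z) = redAlg hM y * redAlg hM z := by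
  obtain ⟨y', rfl⟩ := (mem_range_mapRingHom_iff hM y).2 hy
  obtain ⟨z', rfl⟩ := (mem_range_mapRingHom_iff hM z).2 hz
  rw [← map_mul, redAlg_mapRingHom, redAlg_mapRingHom, redAlg_mapRingHom, map_mul]

theorem redAlg_one (hM : IsPModular p M) : redAlg hM (1 : MonoidAlgebra ℂ G) = 1 := by
  rw [show (1 : MonoidAlgebra ℂ G) = MonoidAlgebra.mapRingHom G (lRing hM).subtype 1 from
    (map_one _).symm, redAlg_mapRingHom, map_one]

theorem redAlg_add (hM : IsPModular p M) {y z : MonoidAlgebra ℂ G}
    (hy : ∀ x, MemLocalRing M (y.coeff x)) (hz : ∀ x, MemLocalRing M (z.coeff x)) :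
    redAlg hM (y + z) = redAlg hM y + redAlg hM z := by
  ext x
  simp [lResD_add hM (hy x) (hz x)]

theorem redAlg_mem_center (hM : IsPModular p M) {z : MonoidAlgebra ℂ G}
    (hz : z ∈ Subalgebra.center ℂ (MonoidAlgebra ℂ G)) :
    redAlg hM z ∈ Subalgebra.center (AlgInt ⧸ M) (MonoidAlgebra (AlgInt ⧸ M) G) := by
  rw [mem_center_iff_coeff] at hz ⊢
  intro g h
  simp [hz g h]

/-- Reduction as a ring map from the local centre. -/
noncomputable def redCentre (hM : IsPModular p M) :
    lCentre (G := G) hM →+* Subalgebra.center (AlgInt ⧸ M) (MonoidAlgebra (AlgInt ⧸ M) G) where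
  toFun y := ⟨redAlg hM ((y : Subalgebra.center ℂ (MonoidAlgebra ℂ G)) : MonoidAlgebra ℂ G),
    redAlg_mem_center hM (y : Subalgebra.center ℂ (MonoidAlgebra ℂ G)).2⟩
  map_one' := Subtype.ext (redAlg_one hM)
  map_mul' y z := Subtype.ext
    (redAlg_mul hM ((mem_lCentre hM _).1 y.2) ((mem_lCentre hM _).1 z.2))
  map_zero' := Subtype.ext (by ext x; simp [lResD_zero])
  map_add' y z := Subtype.ext
    (redAlg_add hM ((mem_lCentre hM _).1 y.2) ((mem_lCentre hM _).1 z.2))

theorem coe_redCentre (hM : IsPModular p M) (y : lCentre (G := G) hM) :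
    ((redCentre hM y : Subalgebra.center (AlgInt ⧸ M) (MonoidAlgebra (AlgInt ⧸ M) G)) :
      MonoidAlgebra (AlgInt ⧸ M) G) =
      redAlg hM ((y : Subalgebra.center ℂ (MonoidAlgebra ℂ G)) : MonoidAlgebra ℂ G) := rfl

theorem redCentre_surjective (hM : IsPModular p M) :
    Function.Surjective (redCentre (G := G) hM) := by
  classical
  intro z
  choose lift hlift using lRes_surjective hM
  let f : G → ℂ := fun x => (lift ((z : MonoidAlgebra (AlgInt ⧸ M) G).coeff x) : ℂ)
  have hf : ofFun f ∈ Subalgebra.center ℂ (MonoidAlgebra ℂ G) := by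
    rw [mem_center_iff_coeff]
    intro g h
    simp only [coeff_ofFun, f, (mem_center_iff_coeff _).1 z.2 g h]
  refine ⟨⟨⟨ofFun f, hf⟩, ?_⟩, ?_⟩
  · rw [mem_lCentre]
    intro x
    simp only [coeff_ofFun, f]
    exact (lift _).2
  · apply Subtype.ext
    ext x
    simp only [coe_redCentre, coeff_redAlg, coeff_ofFun, f, lResD_coe, hlift]

open scoped Classical in
/-- The value of the central character of `χ` modulo `M` on an element of the group algebra. -/
noncomputable def lamFun (hM : IsPModular p M) (χ : IrrCharacter G)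
    (z : MonoidAlgebra (AlgInt ⧸ M) G) : AlgInt ⧸ M :=
  ∑ c : ConjClasses G, z.coeff c.out * lResD hM (centralChar (χ : G → ℂ) c.out)

theorem lamFun_redAlg (hM : IsPModular p M) (χ : IrrCharacter G) {z : MonoidAlgebra ℂ G}
    (hz : z ∈ Subalgebra.center ℂ (MonoidAlgebra ℂ G))
    (hR : ∀ x : G, MemLocalRing M (z.coeff x)) :
    lamFun hM χ (redAlg hM z) = lResD hM (omega (χ : G → ℂ) z) := by
  classical
  rw [omega_eq_sum_classes χ hz]
  refine Eq.trans ?_ (lResD_sum hM (f := fun c : ConjClasses G =>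
      z.coeff c.out * centralChar (χ : G → ℂ) c.out) _ fun c _ =>
    (lRing hM).mul_mem (hR _) (centralChar_mem_lRing hM χ _)).symm
  refine Finset.sum_congr rfl fun c _ => ?_
  beta_reduce
  rw [lResD_mul hM (hR _) (centralChar_mem_lRing hM χ _), coeff_redAlg]

theorem lamFun_redCentre (hM : IsPModular p M) (χ : IrrCharacter G) (y : lCentre (G := G) hM) :
    lamFun hM χ ((redCentre hM y : Subalgebra.center (AlgInt ⧸ M)
        (MonoidAlgebra (AlgInt ⧸ M) G)) : MonoidAlgebra (AlgInt ⧸ M) G) =
      lResD hM (omega (χ : G → ℂ)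
        ((y : Subalgebra.center ℂ (MonoidAlgebra ℂ G)) : MonoidAlgebra ℂ G)) :=
  lamFun_redAlg hM χ (y : Subalgebra.center ℂ (MonoidAlgebra ℂ G)).2 ((mem_lCentre hM _).1 y.2)

/-- The central character of `χ` modulo `M`, an algebra map on the centre. -/
noncomputable def lamB (hM : IsPModular p M) (χ : IrrCharacter G) :
    Subalgebra.center (AlgInt ⧸ M) (MonoidAlgebra (AlgInt ⧸ M) G) →ₐ[AlgInt ⧸ M] AlgInt ⧸ M where
  toFun z := lamFun hM χ (z : MonoidAlgebra (AlgInt ⧸ M) G)
  map_one' := by
    rw [← map_one (redCentre (G := G) hM), lamFun_redCentre]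
    show lResD hM (omega (χ : G → ℂ) 1) = 1
    rw [omega_one, lResD_one]
  map_mul' a b := by
    obtain ⟨a', rfl⟩ := redCentre_surjective hM a
    obtain ⟨b', rfl⟩ := redCentre_surjective hM b
    rw [← map_mul, lamFun_redCentre, lamFun_redCentre, lamFun_redCentre]
    have ha := (a' : Subalgebra.center ℂ (MonoidAlgebra ℂ G)).2
    have hb := (b' : Subalgebra.center ℂ (MonoidAlgebra ℂ G)).2
    rw [← lResD_mul hM (omega_mem_lRing hM χ ha ((mem_lCentre hM _).1 a'.2))
      (omega_mem_lRing hM χ hb ((mem_lCentre hM _).1 b'.2)), ← omega_mul χ ha]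
    rfl
  map_zero' := by simp [lamFun]
  map_add' a b := by simp [lamFun, add_mul, Finset.sum_add_distrib]
  commutes' r := by
    obtain ⟨⟨s, hs⟩, rfl⟩ := lRes_surjective hM r
    have : (algebraMap (AlgInt ⧸ M) (Subalgebra.center (AlgInt ⧸ M)
        (MonoidAlgebra (AlgInt ⧸ M) G)) (lRes hM ⟨s, hs⟩)) =
        redCentre hM ⟨_, algebraMap_mem_lCentre hM hs⟩ := by
      apply Subtype.ext
      classical
      ext x
      simp only [coe_redCentre, coeff_redAlg, Subalgebra.coe_algebraMap, coe_algebraMap,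
        Function.comp_apply, coeff_single, Algebra.algebraMap_self, RingHom.id_apply,
        Finsupp.single_apply]
      split_ifs <;> simp [lResD_zero, lResD_of_mem hM hs]
    rw [this, lamFun_redCentre, lResD_of_mem hM]
    swap
    · exact omega_mem_lRing hM χ (algebraMap_mem (Subalgebra.center ℂ (MonoidAlgebra ℂ G)) s)
        ((mem_lCentre hM _).1 (algebraMap_mem_lCentre hM hs))
    exact congrArg (lRes hM) (Subtype.ext (omega_algebraMap χ s))

@[simp] theorem lamB_apply (hM : IsPModular p M) (χ : IrrCharacter G)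
    (z : Subalgebra.center (AlgInt ⧸ M) (MonoidAlgebra (AlgInt ⧸ M) G)) :
    lamB hM χ z = lamFun hM χ (z : MonoidAlgebra (AlgInt ⧸ M) G) := rfl

theorem lamB_classSum (hM : IsPModular p M) (χ : IrrCharacter G) (g : G) :
    lamB hM χ ⟨classSum (AlgInt ⧸ M) g, classSum_mem_center g⟩ =
      lResD hM (centralChar (χ : G → ℂ) g) := by
  classical
  have h : classSum (AlgInt ⧸ M) g = redAlg hM (classSum ℂ g) := by
    ext x
    simp only [coeff_redAlg, coeff_classSum]
    split_ifs <;> simp [lResD_one, lResD_zero]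
  rw [lamB_apply]
  simp only [h]
  rw [lamFun_redAlg hM χ (classSum_mem_center g), omega_classSum_irr]
  intro x
  simp only [coeff_classSum]
  split_ifs
  · exact (lRing hM).one_mem
  · exact (lRing hM).zero_mem

/-- Two characters share a block exactly when their reduced central characters agree. -/
theorem sameBlock_iff_lamB (hM : IsPModular p M) (χ ψ : IrrCharacter G) :
    SameBlock M (χ : G → ℂ) (ψ : G → ℂ) ↔ lamB hM χ = lamB hM ψ := by
  classical
  constructor
  · intro h
    ext z
    simp only [lamB_apply, lamFun]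
    refine Finset.sum_congr rfl fun c _ => ?_
    rw [(lResD_eq_iff hM (centralChar_mem_lRing hM χ _) (centralChar_mem_lRing hM ψ _)).2 (h _)]
  · intro h g
    rw [← lResD_eq_iff hM (centralChar_mem_lRing hM χ _) (centralChar_mem_lRing hM ψ _),
      ← lamB_classSum, ← lamB_classSum, h]

/-- The block idempotent modulo `M`. -/
noncomputable def blockIdemRes (hM : IsPModular p M) (B : Set (IrrCharacter G)) :
    MonoidAlgebra (AlgInt ⧸ M) G :=
  redAlg hM (blockIdem B)

theorem coeff_blockIdemRes (hM : IsPModular p M) (B : Set (IrrCharacter G)) (x : G) :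
    (blockIdemRes hM B).coeff x = lResD hM (blockCoeff B x) := by
  simp [blockIdemRes]

theorem blockIdemRes_mem_center (hM : IsPModular p M) (B : Set (IrrCharacter G)) :
    blockIdemRes hM B ∈ Subalgebra.center (AlgInt ⧸ M) (MonoidAlgebra (AlgInt ⧸ M) G) :=
  redAlg_mem_center hM (blockIdem_mem_center B)

theorem coeff_blockIdem_memLocalRing (hM : IsPModular p M) {B : Set (IrrCharacter G)}
    (hB : IsPBlock M B) (x : G) : MemLocalRing M ((blockIdem B).coeff x) := by
  simpa using memLocalRing_blockCoeff hM hB x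

theorem isIdempotentElem_blockIdemRes (hM : IsPModular p M) {B : Set (IrrCharacter G)}
    (hB : IsPBlock M B) : IsIdempotentElem (blockIdemRes hM B) := by
  rw [IsIdempotentElem, blockIdemRes, ← redAlg_mul hM (coeff_blockIdem_memLocalRing hM hB)
    (coeff_blockIdem_memLocalRing hM hB), isIdempotentElem_blockIdem B]

theorem blockIdemRes_mul_of_ne (hM : IsPModular p M) {B B' : Set (IrrCharacter G)}
    (hB : IsPBlock M B) (hB' : IsPBlock M B') (hne : B ≠ B') :
    blockIdemRes hM B * blockIdemRes hM B' = 0 := by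
  have h : B ∩ B' = ∅ := Set.eq_empty_iff_forall_notMem.2 fun χ hχ =>
    hne ((IsPBlock.eq_blockOf hM hB hχ.1).trans (IsPBlock.eq_blockOf hM hB' hχ.2).symm)
  rw [blockIdemRes, blockIdemRes, ← redAlg_mul hM (coeff_blockIdem_memLocalRing hM hB)
    (coeff_blockIdem_memLocalRing hM hB'), blockIdem_mul, h, blockIdem_empty]
  ext x
  simp [lResD_zero]

open scoped Classical in
theorem lamB_blockIdemRes (hM : IsPModular p M) {B : Set (IrrCharacter G)} (hB : IsPBlock M B)
    (χ : IrrCharacter G) :
    lamB hM χ ⟨blockIdemRes hM B, blockIdemRes_mem_center hM B⟩ = if χ ∈ B then 1 else 0 := by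
  rw [lamB_apply]
  show lamFun hM χ (redAlg hM (blockIdem B)) = _
  rw [lamFun_redAlg hM χ (blockIdem_mem_center B) (coeff_blockIdem_memLocalRing hM hB),
    omega_blockIdem]
  split_ifs <;> simp [lResD_one, lResD_zero]

/-- A central element killed by all reduced central characters is nilpotent. -/
theorem isNilpotent_of_lamB_eq_zero (hM : IsPModular p M)
    {z : Subalgebra.center (AlgInt ⧸ M) (MonoidAlgebra (AlgInt ⧸ M) G)}
    (h : ∀ χ : IrrCharacter G, lamB hM χ z = 0) : IsNilpotent z := by
  classical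
  obtain ⟨y, rfl⟩ := redCentre_surjective hM z
  have hy := (y : Subalgebra.center ℂ (MonoidAlgebra ℂ G)).2
  have hω : ∀ χ : IrrCharacter G, omega (χ : G → ℂ)
      ((y : Subalgebra.center ℂ (MonoidAlgebra ℂ G)) : MonoidAlgebra ℂ G) ∈ lRing hM :=
    fun χ => omega_mem_lRing hM χ hy ((mem_lCentre hM _).1 y.2)
  let a : IrrCharacter G → lCentre (G := G) hM := fun χ => ⟨_, algebraMap_mem_lCentre hM (hω χ)⟩
  have hzero : ∏ χ : IrrCharacter G, (y - a χ) = 0 := by
    apply Subtype.ext
    apply Subtype.ext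
    refine central_ext (Subtype.mem _) (zero_mem _) fun ψ => ?_
    rw [ZeroMemClass.coe_zero, ZeroMemClass.coe_zero, map_zero, ← omegaAlgHom_apply]
    simp only [SubmonoidClass.coe_finsetProd, map_prod]
    refine Finset.prod_eq_zero (i := ψ) (Finset.mem_univ _) ?_
    show omegaAlgHom ψ ((y : Subalgebra.center ℂ (MonoidAlgebra ℂ G)) -
      algebraMap ℂ _ (omega (ψ : G → ℂ)
        ((y : Subalgebra.center ℂ (MonoidAlgebra ℂ G)) : MonoidAlgebra ℂ G))) = 0
    rw [map_sub (omegaAlgHom ψ), AlgHom.commutes, Algebra.algebraMap_self, RingHom.id_apply,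
      omegaAlgHom_apply, sub_self]
  have ha : ∀ χ, redCentre hM (a χ) = 0 := by
    intro χ
    have h0 := h χ
    rw [lamB_apply, lamFun_redCentre] at h0
    apply Subtype.ext
    ext x
    simp only [a, coe_redCentre, coeff_redAlg, Subalgebra.coe_algebraMap, coe_algebraMap,
      Function.comp_apply, coeff_single, Algebra.algebraMap_self, RingHom.id_apply,
      Finsupp.single_apply, ZeroMemClass.coe_zero, coeff_zero, Finsupp.coe_zero, Pi.zero_apply]
    split_ifs
    · exact h0
    · exact lResD_zero hM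
  refine ⟨Fintype.card (IrrCharacter G), ?_⟩
  have h1 := congrArg (redCentre hM) hzero
  rw [map_prod, map_zero (redCentre hM)] at h1
  rw [← h1, ← Finset.card_univ, ← Finset.prod_const]
  refine Finset.prod_congr rfl fun χ _ => ?_
  rw [map_sub (redCentre hM), ha]
  exact (sub_zero _).symm

/-- Every algebra map from the centre modulo `M` to the residue ring is a reduced central
character. -/
theorem exists_eq_lamB (hM : IsPModular p M)
    (φ : Subalgebra.center (AlgInt ⧸ M) (MonoidAlgebra (AlgInt ⧸ M) G) →ₐ[AlgInt ⧸ M] AlgInt ⧸ M) :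
    ∃ χ : IrrCharacter G, φ = lamB hM χ := by
  classical
  haveI := IsPModular.isPrime hM
  by_contra! hne
  have : ∀ χ, ∃ z, φ z ≠ lamB hM χ z := fun χ => by
    by_contra! h
    exact hne χ (AlgHom.ext h)
  choose zs hzs using this
  have hnil := isNilpotent_of_lamB_eq_zero hM
    (z := ∏ χ : IrrCharacter G, (zs χ - algebraMap _ _ (lamB hM χ (zs χ)))) fun ψ => by
    rw [map_prod]
    refine Finset.prod_eq_zero (Finset.mem_univ ψ) ?_
    rw [map_sub (lamB hM ψ), AlgHom.commutes, Algebra.algebraMap_self, RingHom.id_apply, sub_self]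
  have h0 := (hnil.map φ).eq_zero
  rw [map_prod, Finset.prod_eq_zero_iff] at h0
  obtain ⟨χ, -, hχ⟩ := h0
  rw [map_sub φ, AlgHom.commutes, Algebra.algebraMap_self, RingHom.id_apply, sub_eq_zero] at hχ
  exact hzs χ hχ

end CfsgLib.Blocks
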