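import Cfsg.Agent.Lib.Blocks.Idempotent
import Cfsg.Agent.Lib.Blocks.Reduced
import Cfsg.Agent.Lib.Characters.Galois
import Cfsg.Agent.Lib.Characters.LinearTwist
import Cfsg.Agent.Lib.Characters.NormalRes
import Cfsg.Agent.Lib.Characters.Scalar
import Cfsg.Agent.Lib.Characters.Values
import Cfsg.Agent.Lib.Transfer.Basic
import Cfsg.Agent.Lib.Transfer.NormalComplement

/-!
# Degrees in the principal block: elementary congruences
-/

set_option autoImplicit false
set_option linter.unusedSectionVars false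
set_option linter.style.haveILetI false

namespace CfsgLib.PrincipalSq

open Cfsg CfsgLib.Characters CfsgLib.Blocks CfsgLib.NormalRes CfsgLib.BrauerPerm
  CfsgLib.LinearTwist

universe u

variable {G : Type u} [Group G] [Finite G] {p : ℕ} {M : Ideal AlgInt}

theorem char_mem_lRing (hM : IsPModular p M) {χ : G → ℂ} (hχ : IsCharacter G χ) (g : G) :
    χ g ∈ lRing hM :=
  isIntegral_mem_lRing hM (isIntegral_of_isCharacter hχ g)

/-- Two elements with the same `p`-power power have congruent character values. -/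
theorem char_congr_of_pow_eq (hM : IsPModular p M) {χ : G → ℂ} (hχ : IsCharacter G χ) {g y : G}
    {k : ℕ} (h : g ^ p ^ k = y ^ p ^ k) : MemLocalIdeal M (χ g - χ y) := by
  classical
  haveI := IsPModular.isMaximal hM
  letI := Ideal.Quotient.field M
  haveI := charP_residue hM
  haveI : Fact p.Prime := ⟨hM.1⟩
  have key : ∀ a : G, lRes hM ⟨χ a, char_mem_lRing hM hχ a⟩ ^ p ^ k =
      lRes hM ⟨χ (a ^ p ^ k), char_mem_lRing hM hχ _⟩ := by
    intro a
    obtain ⟨N, z, hz, hd⟩ := CfsgLib.CharGalois.exists_root_decomp hχ a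
    have hzi : ∀ i, z i ∈ lRing hM := fun i =>
      isIntegral_mem_lRing hM (IsIntegral.of_pow Nat.card_pos (by rw [hz i]; exact isIntegral_one))
    have h1 : (⟨χ a, char_mem_lRing hM hχ a⟩ : lRing hM) = ∑ i, ⟨z i, hzi i⟩ := by
      apply Subtype.ext
      have := hd 1
      simp only [pow_one] at this
      simpa using this
    have h2 : (⟨χ (a ^ p ^ k), char_mem_lRing hM hχ _⟩ : lRing hM) =
        ∑ i, ⟨z i, hzi i⟩ ^ p ^ k := by
      apply Subtype.ext
      simpa using hd (p ^ k)
    rw [h1, h2, map_sum, map_sum, sum_pow_char_pow]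
    simp only [map_pow]
  have h3 : lRes hM ⟨χ g, char_mem_lRing hM hχ g⟩ = lRes hM ⟨χ y, char_mem_lRing hM hχ y⟩ := by
    apply iterateFrobenius_inj (AlgInt ⧸ M) p k
    simp only [iterateFrobenius_def, key, h]
  exact (lRes_eq_iff hM _ _).mp h3

/-- A `p`-power power root of an element, inside the subgroup it generates. -/
theorem exists_pow_eq_pow [Fact p.Prime] (g : G) :
    ∃ (k c : ℕ), g ^ p ^ k = (g ^ (p ^ k * c)) ^ p ^ k ∧
      Nat.Coprime (orderOf (g ^ p ^ k)) p := by
  set k := (orderOf g).factorization p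
  set b := orderOf g / p ^ k
  have hn : orderOf g ≠ 0 := (orderOf_pos g).ne'
  have hb : orderOf g = p ^ k * b := (Nat.ordProj_mul_ordCompl_eq_self _ _).symm
  have hcop : Nat.Coprime (p ^ k) b := (Nat.coprime_ordCompl Fact.out hn).pow_left k
  obtain ⟨c, hc⟩ : ∃ c, p ^ k * c ≡ 1 [MOD b] := by
    rcases Nat.eq_or_lt_of_le (Nat.one_le_iff_ne_zero.mpr (Nat.ordCompl_pos p hn).ne') with h1 | h1
    · exact ⟨0, by rw [show b = 1 from h1.symm]; exact Nat.modEq_one⟩
    · obtain ⟨c, -, hc⟩ := Nat.exists_mul_mod_eq_one_of_coprime hcop h1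
      exact ⟨c, by rw [Nat.ModEq, hc, Nat.one_mod_eq_one.mpr (Nat.ne_of_gt h1)]⟩
  refine ⟨k, c, ?_, ?_⟩
  swap
  · rw [orderOf_pow_of_dvd (pow_ne_zero _ (Fact.out : p.Prime).ne_zero) (Nat.ordProj_dvd _ _)]
    exact (Nat.coprime_ordCompl Fact.out hn).symm
  rw [← pow_mul, pow_eq_pow_iff_modEq, hb]
  have := (hc.mul_left' (p ^ k)).symm
  rw [mul_one] at this
  rwa [mul_comm (p ^ k * c)]

/-- The sum of the squares of the degrees in a block is divisible by `p`. -/
theorem dvd_sum_sq (hM : IsPModular p M) (hp : p ∣ Nat.card G) {B : Set (IrrCharacter G)}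
    (hB : IsPBlock M B) [Fintype (IrrCharacter G)] [DecidablePred (· ∈ B)] :
    p ∣ ∑ χ ∈ Finset.univ.filter (· ∈ B), charDegree (χ : G → ℂ) ^ 2 := by
  classical
  haveI := Fintype.ofFinite G
  rw [← memLocalIdeal_natCast_iff hM]
  have h := memLocalRing_blockCoeff hM hB (1 : G)
  have h1 := MemLocalIdeal.mul_right hM ((memLocalIdeal_natCast_iff hM _).mpr hp) h
  convert h1 using 1
  rw [blockCoeff_eq_sum, ← mul_assoc, mul_inv_cancel₀ (Nat.cast_ne_zero.mpr Nat.card_pos.ne'),
    one_mul]
  push_cast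
  refine Finset.sum_congr (by ext; simp) fun χ _ => ?_
  rw [apply_one_eq_charDegree (irr_isCharacter χ), Complex.conj_natCast, sq]

theorem centralChar_principal (g : G) :
    centralChar (fun _ : G => (1 : ℂ)) g = ((Subgroup.centralizer ({g} : Set G)).index : ℂ) := by
  simp [centralChar]

theorem charDegree_pos (χ : IrrCharacter G) : 0 < charDegree (χ : G → ℂ) := by
  obtain ⟨n, hn, h⟩ := irr_exists_degree χ.2
  rwa [charDegree_eq_of_apply_one h]

/-- Restricting to a normal subgroup of order prime to `p`: principal block characters are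
trivial. -/
theorem apply_eq_degree_of_coprime (hM : IsPModular p M) (N : Subgroup G) [N.Normal]
    (hN : ¬ p ∣ Nat.card N) (χ : IrrCharacter G) (hχ : χ ∈ principalBlock M G) (n : N) :
    (χ : G → ℂ) n = (χ : G → ℂ) 1 := by
  classical
  haveI := Fintype.ofFinite G
  haveI := Fintype.ofFinite N
  let z : MonoidAlgebra ℂ G := ofFun fun x => if x ∈ N then 1 else 0
  have hz : z ∈ Subalgebra.center ℂ (MonoidAlgebra ℂ G) := by
    rw [mem_center_iff_coeff]
    intro g h
    simp only [z, coeff_ofFun]
    refine if_congr ⟨fun h' => ?_, fun h' => (inferInstance : N.Normal).conj_mem g h' h⟩ rfl rfl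
    simpa [mul_assoc] using (inferInstance : N.Normal).conj_mem _ h' h⁻¹
  have hR : ∀ x : G, MemLocalRing M (z.coeff x) := fun x => by
    simp only [z, coeff_ofFun]
    split_ifs
    · exact memLocalRing_of_isIntegral hM isIntegral_one
    · exact memLocalRing_of_isIntegral hM isIntegral_zero
  have hsum : ∀ f : G → ℂ, ∑ x : G, (z.coeff x) * f x = ∑ x : N, f x := fun f => by
    simp only [z, coeff_ofFun, ite_mul, one_mul, zero_mul, ← Finset.sum_filter]
    exact (Finset.sum_subtype _ (fun x => by simp) _)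
  have hωone : omega (principalIrr G : G → ℂ) z = (Nat.card N : ℂ) := by
    rw [omega_apply, hsum]
    simp
  have hω := omega_congr_of_sameBlock hM (χ := principalIrr G) (ψ := χ) hχ hz hR
  have hne : mult N (χ : G → ℂ) (principalIrr N) ≠ 0 := by
    intro h0
    have h1 : ∑ x : N, (χ : G → ℂ) x = 0 := by
      rcases mul_eq_zero.mp h0 with h | h
      · exact absurd h (inv_ne_zero (Nat.cast_ne_zero.mpr Nat.card_pos.ne'))
      · simpa using h
    rw [hωone, omega_apply, hsum, h1, zero_div, sub_zero] at hω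
    exact hN ((memLocalIdeal_natCast_iff hM _).mp hω)
  have honly : ∀ θ : IrrCharacter N, θ ≠ principalIrr N → mult N (χ : G → ℂ) θ = 0 := by
    intro θ hθ
    by_contra h
    obtain ⟨x, hx⟩ := exists_conj_of_constituents N χ hne h
    exact hθ (hx.symm.trans (Subtype.ext (funext fun _ => rfl)))
  have hval : ∀ m : N, (χ : G → ℂ) m = mult N (χ : G → ℂ) (principalIrr N) := fun m => by
    rw [res_eq_sum N (irr_isClassFunction χ) m, Finset.sum_eq_single (principalIrr N)
      (fun θ _ hθ => by rw [honly θ hθ, zero_mul]) (fun h => absurd (Finset.mem_univ _) h)]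
    simp
  rw [hval n, ← hval 1]
  rfl

theorem index_centralizer_dvd_of_pow (g : G) (m : ℕ) :
    (Subgroup.centralizer ({g ^ m} : Set G)).index ∣ (Subgroup.centralizer ({g} : Set G)).index := by
  refine Subgroup.index_dvd_of_le fun x hx => ?_
  rw [Subgroup.mem_centralizer_singleton_iff] at hx ⊢
  exact (show Commute x g from hx).pow_right m

theorem index_centralizer_subgroup_dvd (N : Subgroup G) [N.Normal] (y : N) :
    (Subgroup.centralizer ({y} : Set N)).index ∣
      (Subgroup.centralizer ({(y : G)} : Set G)).index := by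
  have h : (Subgroup.centralizer ({(y : G)} : Set G)).subgroupOf N =
      Subgroup.centralizer ({y} : Set N) := by
    ext x
    simp [Subgroup.mem_subgroupOf, Subgroup.mem_centralizer_singleton_iff, Subtype.ext_iff]
  rw [← h]
  set C := Subgroup.centralizer ({(y : G)} : Set G)
  change C.relIndex N ∣ C.index
  have h1 : C.relIndex N * N.index = (C ⊓ N).index := by
    rw [← Subgroup.inf_relIndex_right, Subgroup.relIndex_mul_index inf_le_right]
  have h2 : N.relIndex C * C.index = (C ⊓ N).index := by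
    rw [← Subgroup.inf_relIndex_left, Subgroup.relIndex_mul_index inf_le_left]
  obtain ⟨t, ht⟩ := Subgroup.relIndex_dvd_index_of_normal N C
  refine ⟨t, Nat.eq_of_mul_eq_mul_left
    (Nat.pos_of_ne_zero (show N.relIndex C ≠ 0 from Subgroup.index_ne_zero_of_finite)) ?_⟩
  rw [h2, ← h1, ht]
  ring

/-- An extension of `p'`-degree of a principal block character along a `p`-quotient lies in the
principal block. -/
theorem mem_principal_of_extension [Fact p.Prime] (hM : IsPModular p M) (N : Subgroup G) [N.Normal]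
    (hN : IsPGroup p (G ⧸ N)) (χ : IrrCharacter G) (θ : IrrCharacter N)
    (hres : ∀ n : N, (χ : G → ℂ) n = (θ : N → ℂ) n) (hθ : θ ∈ principalBlock M N)
    (hdeg : ¬ p ∣ charDegree (θ : N → ℂ)) : χ ∈ principalBlock M G := by
  classical
  haveI := Fintype.ofFinite G
  intro g
  rw [centralChar_principal]
  set K := (Subgroup.centralizer ({g} : Set G)).index
  have h1 : (χ : G → ℂ) 1 = (charDegree (θ : N → ℂ) : ℂ) := by
    have := hres 1
    simp only [OneMemClass.coe_one] at this
    rw [this, apply_one_eq_charDegree (irr_isCharacter θ)]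
  have hd : MemLocalRing M (((charDegree (θ : N → ℂ)) : ℂ))⁻¹ := inv_natCast_mem_lRing hM hdeg
  by_cases hK : p ∣ K
  · refine MemLocalIdeal.sub hM ((memLocalIdeal_natCast_iff hM _).mpr hK) ?_
    rw [centralChar, h1, div_eq_mul_inv]
    exact MemLocalIdeal.mul_right hM (MemLocalIdeal.mul_right hM
      ((memLocalIdeal_natCast_iff hM _).mpr hK) (char_mem_lRing hM (irr_isCharacter χ) g)) hd
  · obtain ⟨k, c, hkc, hcop⟩ := exists_pow_eq_pow (p := p) g
    have hy : g ^ (p ^ k * c) ∈ N := by
      rw [pow_mul]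
      exact N.pow_mem (CfsgLib.Transfer.pResidual_le_of_isPGroup_quotient N hN
        (CfsgLib.Transfer.mem_pResidual hcop)) c
    set y := g ^ (p ^ k * c)
    set K' := (Subgroup.centralizer ({(⟨y, hy⟩ : N)} : Set N)).index
    have hK' : ¬ p ∣ K' := fun h => hK
      (h.trans ((index_centralizer_subgroup_dvd N ⟨y, hy⟩).trans (index_centralizer_dvd_of_pow g _)))
    -- the value at `y`
    have h5 := hθ ⟨y, hy⟩
    rw [centralChar_principal, centralChar, apply_one_eq_charDegree (irr_isCharacter θ),
      ← hres] at h5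
    have h6 := char_congr_of_pow_eq hM (irr_isCharacter χ) hkc
    have hd0 : ((charDegree (θ : N → ℂ)) : ℂ) ≠ 0 := Nat.cast_ne_zero.mpr (charDegree_pos θ).ne'
    have hK'0 : (K' : ℂ) ≠ 0 := Nat.cast_ne_zero.mpr fun h => hK' (h ▸ dvd_zero p)
    have h7 : MemLocalIdeal M ((χ : G → ℂ) y - (charDegree (θ : N → ℂ) : ℂ)) := by
      have := MemLocalIdeal.mul_left hM (x := -((charDegree (θ : N → ℂ) : ℂ) * (K' : ℂ)⁻¹))
        (by
          refine neg_mem (s := lRing hM) (mul_mem ?_ (inv_natCast_mem_lRing hM hK'))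
          exact natCast_mem _ _) h5
      convert this using 1
      field_simp
      ring
    have h8 := MemLocalIdeal.mul_left hM (x := -((K : ℂ) * ((charDegree (θ : N → ℂ)) : ℂ)⁻¹))
      (neg_mem (s := lRing hM) (mul_mem (natCast_mem _ _) hd)) (MemLocalIdeal.add hM h6 h7)
    convert h8 using 1
    rw [centralChar, h1]
    field_simp
    ring

end CfsgLib.PrincipalSq
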