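import Cfsg.Agent.Lib.Blocks.DefectAlgebra
import Mathlib.RingTheory.Idempotents
import Mathlib.LinearAlgebra.FiniteDimensional.Basic
import Mathlib.RingTheory.Noetherian.Basic
import Mathlib.GroupTheory.OrderOfElement
import Mathlib.GroupTheory.FiniteAbelian.Basic

/-!
# Brauer pairs, algebraically

Blocks of a subgroup `K` are given as a family of idempotents of `invAlg k K K` with their algebra
maps.  Proved here: uniqueness of the normal subpair, transport along normal steps, the kernel of
the Brauer map at a normal `p`-subgroup is nilpotent, and the defect group of a block from a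
maximal pair.
-/

set_option autoImplicit false
set_option linter.style.haveILetI false
set_option linter.unusedSectionVars false

namespace CfsgLib.BlockAlg

open MonoidAlgebra

variable {k G : Type*} [Field k] [Group G] [Fintype G]

section Conj

variable {K H : Subgroup G}

theorem conjA_one (x : MonoidAlgebra k G) : conjA (1 : G) x = x := by
  ext c; rw [coeff_conjA]; simp

theorem conjA_conjA (g h : G) (x : MonoidAlgebra k G) : conjA g (conjA h x) = conjA (g * h) x := by
  ext c; simp only [coeff_conjA]; congr 1; group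

theorem conjA_algebraMap (g : G) (r : k) :
    conjA g (algebraMap k (MonoidAlgebra k G) r) = algebraMap k _ r := by
  simp [conjA, Algebra.algebraMap_eq_smul_one, one_def]

theorem conjA_add (g : G) (x y : MonoidAlgebra k G) : conjA g (x + y) = conjA g x + conjA g y := by
  simp [conjA, mul_add, add_mul]

theorem conjA_mem {g : G} (hgK : g ∈ Subgroup.normalizer (K : Set G))
    (hgH : g ∈ Subgroup.normalizer (H : Set G)) {x : MonoidAlgebra k G}
    (hx : x ∈ invAlg k K H) : conjA g x ∈ invAlg k K H := by
  refine ⟨fun c hc => ?_, fun h hh c => ?_⟩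
  · rw [coeff_conjA]
    exact hx.1 _ fun h => hc ((Subgroup.mem_normalizer_iff''.1 hgK c).2 h)
  · rw [coeff_conjA, coeff_conjA,
      ← hx.2 _ ((Subgroup.mem_normalizer_iff''.1 hgH h).1 hh) (g⁻¹ * c * g)]
    congr 1; group

/-- Conjugation as an automorphism of `invAlg k K H`. -/
noncomputable def conjHom (g : G) (hgK : g ∈ Subgroup.normalizer (K : Set G))
    (hgH : g ∈ Subgroup.normalizer (H : Set G)) : invAlg k K H →ₐ[k] invAlg k K H where
  toFun x := ⟨conjA g x.1, conjA_mem hgK hgH x.2⟩
  map_one' := Subtype.ext (by simp [conjA, one_def])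
  map_mul' _ _ := Subtype.ext (conjA_mul g _ _)
  map_zero' := Subtype.ext (by simp [conjA])
  map_add' _ _ := Subtype.ext (conjA_add g _ _)
  commutes' r := Subtype.ext (conjA_algebraMap g r)

end Conj

/-- A complete family of blocks of `invAlg k K H`. -/
structure IsBlockFamily {K H : Subgroup G} {ι : Type*} [Fintype ι] (e : ι → invAlg k K H)
    (lam : ι → invAlg k K H →ₐ[k] k) : Prop where
  datum : ∀ i, IsBlockDatum (e i) (lam i)
  sum_eq : ∑ i, e i = 1
  ortho : ∀ i j, i ≠ j → e i * e j = 0

section Family

variable {K H : Subgroup G} {ι : Type*} [Fintype ι] {e : ι → invAlg k K H}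
  {lam : ι → invAlg k K H →ₐ[k] k}

theorem IsBlockFamily.map_of_ne (hf : IsBlockFamily e lam) {i j : ι} (hij : i ≠ j) :
    lam i (e j) = 0 := by
  have := congrArg (lam i) (hf.ortho i j hij)
  rwa [map_mul, (hf.datum i).map_e, one_mul, map_zero] at this

theorem IsBlockFamily.inj (hf : IsBlockFamily e lam) {i j : ι} (h : e i = e j) : i = j := by
  by_contra hij
  have := hf.map_of_ne hij
  rw [← h, (hf.datum i).map_e] at this
  exact one_ne_zero this

theorem algHom_idem {A : Type*} [Semiring A] [Algebra k A] (mu : A →ₐ[k] k) {x : A}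
    (hx : x * x = x) : mu x = 0 ∨ mu x = 1 := by
  have h2 : mu x * mu x = mu x := by rw [← map_mul, hx]
  rcases eq_or_ne (mu x) 0 with h0 | h0
  · exact Or.inl h0
  · exact Or.inr (mul_left_cancel₀ h0 (h2.trans (mul_one _).symm))

theorem IsBlockFamily.existsUnique_one (hf : IsBlockFamily e lam) (mu : invAlg k K H →ₐ[k] k) :
    ∃! i, mu (e i) = 1 := by
  have h1 : ∑ i, mu (e i) = 1 := by rw [← map_sum, hf.sum_eq, map_one]
  obtain ⟨i, -, hi⟩ := Finset.exists_ne_zero_of_sum_ne_zero (by rw [h1]; exact one_ne_zero)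
  have hi1 := (algHom_idem mu (hf.datum i).idem).resolve_left hi
  refine ⟨i, hi1, fun j hj => by_contra fun hji => ?_⟩
  have := congrArg mu (hf.ortho j i hji)
  simp [map_mul, hj, hi1] at this

theorem IsBlockFamily.algHom_eq (hf : IsBlockFamily e lam) (mu : invAlg k K H →ₐ[k] k) :
    ∃ i, mu = lam i := by
  obtain ⟨i, hi, -⟩ := hf.existsUnique_one mu
  exact ⟨i, (hf.datum i).algHom_eq mu hi⟩

theorem IsBlockFamily.mul_idem (hf : IsBlockFamily e lam) (hKH : K ≤ H) {x : invAlg k K H}
    (hx : x * x = x) (i : ι) :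
    (lam i x = 0 → x * e i = 0) ∧ (lam i x = 1 → x * e i = e i) := by
  have hcomm : ∀ a b : invAlg k K H, Commute a b := fun a b =>
    Subtype.ext (commute_of_inv a.2.1 (b.2.2.mono hKH))
  have hidem : ∀ y : invAlg k K H, y * y = y → IsIdempotentElem (y * e i) := by
    intro y hy
    change y * e i * (y * e i) = y * e i
    rw [(hcomm (e i) y).mul_mul_mul_comm, hy, (hf.datum i).idem]
  constructor <;> intro h
  · have := (hf.datum i).nil x
    rw [h, map_zero, sub_zero] at this
    exact IsIdempotentElem.eq_zero_of_isNilpotent' (hidem x hx) this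
  · have h1 := hidem (1 - x) (by simp [sub_mul, mul_sub, hx])
    have := ((hf.datum i).nil x).neg
    rw [h, map_one, show -((x - 1) * e i) = (1 - x) * e i by rw [sub_mul, sub_mul, neg_sub]] at this
    have h2 := IsIdempotentElem.eq_zero_of_isNilpotent' h1 this
    rw [sub_mul, one_mul, sub_eq_zero] at h2
    exact h2.symm

theorem IsBlockFamily.exists_lam_eq_one (hf : IsBlockFamily e lam) (hKH : K ≤ H)
    {x : invAlg k K H} (hx : x * x = x) (hne : x ≠ 0) : ∃ i, lam i x = 1 := by
  by_contra hcon
  push Not at hcon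
  refine hne ?_
  rw [← mul_one x, ← hf.sum_eq, Finset.mul_sum]
  refine Finset.sum_eq_zero fun i _ => ?_
  exact (hf.mul_idem hKH hx i).1 ((algHom_idem (lam i) hx).resolve_right (hcon i))

theorem IsBlockFamily.eq_sum [DecidableEq k] (hf : IsBlockFamily e lam) (hKH : K ≤ H)
    {x : invAlg k K H} (hx : x * x = x) :
    x = ∑ i ∈ Finset.univ.filter (fun i => lam i x = 1), e i := by
  classical
  conv_lhs => rw [← mul_one x, ← hf.sum_eq, Finset.mul_sum]
  rw [Finset.sum_filter]
  refine Finset.sum_congr rfl fun i _ => ?_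
  rcases algHom_idem (lam i) hx with h | h
  · simp [h, (hf.mul_idem hKH hx i).1 h]
  · simp [h, (hf.mul_idem hKH hx i).2 h]

/-- Primitivity: a non-zero idempotent below a block idempotent is that idempotent. -/
theorem IsBlockFamily.eq_of_mul_eq (hf : IsBlockFamily e lam) (hKH : K ≤ H) {x : invAlg k K H}
    (hx : x * x = x) (i : ι) (hxe : x * e i = x) (hne : x ≠ 0) : x = e i := by
  rcases algHom_idem (lam i) hx with h | h
  · exact absurd (hxe.symm.trans ((hf.mul_idem hKH hx i).1 h)) hne
  · exact hxe.symm.trans ((hf.mul_idem hKH hx i).2 h)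

theorem IsBlockFamily.exists_conj (hf : IsBlockFamily e lam) (hKH : K ≤ H) {g : G}
    (hgK : g ∈ Subgroup.normalizer (K : Set G)) (hgH : g ∈ Subgroup.normalizer (H : Set G))
    (i : ι) : ∃ j, conjA g (e i).1 = (e j).1 := by
  classical
  set phi := conjHom (k := k) g hgK hgH
  set psi := conjHom (k := k) g⁻¹ (inv_mem hgK) (inv_mem hgH)
  have hpp : ∀ a, psi (phi a) = a := fun a => Subtype.ext (by
    change conjA g⁻¹ (conjA g a.1) = a.1
    rw [conjA_conjA, inv_mul_cancel, conjA_one])
  have hpp' : ∀ a, phi (psi a) = a := fun a => Subtype.ext (by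
    change conjA g (conjA g⁻¹ a.1) = a.1
    rw [conjA_conjA, mul_inv_cancel, conjA_one])
  have hid : phi (e i) * phi (e i) = phi (e i) := by rw [← map_mul, (hf.datum i).idem]
  have hne : phi (e i) ≠ 0 := by
    intro h
    have := congrArg psi h
    rw [hpp, map_zero] at this
    have h1 := (hf.datum i).map_e
    rw [this, map_zero] at h1
    exact zero_ne_one h1
  obtain ⟨j, hj⟩ := hf.exists_lam_eq_one hKH hid hne
  refine ⟨j, congrArg Subtype.val (?_ : phi (e i) = e j)⟩
  have h1 : phi (e i) * e j = e j := by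
    exact (hf.mul_idem hKH hid j).2 hj
  have h2 : psi (e j) * e i = psi (e j) := by
    have := congrArg psi h1
    rw [map_mul, hpp] at this
    rw [← this]
    rw [mul_assoc, show psi (e j) * e i = e i * psi (e j) from
      Subtype.ext (commute_of_inv (psi (e j)).2.1 ((e i).2.2.mono hKH)), ← mul_assoc,
      (hf.datum i).idem]
  have h3 : psi (e j) = e i := by
    refine hf.eq_of_mul_eq hKH (by rw [← map_mul, (hf.datum j).idem]) i h2 fun h => ?_
    have := congrArg phi h
    rw [hpp', map_zero] at this
    have h1 := (hf.datum j).map_e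
    rw [this, map_zero] at h1
    exact zero_ne_one h1
  rw [← h3, hpp']

end Family

section Restrict

variable {K H H' : Subgroup G}

/-- The inclusion of `invAlg k K H'` in `invAlg k K H`. -/
noncomputable def inclHom (h : H ≤ H') : invAlg k K H' →ₐ[k] invAlg k K H :=
  Subalgebra.inclusion (invAlg_mono le_rfl h)

@[simp] theorem coe_inclHom (h : H ≤ H') (x : invAlg k K H') : (inclHom h x).1 = x.1 := rfl

theorem IsBlockDatum.restrict {e : invAlg k K H} {lam : invAlg k K H →ₐ[k] k}
    (hb : IsBlockDatum e lam) (h : H ≤ H') (e' : invAlg k K H') (he : e'.1 = e.1) :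
    IsBlockDatum e' (lam.comp (inclHom h)) := by
  have heq : inclHom h e' = e := Subtype.ext he
  have hinj : Function.Injective (inclHom (k := k) (K := K) h) :=
    fun a b hab => Subtype.ext (congrArg (fun z => z.1) hab)
  refine ⟨hinj (by rw [map_mul, heq, hb.idem]), by simp [AlgHom.comp_apply, heq, hb.map_e],
    fun a => (IsNilpotent.map_iff hinj).1 ?_⟩
  rw [map_mul, map_sub, heq, AlgHom.commutes]
  exact hb.nil _

end Restrict

variable {p : ℕ} [Fact p.Prime]

/-- Transport along a normal step: if `h'` sees the `M'`-invariant idempotent `e` of `C(M)`, then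
`lam_{h'} ∘ br M'` agrees with `lam` on invariant elements. -/
theorem IsBlockDatum.apply_br_eq (hpk : (p : k) = 0) {K P : Subgroup G} (hP : IsPGroup p P)
    {e : invAlg k K K} {lam : invAlg k K K →ₐ[k] k} (hb : IsBlockDatum e lam)
    (mu : invAlg k (Subgroup.centralizer (P : Set G)) (Subgroup.centralizer (P : Set G)) →ₐ[k] k)
    {H : Subgroup G} (hKH : K ≤ H) (hPH : P ≤ H) (hCH : Subgroup.centralizer (P : Set G) ≤ H)
    (e' : invAlg k K H) (he : e'.1 = e.1)
    (hmu : mu (brHom hpk hP K H _ hPH hCH (centralizer_le_normalizer' P) e') = 1)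
    (x : invAlg k K H) :
    mu (brHom hpk hP K H _ hPH hCH (centralizer_le_normalizer' P) x) = lam (inclHom hKH x) :=
  DFunLike.congr_fun ((hb.restrict hKH e' he).algHom_eq (mu.comp (brHom hpk hP K H _ hPH hCH
    (centralizer_le_normalizer' P))) hmu) x

/-- The `P`-stable block seen by `mu ∘ br P`. -/
theorem IsBlockFamily.exists_fixed (hpk : (p : k) = 0) {K P : Subgroup G} (hP : IsPGroup p P)
    (hPK : P ≤ Subgroup.normalizer (K : Set G)) {ι : Type*} [Fintype ι] {e : ι → invAlg k K K}
    {lam : ι → invAlg k K K →ₐ[k] k} (hf : IsBlockFamily e lam)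
    (hCK : Subgroup.centralizer (P : Set G) ≤ K)
    (mu : invAlg k (Subgroup.centralizer (P : Set G)) (Subgroup.centralizer (P : Set G)) →ₐ[k] k) :
    ∃ i, ∃ hfix : Inv (K ⊔ P) (e i).1,
      mu (brHom hpk hP K (K ⊔ P) _ le_sup_right (hCK.trans le_sup_left)
        (centralizer_le_normalizer' P) ⟨(e i).1, (e i).2.1, hfix⟩) = 1 := by
  classical
  have hconj : ∀ (u : P) (i : ι), ∃ j, conjA (u : G) (e i).1 = (e j).1 := fun u i =>
    hf.exists_conj le_rfl (hPK u.2) (hPK u.2) i
  choose act hact using hconj
  have hinj : ∀ i j, (e i).1 = (e j).1 → i = j := fun i j h => hf.inj (Subtype.ext h)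
  letI : MulAction P ι :=
    { smul := act
      one_smul := fun i => hinj _ _ (by
        change (e (act 1 i)).1 = _
        rw [← hact, Subgroup.coe_one, conjA_one])
      mul_smul := fun u v i => hinj _ _ (by
        change (e (act (u * v) i)).1 = (e (act u (act v i))).1
        rw [← hact, ← hact, ← hact, Subgroup.coe_mul, conjA_conjA]) }
  have hsmul : ∀ (u : P) (i : ι), (e (u • i)).1 = conjA (u : G) (e i).1 :=
    fun u i => (hact u i).symm
  set y : ι → invAlg k (Subgroup.centralizer (P : Set G)) (Subgroup.centralizer (P : Set G)) := fun i =>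
    ⟨br P (e i).1, suppIn_br P _, inv_br (centralizer_le_normalizer' P) ((e i).2.2.mono hCK)⟩
  have hyfix : ∀ (u : P) (i : ι), y (u • i) = y i := by
    intro u i
    refine Subtype.ext (MonoidAlgebra.ext (Finsupp.ext fun c => ?_))
    change (br P (e (u • i)).1).coeff c = (br P (e i).1).coeff c
    by_cases hc : c ∈ (Subgroup.centralizer (P : Set G))
    · rw [coeff_br_of_mem hc, coeff_br_of_mem hc, hsmul, coeff_conjA]
      congr 1
      have := Subgroup.mem_centralizer_iff.1 hc (u : G) u.2
      rw [mul_assoc, ← this, ← mul_assoc, inv_mul_cancel, one_mul]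
    · rw [suppIn_br P _ c hc, suppIn_br P _ c hc]
  have hsum : ∑ i, y i = 1 := by
    refine Subtype.ext (MonoidAlgebra.ext (Finsupp.ext fun c => ?_))
    rw [AddSubmonoidClass.coe_finsetSum, coeff_sum, Finsupp.finsetSum_apply]
    change ∑ i, (br P (e i).1).coeff c = _
    have h1 : ∑ i, (e i).1 = (1 : MonoidAlgebra k G) := by
      rw [← AddSubmonoidClass.coe_finsetSum, hf.sum_eq]; rfl
    by_cases hc : c ∈ (Subgroup.centralizer (P : Set G))
    · simp_rw [coeff_br_of_mem hc]
      rw [← Finsupp.finsetSum_apply, ← coeff_sum, h1]; rfl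
    · rw [Finset.sum_eq_zero fun i _ => suppIn_br P _ c hc]
      exact (((1 : invAlg k (Subgroup.centralizer (P : Set G)) (Subgroup.centralizer (P : Set G))).2).1 c hc).symm
  rw [sum_eq_sum_fixed (P := P) (fun a => by
    refine Subtype.ext ?_
    rw [AddSubmonoidClass.coe_nsmul, ← Nat.cast_smul_eq_nsmul k, hpk, zero_smul]; rfl) hP y
    hyfix] at hsum
  have h2 := congrArg mu hsum
  rw [map_sum, map_one] at h2
  obtain ⟨i, hi, hne⟩ := Finset.exists_ne_zero_of_sum_ne_zero (by rw [h2]; exact one_ne_zero)
  have hfix : Inv (K ⊔ P) (e i).1 := by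
    rw [inv_iff_conjA]
    intro h hh
    rw [Subgroup.sup_eq_closure] at hh
    induction hh using Subgroup.closure_induction with
    | mem g hg =>
      rcases hg with hg | hg
      · exact inv_iff_conjA.1 (e i).2.2 g hg
      · have := hsmul ⟨g, hg⟩ i
        rw [(Finset.mem_filter.1 hi).2 ⟨g, hg⟩] at this
        exact this.symm
    | one => exact conjA_one _
    | mul a b _ _ ha hb => rw [← conjA_conjA, hb, ha]
    | inv a _ ha => conv_lhs => rw [← ha, conjA_conjA, inv_mul_cancel, conjA_one]
  refine ⟨i, hfix, (algHom_idem _ ?_).resolve_left hne⟩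
  refine Subtype.ext ?_
  change br P (e i).1 * br P (e i).1 = br P (e i).1
  rw [← br_mul hpk hP (hfix.mono le_sup_right) (hfix.mono le_sup_right),
    ← Subalgebra.coe_mul, (hf.datum i).idem]

section Kernel

/-- Vectors on which a `p`-group of left multipliers acts unipotently in `n` steps. -/
noncomputable def unipSub (k : Type*) [Field k] (P : Subgroup G) :
    ℕ → Submodule k (MonoidAlgebra k G)
  | 0 => ⊥
  | n + 1 => ⨅ u : P, Submodule.comap
      (LinearMap.mulLeft k (single (u : G) (1 : k) - 1)) (unipSub k P n)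

theorem mem_unipSub_succ {P : Subgroup G} {n : ℕ} {v : MonoidAlgebra k G} :
    v ∈ unipSub k P (n + 1) ↔ ∀ u : P, single (u : G) (1 : k) * v - v ∈ unipSub k P n := by
  simp [unipSub, sub_mul]

theorem single_mul_mem_unipSub {P : Subgroup G} {g : G}
    (hg : g ∈ Subgroup.normalizer (P : Set G)) (n : ℕ) {v : MonoidAlgebra k G}
    (hv : v ∈ unipSub k P n) : single g (1 : k) * v ∈ unipSub k P n := by
  induction n generalizing v with
  | zero => simp [unipSub] at hv ⊢; simp [hv]
  | succ n ih =>
    rw [mem_unipSub_succ] at hv ⊢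
    intro u
    have hu : g⁻¹ * u * g ∈ P := (Subgroup.mem_normalizer_iff''.1 hg u).1 u.2
    have := ih (hv ⟨_, hu⟩)
    rw [mul_sub, ← mul_assoc, single_mul_single] at this
    rw [← mul_assoc, single_mul_single]
    simpa [mul_assoc] using this

theorem unipSub_mono (P : Subgroup G) (n : ℕ) : unipSub k P n ≤ unipSub k P (n + 1) := by
  intro v hv
  rw [mem_unipSub_succ]
  exact fun u => Submodule.sub_mem _ (single_mul_mem_unipSub (P.le_normalizer u.2) n hv) hv

theorem exists_unipSub_top (hpk : (p : k) = 0) {P : Subgroup G} (hP : IsPGroup p P) :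
    ∃ n, unipSub k P n = ⊤ := by
  let f : (G →₀ k) →ₗ[k] MonoidAlgebra k G :=
    { toFun := ofCoeff
      map_add' := fun _ _ => rfl
      map_smul' := fun r z => by ext; simp }
  haveI : Module.Finite k (MonoidAlgebra k G) :=
    Module.Finite.of_surjective f (fun x => ⟨x.coeff, rfl⟩)
  obtain ⟨n, hn⟩ := WellFoundedGT.monotone_chain_condition
    ⟨unipSub k P, monotone_nat_of_le_succ (unipSub_mono P)⟩
  refine ⟨n, ?_⟩
  have hstab : unipSub k P (n + 1) = unipSub k P n := (hn (n + 1) (Nat.le_succ n)).symm
  set W := unipSub k P n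
  by_contra htop
  obtain ⟨v, -, hv⟩ := SetLike.exists_of_lt (lt_top_iff_ne_top.2 htop)
  let act : P → (MonoidAlgebra k G ⧸ W) →ₗ[k] (MonoidAlgebra k G ⧸ W) := fun u =>
    Submodule.mapQ W W (LinearMap.mulLeft k (single (u : G) (1 : k)))
      fun z hz => single_mul_mem_unipSub (P.le_normalizer u.2) n hz
  have hact : ∀ (u : P) z, act u (Submodule.Quotient.mk z) =
      Submodule.Quotient.mk (single (u : G) (1 : k) * z) := fun u z => rfl
  letI : MulAction P (MonoidAlgebra k G ⧸ W) :=
    { smul := fun u z => act u z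
      one_smul := fun z => by
        induction z using Submodule.Quotient.induction_on with
        | _ z =>
          change act 1 _ = _
          rw [hact, Subgroup.coe_one, ← one_def, one_mul]
      mul_smul := fun u w z => by
        induction z using Submodule.Quotient.induction_on with
        | _ z =>
          change act (u * w) _ = act u (act w _)
          rw [hact, hact, hact, Subgroup.coe_mul, ← mul_assoc, single_mul_single, one_mul] }
  set v' : MonoidAlgebra k G ⧸ W := Submodule.Quotient.mk v
  set S : AddSubgroup (MonoidAlgebra k G ⧸ W) := AddSubgroup.closure (MulAction.orbit P v')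
  have hSsmul : ∀ (u : P) z, z ∈ S → u • z ∈ S := by
    intro u z hz
    induction hz using AddSubgroup.closure_induction with
    | mem z hz =>
      obtain ⟨w, rfl⟩ := hz
      exact AddSubgroup.subset_closure ⟨u * w, mul_smul u w v'⟩
    | zero => change act u 0 ∈ S; rw [map_zero]; exact S.zero_mem
    | add a b _ _ ha hb => change act u (a + b) ∈ S; rw [map_add]; exact S.add_mem ha hb
    | neg a _ ha => change act u (-a) ∈ S; rw [map_neg]; exact S.neg_mem ha
  have hpS : ∀ z : S, p • z = 0 := fun z => Subtype.ext (by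
    rw [AddSubgroupClass.coe_nsmul, ← Nat.cast_smul_eq_nsmul k, hpk, zero_smul]; rfl)
  haveI : AddGroup.FG S := (AddGroup.fg_iff_addSubgroup_fg S).2
    ((AddSubgroup.fg_iff S).2 ⟨_, rfl, Set.finite_range _⟩)
  haveI : Finite S := AddCommGroup.finite_of_fg_isAddTorsion S
    (fun z => isOfFinAddOrder_iff_nsmul_eq_zero.2 ⟨p, (Fact.out : p.Prime).pos, hpS z⟩)
  letI : MulAction P S :=
    { smul := fun u z => ⟨u • z.1, hSsmul u z.1 z.2⟩
      one_smul := fun z => Subtype.ext (one_smul P z.1)
      mul_smul := fun u w z => Subtype.ext (mul_smul u w z.1) }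
  have hv' : v' ≠ 0 := fun h => hv ((Submodule.Quotient.mk_eq_zero W).1 h)
  have hdvd : p ∣ Nat.card S := by
    have h0 : (⟨v', AddSubgroup.subset_closure (MulAction.mem_orbit_self v')⟩ : S) ≠ 0 :=
      fun h => hv' (congrArg Subtype.val h)
    rw [← addOrderOf_eq_prime (hpS _) h0]
    exact addOrderOf_dvd_natCard _
  obtain ⟨z, hz, hne⟩ := hP.exists_fixed_point_of_prime_dvd_card_of_fixed_point S hdvd
    (a := 0) (fun u => Subtype.ext (map_zero (act u)))
  obtain ⟨z₀, hz₀⟩ := Submodule.Quotient.mk_surjective W z.1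
  refine hne (Subtype.ext ?_).symm
  rw [← hz₀, ZeroMemClass.coe_zero, Submodule.Quotient.mk_eq_zero, ← hstab, mem_unipSub_succ]
  intro u
  rw [← Submodule.Quotient.eq, ← hact, hz₀]
  exact congrArg Subtype.val (hz u)

/-- An element fixed by a `p`-subgroup `P`, supported in the normaliser of `P` and killed by the
Brauer map at `P`, is nilpotent. -/
theorem isNilpotent_of_br_eq_zero (hpk : (p : k) = 0) {P : Subgroup G} (hP : IsPGroup p P)
    {x : MonoidAlgebra k G} (hxs : SuppIn (Subgroup.normalizer (P : Set G)) x) (hxi : Inv P x)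
    (hbr : br P x = 0) : IsNilpotent x := by
  classical
  have step : ∀ n, ∀ v ∈ unipSub k P (n + 1), x * v ∈ unipSub k P n := by
    intro n v hv
    set W := unipSub k P n
    rw [← Submodule.Quotient.mk_eq_zero W]
    have hx : x * v = ∑ g, x.coeff g • (single g (1 : k) * v) := by
      conv_lhs => rw [← sum_coeff_single x]
      rw [Finsupp.sum_fintype _ _ (by simp), Finset.sum_mul]
      refine Finset.sum_congr rfl fun g _ => ?_
      rw [← smul_mul_assoc]
      simp
    rw [hx, ← Submodule.mkQ_apply, map_sum]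
    letI : MulAction P G := MulAction.compHom G (MulAut.conj.comp P.subtype)
    rw [sum_eq_sum_fixed (P := P) (fun a => by
      rw [← Nat.cast_smul_eq_nsmul k, hpk, zero_smul]) hP]
    · refine Finset.sum_eq_zero fun g hg => ?_
      have hgC : g ∈ Subgroup.centralizer (P : Set G) := by
        rw [Subgroup.mem_centralizer_iff]
        intro u hu
        exact mul_inv_eq_iff_eq_mul.1 ((Finset.mem_filter.1 hg).2 ⟨u, hu⟩)
      have h0 := congrArg (fun z : MonoidAlgebra k G => z.coeff g) hbr
      simp only [coeff_br_of_mem hgC, coeff_zero, Finsupp.coe_zero, Pi.zero_apply] at h0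
      simp [h0]
    · intro u g
      change W.mkQ (x.coeff ((u : G) * g * (u : G)⁻¹) • _) = _
      rw [hxi u u.2 g]
      by_cases hgN : g ∈ Subgroup.normalizer (P : Set G)
      · simp only [map_smul, Submodule.mkQ_apply]
        congr 1
        rw [Submodule.Quotient.eq]
        have hw : g⁻¹ * (u : G) * g * (u : G)⁻¹ ∈ P :=
          P.mul_mem ((Subgroup.mem_normalizer_iff''.1 hgN u).1 u.2) (P.inv_mem u.2)
        have := single_mul_mem_unipSub hgN n (mem_unipSub_succ.1 hv ⟨_, hw⟩)
        rw [mul_sub, ← mul_assoc, single_mul_single, one_mul] at this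
        rw [show u • g = g * (g⁻¹ * (u : G) * g * (u : G)⁻¹) by
          change (u : G) * g * (u : G)⁻¹ = _; group]
        exact this
      · simp [hxs g hgN]
  obtain ⟨n, hn⟩ := exists_unipSub_top (k := k) hpk hP
  refine ⟨n, ?_⟩
  have : ∀ m, ∀ v ∈ unipSub k P m, x ^ m * v = 0 := by
    intro m
    induction m with
    | zero => intro v hv; simpa [unipSub] using hv
    | succ m ih => intro v hv; rw [pow_succ, mul_assoc]; exact ih _ (step m v hv)
  simpa using this n 1 (hn ▸ Submodule.mem_top)

/-- Invariant idempotents of the normaliser are supported in the centraliser. -/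
theorem br_idempotent_eq (hpk : (p : k) = 0) {P T : Subgroup G} (hP : IsPGroup p P)
    (hTN : T ≤ Subgroup.normalizer (P : Set G)) (hPT : P ≤ T) {x : MonoidAlgebra k G}
    (hx : x ∈ invAlg k T T) (hidem : x * x = x) (hC : Subgroup.centralizer (P : Set G) ≤ T) :
    br P x = x := by
  have hbs : SuppIn T (br P x) := (suppIn_br P x).mono hC
  have hbi : Inv T (br P x) := inv_br hTN hx.2
  have hbidem : br P x * br P x = br P x := by
    rw [← br_mul hpk hP (hx.2.mono hPT) (hx.2.mono hPT), hidem]
  refine (idempotent_eq_of_sub_nilpotent hidem hbidem (commute_of_inv hx.1 hbi) ?_).symm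
  refine isNilpotent_of_br_eq_zero hpk hP (fun g hg => ?_) (fun u hu g => ?_) ?_
  · have hgT : g ∉ T := fun h => hg (hTN h)
    simp [hx.1 g hgT, hbs g hgT]
  · simp [hx.2 u (hPT hu) g, hbi u (hPT hu) g]
  · classical
    ext g
    by_cases hg : g ∈ Subgroup.centralizer (P : Set G) <;> simp [coeff_br, hg]

end Kernel

section Maximal

/-- The key step for maximal pairs: a block `e` of `C(P)` with stabiliser `T`, whose defect
subgroup in `T` is `P` itself, sits below a block of `G` with defect subgroup `P`. -/
theorem isDefectSub_of_stabilizer (hpk : (p : k) = 0) {P T : Subgroup G} (hP : IsPGroup p P)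
    {C : Subgroup G} (hC : C = Subgroup.centralizer (P : Set G))
    {ι : Type*} [Fintype ι] {e : ι → invAlg k C C} {lam : ι → invAlg k C C →ₐ[k] k}
    (hf : IsBlockFamily e lam) (i : ι)
    (hT : ∀ g, g ∈ T ↔ g ∈ Subgroup.normalizer (P : Set G) ∧ conjA g (e i).1 = (e i).1)
    (hD : IsDefectSub p T P (e i).1) {E : invAlg k ⊤ ⊤} {Lam : invAlg k ⊤ ⊤ →ₐ[k] k}
    (hB : IsBlockDatum E Lam)
    (hBe : ∀ x : invAlg k ⊤ ⊤, ∀ y : invAlg k C C, y.1 = br P x.1 → Lam x = lam i y) :
    IsDefectSub p ⊤ P E.1 := by
  classical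
  subst hC
  have hCT : (Subgroup.centralizer (P : Set G)) ≤ T := fun g hg => (hT g).2
    ⟨centralizer_le_normalizer' P hg, inv_iff_conjA.1 (e i).2.2 g hg⟩
  have hTN : T ≤ Subgroup.normalizer (P : Set G) := fun g hg => ((hT g).1 hg).1
  have hNC : Subgroup.normalizer (P : Set G) ≤ Subgroup.normalizer ((Subgroup.centralizer (P : Set G)) : Set G) := by
    intro g hg
    rw [Subgroup.mem_normalizer_iff]
    intro c
    simp only [Subgroup.mem_centralizer_iff, SetLike.mem_coe]
    constructor
    · intro H1 u hu
      have h2 := H1 (g⁻¹ * u * g) ((Subgroup.mem_normalizer_iff''.1 hg u).1 hu)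
      calc u * (g * c * g⁻¹) = g * (g⁻¹ * u * g * c) * g⁻¹ := by group
        _ = g * (c * (g⁻¹ * u * g)) * g⁻¹ := by rw [h2]
        _ = g * c * g⁻¹ * u := by group
    · intro H1 u hu
      have h2 := H1 (g * u * g⁻¹) ((Subgroup.mem_normalizer_iff.1 hg u).1 hu)
      calc u * c = g⁻¹ * (g * u * g⁻¹ * (g * c * g⁻¹)) * g := by group
        _ = g⁻¹ * (g * c * g⁻¹ * (g * u * g⁻¹)) * g := by rw [h2]
        _ = c * u := by group
  have hTC : T ≤ Subgroup.normalizer ((Subgroup.centralizer (P : Set G)) : Set G) := hTN.trans hNC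
  have heT : Inv T (e i).1 := inv_iff_conjA.2 fun g hg => ((hT g).1 hg).2
  set e' : invAlg k (Subgroup.centralizer (P : Set G)) T := ⟨(e i).1, (e i).2.1, heT⟩
  have hb' : IsBlockDatum e' ((lam i).comp (inclHom hCT)) :=
    (hf.datum i).restrict hCT e' rfl
  obtain ⟨c, hcC, hc, hl⟩ := hb'.exists_class hTC
  set K : invAlg k (Subgroup.centralizer (P : Set G)) T := ⟨classSum k T c, classSum_mem hTC hcC⟩
  have hKD : InDefectIdeal p T P K.1 := by
    intro y hy R hR hRT hRy
    obtain ⟨u, hu, rfl⟩ := (classSum_ne_zero_iff c y).1 hy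
    exact hD.2.2.1 (u * c * u⁻¹) (by rw [(e i).2.1 |> fun _ => heT u hu c]; exact hc) R hR hRT hRy
  set a : invAlg k (Subgroup.centralizer (P : Set G)) T := e' * K
  have haD : InDefectIdeal p T P a.1 := by
    have : a.1 = K.1 * e'.1 := (commute_of_inv e'.2.1 (K.2.2.mono hCT)).eq
    rw [this]
    exact hKD.mul hpk K.2.2 e'.2.2
  have hla : lam i (inclHom hCT a) ≠ 0 := by
    rw [map_mul, map_mul, show inclHom hCT e' = e i from Subtype.ext rfl, (hf.datum i).map_e,
      one_mul]
    exact hl
  set w : invAlg k ⊤ ⊤ := ⟨trace T a.1, suppIn_top _, inv_trace T a.2.2⟩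
  have hwD : InDefectIdeal p ⊤ P w.1 := InDefectIdeal.trace hpk a.2.2 haD
  have hconjC : ∀ g ∈ Subgroup.normalizer (P : Set G), conjA g a.1 ∈ invAlg k (Subgroup.centralizer (P : Set G)) (Subgroup.centralizer (P : Set G)) := fun g hg =>
    conjA_mem (hNC hg) (hNC hg) (invAlg_mono le_rfl hCT a.2)
  letI := Fintype.ofFinite (G ⧸ T)
  let N := Finset.univ.filter fun q : G ⧸ T => q.out ∈ Subgroup.normalizer (P : Set G)
  let y : invAlg k (Subgroup.centralizer (P : Set G)) (Subgroup.centralizer (P : Set G)) := ∑ q ∈ N.attach,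
    ⟨conjA (q.1).out a.1, hconjC _ (Finset.mem_filter.1 q.2).2⟩
  have hy : y.1 = br P w.1 := by
    refine MonoidAlgebra.ext (Finsupp.ext fun x => ?_)
    simp only [y, AddSubmonoidClass.coe_finsetSum, coeff_sum, Finsupp.finsetSum_apply]
    rw [Finset.sum_attach N (fun q => (conjA q.out a.1).coeff x)]
    by_cases hx : x ∈ (Subgroup.centralizer (P : Set G))
    · change _ = (br P (trace T a.1)).coeff x
      rw [coeff_br_of_mem hx, coeff_trace, sum_eq_sum_fixed (P := P)
        (fun b => by rw [nsmul_eq_mul, hpk, zero_mul]) hP]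
      · simp only [coeff_conjA]
        rw [Finset.sum_filter, Finset.sum_filter]
        refine Finset.sum_congr rfl fun q _ => ?_
        by_cases hne : a.1.coeff (q.out⁻¹ * x * q.out) = 0
        · simp [hne]
        have hiff : q.out ∈ Subgroup.normalizer (P : Set G) ↔
            q ∈ MulAction.fixedPoints P (G ⧸ T) := by
          constructor
          · intro hq u
            conv_rhs => rw [← QuotientGroup.out_eq' q]
            conv_lhs => rw [← QuotientGroup.out_eq' q]
            change (((u : G) * q.out : G) : G ⧸ T) = _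
            rw [QuotientGroup.eq]
            have h1 := hD.1 (P.inv_mem ((Subgroup.mem_normalizer_iff''.1 hq u).1 u.2))
            simpa [mul_assoc] using h1
          · intro hq
            set g := q.out
            have hgT : ∀ r ∈ P, g⁻¹ * r * g ∈ T := by
              intro r hr
              have h1 : (((r * g : G)) : G ⧸ T) = (g : G ⧸ T) := by
                change ((⟨r, hr⟩ : P) • ((g : G) : G ⧸ T)) = _
                rw [QuotientGroup.out_eq']
                exact hq ⟨r, hr⟩
              have h2 := T.inv_mem (QuotientGroup.eq.1 h1)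
              simpa [mul_assoc] using h2
            set P' := P.map (MulAut.conj g⁻¹).toMonoidHom
            have hP'T : P' ≤ T := by rintro _ ⟨r, hr, rfl⟩; simpa using hgT r hr
            have hP'c : P' ≤ Subgroup.centralizer ({g⁻¹ * x * g} : Set G) := by
              rintro _ ⟨r, hr, rfl⟩
              rw [Subgroup.mem_centralizer_iff]
              intro z hz
              rw [Set.mem_singleton_iff] at hz
              subst hz
              have := Subgroup.mem_centralizer_iff.1 hx r hr
              simp only [MulEquiv.coe_toMonoidHom, MulAut.conj_apply]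
              calc g⁻¹ * x * g * (g⁻¹ * r * g⁻¹⁻¹) = g⁻¹ * (x * r) * g := by group
                _ = g⁻¹ * (r * x) * g := by rw [this]
                _ = g⁻¹ * r * g⁻¹⁻¹ * (g⁻¹ * x * g) := by group
            have hPc : P ≤ Subgroup.centralizer ({g⁻¹ * x * g} : Set G) :=
              le_centralizer_singleton_iff.2 (by_contra fun h => hne (a.2.1 _ h))
            obtain ⟨h, hh, hhR⟩ := haD _ hne (P' ⊔ P)
              ((hP.map _).to_sup_of_normal_right' hP (hP'T.trans hTN)) (sup_le hP'T hD.1)
              (sup_le hP'c hPc)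
            rw [Subgroup.mem_normalizer_iff''] at *
            intro r
            have hle : P' ≤ P := by
              intro r hr
              have h1 := hhR r (Subgroup.mem_sup_left hr)
              have h2 := (Subgroup.mem_normalizer_iff''.1 (hTN hh) _).1 h1
              simpa [mul_assoc] using h2
            have heq : P' = P := Subgroup.eq_of_le_of_card_ge hle
              (le_of_eq (Subgroup.card_map_of_injective (MulEquiv.injective _)).symm)
            constructor
            · intro hr; rw [← heq]; exact ⟨r, hr, by simp [MulAut.conj_apply]⟩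
            · intro hr
              rw [← heq] at hr
              obtain ⟨r', hr', he⟩ := hr
              simp only [MulEquiv.coe_toMonoidHom, MulAut.conj_apply, inv_inv] at he
              have : r' = r := by simpa using he
              exact this ▸ hr'
        by_cases hq : q.out ∈ Subgroup.normalizer (P : Set G)
        · rw [if_pos hq, if_pos (hiff.1 hq)]
        · rw [if_neg hq, if_neg fun h => hq (hiff.2 h)]
      · intro r q
        rw [conj_eq_of_mk_eq a.2.2 (a := (r • q).out) (b := (r : G) * q.out)]
        · have h1 := Subgroup.mem_centralizer_iff.1 hx r r.2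
          congr 1
          rw [show ((r : G) * q.out)⁻¹ * x * ((r : G) * q.out) =
            q.out⁻¹ * (r : G)⁻¹ * (x * r) * q.out by group, ← h1]
          group
        · rw [QuotientGroup.out_eq']
          conv_lhs => rw [← QuotientGroup.out_eq' q]
          rfl
    · rw [show (br P w.1).coeff x = 0 from suppIn_br P _ x hx]
      exact Finset.sum_eq_zero fun q hq => (hconjC _ (Finset.mem_filter.1 hq).2).1 x hx
  have hlw : Lam w = lam i (inclHom hCT a) := by
    rw [hBe w y hy, map_sum]
    have h1N : ((1 : G) : G ⧸ T) ∈ N := by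
      refine Finset.mem_filter.2 ⟨Finset.mem_univ _, hTN ?_⟩
      simpa using T.inv_mem ((QuotientGroup.eq.1
        (QuotientGroup.out_eq' ((1 : G) : G ⧸ T))))
    rw [Finset.sum_eq_single (⟨_, h1N⟩ : {q // q ∈ N})]
    · congr 1
      refine Subtype.ext ?_
      change conjA _ a.1 = a.1
      refine inv_iff_conjA.1 a.2.2 _ ?_
      simpa using T.inv_mem ((QuotientGroup.eq.1 (QuotientGroup.out_eq' ((1 : G) : G ⧸ T))))
    · intro q _ hq
      have hgN : (q.1).out ∈ Subgroup.normalizer (P : Set G) := (Finset.mem_filter.1 q.2).2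
      set g := (q.1).out
      obtain ⟨j, hj⟩ := hf.exists_conj le_rfl (hNC hgN) (hNC hgN) i
      have hij : i ≠ j := by
        intro h
        subst h
        refine hq (Subtype.ext ?_)
        change q.1 = ((1 : G) : G ⧸ T)
        rw [← QuotientGroup.out_eq' q.1, QuotientGroup.eq, mul_one]
        exact T.inv_mem ((hT g).2 ⟨hgN, hj⟩)
      have : (⟨conjA g a.1, hconjC g hgN⟩ : invAlg k (Subgroup.centralizer (P : Set G)) (Subgroup.centralizer (P : Set G))) =
          e j * ⟨conjA g K.1, conjA_mem (hNC hgN) (hNC hgN) (invAlg_mono le_rfl hCT K.2)⟩ := by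
        refine Subtype.ext ?_
        change conjA g (e'.1 * K.1) = (e j).1 * conjA g K.1
        rw [conjA_mul, ← hj]
      rw [this, map_mul, hf.map_of_ne hij, zero_mul]
    · intro h; exact absurd (Finset.mem_attach _ _) h
  refine ⟨le_top, hP, hB.inDefectIdeal hpk le_top (a := w) (hlw ▸ hla) hwD, fun h0 => ?_⟩
  have := hBe E 0 (by rw [h0]; rfl)
  rw [hB.map_e, map_zero] at this
  exact one_ne_zero this

end Maximal

end CfsgLib.BlockAlg
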