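import Cfsg.Agent.Lib.Blocks.Kulshammer
import Cfsg.Agent.Lib.BlockCover.Defect
import Cfsg.Agent.Lib.Characters.Values

/-!
# Knörr's theorem on characters vanishing on elements of order `p`
-/

set_option autoImplicit false
set_option linter.style.haveILetI false

namespace CfsgLib.Blocks

open Cfsg MonoidAlgebra CfsgLib.Characters
open CfsgLib.BlockAlg (coeff_br_of_mem)
open scoped ComplexConjugate

variable {G : Type*} [Group G]

open scoped Classical in
/-- The sum of the elements killed by `p`. -/
noncomputable def omegaSum (k : Type*) [CommSemiring k] (G : Type*) [Group G] [Finite G] (p : ℕ) :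
    MonoidAlgebra k G :=
  Blocks.ofFun fun x => if x ^ p = 1 then 1 else 0

theorem omegaSum_mem_center [Finite G] (k : Type*) [CommSemiring k] (p : ℕ) :
    omegaSum k G p ∈ Subalgebra.center k (MonoidAlgebra k G) := by
  classical
  rw [mem_center_iff_coeff]
  intro g h
  simp only [omegaSum, Blocks.coeff_ofFun, conj_pow]
  refine if_congr ⟨fun hh => ?_, fun hh => by rw [hh]; group⟩ rfl rfl
  have := congrArg (fun t => h⁻¹ * t * h) hh
  simpa [mul_assoc] using this

variable {p : ℕ} {M : Ideal AlgInt} [Fact p.Prime]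

/-- In a group with a central element of order `p` the sums over shifted `p`-elements of an
idempotent times the elements killed by `p` vanish. -/
theorem pEltSum_omegaSum_mul {k : Type*} [CommRing k] [IsReduced k] [CharP k p] {C : Type*} [Group C]
    [Fintype C] {e : MonoidAlgebra k C} (he : IsIdempotentElem e)
    (hec : e ∈ Subalgebra.center k (MonoidAlgebra k C)) {z : C} (hz : orderOf z = p)
    (hzc : z ∈ Subgroup.center C) (y : C) :
    pEltSum p (omegaSum k C p * e * single y⁻¹ (1 : k)) = 0 := by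
  classical
  have hp : p.Prime := Fact.out
  have hcomm : ∀ w, Commute e w := fun w => (Subalgebra.mem_center_iff.1 hec w).symm
  have hf : ∀ g : C, (omegaSum k C p * e).coeff g ^ p = e.coeff (g ^ p) := by
    intro g
    have h1 := coeff_one_pow_prime_pow (p := p) (CharP.cast_eq_zero k p)
      (e * single g⁻¹ (1 : k)) 1
    rw [pow_one, (hcomm (single g⁻¹ (1 : k))).mul_pow, he.pow_eq hp.ne_zero, single_pow, one_pow,
      coeff_mul_single_apply, mul_one, inv_pow, inv_inv, one_mul] at h1
    simp only [coeff_mul_single_apply, inv_inv, mul_one] at h1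
    rw [h1, ← sum_pow_char p]
    congr 1
    rw [CfsgLib.BlockAlg.coeff_mul_sum, Finset.sum_filter]
    refine Fintype.sum_equiv (Equiv.inv C) _ _ fun x => ?_
    simp [omegaSum, inv_pow]
  have h0 : pEltSum p (omegaSum k C p * e * single y⁻¹ (1 : k)) ^ p =
      ∑ a ∈ Finset.univ.filter (fun a : C => ∃ j : ℕ, orderOf a = p ^ j), e.coeff ((a * y) ^ p) := by
    rw [pEltSum, sum_pow_char p]
    refine Finset.sum_congr rfl fun a _ => ?_
    rw [coeff_mul_single_apply, inv_inv, mul_one, hf]
  refine IsNilpotent.eq_zero ⟨p, ?_⟩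
  rw [h0, Finset.sum_filter]
  have hne : z ≠ 1 := fun h => hp.ne_one (by rw [← hz, h, orderOf_one])
  have hP : IsPGroup p (Subgroup.zpowers z) :=
    IsPGroup.of_card (n := 1) (by rw [Nat.card_zpowers, hz, pow_one])
  rw [CfsgLib.BlockAlg.sum_eq_sum_fixed (P := Subgroup.zpowers z)
    (fun b => by rw [nsmul_eq_mul, CharP.cast_eq_zero k p, zero_mul]) hP]
  · refine Finset.sum_eq_zero fun a ha => absurd ?_ hne
    have h3 : z * a = a := (Finset.mem_filter.1 ha).2 ⟨z, Subgroup.mem_zpowers z⟩
    exact mul_eq_right.1 h3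
  · rintro ⟨u, hu⟩ a
    obtain ⟨j, rfl⟩ := Subgroup.mem_zpowers_iff.1 hu
    show (if (∃ i : ℕ, orderOf (z ^ j * a) = p ^ i) then e.coeff ((z ^ j * a * y) ^ p) else 0) = _
    have hwc : ∀ b : C, Commute (z ^ j) b := fun b =>
      (Subgroup.mem_center_iff.1 ((Subgroup.center C).zpow_mem hzc j) b).symm
    have hwp : (z ^ j) ^ p = 1 := by
      rw [← zpow_natCast, ← zpow_mul, mul_comm, zpow_mul, zpow_natCast, ← hz, pow_orderOf_eq_one,
        one_zpow]
    rw [mul_assoc, (hwc (a * y)).mul_pow, hwp, one_mul]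
    refine if_congr ?_ rfl rfl
    set n := (Nat.card C).factorization p
    rw [← pow_eq_one_iff_pElement (Nat.le_succ n), ← pow_eq_one_iff_pElement (Nat.le_succ n),
      (hwc a).mul_pow, pow_succ' p n, pow_mul (z ^ j), hwp, one_pow, one_mul]

variable [Fintype G]

open CfsgLib.BlockCover in
/-- Knörr: an irreducible character vanishing on all elements of order `p` has full defect degree. -/
theorem knorr (hM : IsPModular p M) (χ : IrrCharacter G)
    (hvan : ∀ g : G, orderOf g = p → (χ : G → ℂ) g = 0) :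
    (charDegree (χ : G → ℂ)).factorization p = (Nat.card G).factorization p := by
  classical
  haveI := IsPModular.isMaximal hM
  letI := Ideal.Quotient.field M
  haveI := charP_residue hM
  have hp : p.Prime := Fact.out
  set B := blockOf M (χ : G → ℂ)
  have hB : IsPBlock M B := isPBlock_blockOf χ
  have hχB : χ ∈ B := mem_blockOf_self hM χ
  let Z := Subalgebra.center (AlgInt ⧸ M) (MonoidAlgebra (AlgInt ⧸ M) G)
  let e : Z := ⟨blockIdemRes hM B, blockIdemRes_mem_center hM B⟩
  let W : Z := ⟨omegaSum (AlgInt ⧸ M) G p, omegaSum_mem_center _ p⟩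
  -- the value of the central character at the elements killed by `p`
  have hΩ : ∀ x : G, MemLocalRing M ((omegaSum ℂ G p).coeff x) := by
    intro x
    simp only [omegaSum, Blocks.coeff_ofFun]
    split_ifs
    · exact (lRing hM).one_mem
    · exact (lRing hM).zero_mem
  have hred : redAlg hM (omegaSum ℂ G p) = omegaSum (AlgInt ⧸ M) G p := by
    ext x
    simp only [coeff_redAlg, omegaSum, Blocks.coeff_ofFun]
    split_ifs <;> simp [lResD_one, lResD_zero]
  have hW : lamB hM χ W = 1 := by
    rw [lamB_apply]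
    show lamFun hM χ (omegaSum (AlgInt ⧸ M) G p) = 1
    rw [← hred, lamFun_redAlg hM χ (omegaSum_mem_center ℂ p) hΩ, omega_apply]
    have : ∑ x : G, (omegaSum ℂ G p).coeff x * (χ : G → ℂ) x = (χ : G → ℂ) 1 := by
      rw [Finset.sum_eq_single (1 : G)]
      · simp [omegaSum]
      · intro x _ hx
        simp only [omegaSum, Blocks.coeff_ofFun]
        split_ifs with h
        · rw [hvan x ((orderOf_eq_prime h hx)), mul_zero]
        · rw [zero_mul]
      · simp
    rw [this, div_self (irr_one_ne_zero χ), lResD_one]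
  have hnil : IsNilpotent (W * e - e) := isNilpotent_of_lamB_eq_zero hM fun φ => by
    rw [map_sub (lamB hM φ), map_mul, lamB_blockIdemRes hM hB]
    split_ifs with hφ
    · rw [← (sameBlock_iff_lamB hM χ φ).1 hφ, hW, mul_one, sub_self]
    · rw [mul_zero, sub_self]
  -- classes with nonzero coefficient have defect zero
  have hzero : ∀ y : G, lResD hM (blockCoeff B y) ≠ 0 →
      ¬ p ∣ Nat.card (Subgroup.centralizer ({y} : Set G)) := by
    intro y hy hdvd
    have hyreg : ¬ p ∣ orderOf y := fun h => hy (by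
      rw [blockCoeff_eq_zero_of_singular hM hB h, lResD_zero])
    obtain ⟨⟨z, hzy⟩, hz⟩ := exists_prime_orderOf_dvd_card' p hdvd
    rw [← Subgroup.orderOf_coe] at hz
    simp only at hz
    set Q := Subgroup.zpowers z
    have hQ : IsPGroup p Q := IsPGroup.of_card (n := 1) (by rw [Nat.card_zpowers, hz, pow_one])
    have hyC : y ∈ Subgroup.centralizer (Q : Set G) := by
      rw [Subgroup.mem_centralizer_iff]
      intro w hw
      obtain ⟨j, rfl⟩ := Subgroup.mem_zpowers_iff.1 hw
      exact (Commute.zpow_left ((Subgroup.mem_centralizer_iff.1 hzy y rfl).symm) j).eq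
    have hzC : z ∈ Subgroup.centralizer (Q : Set G) := by
      rw [Subgroup.mem_centralizer_iff]
      intro w hw
      obtain ⟨j, rfl⟩ := Subgroup.mem_zpowers_iff.1 hw
      exact (Commute.zpow_self z j).eq
    let br' := brCentre (p_eq_zero_residue hM) hQ (H := Subgroup.centralizer (Q : Set G)) le_rfl
      (Subgroup.centralizer_le_normalizer _)
    have hnilC := hnil.map br'
    rw [map_sub br', map_mul] at hnilC
    set eC : MonoidAlgebra (AlgInt ⧸ M) (Subgroup.centralizer (Q : Set G)) :=
      (br' e).val with heC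
    have hcoe : ∀ c : Subgroup.centralizer (Q : Set G),
        eC.coeff c = lResD hM (blockCoeff B (c : G)) := by
      intro c
      show (resH _ (CfsgLib.BlockAlg.br Q (blockIdemRes hM B))).coeff c = _
      rw [coeff_resH, coeff_br_of_mem c.2, coeff_blockIdemRes]
    have hWC : (br' W).val =
        omegaSum (AlgInt ⧸ M) (Subgroup.centralizer (Q : Set G)) p := by
      refine MonoidAlgebra.ext (Finsupp.ext fun c => ?_)
      show (resH _ (CfsgLib.BlockAlg.br Q (omegaSum (AlgInt ⧸ M) G p))).coeff c = _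
      rw [coeff_resH, coeff_br_of_mem c.2]
      simp only [omegaSum, Blocks.coeff_ofFun]
      have hiff : (c : G) ^ p = 1 ↔ c ^ p = 1 := by
        rw [← SubgroupClass.coe_pow, OneMemClass.coe_eq_one]
      by_cases hc : c ^ p = 1
      · rw [if_pos hc, if_pos (hiff.2 hc)]
      · rw [if_neg hc, if_neg (fun h => hc (hiff.1 h))]
    have heid : IsIdempotentElem eC := by
      have h1 : e * e = e := Subtype.ext (isIdempotentElem_blockIdemRes hM hB)
      show eC * eC = eC
      rw [heC, ← Subalgebra.coe_mul, ← map_mul, h1]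
    set y' : Subgroup.centralizer (Q : Set G) := ⟨y, hyC⟩
    have hnil2 : IsNilpotent ((omegaSum (AlgInt ⧸ M) (Subgroup.centralizer (Q : Set G)) p * eC - eC) *
        single y'⁻¹ (1 : AlgInt ⧸ M)) := by
      have h1 := hnilC.map (Subalgebra.center (AlgInt ⧸ M)
        (MonoidAlgebra (AlgInt ⧸ M) (Subgroup.centralizer (Q : Set G)))).val
      have h2 : IsNilpotent
          (omegaSum (AlgInt ⧸ M) (Subgroup.centralizer (Q : Set G)) p * eC - eC) := by
        rw [← hWC]; exact h1
      have hc : Commute (omegaSum (AlgInt ⧸ M) (Subgroup.centralizer (Q : Set G)) p * eC - eC)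
          (single y'⁻¹ (1 : AlgInt ⧸ M)) :=
        (Subalgebra.mem_center_iff.1 (sub_mem (mul_mem (omegaSum_mem_center _ p) (br' e).2)
          (br' e).2) _).symm
      exact hc.isNilpotent_mul_right h2
    have h0 := pEltSum_eq_zero_of_isNilpotent (p := p) hnil2
    have h1 := pEltSum_omegaSum_mul heid (br' e).2 (z := (⟨z, hzC⟩ : Subgroup.centralizer (Q : Set G)))
      (by rw [← Subgroup.orderOf_coe]; exact hz) (by
        rw [Subgroup.mem_center_iff]
        intro c
        exact Subtype.ext ((Subgroup.mem_centralizer_iff.1 c.2 z (Subgroup.mem_zpowers z)).symm)) y'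
    have h2 : pEltSum p (eC * single y'⁻¹ (1 : AlgInt ⧸ M)) = 0 := by
      have hsub : pEltSum p ((omegaSum (AlgInt ⧸ M) (Subgroup.centralizer (Q : Set G)) p * eC - eC) *
          single y'⁻¹ (1 : AlgInt ⧸ M)) =
          pEltSum p (omegaSum (AlgInt ⧸ M) (Subgroup.centralizer (Q : Set G)) p * eC *
            single y'⁻¹ (1 : AlgInt ⧸ M)) - pEltSum p (eC * single y'⁻¹ (1 : AlgInt ⧸ M)) := by
        rw [pEltSum, pEltSum, pEltSum, ← Finset.sum_sub_distrib]
        exact Finset.sum_congr rfl fun a _ => by rw [sub_mul, coeff_sub]; rfl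
      rw [hsub, h1, zero_sub, neg_eq_zero] at h0
      exact h0
    set c0 := (Nat.card (Subgroup.centralizer (Q : Set G))).factorization p
    set n := (c0 + 1) * Nat.totient (orderOf y')
    have hy' : ¬ p ∣ orderOf y' := by rwa [← Subgroup.orderOf_coe]
    have hn : c0 ≤ n := by
      calc c0 ≤ (c0 + 1) * 1 := by omega
        _ ≤ n := Nat.mul_le_mul_left _ (Nat.totient_pos.2 (orderOf_pos y'))
    have hyn : y' ^ p ^ n = y' := by
      conv_rhs => rw [← pow_one y']
      refine pow_eq_pow_iff_modEq.2 ?_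
      rw [show n = Nat.totient (orderOf y') * (c0 + 1) from mul_comm _ _, pow_mul]
      simpa using (Nat.ModEq.pow_totient ((hp.coprime_iff_not_dvd).2 hy')).pow (c0 + 1)
    have h3 := pEltSum_pow (p := p) (eC * single y'⁻¹ (1 : AlgInt ⧸ M)) hn
    have hcE : Commute eC (single y'⁻¹ (1 : AlgInt ⧸ M)) :=
      (Subalgebra.mem_center_iff.1 (br' e).2 _).symm
    rw [h2, zero_pow (pow_ne_zero _ hp.ne_zero), hcE.mul_pow, heid.pow_eq (pow_ne_zero _ hp.ne_zero),
      single_pow, one_pow, coeff_mul_single_apply, mul_one, inv_pow, inv_inv, one_mul, hyn, hcoe] at h3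
    exact hy h3.symm
  -- a defect class
  obtain ⟨g, hgR, hg1, hg2⟩ := exists_isDefectClass hM hB
  have hg := hzero g (by rw [Ne, lResD_eq_zero_iff hM hgR]; exact hg1)
  have h1 := factorization_index_le_of_centralChar hM (hg2 χ hχB)
  have h2 := factorization_card_eq (p := p) (Subgroup.centralizer ({g} : Set G))
  rw [Nat.factorization_eq_zero_of_not_dvd hg, zero_add] at h2
  refine le_antisymm ?_ (h2 ▸ h1)
  obtain ⟨d, hd1, -, hd2⟩ := irr_degree_dvd_card χ
  have hdeg : charDegree (χ : G → ℂ) = d := by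
    rw [charDegree, hd1, Complex.natCast_re, Nat.floor_natCast]
  rw [hdeg]
  exact (Nat.factorization_le_iff_dvd (by rintro rfl; simp at hd2) Nat.card_pos.ne').2 hd2 p

/-- A modular maximal ideal exists. -/
theorem exists_isPModular : ∃ M : Ideal AlgInt, IsPModular p M := by
  have hp : p.Prime := Fact.out
  obtain ⟨M, hM, hpM⟩ := Ideal.exists_le_maximal (Ideal.span {(p : AlgInt)}) (by
    rw [Ne, Ideal.span_singleton_eq_top]
    intro h
    obtain ⟨b, hb⟩ := isUnit_iff_exists_inv.1 h
    have hint : IsIntegral ℤ (((1 / p : ℚ)) : ℂ) := by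
      have : ((1 / p : ℚ) : ℂ) = (b : ℂ) := by
        have h2 : (p : ℂ) * (b : ℂ) = 1 := by exact_mod_cast congrArg Subtype.val hb
        push_cast
        rw [eq_comm, eq_div_iff (by exact_mod_cast hp.ne_zero), mul_comm, h2]
      rw [this]
      exact b.2
    obtain ⟨w, hw⟩ := exists_int_of_isIntegral_rat hint
    have h3 : (w : ℚ) * p = 1 := by rw [hw]; field_simp [hp.ne_zero]
    have h4 : (p : ℤ) ∣ 1 := ⟨w, by rw [mul_comm]; exact_mod_cast h3.symm⟩
    exact hp.not_dvd_one (by exact_mod_cast h4))
  exact ⟨M, hp, hM, hpM (Ideal.mem_span_singleton_self _)⟩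

end CfsgLib.Blocks
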