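import Cfsg.Agent.Lib.Blocks.DefectInduced
import Cfsg.Agent.Lib.BlockCover.Defect
import Cfsg.Agent.Lib.PCore.Basic
import Mathlib.GroupTheory.Sylow

/-!
# Brauer's First Main Theorem, classes with a given defect group
-/

set_option autoImplicit false
set_option linter.style.haveILetI false

namespace CfsgLib.Blocks

open Cfsg MonoidAlgebra CfsgLib.Characters
open CfsgLib.BlockAlg (coeff_br_of_mem)

section Classes

variable {G : Type*} [Group G] [Finite G] {p : ℕ} [Fact p.Prime]

/-- `P` is a Sylow subgroup of the centralizer of `g`. -/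
theorem card_eq_of_sylow_map {C P : Subgroup G} (S : Sylow p C)
    (h : (S : Subgroup C).map C.subtype = P) : Nat.card P = p ^ (Nat.card C).factorization p := by
  rw [← h, Subgroup.card_map_of_injective C.subtype_injective, S.card_eq_multiplicity]

theorem exists_sylow_map_eq {C P : Subgroup G} (hPC : P ≤ C)
    (hcard : Nat.card P = p ^ (Nat.card C).factorization p) :
    ∃ S : Sylow p C, (S : Subgroup C).map C.subtype = P := by
  refine ⟨Sylow.ofCard (P.subgroupOf C) ?_, Subgroup.map_subgroupOf_eq_of_le hPC⟩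
  rw [Nat.card_congr (Subgroup.subgroupOfEquivOfLe hPC).toEquiv, hcard]

theorem le_centralizer_iff_mem {P : Subgroup G} {g : G} :
    P ≤ Subgroup.centralizer ({g} : Set G) ↔ g ∈ Subgroup.centralizer (P : Set G) :=
  ⟨fun h => Subgroup.mem_centralizer_iff.2 fun u hu =>
      Subgroup.mem_centralizer_singleton_iff.1 (h hu),
    fun h u hu => Subgroup.mem_centralizer_singleton_iff.2 (Subgroup.mem_centralizer_iff.1 h u hu)⟩

/-- Elements conjugate in `G` and centralizing `P`, `P` Sylow in the centralizer, are conjugate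
in `N(P)`. -/
theorem exists_normalizer_conj {P : Subgroup G} {g c₁ c₂ : G}
    (hcard : Nat.card P = p ^ (Nat.card (Subgroup.centralizer ({g} : Set G))).factorization p)
    (h1 : IsConj g c₁) (h2 : IsConj g c₂) (hc1 : c₁ ∈ Subgroup.centralizer (P : Set G))
    (hc2 : c₂ ∈ Subgroup.centralizer (P : Set G)) :
    ∃ n ∈ Subgroup.normalizer (P : Set G), n * c₁ * n⁻¹ = c₂ := by
  obtain ⟨a, ha⟩ := isConj_iff.1 (h1.symm.trans h2)
  obtain ⟨e, he⟩ := isConj_iff.1 h2
  set C := Subgroup.centralizer ({c₂} : Set G)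
  have hC : Nat.card (Subgroup.centralizer ({g} : Set G)) = Nat.card C := by
    refine Nat.card_congr ⟨fun u => ⟨e * u * e⁻¹, ?_⟩, fun u => ⟨e⁻¹ * u * e, ?_⟩,
      fun u => ?_, fun u => ?_⟩
    · refine Subgroup.mem_centralizer_singleton_iff.2 ?_
      have hu := Subgroup.mem_centralizer_singleton_iff.1 u.2
      rw [← he]
      calc e * u * e⁻¹ * (e * g * e⁻¹) = e * ((u : G) * g) * e⁻¹ := by group
        _ = e * (g * u) * e⁻¹ := by rw [hu]
        _ = _ := by group
    · refine Subgroup.mem_centralizer_singleton_iff.2 ?_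
      have hu := Subgroup.mem_centralizer_singleton_iff.1 u.2
      rw [← he] at hu
      calc e⁻¹ * u * e * g = e⁻¹ * ((u : G) * (e * g * e⁻¹)) * e := by group
        _ = e⁻¹ * (e * g * e⁻¹ * u) * e := by rw [hu]
        _ = _ := by group
    · ext; simp [mul_assoc]
    · ext; simp [mul_assoc]
  rw [hC] at hcard
  have hP : P ≤ C := le_centralizer_iff_mem.2 hc2
  have hP' : P.map (MulAut.conj a).toMonoidHom ≤ C := by
    rintro _ ⟨u, hu, rfl⟩
    refine Subgroup.mem_centralizer_singleton_iff.2 ?_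
    have hu' := Subgroup.mem_centralizer_iff.1 hc1 u hu
    simp only [MulEquiv.coe_toMonoidHom, MulAut.conj_apply, ← ha]
    calc a * u * a⁻¹ * (a * c₁ * a⁻¹) = a * (u * c₁) * a⁻¹ := by group
      _ = a * (c₁ * u) * a⁻¹ := by rw [hu']
      _ = _ := by group
  obtain ⟨S, hS⟩ := exists_sylow_map_eq hP hcard
  obtain ⟨T, hT⟩ := exists_sylow_map_eq hP'
    (by rw [Subgroup.card_map_of_injective (MulAut.conj a).injective, hcard])
  obtain ⟨k, hk⟩ := MulAction.exists_smul_eq C T S
  refine ⟨(k : G) * a, ?_, ?_⟩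
  · have key : P.map (MulAut.conj ((k : G) * a)).toMonoidHom = P := by
      conv_rhs => rw [← hS, ← hk]
      rw [map_mul, show ((MulAut.conj (k : G)) * MulAut.conj a).toMonoidHom =
        (MulAut.conj (k : G)).toMonoidHom.comp (MulAut.conj a).toMonoidHom from rfl,
        ← Subgroup.map_map, ← hT, Sylow.coe_subgroup_smul]
      simp only [Subgroup.pointwise_smul_def, Subgroup.map_map]
      ext v
      constructor
      · rintro ⟨w, hw, rfl⟩; exact ⟨_, ⟨w, hw, rfl⟩, rfl⟩
      · rintro ⟨_, ⟨w, hw, rfl⟩, rfl⟩; exact ⟨w, hw, rfl⟩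
    rw [Subgroup.mem_normalizer_iff]
    intro u
    constructor
    · intro hu
      have := key.le ⟨u, hu, rfl⟩
      simpa [mul_assoc] using this
    · intro hu
      obtain ⟨v, hv, hvu⟩ := key.ge hu
      simp only [MulEquiv.coe_toMonoidHom, MulAut.conj_apply] at hvu
      rwa [← mul_left_cancel (mul_right_cancel hvu)]
  · have hkc := Subgroup.mem_centralizer_singleton_iff.1 k.2
    calc (k : G) * a * c₁ * ((k : G) * a)⁻¹ = k * (a * c₁ * a⁻¹) * (k : G)⁻¹ := by group
      _ = c₂ := by rw [ha, hkc, mul_inv_cancel_right]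

/-- If `P` is Sylow in `C(c) ∩ N(P)` then it is Sylow in `C(c)`. -/
theorem exists_sylow_of_normalizer {P : Subgroup G} {c : G}
    (hc : c ∈ Subgroup.centralizer (P : Set G)) {n : ℕ} (hn : Nat.card P = p ^ n)
    (hcard : (Nat.card ↥(Subgroup.centralizer ({c} : Set G) ⊓
      Subgroup.normalizer (P : Set G))).factorization p = n) :
    (Nat.card (Subgroup.centralizer ({c} : Set G))).factorization p = n := by
  have hp : p.Prime := Fact.out
  set C := Subgroup.centralizer ({c} : Set G)
  have hP : P ≤ C := le_centralizer_iff_mem.2 hc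
  refine le_antisymm ?_ ?_
  · by_contra hlt
    rw [not_le] at hlt
    have hdvd : p ^ (n + 1) ∣ Nat.card C :=
      (hp.pow_dvd_iff_le_factorization Nat.card_pos.ne').2 hlt
    set P' := P.subgroupOf C
    have hP' : Nat.card P' = p ^ n := by
      rw [Nat.card_congr (Subgroup.subgroupOfEquivOfLe hP).toEquiv, hn]
    obtain ⟨K, hK, hPK⟩ := Sylow.exists_subgroup_card_pow_succ hdvd hP'
    have hnorm : K ≤ Subgroup.normalizer (P' : Set C) := by
      have : Fact p.Prime := ⟨hp⟩
      refine Subgroup.normal_subgroupOf_iff_le_normalizer hPK |>.1 ?_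
      refine Subgroup.normal_of_index_eq_minFac_card ?_
      rw [hK, Nat.pow_minFac (Nat.succ_ne_zero n), hp.minFac_eq]
      have h1 := Subgroup.card_mul_index (P'.subgroupOf K)
      rw [Nat.card_congr (Subgroup.subgroupOfEquivOfLe hPK).toEquiv, hP', hK, pow_succ] at h1
      exact Nat.eq_of_mul_eq_mul_left (pow_pos hp.pos n) h1
    have hle : K.map C.subtype ≤ C ⊓ Subgroup.normalizer (P : Set G) := by
      rintro _ ⟨k, hk, rfl⟩
      refine ⟨k.2, Subgroup.mem_normalizer_iff.2 fun u => ?_⟩
      constructor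
      · intro hu
        exact (Subgroup.mem_normalizer_iff.1 (hnorm hk) ⟨u, hP hu⟩).1 hu
      · intro hu
        have huC : u ∈ C := by
          have := C.mul_mem (C.mul_mem (C.inv_mem k.2) (hP hu)) k.2
          simpa [mul_assoc] using this
        exact (Subgroup.mem_normalizer_iff.1 (hnorm hk) ⟨u, huC⟩).2 hu
    have h2 := Subgroup.card_dvd_of_le hle
    rw [Subgroup.card_map_of_injective C.subtype_injective, hK,
      hp.pow_dvd_iff_le_factorization Nat.card_pos.ne', hcard] at h2
    omega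
  · rw [← hp.pow_dvd_iff_le_factorization Nat.card_pos.ne', ← hn]
    exact Subgroup.card_dvd_of_le hP

end Classes

variable {G : Type*} [Group G] [Fintype G] {p : ℕ} {M : Ideal AlgInt} [Fact p.Prime]

/-- A normal `p`-subgroup lies in every defect group. -/
theorem normal_le_defect (hM : IsPModular p M) {B : Set (IrrCharacter G)} (hB : IsPBlock M B)
    {P : Subgroup G} [P.Normal] (hP : IsPGroup p P) {D : Subgroup G}
    (hD : IsDefectGroup p M B D) : P ≤ D := by
  obtain ⟨g, hg, S, rfl⟩ := hD
  obtain ⟨χ, hχ⟩ := IsPBlock.nonempty hM hB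
  have hgC : g ∈ Subgroup.centralizer (P : Set G) := by
    by_contra h
    exact hg.2.2 χ hχ (centralChar_mem_ideal_of_normal hM hP χ g h)
  have hle := le_centralizer_iff_mem.2 hgC
  intro u hu
  have hPc : IsPGroup p (P.subgroupOf (Subgroup.centralizer ({g} : Set G))) :=
    hP.of_equiv (Subgroup.subgroupOfEquivOfLe hle).symm
  exact ⟨⟨u, hle hu⟩, (CfsgLib.PCore.le_pCore inferInstance hPc).trans
    (CfsgLib.PCore.pCore_le_sylow S) (show u ∈ P from hu), rfl⟩

/-- A class meeting `H` where the induced central character is a unit. -/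
theorem exists_unit_class_of_induced (hM : IsPModular p M) {H : Subgroup G} [Fintype H]
    {b : Set (IrrCharacter H)} {B : Set (IrrCharacter G)} (hind : IsInducedBlock M H b B)
    {ξ : IrrCharacter H} (hξ : ξ ∈ b) {χ : IrrCharacter G} (hχ : χ ∈ B) {g : G}
    (hg : ¬ MemLocalIdeal M (centralChar (χ : G → ℂ) g)) :
    ∃ h : H, IsConj g (h : G) ∧ ¬ MemLocalIdeal M (centralChar (ξ : H → ℂ) h) := by
  classical
  by_contra! hne
  refine hg ?_
  have h1 := hind.2.2 ξ hξ χ hχ g
  rw [← omega_classPart, omega_eq_sum_classes ξ (classPart_mem_center ℂ H g)] at h1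
  have h2 : MemLocalIdeal M (∑ c : ConjClasses H,
      (classPart ℂ H g).coeff c.out * centralChar (ξ : H → ℂ) c.out) := by
    refine MemLocalIdeal.sum hM _ fun c _ => ?_
    simp only [classPart, Blocks.coeff_ofFun]
    split_ifs with hc
    · rw [one_mul]; exact hne _ hc
    · rw [zero_mul]; exact memLocalIdeal_zero hM
  have h3 := MemLocalIdeal.sub hM h2 h1
  convert h3 using 1
  rw [sub_sub_eq_add_sub, add_comm, add_sub_assoc,
    sub_eq_zero_of_eq (Finset.sum_congr (by ext; simp) fun _ _ => rfl), add_zero]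

/-- Every block with defect group `D` is induced from a block of `H` with defect group `D`, for
`D * C(D) ≤ H ≤ N(D)`. -/
theorem exists_inducing_block (hM : IsPModular p M) {B : Set (IrrCharacter G)}
    (hB : IsPBlock M B) {D : Subgroup G} (hD : IsDefectGroup p M B D) {H : Subgroup G}
    [Fintype H] (hDH : D ≤ H) (hCH : Subgroup.centralizer (D : Set G) ≤ H)
    (hHN : H ≤ Subgroup.normalizer (D : Set G)) :
    ∃ b : Set (IrrCharacter H), IsPBlock M b ∧ IsInducedBlock M H b B ∧
      IsDefectGroup p M b (D.subgroupOf H) := by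
  classical
  haveI := IsPModular.isMaximal hM
  letI := Ideal.Quotient.field M
  have hP := CfsgLib.BlockCover.isPGroup_defect hM hD
  obtain ⟨w, hw, hwu⟩ := (CfsgLib.BlockCover.exists_conj_le_defect_iff hM hB hD hP).2
    ⟨1, by rintro _ ⟨y, hy, rfl⟩; simpa using hy⟩
  let br' := brCentre (p_eq_zero_residue hM) hP hCH hHN
  let e : Subalgebra.center (AlgInt ⧸ M) (MonoidAlgebra (AlgInt ⧸ M) G) :=
    ⟨blockIdemRes hM B, blockIdemRes_mem_center hM B⟩
  obtain ⟨φ, hφ⟩ : ∃ φ : IrrCharacter H, lamB hM φ (br' e) ≠ 0 := by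
    by_contra! h
    have hid : IsIdempotentElem (br' e) := by
      have h1 : e * e = e := Subtype.ext (isIdempotentElem_blockIdemRes hM hB)
      show br' e * br' e = br' e
      rw [← map_mul, h1]
    have h0 := hid.eq_zero_of_isNilpotent (isNilpotent_of_lamB_eq_zero hM h)
    have h1 : (resH H (CfsgLib.BlockAlg.br D (blockIdemRes hM B))).coeff ⟨w, hCH hw⟩ = 0 := by
      show (br' e).val.coeff ⟨w, hCH hw⟩ = 0
      rw [h0]; rfl
    rw [coeff_resH, coeff_br_of_mem hw, coeff_blockIdemRes,
      lResD_eq_zero_iff hM (memLocalRing_blockCoeff hM hB w)] at h1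
    exact hwu h1
  obtain ⟨χ, hχ⟩ := exists_irr_brauerCentralChar hM hP hCH hHN φ
  obtain ⟨χ', hχ'⟩ := exists_eq_lamB hM ((lamB hM φ).comp br')
  have hχ'B : χ' ∈ B := by
    by_contra h
    refine hφ ?_
    have h1 := congrArg (fun f => f e) hχ'
    simp only [AlgHom.comp_apply] at h1
    rw [h1, lamB_blockIdemRes hM hB, if_neg h]
  have hsame : ∀ g, MemLocalIdeal M
      (brauerCentralChar D H (φ : H → ℂ) g - centralChar (χ' : G → ℂ) g) := by
    intro g
    rw [← lResD_eq_iff hM (brauerCentralChar_mem_lRing hM hHN φ g) (centralChar_mem_lRing hM χ' g),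
      ← lamB_classPartC hM hHN, ← lamB_classSum, ← hχ', AlgHom.comp_apply]
    congr 1
    refine Subtype.ext (MonoidAlgebra.ext (Finsupp.ext fun h => ?_))
    simp only [br', brCentre, AlgHom.coe_mk, RingHom.coe_mk, MonoidHom.coe_mk, OneHom.coe_mk,
      coeff_resH, CfsgLib.BlockAlg.coeff_br, coeff_classSum, classPartC, Blocks.coeff_ofFun]
    by_cases h1 : (h : G) ∈ Subgroup.centralizer (D : Set G) <;> simp [h1]
  set b := blockOf M (φ : H → ℂ)
  have hb : IsPBlock M b := isPBlock_blockOf φ
  have hind : IsInducedBlock M H b B := by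
    refine isInducedBlock_of_forall hM hb hB (mem_blockOf_self hM φ) hχ'B fun g => ?_
    simpa using MemLocalIdeal.add hM (induced_sub_brauer hM hP hDH hHN φ g) (hsame g)
  refine ⟨b, hb, hind, ?_⟩
  obtain ⟨Db, hDb⟩ := exists_isDefectGroup hM hb
  obtain ⟨E, hE, hle⟩ := exists_defectGroup_map_le hM hind hDb
  haveI : (D.subgroupOf H).Normal := Subgroup.normal_subgroupOf_of_le_normalizer hHN
  have h1 : D.subgroupOf H ≤ Db :=
    normal_le_defect hM hb (hP.of_equiv (Subgroup.subgroupOfEquivOfLe hDH).symm) hDb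
  have h2 : D.subgroupOf H = Db := by
    refine Subgroup.eq_of_le_of_card_ge h1 ?_
    have h3 := Subgroup.card_le_of_le hle
    rw [Subgroup.card_map_of_injective H.subtype_injective,
      CfsgLib.BlockCover.natCard_defect hM hB hE] at h3
    rw [Nat.card_congr (Subgroup.subgroupOfEquivOfLe hDH).toEquiv,
      CfsgLib.BlockCover.natCard_defect hM hB hD]
    exact h3
  rwa [h2]

/-- Central character units centralize the defect group with `p`-part in its centre, up to
conjugation. -/
theorem exists_conj_centralizer_of_centralChar (hM : IsPModular p M) {B : Set (IrrCharacter G)}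
    (hB : IsPBlock M B) {D : Subgroup G} (hD : IsDefectGroup p M B D) {χ : IrrCharacter G}
    (hχ : χ ∈ B) {g : G} (hg : ¬ MemLocalIdeal M (centralChar (χ : G → ℂ) g)) :
    ∃ x : G, IsConj g x ∧ x ∈ Subgroup.centralizer (D : Set G) ∧
      ∀ z : G, IsPPart p x z → z ∈ D ∧ ∀ w ∈ D, z * w = w * z := by
  classical
  set H := Subgroup.normalizer (D : Set G)
  letI := Fintype.ofFinite H
  have hDH : D ≤ H := Subgroup.le_normalizer
  obtain ⟨b, hb, hind, hbD⟩ :=
    exists_inducing_block hM hB hD hDH (Subgroup.centralizer_le_normalizer _) le_rfl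
  obtain ⟨ξ, hξ⟩ := IsPBlock.nonempty hM hb
  obtain ⟨h, hgh, hu⟩ := exists_unit_class_of_induced hM hind hξ hχ hg
  haveI : (D.subgroupOf H).Normal := Subgroup.normal_subgroupOf_of_le_normalizer le_rfl
  have hP := (CfsgLib.BlockCover.isPGroup_defect hM hD).of_equiv
    (Subgroup.subgroupOfEquivOfLe hDH).symm
  have hhC : h ∈ Subgroup.centralizer ((D.subgroupOf H : Subgroup H) : Set H) := by
    by_contra hn
    exact hu (centralChar_mem_ideal_of_normal hM hP ξ h hn)
  have hxC : (h : G) ∈ Subgroup.centralizer (D : Set G) := Subgroup.mem_centralizer_iff.2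
    fun u hu' => congrArg Subtype.val (Subgroup.mem_centralizer_iff.1 hhC ⟨u, hDH hu'⟩ hu')
  refine ⟨h, hgh, hxC, fun z hz => ?_⟩
  obtain ⟨z', hz'⟩ := exists_isPPart hM.1 h
  have hzz : (z' : G) = z := by
    refine IsPPart.unique hM.1 ?_ hz
    obtain ⟨y, hy, hcy, hk, hyp⟩ := hz'
    exact ⟨(y : G), congrArg Subtype.val hy, congrArg Subtype.val hcy.eq,
      by simpa [Subgroup.orderOf_coe] using hk, by rwa [Subgroup.orderOf_coe]⟩
  subst hzz
  have hzD : z' ∈ D.subgroupOf H := by
    by_contra hn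
    refine hu ?_
    rw [centralChar, apply_eq_zero_of_notMem_defect hM (χ := ξ) hz' (fun D' hD' => ?_), mul_zero,
      zero_div]
    · exact memLocalIdeal_zero hM
    · rw [← IsPBlock.eq_blockOf hM hb hξ] at hD'
      obtain ⟨t, rfl⟩ := CfsgLib.BlockCover.defectGroup_conjugate hM hb hbD hD'
      rintro ⟨u, hu', hut⟩
      exact hn (hut ▸ Subgroup.Normal.conj_mem ‹_› u hu' t)
  refine ⟨hzD, fun w hw => ?_⟩
  have h3 := IsPPart.conj hz w
  rw [show w * (h : G) * w⁻¹ = h by
    rw [Subgroup.mem_centralizer_iff.1 hxC w hw, mul_inv_cancel_right]] at h3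
  have h4 := IsPPart.unique hM.1 h3 hz
  exact (mul_inv_eq_iff_eq_mul.1 h4).symm

end CfsgLib.Blocks
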