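import Cfsg.Agent.Lib.Blocks.WeakOrth
import Cfsg.Agent.Lib.Blocks.DefectZeroVanish
import Cfsg.Agent.Lib.Characters.Burnside
import Cfsg.Agent.Lib.Blocks.FirstMain
import Cfsg.Agent.Lib.BlockCover.Regular

/-!
# Degrees in principal blocks of simple groups
-/

set_option autoImplicit false
set_option linter.style.haveILetI false

namespace CfsgLib.Blocks

open Cfsg CfsgLib.Characters
open scoped ComplexConjugate

variable {G : Type*} [Group G] [Fintype G]

/-- A nontrivial element whose class has size prime to `p`. -/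
theorem exists_central_of_sylow {p : ℕ} [hp : Fact p.Prime] [Nontrivial G] :
    ∃ g : G, g ≠ 1 ∧ ¬ p ∣ (Subgroup.centralizer ({g} : Set G)).index := by
  obtain ⟨P⟩ : Nonempty (Sylow p G) := inferInstance
  by_cases hpG : p ∣ Nat.card G
  · haveI : Nontrivial (P : Subgroup G) := by
      rw [← Finite.one_lt_card_iff_nontrivial, P.card_eq_multiplicity]
      exact Nat.one_lt_pow (fun h => by
        have := (hp.out.dvd_iff_one_le_factorization Nat.card_pos.ne').1 hpG
        omega) hp.out.one_lt
    haveI : Nontrivial (Subgroup.center (P : Subgroup G)) := P.2.center_nontrivial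
    obtain ⟨z, hz⟩ := exists_ne (1 : Subgroup.center (P : Subgroup G))
    refine ⟨((z : (P : Subgroup G)) : G), fun h => hz (Subtype.ext (Subtype.ext h)), fun h => ?_⟩
    refine P.not_dvd_index (h.trans (Subgroup.index_dvd_of_le fun w hw => ?_))
    refine Subgroup.mem_centralizer_singleton_iff.2 ?_
    exact congrArg Subtype.val (Subgroup.mem_center_iff.1 z.2 ⟨w, hw⟩)
  · obtain ⟨g, hg⟩ := exists_ne (1 : G)
    exact ⟨g, hg, fun h => hpG (h.trans (Subgroup.index_dvd_card _))⟩

/-- The principal character is the only one of `p`-power degree in the principal block of a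
nonabelian simple group. -/
theorem eq_principal_of_degree_pow [IsSimpleGroup G] {p : ℕ} [hp : Fact p.Prime] {M : Ideal AlgInt}
    (hM : IsPModular p M) (hna : ∃ a b : G, a * b ≠ b * a) {χ : IrrCharacter G}
    (hχ : χ ∈ principalBlock M G) {k : ℕ} (hdeg : (χ : G → ℂ) 1 = (p : ℂ) ^ k) :
    (χ : G → ℂ) = fun _ => 1 := by
  obtain ⟨a, b, hab⟩ := hna
  haveI : Nontrivial G := ⟨⟨a * b, b * a, hab⟩⟩
  obtain ⟨g, hg1, hg⟩ := exists_central_of_sylow (G := G) (p := p)
  have hcongr := hχ g
  obtain ⟨χ, n, ρ, hρ, rfl⟩ := χ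
  haveI := hρ
  have hn : (Module.finrank ℂ (Fin n → ℂ) : ℂ) = ((p ^ k : ℕ) : ℂ) := by
    change ρ.character 1 = _ at hdeg
    rw [Representation.char_one] at hdeg
    push_cast
    exact hdeg
  have hcop : Nat.Coprime (Module.finrank ℂ (Fin n → ℂ)) (Nat.card {x : G // IsConj g x}) := by
    rw [card_isConj_eq_index, Nat.cast_inj.1 hn]
    exact Nat.Coprime.pow_left k (hp.out.coprime_iff_not_dvd.2 hg)
  rcases CfsgLib.Burnside.eq_zero_or_norm_eq_of_coprime ρ g hcop with h | h
  · exfalso
    refine hg ((memLocalIdeal_natCast_iff hM _).1 ?_)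
    have h0 : centralChar (ρ.character) g = 0 := by rw [centralChar, h, mul_zero, zero_div]
    have h1 : centralChar (fun _ : G => (1 : ℂ)) g =
        ((Subgroup.centralizer ({g} : Set G)).index : ℂ) := by simp [centralChar]
    have h2 : MemLocalIdeal M (centralChar (fun _ : G => (1 : ℂ)) g - centralChar ρ.character g) :=
      hcongr
    rwa [h0, h1, sub_zero] at h2
  · obtain ⟨c, hc⟩ := (norm_char_eq_iff_scalar ρ g).mp h
    rcases (MonoidHom.normal_ker (ρ : G →* _)).eq_bot_or_eq_top with hk | hk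
    · exfalso
      refine hab (CfsgLib.Burnside.isMulCommutative_of_mem_center hg1
        (Subgroup.mem_center_iff.mpr fun x => ?_) a b)
      refine (MonoidHom.ker_eq_bot_iff _).mp hk ?_
      rw [map_mul, map_mul, hc]
      ext v
      simp
    · have h2 := CfsgLib.Burnside.eq_one_of_irr_const (χ := ⟨ρ.character, n, ρ, hρ, rfl⟩)
        (c := (n : ℂ)) fun x => by
          have : ρ x = 1 := MonoidHom.mem_ker.mp (hk ▸ Subgroup.mem_top x)
          simp [Representation.character, this]
      exact congrArg Subtype.val h2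

/-- In a simple group of order `p ^ a * q ^ b * r` no element of order `p` centralizes an element
of order `r`. -/
theorem no_commuting_of_order [IsSimpleGroup G] {p q r a b : ℕ} [hp : Fact p.Prime]
    [hr : Fact r.Prime] (hq : q.Prime) (hpr : p ≠ r) (hqr : q ≠ r) (hpq : p ≠ q)
    (hcard : Nat.card G = p ^ a * q ^ b * r) (hna : ∃ x y : G, x * y ≠ y * x) {s u : G}
    (hs : orderOf s = r) (hu : orderOf u = p) (hsu : Commute s u) : False := by
  classical
  have hr' := hr.out
  obtain ⟨M, hM⟩ : ∃ M : Ideal AlgInt, IsPModular p M := CfsgLib.BlockCover.exists_isPModular hp.out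
  have hord : orderOf (s * u) = r * p := by
    rw [hsu.orderOf_mul_eq_mul_orderOf_of_coprime (by
      rw [hs, hu]; exact (Nat.coprime_primes hr' hp.out).2 hpr.symm), hs, hu]
  have hxp : p ∣ orderOf (s * u) := hord ▸ dvd_mul_left p r
  have hxr : r ∣ orderOf (s * u) := hord ▸ dvd_mul_right r p
  have hfac : (Nat.card G).factorization r = 1 := by
    rw [hcard, Nat.factorization_mul (by simp [hp.out.ne_zero, hq.ne_zero]) hr'.ne_zero,
      Nat.factorization_mul (pow_ne_zero _ hp.out.ne_zero) (pow_ne_zero _ hq.ne_zero),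
      hp.out.factorization_pow, hq.factorization_pow, hr'.factorization]
    simp [Finsupp.single_eq_of_ne, hpr, hpr.symm, hqr, hqr.symm]
  set B := principalBlock M G
  have hsum := weak_orth hM (isPBlock_principalBlock M) (x := (1 : G))
    (by rw [orderOf_one]; exact hp.out.not_dvd_one) hxp
  have hmem : principalIrr G ∈ B := mem_blockOf_self hM (principalIrr G)
  rw [← Finset.add_sum_erase (a := principalIrr G) _ _
    (Finset.mem_filter.2 ⟨Finset.mem_univ _, hmem⟩)] at hsum
  simp only [principalIrr_apply, map_one, mul_one] at hsum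
  have hint : ∀ χ ∈ (Finset.univ.filter (· ∈ B)).erase (principalIrr G),
      IsIntegral ℤ ((χ : G → ℂ) 1 * conj ((χ : G → ℂ) (s * u)) / (q : ℂ)) := by
    intro χ hχ
    obtain ⟨d, hd, -, hdG⟩ := irr_degree_dvd_card χ
    by_cases hqd : q ∣ d
    · obtain ⟨e, rfl⟩ := hqd
      rw [hd, Nat.cast_mul, mul_assoc, mul_div_cancel_left₀ _ (Nat.cast_ne_zero.mpr hq.ne_zero)]
      have he : IsIntegral ℤ (e : ℂ) := by
        simpa using (isIntegral_algebraMap (R := ℤ) (A := ℂ) (x := (e : ℤ)))
      exact he.mul (isIntegral_conj (isIntegral_of_isCharacter (irr_isCharacter χ) _))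
    by_cases hrd : r ∣ d
    · have h0 := CfsgLib.DefectZeroVanish.vanish_of_defect_zero (p := r) χ
        (by rw [hfac, pow_one, charDegree, hd, Complex.natCast_re, Nat.floor_natCast]; exact hrd) hxr
      rw [h0, map_zero, mul_zero, zero_div]
      exact isIntegral_zero
    · exfalso
      have hdp : d ∣ p ^ a := by
        have h1 : Nat.Coprime d (q ^ b) :=
          Nat.Coprime.pow_right b ((hq.coprime_iff_not_dvd.2 hqd).symm)
        have h2 : Nat.Coprime d r := (hr'.coprime_iff_not_dvd.2 hrd).symm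
        exact h1.dvd_of_dvd_mul_right (h2.dvd_of_dvd_mul_right (hcard ▸ hdG))
      obtain ⟨i, -, rfl⟩ := (Nat.dvd_prime_pow hp.out).1 hdp
      refine Finset.ne_of_mem_erase hχ (Subtype.ext ?_)
      refine eq_principal_of_degree_pow hM hna (Finset.mem_filter.1 (Finset.mem_of_mem_erase hχ)).2
        (k := i) ?_
      rw [hd]; push_cast; rfl
  have h1 : IsIntegral ℤ ((1 : ℕ) / (q : ℕ) : ℂ) := by
    have := (IsIntegral.sum _ hint).neg
    rw [← Finset.sum_div, eq_neg_of_add_eq_zero_right hsum] at this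
    simpa [neg_div] using this
  exact hq.one_lt.ne' (Nat.dvd_one.mp (nat_dvd_of_isIntegral_div hq.ne_zero h1))

/-- Sylow subgroups of prime order are self centralizing in simple groups of order
`p ^ a * q ^ b * r`. -/
theorem centralizer_sylow_eq [IsSimpleGroup G] {p q r a b : ℕ} (hp : p.Prime) (hq : q.Prime)
    [hr : Fact r.Prime] (hpq : p ≠ q) (hpr : p ≠ r) (hqr : q ≠ r)
    (hcard : Nat.card G = p ^ a * q ^ b * r) (S : Sylow r G) :
    Subgroup.centralizer (S : Set G) = (S : Subgroup G) := by
  classical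
  have hr' := hr.out
  haveI := Fact.mk hp
  haveI := Fact.mk hq
  have hS : Nat.card (S : Subgroup G) = r := by
    rw [S.card_eq_multiplicity, hcard,
      Nat.factorization_mul (by simp [hp.ne_zero, hq.ne_zero]) hr'.ne_zero,
      Nat.factorization_mul (pow_ne_zero _ hp.ne_zero) (pow_ne_zero _ hq.ne_zero),
      hp.factorization_pow, hq.factorization_pow, hr'.factorization]
    simp [Finsupp.single_eq_of_ne, hpr, hpr.symm, hqr, hqr.symm]
  haveI hcyc : IsCyclic (S : Subgroup G) := isCyclic_of_prime_card hS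
  have hle : (S : Subgroup G) ≤ Subgroup.centralizer (S : Set G) := fun x hx =>
    Subgroup.mem_centralizer_iff.2 fun y hy =>
      congrArg Subtype.val ((IsCyclic.commutative (α := (S : Subgroup G))).is_comm.comm ⟨y, hy⟩ ⟨x, hx⟩)
  by_cases hcomm : ∀ x y : G, x * y = y * x
  · have hcp := CfsgLib.Burnside.prime_card_of_comm hcomm
    have htop : (S : Subgroup G) = ⊤ := Subgroup.eq_top_of_card_eq _ (by
      rw [hS]
      exact (Nat.prime_dvd_prime_iff_eq hr' hcp).1 (hcard ▸ dvd_mul_left r _))
    exact le_antisymm (htop ▸ le_top) hle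
  push Not at hcomm
  by_contra hne
  obtain ⟨s, hs⟩ := IsCyclic.exists_ofOrder_eq_natCard (α := (S : Subgroup G))
  rw [hS, ← Subgroup.orderOf_coe] at hs
  have hd := Subgroup.card_dvd_of_le hle
  obtain ⟨c, hc⟩ := hd
  have hc1 : c ≠ 1 := fun h => hne ((Subgroup.eq_of_le_of_card_ge hle (by rw [hc, h, mul_one])).symm)
  obtain ⟨l, hl, hlc⟩ := Nat.exists_prime_and_dvd hc1
  haveI := Fact.mk hl
  have hlG : l * r ∣ p ^ a * q ^ b * r := by
    rw [← hcard]
    refine dvd_trans ?_ (Subgroup.card_subgroup_dvd_card (Subgroup.centralizer (S : Set G)))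
    rw [hc, hS, mul_comm l r]
    exact mul_dvd_mul_left r hlc
  obtain ⟨⟨u, hu⟩, hou⟩ := exists_prime_orderOf_dvd_card' l
    (show l ∣ Nat.card (Subgroup.centralizer (S : Set G)) from hc ▸ dvd_mul_of_dvd_right hlc _)
  rw [← Subgroup.orderOf_coe] at hou
  have hsu : Commute (s : G) u := Subgroup.mem_centralizer_iff.1 hu _ s.2
  rcases (Nat.Prime.dvd_mul hl).1 ((Nat.mul_dvd_mul_iff_right hr'.pos).1 hlG) with h | h
  · have := (Nat.prime_dvd_prime_iff_eq hl hp).1 (hl.dvd_of_dvd_pow h)
    subst this
    exact no_commuting_of_order hq hpr hqr hpq hcard hcomm hs hou hsu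
  · have := (Nat.prime_dvd_prime_iff_eq hl hq).1 (hl.dvd_of_dvd_pow h)
    subst this
    exact no_commuting_of_order (a := b) (b := a) hp hqr hpr hpq.symm
      (by rw [hcard, mul_comm (p ^ a)]) hcomm hs hou hsu

end CfsgLib.Blocks
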