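import Mathlib.GroupTheory.Sylow
import Mathlib.GroupTheory.Subgroup.Centralizer
import Mathlib.GroupTheory.OrderOfElement
import Mathlib.Data.Nat.ChineseRemainder

/-!
# The number of `p`-regular elements is prime to `p`
-/

set_option autoImplicit false
set_option linter.style.haveILetI false

namespace CfsgLib.Blocks

variable {G : Type*} [Group G] [Finite G] {p : ℕ} [Fact p.Prime]

omit [Finite G] in
theorem pRegular_conj_iff (x a : G) : p ∣ orderOf (x * a * x⁻¹) ↔ p ∣ orderOf a := by
  rw [show x * a * x⁻¹ = MulAut.conj x a from rfl, MulEquiv.orderOf_eq]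

/-- With a central Sylow subgroup the `p`-regular elements are counted by its index. -/
theorem card_regular_of_central (Z : Subgroup G) [Z.Normal] (hZc : Z ≤ Subgroup.center G)
    (hZ : IsPGroup p Z) (hi : ¬ p ∣ Z.index) :
    Nat.card {c : G // ¬ p ∣ orderOf c} = Z.index := by
  have hp : p.Prime := Fact.out
  obtain ⟨k, hk⟩ := IsPGroup.iff_card.1 hZ
  set m := Z.index
  have hcop : Nat.Coprime (p ^ k) m := ((hp.coprime_iff_not_dvd).2 hi).pow_left k
  obtain ⟨e, he1, he2⟩ := Nat.chineseRemainder hcop 0 1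
  have hG : Nat.card G = p ^ k * m := by rw [← hk, Z.card_mul_index]
  have hreg : ∀ c : G, ¬ p ∣ orderOf c ↔ c ^ m = 1 := by
    intro c
    constructor
    · intro hc
      have h1 : orderOf c ∣ p ^ k * m := hG ▸ orderOf_dvd_natCard c
      exact orderOf_dvd_iff_pow_eq_one.1
        ((((hp.coprime_iff_not_dvd).2 hc).pow_left k).symm.dvd_of_dvd_mul_left h1)
    · intro hc h
      exact hi (h.trans (orderOf_dvd_of_pow_eq_one hc))
  let f : {c : G // ¬ p ∣ orderOf c} → G ⧸ Z := fun c => QuotientGroup.mk c.1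
  refine Nat.card_congr (Equiv.ofBijective f ⟨?_, ?_⟩)
  · rintro ⟨a, ha⟩ ⟨b, hb⟩ hab
    have hz : a⁻¹ * b ∈ Z := QuotientGroup.eq.1 hab
    have hcomm : Commute a (a⁻¹ * b) := (Subgroup.mem_center_iff.1 (hZc hz) a)
    have hzm : (a⁻¹ * b) ^ m = 1 := by
      have h1 : b ^ m = a ^ m * (a⁻¹ * b) ^ m := by
        rw [← hcomm.mul_pow, mul_inv_cancel_left]
      rw [(hreg a).1 ha, (hreg b).1 hb, one_mul] at h1
      exact h1.symm
    have hzk : (a⁻¹ * b) ^ (p ^ k) = 1 := by
      have : (⟨_, hz⟩ : Z) ^ (p ^ k) = 1 := by rw [← hk]; exact pow_card_eq_one'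
      exact congrArg Subtype.val this
    have h1 : orderOf (a⁻¹ * b) ∣ 1 := by
      rw [← hcop]
      exact Nat.dvd_gcd (orderOf_dvd_of_pow_eq_one hzk) (orderOf_dvd_of_pow_eq_one hzm)
    exact Subtype.ext (inv_mul_eq_one.1 (orderOf_eq_one_iff.1 (Nat.dvd_one.1 h1)))
  · intro q
    induction q using QuotientGroup.induction_on with
    | _ c =>
      refine ⟨⟨c ^ e, (hreg _).2 ?_⟩, ?_⟩
      · rw [← pow_mul]
        refine orderOf_dvd_iff_pow_eq_one.1 ((orderOf_dvd_natCard c).trans ?_)
        rw [hG]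
        exact Nat.mul_dvd_mul_right (Nat.modEq_zero_iff_dvd.1 he1) m
      · show QuotientGroup.mk (c ^ e) = (QuotientGroup.mk c : G ⧸ Z)
        rw [QuotientGroup.mk_pow]
        have hm : ((c : G ⧸ Z)) ^ m = 1 := pow_card_eq_one'
        calc ((c : G ⧸ Z)) ^ e = (c : G ⧸ Z) ^ (e % m) := pow_eq_pow_mod e hm
          _ = (c : G ⧸ Z) ^ (1 % m) := by rw [he2]
          _ = (c : G ⧸ Z) ^ 1 := (pow_eq_pow_mod 1 hm).symm
          _ = c := pow_one _

/-- Conjugation by a `p`-subgroup: the regular elements are congruent to those centralizing it. -/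
theorem card_regular_modEq (P : Subgroup G) (hP : IsPGroup p P) :
    Nat.card {a : G // ¬ p ∣ orderOf a} ≡
      Nat.card {c : Subgroup.centralizer (P : Set G) // ¬ p ∣ orderOf c} [MOD p] := by
  let X := {a : G // ¬ p ∣ orderOf a}
  letI : MulAction P X :=
    { smul := fun u z => ⟨(u : G) * z.1 * (u : G)⁻¹, by rw [pRegular_conj_iff]; exact z.2⟩
      one_smul := fun z => Subtype.ext
        (show ((1 : P) : G) * z.1 * ((1 : P) : G)⁻¹ = z.1 by simp)
      mul_smul := fun u v z => Subtype.ext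
        (show ((u * v : P) : G) * z.1 * ((u * v : P) : G)⁻¹ =
          (u : G) * ((v : G) * z.1 * (v : G)⁻¹) * (u : G)⁻¹ by simp [mul_assoc]) }
  refine (hP.card_modEq_card_fixedPoints X).trans (congrArg (· % p) ?_)
  refine Nat.card_congr
    { toFun := fun z => ⟨⟨z.1.1, Subgroup.mem_centralizer_iff.2 fun u hu =>
          mul_inv_eq_iff_eq_mul.1 (congrArg Subtype.val (z.2 ⟨u, hu⟩))⟩, by
            rw [← Subgroup.orderOf_coe]; exact z.1.2⟩
      invFun := fun c => ⟨⟨c.1.1, by rw [Subgroup.orderOf_coe]; exact c.2⟩, fun u =>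
        Subtype.ext (mul_inv_eq_iff_eq_mul.2 (Subgroup.mem_centralizer_iff.1 c.1.2 u u.2))⟩
      left_inv := fun z => rfl
      right_inv := fun c => rfl }

/-- The number of `p`-regular elements is prime to `p`. -/
theorem not_dvd_card_regular : ¬ p ∣ Nat.card {a : G // ¬ p ∣ orderOf a} := by
  let S : Sylow p G := default
  rw [(card_regular_modEq (S : Subgroup G) S.isPGroup').dvd_iff dvd_rfl]
  set C := Subgroup.centralizer ((S : Subgroup G) : Set G)
  set Z := (S : Subgroup G).subgroupOf C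
  have hZc : Z ≤ Subgroup.center C := by
    intro z hz
    rw [Subgroup.mem_center_iff]
    intro c
    exact Subtype.ext (Subgroup.mem_centralizer_iff.1 c.2 (z : G) (Subgroup.mem_subgroupOf.1 hz)).symm
  haveI hZn : Z.Normal := ⟨fun z hz c => by
    rw [Subgroup.mem_center_iff.1 (hZc hz) c, mul_inv_cancel_right]; exact hz⟩
  have hZ : IsPGroup p Z := S.isPGroup'.comap_of_injective C.subtype C.subtype_injective
  have hi : ¬ p ∣ Z.index := by
    let Q : Sylow p C := default
    have hQ : IsPGroup p ((Q : Subgroup C).map C.subtype) := Q.isPGroup'.map _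
    have hle : (Q : Subgroup C).map C.subtype ≤ Subgroup.normalizer ((S : Subgroup G) : Set G) :=
      (Subgroup.map_subtype_le _).trans (Subgroup.centralizer_le_normalizer _)
    have hsup := hQ.to_sup_of_normal_right' S.isPGroup' hle
    have heq : (Q : Subgroup C).map C.subtype ⊔ (S : Subgroup G) = S :=
      S.is_maximal' hsup le_sup_right
    have hQZ : (Q : Subgroup C) ≤ Z := by
      intro q hq
      rw [Subgroup.mem_subgroupOf, ← heq]
      exact Subgroup.mem_sup_left ⟨q, hq, rfl⟩
    rw [show Z = (Q : Subgroup C) from Q.is_maximal' hZ hQZ]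
    exact Q.not_dvd_index
  rw [card_regular_of_central Z hZc hZ hi]
  exact hi

end CfsgLib.Blocks
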