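import Cfsg.Agent.Lib.Blocks.Brauer
import Cfsg.Agent.Lib.Blocks.WeakOrth
import Cfsg.Agent.Lib.Blocks.Regular

/-!
# Induced blocks on central elements, and Brauer's Third Main Theorem

A block `b` of `H` with a defined induced block `B` has `ω_ξ (z|_H) ≡ ω_χ (z)` for every central `z`
with local integral coefficients.  Evaluated at the sum of all `p`-regular elements this gives the
Third Main Theorem.
-/

set_option autoImplicit false
set_option linter.style.haveILetI false

namespace CfsgLib.Blocks

open Cfsg MonoidAlgebra CfsgLib.Characters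
open scoped ComplexConjugate

variable {G : Type*} [Group G] [Fintype G] {p : ℕ} {M : Ideal AlgInt}

open scoped Classical in
/-- The induced central character evaluated on the restriction of a central element. -/
theorem omega_resH_eq_sum_classes {H : Subgroup G} [Fintype H] (ξ : H → ℂ) {z : MonoidAlgebra ℂ G}
    (hz : z ∈ Subalgebra.center ℂ (MonoidAlgebra ℂ G)) :
    omega ξ (resH H z) =
      ∑ c : ConjClasses G, z.coeff c.out * inducedCentralChar H ξ c.out := by
  have hdec : resH H z = ∑ c : ConjClasses G, z.coeff c.out • classPart ℂ H c.out := by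
    refine MonoidAlgebra.ext (Finsupp.ext fun h => ?_)
    simp only [coeff_resH, coeff_sum, Finsupp.finsetSum_apply, coeff_smul, Finsupp.smul_apply,
      classPart, Blocks.coeff_ofFun, smul_eq_mul]
    have hout : ConjClasses.mk ((ConjClasses.mk (h : G)).out) = ConjClasses.mk (h : G) :=
      Quotient.out_eq (ConjClasses.mk (h : G))
    rw [Finset.sum_eq_single (ConjClasses.mk (h : G))]
    · rw [if_pos (ConjClasses.mk_eq_mk_iff_isConj.1 hout), mul_one]
      obtain ⟨d, hd⟩ := isConj_iff.1 (ConjClasses.mk_eq_mk_iff_isConj.1 hout)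
      have := (mem_center_iff_coeff z).1 hz ((ConjClasses.mk (h : G)).out) d
      rw [hd] at this
      exact this
    · intro c _ hc
      rw [if_neg, mul_zero]
      intro hcon
      apply hc
      have hcout : ConjClasses.mk c.out = c := Quotient.out_eq c
      rw [← ConjClasses.mk_eq_mk_iff_isConj.2 hcon, hcout]
    · simp
  rw [hdec, map_sum]
  exact Finset.sum_congr rfl fun c _ => by rw [map_smul, smul_eq_mul, omega_classPart]

/-- A block inducing `B` and a member of `B` agree on central elements modulo `M`. -/
theorem omega_resH_congr (hM : IsPModular p M) {H : Subgroup G} [Fintype H]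
    {b : Set (IrrCharacter H)} {B : Set (IrrCharacter G)} (hind : IsInducedBlock M H b B)
    {ξ : IrrCharacter H} (hξ : ξ ∈ b) {χ : IrrCharacter G} (hχ : χ ∈ B) {z : MonoidAlgebra ℂ G}
    (hz : z ∈ Subalgebra.center ℂ (MonoidAlgebra ℂ G))
    (hR : ∀ x : G, MemLocalRing M (z.coeff x)) :
    MemLocalIdeal M (omega (ξ : H → ℂ) (resH H z) - omega (χ : G → ℂ) z) := by
  classical
  rw [omega_resH_eq_sum_classes (ξ : H → ℂ) hz, omega_eq_sum_classes χ hz,
    ← Finset.sum_sub_distrib]
  refine MemLocalIdeal.sum hM _ fun c _ => ?_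
  rw [← mul_sub]
  exact MemLocalIdeal.mul_left hM (hR _) (hind.2.2 ξ hξ χ hχ _)

open scoped Classical in
/-- The sum of the `p`-regular elements. -/
noncomputable def regSum (k : Type*) [CommSemiring k] (G : Type*) [Group G] [Finite G] (p : ℕ) :
    MonoidAlgebra k G :=
  Blocks.ofFun fun x => if p ∣ orderOf x then 0 else 1

theorem regSum_mem_center (k : Type*) [CommSemiring k] (p : ℕ) :
    regSum k G p ∈ Subalgebra.center k (MonoidAlgebra k G) := by
  classical
  rw [mem_center_iff_coeff]
  intro g h
  simp only [regSum, Blocks.coeff_ofFun]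
  refine if_congr ?_ rfl rfl
  rw [show h * g * h⁻¹ = MulAut.conj h g from rfl, MulEquiv.orderOf_eq]

theorem coeff_regSum_memLocalRing (hM : IsPModular p M) (x : G) :
    MemLocalRing M ((regSum ℂ G p).coeff x) := by
  classical
  simp only [regSum, Blocks.coeff_ofFun]
  split_ifs
  · exact (lRing hM).zero_mem
  · exact (lRing hM).one_mem

theorem resH_regSum (H : Subgroup G) [Fintype H] (k : Type*) [CommRing k] (p : ℕ) :
    resH H (regSum k G p) = regSum k H p := by
  classical
  refine MonoidAlgebra.ext (Finsupp.ext fun h => ?_)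
  simp only [coeff_resH, regSum, Blocks.coeff_ofFun, Subgroup.orderOf_coe]

open scoped Classical in
theorem omega_regSum (χ : G → ℂ) (p : ℕ) :
    omega χ (regSum ℂ G p) =
      (∑ x ∈ Finset.univ.filter (fun x : G => ¬ p ∣ orderOf x), χ x) / χ 1 := by
  rw [omega_apply, Finset.sum_filter]
  congr 1
  refine Finset.sum_congr rfl fun x _ => ?_
  simp only [regSum, Blocks.coeff_ofFun]
  split_ifs <;> simp

/-- Outside the principal block the regular elements sum to zero. -/
theorem omega_regSum_eq_zero (hM : IsPModular p M) {χ : IrrCharacter G}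
    (hχ : χ ∉ principalBlock M G) : omega (χ : G → ℂ) (regSum ℂ G p) = 0 := by
  classical
  have h := sum_regular_eq_zero_of_not_sameBlock hM (χ := χ) (ψ := principalIrr G)
    (fun h => hχ (SameBlock.symm hM h))
  rw [omega_regSum]
  simp only [principalIrr_apply, map_one, mul_one] at h
  rw [h, zero_div]

/-- Inside the principal block the regular sum is a unit modulo `M`. -/
theorem omega_regSum_not_mem (hM : IsPModular p M) {χ : IrrCharacter G}
    (hχ : χ ∈ principalBlock M G) :
    ¬ MemLocalIdeal M (omega (χ : G → ℂ) (regSum ℂ G p)) := by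
  classical
  haveI : Fact p.Prime := ⟨hM.1⟩
  intro h
  have h2 := omega_congr_of_sameBlock hM (χ := principalIrr G) (ψ := χ) hχ
    (regSum_mem_center ℂ p) (coeff_regSum_memLocalRing hM)
  have h1 := MemLocalIdeal.add hM h2 h
  rw [sub_add_cancel, omega_regSum] at h1
  simp only [principalIrr_apply, div_one, Finset.sum_const, nsmul_eq_mul, mul_one] at h1
  rw [memLocalIdeal_natCast_iff hM, ← Fintype.card_subtype, ← Nat.card_eq_fintype_card] at h1
  exact not_dvd_card_regular h1

theorem principalIrr_mem (hM : IsPModular p M) :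
    (principalIrr G : IrrCharacter G) ∈ principalBlock M G :=
  fun g => by
    simp only [principalIrr]
    rw [sub_self]
    exact memLocalIdeal_zero hM

/-- Brauer's Third Main Theorem for a block with defined induced block. -/
theorem isInducedBlock_principal_iff (hM : IsPModular p M) (H : Subgroup G) [Fintype H]
    {b : Set (IrrCharacter H)} (hdef : InducedBlockDefined M H b) :
    IsInducedBlock M H b (principalBlock M G) ↔ b = principalBlock M H := by
  obtain ⟨B, hind⟩ := hdef
  obtain ⟨ξ, hξ⟩ := IsPBlock.nonempty hM hind.1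
  have key : ∀ {B' : Set (IrrCharacter G)}, IsInducedBlock M H b B' → ∀ {χ : IrrCharacter G},
      χ ∈ B' → MemLocalIdeal M
        (omega (ξ : H → ℂ) (regSum ℂ H p) - omega (χ : G → ℂ) (regSum ℂ G p)) := by
    intro B' hB' χ hχ
    rw [← resH_regSum H ℂ p]
    exact omega_resH_congr hM hB' hξ hχ (regSum_mem_center ℂ p) (coeff_regSum_memLocalRing hM)
  constructor
  · intro h
    rw [IsPBlock.eq_blockOf hM h.1 hξ]
    by_contra hne
    have hξ0 : ξ ∉ principalBlock M H := fun h0 =>
      hne (IsPBlock.eq_blockOf hM (isPBlock_principalBlock M) h0).symm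
    have h1 := key h (principalIrr_mem hM)
    rw [omega_regSum_eq_zero hM hξ0, zero_sub] at h1
    exact omega_regSum_not_mem hM (principalIrr_mem hM) (by simpa using MemLocalIdeal.neg hM h1)
  · rintro rfl
    obtain ⟨χ, hχ⟩ := IsPBlock.nonempty hM hind.2.1
    suffices hB : B = principalBlock M G by rwa [← hB]
    rw [IsPBlock.eq_blockOf hM hind.2.1 hχ]
    by_contra hne
    have hχ0 : χ ∉ principalBlock M G := fun h0 =>
      hne (IsPBlock.eq_blockOf hM (isPBlock_principalBlock M) h0).symm
    have h1 := key hind hχ
    rw [omega_regSum_eq_zero hM hχ0, sub_zero] at h1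
    exact omega_regSum_not_mem hM hξ h1

end CfsgLib.Blocks
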