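import Cfsg.Agent.Lib.Blocks.NormalPSubgroup
import Cfsg.Agent.Lib.Blocks.PrincipalSq
import Cfsg.Agent.Lib.Blocks.ThirdMain
import Cfsg.Agent.Lib.Characters.Ito

/-!
# Groups with a single block

If a normal `p`-subgroup contains its centralizer, the principal block is the only block.
-/

set_option autoImplicit false

namespace CfsgLib.SingleBlock

open Cfsg CfsgLib CfsgLib.Characters CfsgLib.Blocks CfsgLib.NormalRes CfsgLib.BrauerPerm

universe u

variable {G : Type u} [Group G] [Finite G] {p : ℕ} {M : Ideal AlgInt}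

/-- On an abelian normal `p`-subgroup every central character is congruent to the class size. -/
theorem centralChar_congr (hM : IsPModular p M) (A : Subgroup G) [hAn : A.Normal]
    (hA : IsPGroup p A) (hab : ∀ a ∈ A, ∀ b ∈ A, a * b = b * a) (χ : IrrCharacter G) {g : G}
    (hg : g ∈ A) :
    MemLocalIdeal M (centralChar (χ : G → ℂ) g -
      ((Subgroup.centralizer ({g} : Set G)).index : ℂ)) := by
  classical
  haveI := Fintype.ofFinite G
  haveI := Fintype.ofFinite A
  haveI : IsMulCommutative A :=
    isMulCommutative_iff.mpr fun a b => Subtype.ext (hab a a.2 b b.2)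
  set T : Finset A := Finset.univ.filter fun a => IsConj g (a : G) with hT
  have hTcard : T.card = (Subgroup.centralizer ({g} : Set G)).index := by
    rw [← natCard_isConj g, hT, ← Fintype.card_subtype, ← Nat.card_eq_fintype_card]
    refine Nat.card_congr
      { toFun := fun a => ⟨((a : A) : G), a.2⟩
        invFun := fun x => ⟨⟨x.1, by
          obtain ⟨c, hc⟩ := isConj_iff.mp x.2
          rw [← hc]; exact hAn.conj_mem g hg c⟩, x.2⟩
        left_inv := fun a => rfl
        right_inv := fun x => rfl }
  have hval : ∀ a ∈ T, (χ : G → ℂ) a = (χ : G → ℂ) g := fun a ha =>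
    (classFunction_eq_of_isConj (irr_isClassFunction χ) (Finset.mem_filter.mp ha).2).symm
  obtain ⟨θ₀, hθ₀⟩ := exists_mult_ne_zero A χ
  set S := ∑ a ∈ T, (θ₀ : A → ℂ) a with hS
  have hSeq : ∀ θ : IrrCharacter A, mult A (χ : G → ℂ) θ ≠ 0 → ∑ a ∈ T, (θ : A → ℂ) a = S := by
    intro θ hθ
    obtain ⟨x, rfl⟩ := exists_conj_of_constituents A χ hθ₀ hθ
    refine Finset.sum_equiv (MulAut.conjNormal x).symm.toEquiv (fun a => ?_) fun a _ => ?_
    · simp only [hT, Finset.mem_filter, Finset.mem_univ, true_and]
      have hc : IsConj (a : G) (((MulAut.conjNormal x).symm a : A) : G) :=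
        isConj_iff.mpr ⟨x⁻¹, by simp [MulAut.conjNormal_symm_apply]⟩
      exact ⟨fun h => h.trans hc, fun h => h.trans hc.symm⟩
    · rw [twistIrr_apply]; rfl
  have hdeg : (χ : G → ℂ) 1 = ∑ θ : IrrCharacter A, mult A (χ : G → ℂ) θ := by
    have h := res_eq_sum A (irr_isClassFunction χ) 1
    rw [Subgroup.coe_one] at h
    rw [h]
    exact Finset.sum_congr rfl fun θ _ => by rw [CharIto.degree_one_of_comm θ.2, mul_one]
  have hω : centralChar (χ : G → ℂ) g = S := by
    rw [centralChar, ← hTcard, ← nsmul_eq_mul, ← Finset.sum_const,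
      Finset.sum_congr rfl fun a ha => (hval a ha).symm,
      Finset.sum_congr rfl fun a _ => res_eq_sum A (irr_isClassFunction χ) a, Finset.sum_comm,
      Finset.sum_congr rfl fun θ _ => show ∑ a ∈ T, mult A (χ : G → ℂ) θ * (θ : A → ℂ) a =
          mult A (χ : G → ℂ) θ * S by
        by_cases h : mult A (χ : G → ℂ) θ = 0
        · simp [h]
        · rw [← Finset.mul_sum, hSeq θ h], ← Finset.sum_mul, ← hdeg,
      mul_div_cancel_left₀ _ (irr_one_ne_zero χ)]
  rw [hω, ← hTcard, hS, ← nsmul_one, ← Finset.sum_const, ← Finset.sum_sub_distrib]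
  refine MemLocalIdeal.sum hM _ fun a _ => ?_
  obtain ⟨k, hk⟩ := hA a
  have h := CfsgLib.PrincipalSq.char_congr_of_pow_eq hM (irr_isCharacter θ₀) (g := a) (y := 1)
    (k := k) (by rw [hk, one_pow])
  rwa [CharIto.degree_one_of_comm θ₀.2] at h

/-- A group with a normal `p`-subgroup containing its centralizer has only one block. -/
theorem principalBlock_eq_univ (hM : IsPModular p M) (Q : Subgroup G) [Q.Normal]
    (hQ : IsPGroup p Q) (hC : Subgroup.centralizer (Q : Set G) ≤ Q) :
    principalBlock M G = Set.univ := by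
  classical
  haveI := Fintype.ofFinite G
  haveI : Fact p.Prime := ⟨hM.1⟩
  set B := principalBlock M G
  have hB : IsPBlock M B := isPBlock_principalBlock M
  set A := Subgroup.centralizer (Q : Set G) with hAdef
  have hA : IsPGroup p A := hQ.to_le hC
  have hab : ∀ a ∈ A, ∀ b ∈ A, a * b = b * a := fun a ha b hb =>
    (Subgroup.mem_centralizer_iff.mp hb a (hC ha))
  refine Set.eq_univ_of_forall fun χ => ?_
  by_contra hχ
  have h1 := omega_blockIdem B (principalIrr G)
  rw [if_pos (principalIrr_mem hM)] at h1
  have h2 := omega_blockIdem B χ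
  rw [if_neg hχ] at h2
  have h3 : MemLocalIdeal M (omega (χ : G → ℂ) (blockIdem B) -
      omega (principalIrr G : G → ℂ) (blockIdem B)) := by
    rw [omega_eq_sum_classes χ (blockIdem_mem_center B),
      omega_eq_sum_classes (principalIrr G) (blockIdem_mem_center B), ← Finset.sum_sub_distrib]
    refine MemLocalIdeal.sum hM _ fun c _ => ?_
    rw [← mul_sub, coeff_blockIdem]
    by_cases hc : c.out ∈ A
    · refine MemLocalIdeal.mul_left hM (memLocalRing_blockCoeff hM hB _) ?_
      have h4 := centralChar_congr hM A hA hab χ hc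
      have h5 : centralChar (principalIrr G : G → ℂ) c.out =
          ((Subgroup.centralizer ({c.out} : Set G)).index : ℂ) := by
        simp [centralChar]
      rwa [h5]
    · rw [BlockNormalP.blockCoeff_eq_zero hM Q hQ hB hc, zero_mul]
      exact memLocalIdeal_zero hM
  rw [h1, h2] at h3
  exact not_memLocalIdeal_one hM (by simpa using MemLocalIdeal.neg hM h3)

end CfsgLib.SingleBlock
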