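import Cfsg.Prelude.Def_Blocks
import Mathlib.Data.Nat.ChineseRemainder
import Mathlib.GroupTheory.OrderOfElement

/-!
# The `p`-part of an element
-/

set_option autoImplicit false
set_option linter.style.haveILetI false

namespace CfsgLib.Blocks

open Cfsg

variable {G : Type*} [Group G] {p : ℕ}

/-- An exponent cutting out the `p`-part. -/
theorem exists_pPart_exponent (hp : p.Prime) {g : G} (hg : IsOfFinOrder g) :
    ∃ e : ℕ, IsPPart p g (g ^ e) ∧ orderOf g / p ^ (orderOf g).factorization p ∣ e := by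
  set n := orderOf g
  set a := n.factorization p
  set q := n / p ^ a
  have hn : n ≠ 0 := hg.orderOf_pos.ne'
  have hq : n = p ^ a * q := (Nat.ordProj_mul_ordCompl_eq_self n p).symm
  have hpq : ¬ p ∣ q := Nat.not_dvd_ordCompl hp hn
  have hcop : Nat.Coprime (p ^ a) q := ((hp.coprime_iff_not_dvd).2 hpq).pow_left a
  obtain ⟨e, he1, he2⟩ := Nat.chineseRemainder hcop 1 0
  have he2' : q ∣ e := Nat.modEq_zero_iff_dvd.1 he2
  refine ⟨e, ⟨(g ^ e)⁻¹ * g, mul_inv_cancel_left _ _, ?_, ?_, ?_⟩, he2'⟩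
  · exact ((Commute.refl (g ^ e)).inv_right).mul_right ((Commute.refl g).pow_left e)
  · have h1 : orderOf (g ^ e) ∣ p ^ a := by
      refine orderOf_dvd_of_pow_eq_one ?_
      rw [← pow_mul]
      refine orderOf_dvd_iff_pow_eq_one.1 (hq.dvd.trans ?_)
      rw [mul_comm e]
      exact Nat.mul_dvd_mul_left _ he2'
    obtain ⟨j, -, hj⟩ := (Nat.dvd_prime_pow hp).1 h1
    exact ⟨j, hj⟩
  · intro h
    refine hpq (h.trans (orderOf_dvd_of_pow_eq_one ?_))
    rw [(((Commute.refl g).pow_left e).inv_left).mul_pow, inv_pow, ← pow_mul, inv_mul_eq_one,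
      pow_eq_pow_iff_modEq]
    show e * q ≡ q [MOD n]
    rw [hq]
    have := Nat.ModEq.mul_right' q he1
    rwa [one_mul] at this

theorem exists_isPPart [Finite G] (hp : p.Prime) (g : G) : ∃ x : G, IsPPart p g x := by
  obtain ⟨e, he, -⟩ := exists_pPart_exponent hp (isOfFinOrder_of_finite g)
  exact ⟨_, he⟩

theorem eq_one_of_pow_order_dvd {z : G} (hp : p.Prime) {k : ℕ} (h1 : orderOf z ∣ p ^ k)
    (h2 : ¬ p ∣ orderOf z) : z = 1 := by
  obtain ⟨j, -, hj⟩ := (Nat.dvd_prime_pow hp).1 h1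
  rcases j with _ | j
  · exact orderOf_eq_one_iff.1 (by rw [hj, pow_zero])
  · exact absurd (hj ▸ dvd_pow_self p j.succ_ne_zero) h2

/-- The `p`-part is unique. -/
theorem IsPPart.unique [Finite G] (hp : p.Prime) {g x x' : G} (h : IsPPart p g x)
    (h' : IsPPart p g x') : x = x' := by
  obtain ⟨e, he, -⟩ := exists_pPart_exponent hp (isOfFinOrder_of_finite g)
  suffices h0 : ∀ z, IsPPart p g z → z = g ^ e by rw [h0 x h, h0 x' h']
  intro z hz
  obtain ⟨y, hy, hc, ⟨k, hk⟩, hyp⟩ := hz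
  obtain ⟨y₀, hy₀, hc₀, ⟨k₀, hk₀⟩, hyp₀⟩ := he
  have hzg : Commute z g := hy ▸ (Commute.refl z).mul_right hc
  have hyg : Commute y g := hy ▸ hc.symm.mul_right (Commute.refl y)
  have hy0 : y₀ = (g ^ e)⁻¹ * g := eq_inv_mul_of_mul_eq hy₀
  have hw : (g ^ e)⁻¹ * z = y₀ * y⁻¹ := by rw [hy0, ← hy]; group
  have hord : orderOf ((g ^ e)⁻¹ * z) ∣ p ^ max k₀ k := by
    refine orderOf_dvd_of_pow_eq_one ?_
    rw [((hzg.pow_right e).symm.inv_left).mul_pow, inv_pow,
      orderOf_dvd_iff_pow_eq_one.1 (hk₀ ▸ pow_dvd_pow p (le_max_left k₀ k)),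
      orderOf_dvd_iff_pow_eq_one.1 (hk ▸ pow_dvd_pow p (le_max_right k₀ k)), inv_one, one_mul]
  have hord2 : ¬ p ∣ orderOf (y₀ * y⁻¹) := by
    intro h
    have hcy : Commute y₀ y⁻¹ := by
      rw [hy0]
      exact (((hyg.pow_right e).symm.inv_left).mul_left hyg.symm).inv_right
    have h2 := h.trans hcy.orderOf_mul_dvd_lcm
    rw [orderOf_inv] at h2
    exact (hp.dvd_mul.1 (h2.trans (Nat.lcm_dvd_mul _ _))).elim hyp₀ hyp
  have := eq_one_of_pow_order_dvd hp hord (hw ▸ hord2)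
  exact (inv_mul_eq_one.1 this).symm

/-- Conjugating carries the `p`-part along. -/
theorem IsPPart.conj {g x : G} (h : IsPPart p g x) (c : G) :
    IsPPart p (c * g * c⁻¹) (c * x * c⁻¹) := by
  obtain ⟨y, hy, hc, hk, hyp⟩ := h
  refine ⟨c * y * c⁻¹, by rw [← hy]; group, hc.map (MulAut.conj c).toMonoidHom, ?_, ?_⟩
  · rwa [show c * x * c⁻¹ = MulAut.conj c x from rfl, MulEquiv.orderOf_eq]
  · rwa [show c * y * c⁻¹ = MulAut.conj c y from rfl, MulEquiv.orderOf_eq]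

theorem isPPart_mul {x y : G} (hc : Commute x y) (hx : ∃ k : ℕ, orderOf x = p ^ k)
    (hy : ¬ p ∣ orderOf y) : IsPPart p (x * y) x :=
  ⟨y, rfl, hc, hx, hy⟩

end CfsgLib.Blocks
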