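import Cfsg.Agent.Lib.Blocks.WeakOrth
import Cfsg.Agent.Lib.Blocks.Kernel

/-!
# The kernel of a block
-/

set_option autoImplicit false
set_option linter.style.haveILetI false

namespace CfsgLib.Blocks

open Cfsg CfsgLib.Characters
open scoped ComplexConjugate

variable {G : Type*} [Group G]

/-- The kernel of an irreducible character. -/
theorem exists_kerSubgroup [Finite G] (χ : IrrCharacter G) :
    ∃ K : Subgroup G, K.Normal ∧ ∀ g, g ∈ K ↔ (χ : G → ℂ) g = (χ : G → ℂ) 1 := by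
  obtain ⟨χ, n, ρ, hirr, rfl⟩ := χ
  refine ⟨ρ.ker, ρ.normal_ker, fun g => ?_⟩
  show ρ g = 1 ↔ ρ.character g = ρ.character 1
  rw [Representation.char_one, char_eq_degree_iff]
  rfl

/-- The kernel of a block is a subgroup. -/
theorem exists_blockKerSubgroup [Finite G] (B : Set (IrrCharacter G)) :
    ∃ K : Subgroup G, K.Normal ∧ (K : Set G) = blockKer B := by
  choose K hK hmem using fun χ : IrrCharacter G => exists_kerSubgroup χ
  refine ⟨⨅ χ ∈ B, K χ, ?_, ?_⟩
  · refine Subgroup.normal_iInf_normal fun χ => Subgroup.normal_iInf_normal fun _ => hK χ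
  · ext g
    simp [blockKer, Subgroup.mem_iInf, hmem]

variable {p : ℕ} {M : Ideal AlgInt}

/-- The kernel of a block has order prime to `p`. -/
theorem not_dvd_card_blockKer [Fintype G] (hM : IsPModular p M) {B : Set (IrrCharacter G)}
    (hB : IsPBlock M B) {K : Subgroup G} (hK : (K : Set G) = blockKer B) :
    ¬ p ∣ Nat.card K := by
  classical
  haveI := Fact.mk hM.1
  intro hdvd
  obtain ⟨z, hz⟩ := exists_prime_orderOf_dvd_card' p hdvd
  rw [← Subgroup.orderOf_coe] at hz
  have h0 := blockCoeff_eq_zero_of_singular hM hB (y := (z : G)) (by rw [hz])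
  have hker : (z : G) ∈ blockKer B := hK ▸ z.2
  rw [blockCoeff_eq_sum] at h0
  obtain ⟨χ, hχ⟩ := IsPBlock.nonempty hM hB
  have hd : ∀ ψ : IrrCharacter G, ∃ d : ℕ, (ψ : G → ℂ) 1 = d ∧ 0 < d := fun ψ => by
    obtain ⟨d, hd, -⟩ := irr_degree_dvd_card ψ
    refine ⟨d, hd, Nat.pos_of_ne_zero ?_⟩
    rintro rfl
    exact irr_one_ne_zero ψ (by simpa using hd)
  choose d hd hdpos using hd
  rcases mul_eq_zero.1 h0 with h1 | h1
  · simp at h1
  · rw [Finset.sum_congr rfl (g := fun ψ => ((d ψ * d ψ : ℕ) : ℂ)) fun ψ hψ => by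
      rw [hker ψ (Finset.mem_filter.1 hψ).2, hd, Complex.conj_natCast, Nat.cast_mul]] at h1
    rw [← Nat.cast_sum, Nat.cast_eq_zero, Finset.sum_eq_zero_iff] at h1
    have h2 := hdpos χ
    have h3 := h1 χ (Finset.mem_filter.2 ⟨Finset.mem_univ χ, hχ⟩)
    rcases mul_eq_zero.1 h3 with h4 | h4 <;> omega

end CfsgLib.Blocks
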