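import Cfsg.Agent.Lib.Blocks.BlockParts
import Cfsg.Agent.Lib.Blocks.BlockKernel
import Cfsg.Agent.Lib.PCore.Basic
import Cfsg.Agent.S0939

/-!
# Norms of the principal block on a `p`-section
-/

set_option autoImplicit false
set_option linter.style.haveILetI false

namespace CfsgLib.Blocks

open Cfsg CfsgLib.Characters
open scoped ComplexConjugate

universe u

variable {G : Type u} [Group G] [Fintype G] {p : ℕ} {M : Ideal AlgInt}

theorem blockPart_linear {ι : Type*} [Fintype ι] (B : Set (IrrCharacter G)) (a : ι → ℂ)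
    (f : ι → G → ℂ) (y : G) :
    blockPart B (fun c => ∑ i, a i * f i c) y = ∑ i, a i * blockPart B (f i) y := by
  classical
  simp only [blockPart_eq_sum, classInner, Finset.mul_sum, Finset.sum_mul]
  rw [Finset.sum_comm (γ := ι)]
  refine Finset.sum_congr rfl fun χ _ => ?_
  rw [Finset.sum_comm (γ := ι)]
  refine Finset.sum_congr rfl fun x _ => Finset.sum_congr rfl fun i _ => ?_
  ring

open scoped Classical in
theorem blockPart_irr (B : Set (IrrCharacter G)) (χ : IrrCharacter G) (y : G) :
    blockPart B (χ : G → ℂ) y = if χ ∈ B then (χ : G → ℂ) y else 0 := by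
  rw [blockPart_eq_sum]
  simp [classInner_irr, Finset.sum_ite_eq]

/-- Block parts at regular elements only see the values at regular elements. -/
theorem blockPart_congr_regular (hM : IsPModular p M) {B : Set (IrrCharacter G)}
    (hB : IsPBlock M B) {f g : G → ℂ} (h : ∀ c : G, ¬ p ∣ orderOf c → f c = g c) {y : G}
    (hy : ¬ p ∣ orderOf y) : blockPart B f y = blockPart B g y := by
  classical
  rw [← sub_eq_zero]
  simp only [blockPart_eq_sum, classInner, Finset.sum_mul, Finset.mul_sum,
    ← Finset.sum_sub_distrib]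
  rw [Finset.sum_comm]
  refine Finset.sum_eq_zero fun c _ => ?_
  by_cases hc : p ∣ orderOf c
  · have hwo := weak_orth hM hB hy hc
    rw [← mul_zero ((Nat.card G : ℂ)⁻¹ * (f c - g c)), ← hwo, Finset.mul_sum]
    exact Finset.sum_congr rfl fun ξ _ => by ring
  · exact Finset.sum_eq_zero fun ξ _ => by rw [h c hc]; ring

variable [Fact p.Prime] {z : G}

open scoped Classical in
/-- The principal block part of a section function. -/
theorem blockPart_principal_section (hM : IsPModular p M) (hz : ∃ k : ℕ, orderOf z = p ^ k)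
    [Fintype (Subgroup.centralizer ({z} : Set G))] {y : Subgroup.centralizer ({z} : Set G)}
    (hy : ¬ p ∣ orderOf y) (ζ : IrrCharacter G) :
    blockPart (principalBlock M (Subgroup.centralizer ({z} : Set G)))
      (sectionFun z (ζ : G → ℂ)) y =
      if ζ ∈ principalBlock M G then (ζ : G → ℂ) (z * (y : G)) else 0 := by
  have hdef : ∀ {b : Set (IrrCharacter (Subgroup.centralizer ({z} : Set G)))}, IsPBlock M b → InducedBlockDefined M (Subgroup.centralizer ({z} : Set G)) b := fun hb =>
    inducedBlockDefined_centralizer hM hz hb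
  have hb0 : IsPBlock M (principalBlock M (Subgroup.centralizer ({z} : Set G))) := isPBlock_principalBlock M
  split_ifs with hζ
  · have hB0 : blockOf M (ζ : G → ℂ) = principalBlock M G :=
      (IsPBlock.eq_blockOf hM (isPBlock_principalBlock M) hζ).symm
    have h0 : blockPart (principalBlock M (Subgroup.centralizer ({z} : Set G)))ᶜ (sectionFun z (ζ : G → ℂ)) y = 0 := by
      refine blockPart_union_eq_zero hM ?_ ?_
      · intro ξ η hξ hs hη
        exact hξ ((IsPBlock.mem_iff hM hb0 hη ξ).2 (SameBlock.symm hM hs))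
      · intro ξ hξ
        refine blockPart_sectionFun_eq_zero hM hz (isPBlock_blockOf ξ) (fun hind => hξ ?_) hy
        rw [hB0, isInducedBlock_principal_iff hM (Subgroup.centralizer ({z} : Set G)) (hdef (isPBlock_blockOf ξ))] at hind
        rw [← hind]
        exact mem_blockOf_self hM ξ
    have hall : sectionFun z (ζ : G → ℂ) y = blockPart (principalBlock M (Subgroup.centralizer ({z} : Set G)))
        (sectionFun z (ζ : G → ℂ)) y + blockPart (principalBlock M (Subgroup.centralizer ({z} : Set G)))ᶜ (sectionFun z (ζ : G → ℂ)) y := by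
      conv_lhs => rw [classFunction_eq_sum (isClassFunction_sectionFun (irr_isClassFunction ζ))]
      simp only [blockPart_eq_sum, Finset.sum_apply, Pi.smul_apply, smul_eq_mul, Set.mem_compl_iff]
      exact (Finset.sum_filter_add_sum_filter_not _ _ _).symm
    rw [h0, add_zero] at hall
    exact hall.symm
  · refine blockPart_sectionFun_eq_zero hM hz hb0 (fun hind => hζ ?_) hy
    have h := (isInducedBlock_principal_iff hM (Subgroup.centralizer ({z} : Set G)) (hdef hb0)).2 rfl
    rw [IsInducedBlock.unique hM h hind]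
    exact mem_blockOf_self hM ζ

open scoped Classical in
/-- The sums of squares over the principal blocks agree on a section. -/
theorem principal_section_norm (hM : IsPModular p M) (hz : ∃ k : ℕ, orderOf z = p ^ k)
    [Fintype (Subgroup.centralizer ({z} : Set G))] {y : Subgroup.centralizer ({z} : Set G)}
    (hy : ¬ p ∣ orderOf y) :
    ∑ ζ ∈ Finset.univ.filter (· ∈ principalBlock M G), ‖(ζ : G → ℂ) (z * (y : G))‖ ^ 2 =
      ∑ χ ∈ Finset.univ.filter (· ∈ principalBlock M (Subgroup.centralizer ({z} : Set G))),
        ‖(χ : Subgroup.centralizer ({z} : Set G) → ℂ) y‖ ^ 2 := by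
  have hzy : ∀ c : (Subgroup.centralizer ({z} : Set G)), ¬ p ∣ orderOf c → IsPPart p (z * (c : G)) z := fun c hc =>
    isPPart_mul (commute_centralizer c) hz (by rwa [Subgroup.orderOf_coe])
  have heq : ∀ c : (Subgroup.centralizer ({z} : Set G)), ¬ p ∣ orderOf c →
      ∑ ζ : IrrCharacter G, conj ((ζ : G → ℂ) (z * (y : G))) * sectionFun z (ζ : G → ℂ) c =
        ∑ χ : IrrCharacter (Subgroup.centralizer ({z} : Set G)), conj ((χ : (Subgroup.centralizer ({z} : Set G)) → ℂ) y) * (χ : (Subgroup.centralizer ({z} : Set G)) → ℂ) c := by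
    intro c hc
    have h1 := column_orth (z * (c : G)) (z * (y : G))
    have h2 := column_orth c y
    have hiff : IsConj (z * (c : G)) (z * (y : G)) ↔ IsConj c y := by
      constructor
      · intro h
        obtain ⟨d, hd⟩ := isConj_iff.1 h
        have h3 := IsPPart.conj (hzy c hc) d
        rw [hd] at h3
        have h4 := IsPPart.unique hM.1 h3 (hzy y hy)
        have hdC : d ∈ (Subgroup.centralizer ({z} : Set G)) := Subgroup.mem_centralizer_singleton_iff.2 (mul_inv_eq_iff_eq_mul.1 h4)
        refine isConj_iff.2 ⟨⟨d, hdC⟩, Subtype.ext ?_⟩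
        refine mul_left_cancel (a := z) ?_
        rw [← hd]
        show z * (d * (c : G) * d⁻¹) = d * (z * (c : G)) * d⁻¹
        rw [← mul_assoc d z, mul_inv_eq_iff_eq_mul.1 h4]
        group
      · intro h
        obtain ⟨d, hd⟩ := isConj_iff.1 h
        refine isConj_iff.2 ⟨(d : G), ?_⟩
        rw [← hd]
        simp only [Subgroup.coe_mul, Subgroup.coe_inv]
        rw [← mul_assoc (d : G) z, ← (commute_centralizer d).eq]
        group
    have hcard : Nat.card (Subgroup.centralizer ({z * (c : G)} : Set G)) =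
        Nat.card (Subgroup.centralizer ({c} : Set (Subgroup.centralizer ({z} : Set G)))) := by
      have hmem : ∀ d ∈ Subgroup.centralizer ({z * (c : G)} : Set G), d ∈ (Subgroup.centralizer ({z} : Set G)) ∧ d * c = c * d := by
        intro d hd
        have hd' := Subgroup.mem_centralizer_singleton_iff.1 hd
        have h3 := IsPPart.conj (hzy c hc) d
        rw [mul_inv_eq_iff_eq_mul.2 hd'] at h3
        have h4 := mul_inv_eq_iff_eq_mul.1 (IsPPart.unique hM.1 h3 (hzy c hc))
        refine ⟨Subgroup.mem_centralizer_singleton_iff.2 h4, mul_left_cancel (a := z) ?_⟩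
        rw [← mul_assoc, ← h4, mul_assoc, hd', mul_assoc]
      refine Nat.card_congr
        { toFun := fun d => ⟨⟨d, (hmem d d.2).1⟩,
            Subgroup.mem_centralizer_singleton_iff.2 (Subtype.ext (hmem d d.2).2)⟩
          invFun := fun d => ⟨((d : (Subgroup.centralizer ({z} : Set G))) : G), Subgroup.mem_centralizer_singleton_iff.2 ?_⟩
          left_inv := fun d => rfl
          right_inv := fun d => rfl }
      have hd := congrArg Subtype.val (Subgroup.mem_centralizer_singleton_iff.1 d.2)
      simp only [Subgroup.coe_mul] at hd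
      rw [← mul_assoc, ← (commute_centralizer (d : (Subgroup.centralizer ({z} : Set G)))).eq, mul_assoc, hd, mul_assoc]
    calc ∑ ζ : IrrCharacter G, conj ((ζ : G → ℂ) (z * (y : G))) * sectionFun z (ζ : G → ℂ) c
        = ∑ ζ : IrrCharacter G, (ζ : G → ℂ) (z * (c : G)) * conj ((ζ : G → ℂ) (z * (y : G))) :=
          Finset.sum_congr rfl fun ζ _ => mul_comm _ _
      _ = ∑ χ : IrrCharacter (Subgroup.centralizer ({z} : Set G)), (χ : (Subgroup.centralizer ({z} : Set G)) → ℂ) c * conj ((χ : (Subgroup.centralizer ({z} : Set G)) → ℂ) y) := by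
          rw [h1, h2]
          by_cases hcy : IsConj c y
          · rw [if_pos (hiff.2 hcy), if_pos hcy, hcard]
          · rw [if_neg (fun h => hcy (hiff.1 h)), if_neg hcy]
      _ = _ := Finset.sum_congr rfl fun χ _ => mul_comm _ _
  have key := blockPart_congr_regular hM (B := (principalBlock M (Subgroup.centralizer ({z} : Set G)))) (isPBlock_principalBlock M) heq hy
  rw [blockPart_linear, blockPart_linear] at key
  simp only [blockPart_principal_section hM hz hy, blockPart_irr, mul_ite, mul_zero] at key
  rw [← Finset.sum_filter, ← Finset.sum_filter] at key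
  simp only [Complex.conj_mul'] at key
  exact_mod_cast key

omit [Fintype G] in
open scoped Classical in
/-- With a normal `p`-complement the principal block has norm the `p`-part on regular elements. -/
theorem principal_norm_of_complement {H : Type u} [Group H] [Fintype H] (hM : IsPModular p M)
    (hnc : ∃ k : ℕ, (pPrimeCore p H).index = p ^ k) {y : H} (hy : ¬ p ∣ orderOf y) :
    ∑ χ ∈ Finset.univ.filter (· ∈ principalBlock M H), ‖(χ : H → ℂ) y‖ ^ 2 =
      ((p ^ (Nat.card H).factorization p : ℕ) : ℝ) := by
  haveI : (pPrimeCore p H).Normal := pPrimeCore_normal p H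
  have hN : ¬ p ∣ Nat.card (pPrimeCore p H) := CfsgLib.PCore.not_dvd_card_pPrimeCore
  have hb := Cfsg.Agent.S0939.result p M hM hnc
  obtain ⟨k, hk⟩ := hnc
  have hyN : y ∈ pPrimeCore p H := by
    have h1 := Subgroup.pow_index_mem (pPrimeCore p H) y
    rw [hk] at h1
    obtain ⟨m, hm⟩ := exists_pow_eq_self_of_coprime
      (Nat.Coprime.pow_left k ((Fact.out : p.Prime).coprime_iff_not_dvd.2 hy))
    rw [← hm]
    exact Subgroup.pow_mem _ h1 m
  have hval : ∀ χ : IrrCharacter H, omega (χ : H → ℂ) (avgElt (pPrimeCore p H)) =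
      if χ ∈ principalBlock M H then 1 else 0 := by
    intro χ
    have h3 : omega (χ : H → ℂ) (avgElt (pPrimeCore p H)) * omega (χ : H → ℂ) (avgElt (pPrimeCore p H)) =
        omega (χ : H → ℂ) (avgElt (pPrimeCore p H)) := by
      rw [← omega_mul χ (avgElt_mem_center _), isIdempotentElem_avgElt (pPrimeCore p H)]
    split_ifs with hχ
    · rw [hb] at hχ
      rw [omega_avgElt, Finset.sum_congr rfl (fun x hx => hχ x (Finset.mem_filter.1 hx).2),
        Finset.sum_const, nsmul_eq_mul, ← Fintype.card_subtype, ← Nat.card_eq_fintype_card,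
        mul_div_cancel_left₀ _ (by simp), div_self (irr_one_ne_zero χ)]
    · refine (mul_left_eq_self₀.1 h3).resolve_left fun h4 => hχ ?_
      rw [hb]
      exact fun n hn => apply_eq_one_of_omega_avgElt h4 hn
  have h1 := congrArg (fun w : MonoidAlgebra ℂ H => w.coeff 1)
    (eq_blockIdem (avgElt_mem_center (pPrimeCore p H)) hval)
  simp only [coeff_blockIdem, blockCoeff_eq_sum, avgElt, Blocks.coeff_ofFun,
    if_pos (one_mem (pPrimeCore p H))] at h1
  have hG : (Nat.card H : ℂ) = (Nat.card (pPrimeCore p H) : ℂ) * ((p ^ k : ℕ) : ℂ) := by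
    rw [← hk, ← Nat.cast_mul, Subgroup.card_mul_index]
  have hkv : (Nat.card H).factorization p = k := by
    rw [← (pPrimeCore p H).card_mul_index, hk,
      Nat.factorization_mul Nat.card_pos.ne' (pow_ne_zero _ hM.1.ne_zero), Finsupp.add_apply,
      Nat.factorization_eq_zero_of_not_dvd hN, hM.1.factorization_pow, Finsupp.single_eq_same,
      zero_add]
  have hsum : ∑ χ ∈ Finset.univ.filter (· ∈ principalBlock M H), conj ((χ : H → ℂ) y) * (χ : H → ℂ) y =
      ((p ^ k : ℕ) : ℂ) := by
    rw [eq_inv_mul_iff_mul_eq₀ (by simp : (Nat.card H : ℂ) ≠ 0), hG,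
      mul_right_comm, mul_inv_cancel₀ (by simp : (Nat.card (pPrimeCore p H) : ℂ) ≠ 0), one_mul] at h1
    rw [h1]
    refine Finset.sum_congr rfl fun χ hχ => ?_
    have hχ' := (Finset.mem_filter.1 hχ).2
    rw [hb] at hχ'
    rw [hχ' y hyN, mul_comm]
  simp only [Complex.conj_mul'] at hsum
  rw [hkv]
  exact_mod_cast hsum

end CfsgLib.Blocks
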