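import Cfsg.Agent.Lib.Blocks.Brauer
import Cfsg.Agent.Lib.Characters.Induction

/-!
# The central character of an induced character
-/

set_option autoImplicit false
set_option linter.style.haveILetI false

namespace CfsgLib.Blocks

open Cfsg CfsgLib.Induction

variable {G : Type*} [Group G] [Fintype G]

/-- The induced central character is the central character of the induced function. -/
theorem inducedCentralChar_eq_centralChar_indFun (H : Subgroup G) (ξ : H → ℂ) (g : G) :
    inducedCentralChar H ξ g = centralChar (indFun H ξ) g := by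
  classical
  letI := Fintype.ofFinite H
  set C := Subgroup.centralizer ({g} : Set G)
  have hfib : ∀ y : G, ((Finset.univ.filter fun x : G => x⁻¹ * g * x = y).card : ℂ) =
      if IsConj g y then (Nat.card C : ℂ) else 0 := by
    intro y
    split_ifs with h
    · obtain ⟨a, ha⟩ := isConj_iff.1 h
      rw [Nat.cast_inj, Nat.card_eq_fintype_card, ← Fintype.card_subtype]
      refine Fintype.card_congr ⟨fun x => ⟨(x : G) * a, ?_⟩, fun c => ⟨(c : G) * a⁻¹, ?_⟩, fun x => ?_,
        fun c => ?_⟩
      · refine Subgroup.mem_centralizer_singleton_iff.2 ?_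
        have hx : (x : G)⁻¹ * g * x = a * g * a⁻¹ := x.2.trans ha.symm
        calc (x : G) * a * g = x * (a * g * a⁻¹) * a := by group
          _ = x * ((x : G)⁻¹ * g * x) * a := by rw [hx]
          _ = g * (x * a) := by group
      · have hc := Subgroup.mem_centralizer_singleton_iff.1 c.2
        rw [← ha]
        calc ((c : G) * a⁻¹)⁻¹ * g * ((c : G) * a⁻¹) = a * ((c : G)⁻¹ * (g * c)) * a⁻¹ := by group
          _ = a * ((c : G)⁻¹ * (c * g)) * a⁻¹ := by rw [hc]
          _ = a * g * a⁻¹ := by group
      · ext; simp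
      · ext; simp
    · rw [Nat.cast_eq_zero, Finset.card_eq_zero, Finset.filter_eq_empty_iff]
      rintro x - hx
      exact h (isConj_iff.2 ⟨x⁻¹, by rw [inv_inv]; exact hx⟩)
  have hsum : ∑ x : G, extendByZero H ξ (x⁻¹ * g * x) =
      (Nat.card C : ℂ) * ∑ h ∈ Finset.univ.filter (fun h : H => IsConj g (h : G)), ξ h := by
    rw [← Finset.sum_fiberwise Finset.univ (fun x : G => x⁻¹ * g * x)]
    calc ∑ y : G, ∑ x ∈ Finset.univ.filter (fun x : G => x⁻¹ * g * x = y),
          extendByZero H ξ (x⁻¹ * g * x)
        = ∑ y : G, extendByZero H ξ y * (if IsConj g y then (Nat.card C : ℂ) else 0) := by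
          refine Finset.sum_congr rfl fun y _ => ?_
          rw [Finset.sum_congr rfl fun x hx => by rw [(Finset.mem_filter.1 hx).2],
            Finset.sum_const, nsmul_eq_mul, hfib, mul_comm]
      _ = ∑ h : H, ξ h * (if IsConj g (h : G) then (Nat.card C : ℂ) else 0) :=
          sum_extendByZero_mul H ξ _
      _ = _ := by
          rw [Finset.mul_sum, Finset.sum_filter]
          exact Finset.sum_congr rfl fun h _ => by split_ifs <;> simp [mul_comm]
  rw [inducedCentralChar, finsum_mem_eq_sum_of_inter_support_eq _
    (t := Finset.univ.filter fun h : H => IsConj g (h : G)) (by simp), ← Finset.sum_div,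
    centralChar, indFun_one_apply, indFun_apply, hsum]
  have h1 : ((Subgroup.centralizer ({g} : Set G)).index : ℂ) * (Nat.card C : ℂ) =
      (Nat.card H : ℂ) * (H.index : ℂ) := by
    rw [← Nat.cast_mul, ← Nat.cast_mul, Subgroup.index_mul_card, Subgroup.card_mul_index]
  have hH : (Nat.card H : ℂ) ≠ 0 := Nat.cast_ne_zero.2 Nat.card_pos.ne'
  have hI : (H.index : ℂ) ≠ 0 := Nat.cast_ne_zero.2 Subgroup.index_ne_zero_of_finite
  rcases eq_or_ne (ξ 1) 0 with h0 | h0
  · simp [h0]
  · field_simp
    linear_combination (-(∑ h ∈ Finset.univ.filter (fun h : H => IsConj g (h : G)), ξ h)) * h1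

open scoped Classical in
/-- The block of a character inducing irreducibly induces the block of the induced character. -/
theorem isInducedBlock_indFun {p : ℕ} {M : Ideal AlgInt} (hM : IsPModular p M) (H : Subgroup G)
    (ξ : IrrCharacter H) (hind : IsIrrCharacter G (indFun H (ξ : H → ℂ))) :
    IsInducedBlock M H (blockOf M (ξ : H → ℂ)) (blockOf M (indFun H (ξ : H → ℂ))) := by
  letI := Fintype.ofFinite H
  refine isInducedBlock_of_forall hM (isPBlock_blockOf ξ) (isPBlock_blockOf ⟨_, hind⟩)
    (mem_blockOf_self hM ξ) (mem_blockOf_self hM ⟨_, hind⟩) fun g => ?_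
  rw [inducedCentralChar_eq_centralChar_indFun, sub_self]
  exact memLocalIdeal_zero hM

end CfsgLib.Blocks
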