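import Cfsg.Agent.Lib.Blocks.CyclicAverage
import Cfsg.Agent.Lib.BlockCover.CentralDefectMembers
import Cfsg.Agent.Lib.Blk7.SubsectionNorm
import Cfsg.Agent.Lib.Blocks.InducedChar
import Cfsg.Agent.Lib.Blocks.WeakOrth
import Cfsg.Agent.Lib.KGV.NormalPSubgroup
import Cfsg.Agent.Lib.Chars17.IrrBasic
import Cfsg.Agent.Lib.BrauerPairs.ConjBlock

/-!
# A section whose local block has central defect group

`H` is the centraliser of `x`, `b` is a block of `H` with central defect group `Z ∋ x` inducing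
`B`. The `b`-part of `c ↦ χ (x * c)` is `dCoef χ x` times the Brauer character of `b`; if few
elements fuse `x` inside `Z` none of these coefficients vanishes, and then `k(B) ≤ |Z|`.
-/

set_option autoImplicit false
set_option linter.style.haveILetI false
set_option linter.unusedSectionVars false

namespace CfsgLib.CyclicDefectBound

open Cfsg CfsgLib.Characters CfsgLib.Blocks CfsgLib.CentralDefect
open scoped ComplexConjugate

universe u

variable {G : Type u} [Group G] [Fintype G] {p : ℕ} [hp : Fact p.Prime] {M : Ideal AlgInt}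

/-- A block with a central defect group and a base character. -/
structure Base (p : ℕ) (M : Ideal AlgInt) {H : Subgroup G} [Fintype H] (Z : Subgroup H)
    (η₀ : IrrCharacter H) (bn : ℕ) (b : Set (IrrCharacter H)) : Prop where
  setup : Setup p Z η₀ bn
  central : Z ≤ Subgroup.center H
  ker : Z ≤ Chars17.irrKer η₀
  block : IsPBlock M b
  mem : η₀ ∈ b
  regular : ∀ η ∈ b, ∀ y : H, ¬ p ∣ orderOf y → (η : H → ℂ) y = (η₀ : H → ℂ) y

theorem comm_of_central {H : Type u} [Group H] {Z : Subgroup H} (hZ : Z ≤ Subgroup.center H)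
    (a b : Z) : Commute a b :=
  Subtype.ext (Subgroup.mem_center_iff.1 (hZ a.2) (b : H)).symm

/-- A block with a central defect group has a base character and rank one. -/
theorem exists_base (hM : IsPModular p M) {H : Subgroup G} [Fintype H] {Z : Subgroup H}
    (hZ : IsPGroup p Z) (hZc : Z ≤ Subgroup.center H) {b : Set (IrrCharacter H)}
    (hb : IsPBlock M b) (hD : IsDefectGroup p M b Z) :
    blockRank p b = 1 ∧ ∃ (η₀ : IrrCharacter H) (bn : ℕ), Base p M Z η₀ bn b := by
  classical
  have hn : Z.Normal := ⟨fun d hd g => by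
    rwa [Subgroup.mem_center_iff.1 (hZc hd) g, mul_inv_cancel_right]⟩
  obtain ⟨χ, hχ, hdeg⟩ := exists_degree_eq_index hM hb hD
  obtain ⟨c, hS⟩ := setup_central hZ hZc χ hdeg
  have hinv : ∀ ζ : IrrCharacter Z, ConjInv Z (ζ : Z → ℂ) := fun ζ g u h => by
    refine congrArg (ζ : Z → ℂ) (Subtype.ext ?_)
    show g * (u : H) * g⁻¹ = u
    rw [Subgroup.mem_center_iff.1 (hZc u.2) g, mul_inv_cancel_right]
  refine ⟨blockRank_eq_one hM hS hinv hb hχ, ?_⟩
  have : IsMulCommutative Z := ⟨⟨fun a b => (comm_of_central hZc a b).eq⟩⟩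
  have hreg : ∀ η ∈ b, ∀ y : H, ¬ p ∣ orderOf y → (η : H → ℂ) y = (χ : H → ℂ) y := by
    intro η hη y hy
    obtain ⟨ζ, hζ⟩ := exists_eq_pExt hM hS hinv ((IsPBlock.mem_iff hM hb hχ η).1 hη)
    have h1 : (ζ : Z → ℂ) 1 = 1 := by
      simpa using CharGalois.irr_pow_of_comm ζ 1 0
    rw [regular_apply hS hζ hy, h1, one_mul]
  obtain ⟨η₀, hη₀, hker⟩ := KGV.exists_mem_block_le_irrKer hM Z hZ hb
  have h1 : ¬ p ∣ orderOf (1 : H) := by rw [orderOf_one]; exact hp.out.not_dvd_one
  have hdeg' : (charDegree (η₀ : H → ℂ)).factorization p = Z.index.factorization p := by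
    rw [← hdeg]
    simp only [charDegree, hreg η₀ hη₀ 1 h1]
  obtain ⟨bn, hS₀⟩ := setup_central hZ hZc η₀ hdeg'
  exact ⟨η₀, bn, hS₀, hZc, hker, hb, hη₀, fun η hη y hy => by
    rw [hreg η hη y hy, hreg η₀ hη₀ y hy]⟩

variable {H : Subgroup G} [Fintype H] {Z : Subgroup H} {η₀ : IrrCharacter H} {bn : ℕ}
  {b : Set (IrrCharacter H)}

open scoped Classical in
/-- The coefficient of `χ` on the section. -/
noncomputable def dCoef (b : Set (IrrCharacter H)) (Z : Subgroup H) (χ : IrrCharacter G) (x : Z) :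
    ℂ :=
  ∑ η ∈ Finset.univ.filter (fun η : IrrCharacter H => η ∈ b),
    classInner (fun c : H => (χ : G → ℂ) c) (η : H → ℂ) *
      ((η : H → ℂ) (x : H) / (η : H → ℂ) 1)

theorem lam_mul (h : Base p M Z η₀ bn b) (η : IrrCharacter H) (x y : Z) :
    (η : H → ℂ) ((x * y : Z) : H) / (η : H → ℂ) 1 =
      (η : H → ℂ) (x : H) / (η : H → ℂ) 1 * ((η : H → ℂ) (y : H) / (η : H → ℂ) 1) := by
  rw [Subgroup.coe_mul, apply_central_mul η (h.central x.2)]
  ring

theorem isCharacter_dCoef (h : Base p M Z η₀ bn b) (χ : IrrCharacter G) :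
    IsCharacter Z (dCoef b Z χ) := by
  classical
  have e : dCoef b Z χ = ∑ η ∈ Finset.univ.filter (fun η : IrrCharacter H => η ∈ b),
      fun x : Z => classInner (fun c : H => (χ : G → ℂ) c) (η : H → ℂ) *
        ((η : H → ℂ) (x : H) / (η : H → ℂ) 1) := by
    funext x
    simp [dCoef, Finset.sum_apply]
  rw [e]
  refine isCharacter_sum _ fun η _ => ?_
  obtain ⟨n, hn⟩ := classInner_char_nat
    (CharGalois.isCharacter_comp (irr_isCharacter χ) H.subtype) (irr_isCharacter η)
  let f : Z →* ℂ :=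
    { toFun := fun x => (η : H → ℂ) (x : H) / (η : H → ℂ) 1
      map_one' := div_self (irr_one_ne_zero η)
      map_mul' := lam_mul h η }
  have hc := isCharacter_nsmul (isCharacter_of_irr (isIrrCharacter_of_hom f.toHomUnits)) n
  convert hc using 1
  funext x
  rw [show classInner (fun c : H => (χ : G → ℂ) c) (η : H → ℂ) = (n : ℂ) from hn]
  simp [f]

theorem classInner_shift (h : Base p M Z η₀ bn b) (χ : IrrCharacter G) (η : IrrCharacter H)
    (x : Z) : classInner (fun c : H => (χ : G → ℂ) (((x : H) * c : H) : G)) (η : H → ℂ) =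
      classInner (fun c : H => (χ : G → ℂ) c) (η : H → ℂ) *
        ((η : H → ℂ) (x : H) / (η : H → ℂ) 1) := by
  simp only [classInner, mul_assoc, Finset.sum_mul]
  congr 1
  rw [← Equiv.sum_comp (Equiv.mulLeft ((x : H)⁻¹))]
  refine Finset.sum_congr rfl fun c _ => ?_
  simp only [Equiv.coe_mulLeft, mul_inv_cancel_left]
  rw [apply_central_mul η (inv_mem (h.central x.2)) c, irr_apply_inv, map_mul, map_div₀,
    Complex.conj_conj, ← irr_apply_inv η 1, inv_one]
  ring

open scoped Classical in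
/-- The `b`-part on the section. -/
theorem blockPart_shift (h : Base p M Z η₀ bn b) (χ : IrrCharacter G) (x : Z) {s : H}
    (hs : ¬ p ∣ orderOf s) :
    blockPart b (fun c : H => (χ : G → ℂ) (((x : H) * c : H) : G)) s =
      dCoef b Z χ x * (η₀ : H → ℂ) s := by
  rw [blockPart_eq_sum, dCoef, Finset.sum_mul]
  refine Finset.sum_congr rfl fun η hη => ?_
  rw [classInner_shift h, h.regular η (Finset.mem_filter.1 hη).2 s hs]

open scoped Classical in
theorem sum_regular_mul (hM : IsPModular p M) (h : Base p M Z η₀ bn b) (θ : IrrCharacter H) :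
    ∑ c ∈ regSet H p, (θ : H → ℂ) c * conj ((η₀ : H → ℂ) c) =
      if θ ∈ b then (Nat.card H : ℂ) / (Nat.card Z : ℂ) else 0 := by
  split_ifs with hθ
  · have h1 := (regular_sum_and_vanish h.setup).1
    rw [eq_div_iff (Nat.cast_ne_zero.2 Nat.card_pos.ne'), mul_comm,
      Finset.sum_congr rfl fun c hc => by rw [h.regular θ hθ c (mem_regSet.1 hc), Complex.mul_conj]]
    exact_mod_cast h1
  · exact sum_regular_eq_zero_of_not_sameBlock hM fun hs =>
      hθ ((IsPBlock.mem_iff hM h.block h.mem θ).2 (SameBlock.symm hM hs))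

/-- The coefficient as a sum over the regular elements. -/
theorem sum_shift_mul (hM : IsPModular p M) (h : Base p M Z η₀ bn b) (χ : IrrCharacter G) (x : Z) :
    ∑ c ∈ regSet H p, (χ : G → ℂ) (((x : H) * c : H) : G) * conj ((η₀ : H → ℂ) c) =
      dCoef b Z χ x * ((Nat.card H : ℂ) / (Nat.card Z : ℂ)) := by
  classical
  set s : H → ℂ := fun c => (χ : G → ℂ) (((x : H) * c : H) : G) with hsdef
  have hcls : IsClassFunction H s := by
    intro g t
    simp only [hsdef]
    have hx : t * ((x : H) * g) * t⁻¹ = (x : H) * (t * g * t⁻¹) := by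
      rw [← mul_assoc t, Subgroup.mem_center_iff.1 (h.central x.2) t]
      simp [mul_assoc]
    rw [← hx, Subgroup.coe_mul, Subgroup.coe_mul, Subgroup.coe_inv]
    exact irr_isClassFunction χ _ _
  have hexp : ∀ c, s c = ∑ θ : IrrCharacter H, classInner s (θ : H → ℂ) * (θ : H → ℂ) c := fun c => by
    conv_lhs => rw [classFunction_eq_sum hcls]
    simp
  show ∑ c ∈ regSet H p, s c * conj ((η₀ : H → ℂ) c) = _
  simp only [hexp, Finset.sum_mul]
  rw [Finset.sum_comm, dCoef, Finset.sum_mul, Finset.sum_filter]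
  refine Finset.sum_congr rfl fun θ _ => ?_
  rw [Finset.sum_congr rfl fun c _ => mul_assoc (classInner s (θ : H → ℂ)) _ _, ← Finset.mul_sum,
    sum_regular_mul hM h θ]
  split_ifs with hθ
  · rw [hsdef, classInner_shift h]
  · rw [mul_zero]

open scoped Classical in
/-- A sum over regular elements by classes. -/
theorem sum_classes (F : H → ℂ) (hF : ∀ g t, F (t * g * t⁻¹) = F g) :
    ∑ c ∈ regSet H p, F c = ∑ K ∈ Finset.univ.filter (fun K : ConjClasses H => ¬ p ∣ orderOf K.out),
      ((Subgroup.centralizer ({K.out} : Set H)).index : ℂ) * F K.out := by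
  have hout : ∀ c : H, IsConj (ConjClasses.mk c).out c := fun c =>
    ConjClasses.mk_eq_mk_iff_isConj.1 (Quotient.out_eq _)
  have hord : ∀ {a c : H}, IsConj a c → orderOf a = orderOf c := by
    intro a c hac
    obtain ⟨t, rfl⟩ := isConj_iff.1 hac
    exact ((MulAut.conj t).orderOf_eq a).symm
  rw [← Finset.sum_fiberwise_of_maps_to
    (t := Finset.univ.filter (fun K : ConjClasses H => ¬ p ∣ orderOf K.out))
    (g := fun c : H => ConjClasses.mk c) fun c hc =>
    Finset.mem_filter.2 ⟨Finset.mem_univ _, by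
      rw [hord (hout c)]; exact mem_regSet.1 hc⟩]
  refine Finset.sum_congr rfl fun K hK => ?_
  have hfil : (regSet H p).filter (fun c => ConjClasses.mk c = K) =
      Finset.univ.filter (fun c => IsConj K.out c) := by
    ext c
    simp only [Finset.mem_filter, Finset.mem_univ, true_and, mem_regSet]
    constructor
    · rintro ⟨-, rfl⟩; exact hout c
    · exact fun hc => ⟨hord hc ▸ (Finset.mem_filter.1 hK).2,
        ((ConjClasses.mk_eq_mk_iff_isConj.2 hc).symm.trans (Quotient.out_eq K))⟩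
  rw [hfil, Finset.sum_congr rfl fun c hc =>
      (classFunction_eq_of_isConj hF (Finset.mem_filter.1 hc).2).symm,
    Finset.sum_const, nsmul_eq_mul, ← card_isConj_eq_index, Nat.card_eq_fintype_card,
    Fintype.card_subtype]

theorem natCard_centralizer_shift (hM : IsPModular p M) {x : Z} (hZp : IsPGroup p Z)
    (hH : H = Subgroup.centralizer ({((x : H) : G)} : Set G)) {c : H} (hc : ¬ p ∣ orderOf c) :
    Nat.card (Subgroup.centralizer ({(((x : H) * c : H) : G)} : Set G)) =
      Nat.card (Subgroup.centralizer ({c} : Set H)) := by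
  have hxG : ∃ k : ℕ, orderOf (((x : H) : G)) = p ^ k := by
    simpa [Subgroup.orderOf_coe] using IsPGroup.iff_orderOf.1 hZp x
  have hmem : ∀ g : G, g ∈ H ↔ g * ((x : H) : G) = ((x : H) : G) * g := fun g => by
    conv_lhs => rw [hH]
    exact Subgroup.mem_centralizer_singleton_iff
  have hpx : IsPPart p (((x : H) * c : H) : G) ((x : H) : G) := by
    rw [Subgroup.coe_mul]
    exact isPPart_mul ((hmem c).1 c.2).symm hxG (by rwa [Subgroup.orderOf_coe])
  have hle : Subgroup.centralizer ({(((x : H) * c : H) : G)} : Set G) ≤ H := by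
    intro t ht
    rw [Subgroup.mem_centralizer_singleton_iff] at ht
    refine (hmem t).2 ?_
    have h1 : t * (((x : H) * c : H) : G) * t⁻¹ = (((x : H) * c : H) : G) := by
      rw [ht, mul_inv_cancel_right]
    have h := IsPPart.conj hpx t
    rw [h1] at h
    exact mul_inv_eq_iff_eq_mul.1 (IsPPart.unique hM.1 h hpx)
  refine (Nat.card_congr (Subgroup.subgroupOfEquivOfLe hle).toEquiv).symm.trans
    (Nat.card_congr (Equiv.subtypeEquivRight fun t => ?_))
  rw [Subgroup.mem_subgroupOf, Subgroup.mem_centralizer_singleton_iff,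
    Subgroup.mem_centralizer_singleton_iff, Subtype.ext_iff, Subgroup.coe_mul, Subgroup.coe_mul,
    Subgroup.coe_mul, ← mul_assoc, (hmem (t : G)).1 t.2, mul_assoc, mul_assoc, mul_right_inj]

open scoped Classical in
/-- The elements moving `x` into `Z` and fixing the block. -/
def fuseSet (b : Set (IrrCharacter H)) (Z : Subgroup H) (x : Z) : Set G :=
  {g | g * ((x : H) : G) * g⁻¹ ∈ Z.map H.subtype ∧ ∀ θ : IrrCharacter H,
    (∀ c c' : H, (c' : G) = g * c * g⁻¹ → (θ : H → ℂ) c = (η₀ : H → ℂ) c') → θ ∈ b}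

/-- The coefficients do not vanish. -/
theorem dCoef_ne_zero (hM : IsPModular p M) (h : Base p M Z η₀ bn b) (x : Z)
    (hH : H = Subgroup.centralizer ({((x : H) : G)} : Set G))
    {B : Set (IrrCharacter G)} (hind : IsInducedBlock M H b B) {χ : IrrCharacter G} (hχ : χ ∈ B)
    (hN : ∀ g : G, g * ((x : H) : G) * g⁻¹ ∈ Z.map H.subtype →
      g ∈ Subgroup.normalizer (H : Set G))
    {e : ℕ} (he : ¬ p ∣ e)
    (hfuse : Nat.card (fuseSet (η₀ := η₀) b Z x) = e * Nat.card H) : dCoef b Z χ x ≠ 0 := by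
  classical
  intro hd
  set Q := Finset.univ.filter (fun K : ConjClasses H => ¬ p ∣ orderOf K.out) with hQ
  set ι : H → G := fun c => (((x : H) * c : H) : G) with hι
  have hcard : ∀ K ∈ Q, Nat.card (Subgroup.centralizer ({ι K.out} : Set G)) =
      Nat.card (Subgroup.centralizer ({K.out} : Set H)) := fun K hK =>
    natCard_centralizer_shift hM h.setup.pgroup hH (Finset.mem_filter.1 hK).2
  have hindex : ∀ K ∈ Q, ((Subgroup.centralizer ({ι K.out} : Set G)).index : ℂ) =
      (H.index : ℂ) * ((Subgroup.centralizer ({K.out} : Set H)).index : ℂ) := fun K hK => by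
    have h1 := Subgroup.index_mul_card (Subgroup.centralizer ({ι K.out} : Set G))
    rw [hcard K hK, ← Subgroup.index_mul_card H,
      ← Subgroup.index_mul_card (Subgroup.centralizer ({K.out} : Set H)), ← mul_assoc] at h1
    exact_mod_cast Nat.eq_of_mul_eq_mul_right Nat.card_pos h1
  set S := ∑ K ∈ Q, centralChar (χ : G → ℂ) (ι K.out) * conj ((η₀ : H → ℂ) K.out) with hS
  set S₀ := ∑ K ∈ Q, inducedCentralChar H (η₀ : H → ℂ) (ι K.out) * conj ((η₀ : H → ℂ) K.out)
    with hS₀
  have hx : ∀ t g : H, t * ((x : H) * g) * t⁻¹ = (x : H) * (t * g * t⁻¹) := fun t g => by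
    rw [← mul_assoc t, Subgroup.mem_center_iff.1 (h.central x.2) t]
    simp [mul_assoc]
  have hι' : ∀ t g : H, ι (t * g * t⁻¹) = (t : G) * ι g * (t : G)⁻¹ := fun t g => by
    simp only [hι]
    rw [← hx, Subgroup.coe_mul, Subgroup.coe_mul, Subgroup.coe_inv]
  have hS0 : S = 0 := by
    have h1 := sum_shift_mul hM h χ x
    rw [hd, zero_mul] at h1
    rw [sum_classes (p := p) (fun c => (χ : G → ℂ) (ι c) * conj ((η₀ : H → ℂ) c)) fun g t => by
      rw [hι', irr_isClassFunction χ _ _, irr_isClassFunction η₀ g t]] at h1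
    have hne : (χ : G → ℂ) 1 / (H.index : ℂ) ≠ 0 :=
      div_ne_zero (irr_one_ne_zero χ) (Nat.cast_ne_zero.2 Subgroup.index_ne_zero_of_finite)
    refine (mul_eq_zero.1 (show (χ : G → ℂ) 1 / (H.index : ℂ) * S = 0 from ?_)).resolve_left hne
    rw [← h1, hS, Finset.mul_sum]
    refine Finset.sum_congr rfl fun K hK => ?_
    have hI : (H.index : ℂ) ≠ 0 := Nat.cast_ne_zero.2 Subgroup.index_ne_zero_of_finite
    have h1' := irr_one_ne_zero χ
    rw [centralChar, hindex K hK]
    field_simp
  -- the congruence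
  have hdiff : MemLocalIdeal M (S₀ - S) := by
    rw [hS, hS₀, ← Finset.sum_sub_distrib]
    refine MemLocalIdeal.sum hM _ fun K _ => ?_
    rw [← sub_mul, mul_comm]
    refine MemLocalIdeal.mul_left hM ?_ (hind.2.2 η₀ h.mem χ hχ _)
    rw [← irr_apply_inv]
    exact memLocalRing_of_isIntegral hM (ClassCount.irr_isIntegral η₀ _)
  rw [hS0, sub_zero] at hdiff
  -- the induced central character
  let F : H → ℂ := fun c =>
    (∑ t : G, extendByZero H (η₀ : H → ℂ) (t⁻¹ * ι c * t)) * conj ((η₀ : H → ℂ) c)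
  have hF : ∀ g t, F (t * g * t⁻¹) = F g := fun g t => by
    simp only [F]
    rw [irr_isClassFunction η₀ g t]
    congr 1
    rw [hι', ← Equiv.sum_comp (Equiv.mulLeft (t : G))]
    refine Finset.sum_congr rfl fun y _ => ?_
    congr 1
    simp [mul_assoc]
  have hS₀val : S₀ * ((Nat.card H : ℂ) * (η₀ : H → ℂ) 1) = ∑ c ∈ regSet H p, F c := by
    rw [sum_classes (p := p) F hF, hS₀, Finset.sum_mul]
    refine Finset.sum_congr rfl fun K hK => ?_
    rw [inducedCentralChar_eq_centralChar_indFun, centralChar, hindex K hK,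
      Induction.indFun_one_apply, Induction.indFun_apply]
    simp only [F]
    have hHc : (Nat.card H : ℂ) ≠ 0 := Nat.cast_ne_zero.2 Nat.card_pos.ne'
    have hI : (H.index : ℂ) ≠ 0 := Nat.cast_ne_zero.2 Subgroup.index_ne_zero_of_finite
    have h0 := irr_one_ne_zero η₀
    field_simp
  -- its evaluation
  have hswap : ∑ c ∈ regSet H p, F c = (e : ℂ) * (Nat.card H : ℂ) * ((Nat.card H : ℂ) / (Nat.card Z : ℂ)) := by
    have hstep : ∑ c ∈ regSet H p, F c = ∑ t : G, ∑ c ∈ regSet H p,
        extendByZero H (η₀ : H → ℂ) (t⁻¹ * ι c * t) * conj ((η₀ : H → ℂ) c) := by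
      simp only [F, Finset.sum_mul]
      exact Finset.sum_comm
    rw [hstep, ← Equiv.sum_comp (Equiv.inv G)]
    simp only [Equiv.inv_apply, inv_inv]
    have hterm : ∀ g : G, ∑ c ∈ regSet H p,
        extendByZero H (η₀ : H → ℂ) (g * ι c * g⁻¹) * conj ((η₀ : H → ℂ) c) =
        if g ∈ fuseSet (η₀ := η₀) b Z x then (Nat.card H : ℂ) / (Nat.card Z : ℂ) else 0 := by
      intro g
      by_cases hgx : g * ((x : H) : G) * g⁻¹ ∈ Z.map H.subtype
      swap
      · rw [if_neg fun hg => hgx hg.1]
        refine Finset.sum_eq_zero fun c hc => ?_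
        rw [mul_eq_zero]
        left
        by_cases hmem : g * ι c * g⁻¹ ∈ H
        swap
        · exact Induction.extendByZero_notMem H _ hmem
        rw [Induction.extendByZero_mem H _ hmem]
        by_contra hne
        have hh : ∃ u : Z, HasPart Z p (⟨_, hmem⟩ : H) u := by
          by_contra hno
          exact hne ((regular_sum_and_vanish h.setup).2 _ hno)
        obtain ⟨u, hu⟩ := hh
        apply hgx
        refine ⟨(u : H), u.2, ?_⟩
        have hxk : ∃ k : ℕ, orderOf ((x : H) : G) = p ^ k := by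
          simpa [Subgroup.orderOf_coe] using IsPGroup.iff_orderOf.1 h.setup.pgroup x
        have huk : ∃ k : ℕ, orderOf ((u : H) : G) = p ^ k := by
          simpa [Subgroup.orderOf_coe] using IsPGroup.iff_orderOf.1 h.setup.pgroup u
        set y : H := (u : H)⁻¹ * ⟨_, hmem⟩ with hy
        have h2 : IsPPart p (g * ι c * g⁻¹) ((u : H) : G) := by
          have hcy : Commute ((u : H) : G) (y : G) :=
            congrArg Subtype.val (Subgroup.mem_center_iff.1 (h.central u.2) y).symm
          have e1 : g * ι c * g⁻¹ = ((u : H) : G) * (y : G) := by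
            rw [hy, Subgroup.coe_mul, Subgroup.coe_inv, mul_inv_cancel_left]
          rw [e1]
          exact isPPart_mul hcy huk (by rw [Subgroup.orderOf_coe]; exact hu)
        have h3 : IsPPart p (g * ι c * g⁻¹) (g * ((x : H) : G) * g⁻¹) := by
          refine IsPPart.conj ?_ g
          simp only [hι, Subgroup.coe_mul]
          exact isPPart_mul (congrArg Subtype.val
            (Subgroup.mem_center_iff.1 (h.central x.2) c).symm) hxk
            (by rw [Subgroup.orderOf_coe]; exact mem_regSet.1 hc)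
        exact IsPPart.unique hM.1 h2 h3
      have hgN := hN g hgx
      obtain ⟨u, hu, hux⟩ := hgx
      have hK : ∀ k : G, k ∈ H ↔ (g⁻¹)⁻¹ * k * g⁻¹ ∈ H := fun k =>
        BrauerPairs.mem_normalizer_conj_iff (inv_mem hgN) k
      set θ : IrrCharacter H := CharCorr.twistIrr (BrauerPairs.conjEquiv g⁻¹ hK) η₀ with hθ
      have hθc : ∀ c c' : H, (c' : G) = g * c * g⁻¹ → (θ : H → ℂ) c = (η₀ : H → ℂ) c' := by
        intro c c' hcc
        rw [hθ, CharCorr.twistIrr_apply]
        refine congrArg (η₀ : H → ℂ) (Subtype.ext ?_)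
        show (g⁻¹)⁻¹ * (c : G) * g⁻¹ = c'
        rw [inv_inv, hcc]
      have hiff : g ∈ fuseSet (η₀ := η₀) b Z x ↔ θ ∈ b := by
        refine ⟨fun hg => hg.2 θ hθc, fun hθb => ⟨⟨u, hu, hux⟩, fun θ' hθ' => ?_⟩⟩
        have : θ' = θ := Subtype.ext (funext fun c => by
          have hc' : g * (c : G) * g⁻¹ ∈ H := (Subgroup.mem_normalizer_iff.1 hgN c).1 c.2
          rw [hθ' c ⟨_, hc'⟩ rfl, hθc c ⟨_, hc'⟩ rfl])
        exact this ▸ hθb
      rw [if_congr hiff rfl rfl, ← sum_regular_mul hM h θ]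
      refine Finset.sum_congr rfl fun c _ => ?_
      have hc' : g * (c : G) * g⁻¹ ∈ H := (Subgroup.mem_normalizer_iff.1 hgN c).1 c.2
      congr 1
      have e1 : g * ι c * g⁻¹ = ((u * ⟨_, hc'⟩ : H) : G) := by
        have hux' : (u : G) = g * ((x : H) : G) * g⁻¹ := hux
        simp only [hι, Subgroup.coe_mul, hux']
        group
      rw [e1, Induction.extendByZero_coe, hθc c ⟨_, hc'⟩ rfl]
      show (η₀ : H → ℂ) (u * ⟨_, hc'⟩) = _
      rw [apply_central_mul η₀ (h.central hu), Chars17.mem_irrKer.1 (h.ker hu),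
        div_self (irr_one_ne_zero η₀), one_mul]
    rw [Finset.sum_congr rfl fun g _ => hterm g, Finset.sum_ite, Finset.sum_const_zero, add_zero,
      Finset.sum_const, nsmul_eq_mul, ← Fintype.card_subtype]
    have : (Fintype.card {g : G // g ∈ fuseSet (η₀ := η₀) b Z x} : ℕ) = e * Nat.card H := by
      rw [← hfuse, Nat.card_eq_fintype_card]
    rw [this]
    push_cast
    rfl
  -- the conclusion
  have hfin : S₀ = ((e * bn : ℕ) : ℂ) := by
    have hdeg : (η₀ : H → ℂ) 1 * (bn : ℂ) * (Nat.card Z : ℂ) = (Nat.card H : ℂ) := by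
      obtain ⟨n, -, hn⟩ := irr_exists_degree η₀.2
      have h1 := h.setup.degree
      rw [show charDegree (η₀ : H → ℂ) = n by simp [charDegree, hn]] at h1
      rw [hn]
      exact_mod_cast h1
    have hHc : (Nat.card H : ℂ) ≠ 0 := Nat.cast_ne_zero.2 Nat.card_pos.ne'
    have hZc : (Nat.card Z : ℂ) ≠ 0 := Nat.cast_ne_zero.2 Nat.card_pos.ne'
    refine mul_right_cancel₀ (mul_ne_zero hHc (irr_one_ne_zero η₀)) ?_
    rw [hS₀val, hswap]
    push_cast
    field_simp
    linear_combination (-(e : ℂ)) * hdeg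
  rw [hfin, memLocalIdeal_natCast_iff hM] at hdiff
  exact (hp.out.dvd_mul.1 hdiff).elim he h.setup.not_dvd

theorem sum_norms' (hM : IsPModular p M) {x : G} (hH : H = Subgroup.centralizer ({x} : Set G))
    (hx : ∃ k : ℕ, orderOf x = p ^ k) {B : Set (IrrCharacter G)} (hB : IsPBlock M B)
    (hind : IsInducedBlock M H b B) [DecidablePred (· ∈ B)]
    [DecidablePred fun s : H => ¬ p ∣ orderOf s] :
    ∑ χ ∈ Finset.univ.filter (· ∈ B), ∑ s ∈ Finset.univ.filter (fun s : H => ¬ p ∣ orderOf s),
      blockPart b (fun c : H => (χ : G → ℂ) (x * c)) s *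
        blockPart b (fun c : H => (χ : G → ℂ) (x⁻¹ * c)) s⁻¹ =
      (Nat.card H : ℂ) * (blockRank p b : ℂ) := by
  subst hH
  convert SubsectionNorm.sum_norms hM hx hB hind

/-- The squared absolute values of the coefficients sum to `|Z|`. -/
theorem sum_dCoef (hM : IsPModular p M) (h : Base p M Z η₀ bn b) (x : Z)
    (hH : H = Subgroup.centralizer ({((x : H) : G)} : Set G)) (hl : blockRank p b = 1)
    {B : Set (IrrCharacter G)} (hB : IsPBlock M B) (hind : IsInducedBlock M H b B)
    [DecidablePred (· ∈ B)] :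
    ∑ χ ∈ Finset.univ.filter (· ∈ B), dCoef b Z χ x * dCoef b Z χ x⁻¹ = (Nat.card Z : ℂ) := by
  classical
  have hx : ∃ k : ℕ, orderOf ((x : H) : G) = p ^ k := by
    simpa [Subgroup.orderOf_coe] using IsPGroup.iff_orderOf.1 h.setup.pgroup x
  have h1 := sum_norms' hM hH hx hB hind
  rw [hl, Nat.cast_one, mul_one] at h1
  have h2 : ∀ χ : IrrCharacter G, ∀ s ∈ Finset.univ.filter (fun s : H => ¬ p ∣ orderOf s),
      blockPart b (fun c : H => (χ : G → ℂ) (((x : H) : G) * c)) s *
        blockPart b (fun c : H => (χ : G → ℂ) (((x : H) : G)⁻¹ * c)) s⁻¹ =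
      dCoef b Z χ x * dCoef b Z χ x⁻¹ * ((η₀ : H → ℂ) s * conj ((η₀ : H → ℂ) s)) := by
    intro χ s hs
    have hs' := (Finset.mem_filter.1 hs).2
    have e1 := blockPart_shift h χ x hs'
    have e2 := blockPart_shift h χ x⁻¹ (s := s⁻¹) (by rwa [orderOf_inv])
    simp only [Subgroup.coe_mul, Subgroup.coe_inv] at e1 e2
    rw [e1, e2, irr_apply_inv]
    ring
  rw [Finset.sum_congr rfl fun χ _ => Finset.sum_congr rfl (h2 χ)] at h1
  simp only [← Finset.mul_sum] at h1
  rw [← Finset.sum_mul] at h1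
  have hR := sum_regular_mul hM h η₀
  rw [if_pos h.mem] at hR
  rw [show Finset.univ.filter (fun s : H => ¬ p ∣ orderOf s) = regSet H p from
    Finset.ext fun s => by simp [mem_regSet], hR] at h1
  have hHc : (Nat.card H : ℂ) ≠ 0 := Nat.cast_ne_zero.2 Nat.card_pos.ne'
  have hZc : (Nat.card Z : ℂ) ≠ 0 := Nat.cast_ne_zero.2 Nat.card_pos.ne'
  field_simp at h1
  exact h1

/-- A block has at most `|Z|` characters when all coefficients at a generator are nonzero. -/
theorem natCard_block_le (hM : IsPModular p M) (h : Base p M Z η₀ bn b) (x : Z)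
    (hH : H = Subgroup.centralizer ({((x : H) : G)} : Set G)) (hl : blockRank p b = 1)
    {B : Set (IrrCharacter G)} (hB : IsPBlock M B) (hind : IsInducedBlock M H b B)
    (hne : ∀ χ ∈ B, dCoef b Z χ x ≠ 0) : Nat.card B ≤ Nat.card Z := by
  classical
  have hcard : Nat.card B = (Finset.univ.filter (fun χ : IrrCharacter G => χ ∈ B)).card := by
    rw [← Fintype.card_subtype, ← Nat.card_eq_fintype_card]
  rw [hcard]
  refine card_le_of_sum_normSq (comm_of_central h.central) _ (dCoef b Z)
    (fun χ _ => isCharacter_dCoef h χ) x (fun χ hχ => hne χ (Finset.mem_filter.1 hχ).2) _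
    fun m hm => ?_
  refine sum_dCoef hM h (x ^ m) (hH.trans ?_) hl hB hind
  have hcop : m.Coprime (orderOf x) := hm.coprime_dvd_right (orderOf_dvd_natCard x)
  obtain ⟨k, hk⟩ := exists_pow_eq_self_of_coprime hcop
  ext g
  simp only [Subgroup.mem_centralizer_singleton_iff, Subgroup.coe_pow]
  refine ⟨fun hg => (Commute.pow_right hg m).eq, fun hg => ?_⟩
  have h1 : Commute g ((((x : H) : G) ^ m) ^ k) := Commute.pow_right hg k
  have h2 : (((x : H) : G) ^ m) ^ k = ((x : H) : G) := by
    have := congrArg (fun z : Z => ((z : H) : G)) hk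
    simpa [Subgroup.coe_pow] using this
  rwa [h2] at h1

end CfsgLib.CyclicDefectBound
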