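import Cfsg.Agent.Lib.Blocks.ClassCount
import Cfsg.Agent.Lib.Involutions.Basic
import Mathlib.GroupTheory.FixedPointFree
import Mathlib.GroupTheory.Sylow
import Mathlib.GroupTheory.Perm.Cycle.Type
import Mathlib.GroupTheory.SpecificGroups.Cyclic

/-!
# Consequences of the absence of characters of `p`-defect zero

Elementary consequences of the class-pair count: if `G` has no irreducible character of
`p`-defect zero and `a` has centralizer of order prime to `p`, then some two distinct conjugates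
`g, h` of `a` have `g * h⁻¹` in a given Sylow `p`-subgroup. For involutions this forces an
abelian Sylow subgroup inverted by each involution.
-/

set_option autoImplicit false

noncomputable section

open scoped Pointwise

namespace CfsgLib.DefectZeroCriterion

open Cfsg CfsgLib.ClassCount CfsgLib.Characters

variable {G : Type*} [Group G] [Fintype G] {p : ℕ}

/-- An irreducible character is of defect zero, or `p` divides `|G| / χ(1)`. -/
theorem dvd_cofDegree (hp : p.Prime) (χ : IrrCharacter G)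
    (h : (charDegree (χ : G → ℂ)).factorization p ≠ (Nat.card G).factorization p) :
    p ∣ cofDegree χ := by
  by_contra hd
  apply h
  have hne : cofDegree χ ≠ 0 := by
    intro h0
    have := degree_mul_cofDegree χ
    rw [h0, mul_zero] at this
    exact (Nat.card_pos (α := G)).ne this
  rw [← degree_mul_cofDegree χ, Nat.factorization_mul (degree_eq χ).2.2.ne' hne,
    Finsupp.add_apply, Nat.factorization_eq_zero_of_not_dvd hd, add_zero]

/-- A defect zero character has `p ∤ |G| / χ(1)`. -/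
theorem not_dvd_cofDegree (hp : p.Prime) (χ : IrrCharacter G)
    (h : (charDegree (χ : G → ℂ)).factorization p = (Nat.card G).factorization p) :
    ¬ p ∣ cofDegree χ := by
  intro hd
  have hne : cofDegree χ ≠ 0 := by
    intro h0
    have := degree_mul_cofDegree χ
    rw [h0, mul_zero] at this
    exact (Nat.card_pos (α := G)).ne this
  rw [← degree_mul_cofDegree χ, Nat.factorization_mul (degree_eq χ).2.2.ne' hne,
    Finsupp.add_apply] at h
  have := hp.factorization_pos_of_dvd hne hd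
  omega

/-- Natural numbers are algebraic integers. -/
theorem isIntegral_natCast' (n : ℕ) : IsIntegral ℤ (n : ℂ) := by
  simpa using (isIntegral_algebraMap (R := ℤ) (A := ℂ) (x := (n : ℤ)))

/-- A natural number that is `p` times an algebraic integer is divisible by `p`. -/
theorem dvd_of_eq_mul_isIntegral (hp : p.Prime) {N : ℕ} {z : ℂ} (hz : IsIntegral ℤ z)
    (h : (N : ℂ) = (p : ℂ) * z) : p ∣ N := by
  refine CharScalar.dvd_of_isIntegral_div hp.ne_zero ?_
  rw [h, mul_div_cancel_left₀ _ (Nat.cast_ne_zero.2 hp.ne_zero)]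
  exact hz

/-- Without defect zero characters the pair counts of classes with `p'`-centralizers into a
subgroup `P` are divisible by `p * |P|`. -/
theorem dvd_of_no_defect_zero [hp : Fact p.Prime] (hno : ∀ χ : IrrCharacter G, p ∣ cofDegree χ)
    (a b : G) (P : Subgroup G) (T : Finset G) (hT : ∀ t, t ∈ T ↔ t ∈ P) (n : ℕ)
    (hn : (pairs a b T).card = Nat.card P * n)
    (ha : ¬ p ∣ Nat.card (Subgroup.centralizer ({a} : Set G)))
    (hb : ¬ p ∣ Nat.card (Subgroup.centralizer ({b} : Set G))) : p ∣ n := by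
  classical
  have key := card_pairs_mul_centralizers a b T
  choose m hm using fun χ => exists_mult (G := G) χ P
  have hsum : ∀ χ : IrrCharacter G, ∑ t ∈ T, (χ : G → ℂ) t⁻¹ = (Nat.card P : ℂ) * m χ := by
    intro χ
    rw [← hm χ, Finset.sum_subtype T hT]
  choose k hk using hno
  have hz : IsIntegral ℤ (∑ χ : IrrCharacter G,
      (k χ : ℂ) * ((χ : G → ℂ) a * (χ : G → ℂ) b * (m χ : ℂ))) :=
    IsIntegral.sum _ fun χ _ => ((isIntegral_natCast' (k χ)).mul
      (((irr_isIntegral χ a).mul (irr_isIntegral χ b)).mul (isIntegral_natCast' (m χ))))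
  have h2 : ((n * Nat.card (Subgroup.centralizer ({a} : Set G)) *
      Nat.card (Subgroup.centralizer ({b} : Set G)) : ℕ) : ℂ) = (p : ℂ) * ∑ χ : IrrCharacter G,
      (k χ : ℂ) * ((χ : G → ℂ) a * (χ : G → ℂ) b * (m χ : ℂ)) := by
    apply mul_left_cancel₀ (Nat.cast_ne_zero.2 (Nat.card_pos (α := P)).ne' : (Nat.card P : ℂ) ≠ 0)
    rw [hn] at key
    push_cast at key ⊢
    rw [← mul_assoc, ← mul_assoc, key, Finset.mul_sum, Finset.mul_sum]
    refine Finset.sum_congr rfl fun χ _ => ?_
    rw [hsum, hk χ]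
    push_cast
    ring
  rcases (Nat.Prime.dvd_mul hp.out).1 (dvd_of_eq_mul_isIntegral hp.out hz h2) with h | h
  · rcases (Nat.Prime.dvd_mul hp.out).1 h with h | h
    · exact h
    · exact absurd h ha
  · exact absurd h hb

/-- Two distinct conjugates of `a` with quotient in a Sylow subgroup. -/
theorem exists_pair [hp : Fact p.Prime] (hno : ∀ χ : IrrCharacter G, p ∣ cofDegree χ)
    (P : Sylow p G) (a : G) (ha : ¬ p ∣ Nat.card (Subgroup.centralizer ({a} : Set G))) :
    ∃ g h : G, IsConj a g ∧ IsConj a h ∧ g * h⁻¹ ≠ 1 ∧ g * h⁻¹ ∈ (P : Subgroup G) := by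
  classical
  by_contra hc
  simp only [not_exists, not_and] at hc
  have ha' : ¬ p ∣ Nat.card (Subgroup.centralizer ({a⁻¹} : Set G)) := by
    have : Subgroup.centralizer ({a⁻¹} : Set G) = Subgroup.centralizer ({a} : Set G) := by
      ext x
      simp only [Subgroup.mem_centralizer_iff, Set.mem_singleton_iff, forall_eq]
      exact ⟨fun h => by simpa using (Commute.inv_left (a := a⁻¹) h).eq,
        fun h => (Commute.inv_left (a := a) h).eq⟩
    rwa [this]
  let T : Finset G := Finset.univ.filter (· ∈ (P : Subgroup G))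
  have hTmem : ∀ t, t ∈ T ↔ t ∈ (P : Subgroup G) := fun t => by simp [T]
  have hset : pairs a a⁻¹ T = (cls a).image fun x => (x, x⁻¹) := by
    ext ⟨x, y⟩
    simp only [pairs, Finset.mem_filter, Finset.mem_product, mem_cls, Finset.mem_image,
      Prod.mk.injEq, hTmem]
    constructor
    · rintro ⟨⟨hx, hy⟩, hxy⟩
      have hy' : IsConj a y⁻¹ := by
        obtain ⟨c, hc'⟩ := isConj_iff.1 hy
        exact isConj_iff.2 ⟨c, by rw [← hc']; group⟩
      have h1 : x * y⁻¹⁻¹ = 1 := by
        by_contra h1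
        exact hc x y⁻¹ hx hy' h1 (by rwa [inv_inv])
      rw [inv_inv] at h1
      exact ⟨x, hx, rfl, inv_eq_of_mul_eq_one_right h1⟩
    · rintro ⟨z, hz, rfl, rfl⟩
      obtain ⟨c, hc'⟩ := isConj_iff.1 hz
      exact ⟨⟨hz, isConj_iff.2 ⟨c, by rw [← hc']; group⟩⟩, by simp⟩
  have hcard : (pairs a a⁻¹ T).card = (cls a).card := by
    rw [hset, Finset.card_image_of_injective _ fun x y h => congrArg Prod.fst h]
  obtain ⟨n, hn⟩ : Nat.card (P : Subgroup G) ∣ (cls a).card := by
    have h1 : Nat.card (P : Subgroup G) ∣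
        (cls a).card * Nat.card (Subgroup.centralizer ({a} : Set G)) := by
      rw [card_cls_mul_centralizer]
      exact Subgroup.card_subgroup_dvd_card _
    obtain ⟨k, hk⟩ := IsPGroup.iff_card.1 P.2
    rw [hk] at h1 ⊢
    exact (Nat.Coprime.pow_left k (hp.out.coprime_iff_not_dvd.2 ha)).dvd_of_dvd_mul_right h1
  obtain ⟨m, hm⟩ := dvd_of_no_defect_zero hno a a⁻¹ (P : Subgroup G) T hTmem n
    (hcard.trans hn) ha ha'
  have h2 : Nat.card G = Nat.card (P : Subgroup G) *
      (p * m * Nat.card (Subgroup.centralizer ({a} : Set G))) := by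
    rw [← hm, ← mul_assoc, ← hn, card_cls_mul_centralizer]
  have h3 := Subgroup.card_mul_index (P : Subgroup G)
  exact P.not_dvd_index ⟨m * Nat.card (Subgroup.centralizer ({a} : Set G)), by
    have h4 := Nat.eq_of_mul_eq_mul_left Nat.card_pos (h3.trans h2)
    rw [h4]; ring⟩

omit [Fintype G] in
/-- An involution with `p'`-centralizer leaving a `p`-subgroup invariant inverts it. -/
theorem inverts_of_invariant [Finite G] [hp : Fact p.Prime] {s : G} (hs : orderOf s = 2)
    (hcs : ¬ p ∣ Nat.card (Subgroup.centralizer ({s} : Set G))) (A : Subgroup G)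
    (hA : IsPGroup p A) (hinv : ∀ a ∈ A, s * a * s⁻¹ ∈ A) :
    IsMulCommutative A ∧ ∀ a ∈ A, s * a * s⁻¹ = a⁻¹ := by
  let φ : A →* A :=
    { toFun := fun a => ⟨s * a * s⁻¹, hinv a a.2⟩
      map_one' := Subtype.ext (by simp)
      map_mul' := fun a b => Subtype.ext (by simp) }
  have hfpf : MonoidHom.FixedPointFree (φ : A → A) := by
    intro a ha
    have h1 : s * (a : G) * s⁻¹ = a := congrArg Subtype.val ha
    have hmem : (a : G) ∈ Subgroup.centralizer ({s} : Set G) := by
      rw [Subgroup.mem_centralizer_iff]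
      rintro x rfl
      exact mul_inv_eq_iff_eq_mul.1 h1
    obtain ⟨k, hk⟩ := IsPGroup.iff_orderOf.1 hA a
    have hdvd : orderOf (a : G) ∣ Nat.card (Subgroup.centralizer ({s} : Set G)) :=
      Subgroup.orderOf_dvd_natCard _ hmem
    rw [Subgroup.orderOf_coe, hk] at hdvd
    rcases k with _ | k
    · rw [pow_zero, orderOf_eq_one_iff] at hk; exact hk
    · exact absurd (dvd_trans (dvd_pow_self p (Nat.succ_ne_zero k)) hdvd) hcs
  have hss : s * s = 1 := Involutions.mul_self_eq_one hs
  have hinvol : Function.Involutive (φ : A → A) := fun a => Subtype.ext (by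
    show s * (s * a * s⁻¹) * s⁻¹ = a
    rw [inv_eq_of_mul_eq_one_right hss]
    simp [← mul_assoc, hss, mul_assoc _ s s])
  have hcomm : ∀ a b : A, Commute a b := hfpf.commute_all_of_involutive hinvol
  refine ⟨⟨⟨fun a b => hcomm a b⟩⟩, fun a ha => ?_⟩
  exact congrArg Subtype.val (congrFun (hfpf.coe_eq_inv_of_involutive hinvol) ⟨a, ha⟩)

omit [Fintype G] in
/-- An involution inverting a non-trivial `p`-element inverts a Sylow `p`-subgroup, provided
involutions have `p'`-centralizers. -/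
theorem exists_inverted_sylow [Finite G] [hp : Fact p.Prime]
    (hinvc : ∀ t : G, orderOf t = 2 → ¬ p ∣ Nat.card (Subgroup.centralizer ({t} : Set G)))
    {s u : G} (hs : orderOf s = 2) (hu : u ≠ 1) (hup : ∃ k : ℕ, orderOf u = p ^ k)
    (hsu : s * u * s⁻¹ = u⁻¹) :
    ∃ P : Sylow p G, IsMulCommutative (P : Subgroup G) ∧
      ∀ a ∈ (P : Subgroup G), s * a * s⁻¹ = a⁻¹ := by
  classical
  let 𝒜 : Finset (Subgroup G) := @Finset.filter _ (fun A => IsPGroup p A ∧ u ∈ A ∧
    ∀ a ∈ A, s * a * s⁻¹ ∈ A) (Classical.decPred _) (@Finset.univ _ (Fintype.ofFinite _))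
  have h0 : Subgroup.zpowers u ∈ 𝒜 := by
    simp only [𝒜, Finset.mem_filter, Finset.mem_univ, true_and]
    refine ⟨?_, Subgroup.mem_zpowers u, ?_⟩
    · obtain ⟨k, hk⟩ := hup
      exact IsPGroup.of_card (n := k) (by rw [Nat.card_zpowers, hk])
    · rintro a ⟨j, rfl⟩
      rw [Involutions.inverts_zpow hsu]
      exact inv_mem ⟨j, rfl⟩
  obtain ⟨A, hA, hmax⟩ := 𝒜.exists_max_image (fun A => Nat.card A) ⟨_, h0⟩
  simp only [𝒜, Finset.mem_filter, Finset.mem_univ, true_and] at hA hmax
  obtain ⟨hAp, huA, hAinv⟩ := hA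
  obtain ⟨hAc, hAi⟩ := inverts_of_invariant hs (hinvc s hs) A hAp hAinv
  suffices hSy : ∀ {B : Subgroup G}, IsPGroup p B → A ≤ B → B = A by
    exact ⟨⟨A, hAp, hSy⟩, hAc, hAi⟩
  intro B hB hAB
  by_contra hne
  have hlt : A.subgroupOf B < ⊤ := by
    rw [lt_top_iff_ne_top, Ne, Subgroup.subgroupOf_eq_top]
    exact fun h => hne (le_antisymm h hAB)
  have hnil : Group.IsNilpotent B := hB.isNilpotent
  have hnorm := Group.normalizerCondition_of_isNilpotent (A.subgroupOf B) hlt
  let C : Subgroup G := (Subgroup.normalizer ((A.subgroupOf B : Subgroup B) : Set B)).map B.subtype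
  have hCp : IsPGroup p C := (hB.to_subgroup _).map _
  have hAC : A ≤ C := by
    intro a ha
    exact ⟨⟨a, hAB ha⟩, Subgroup.le_normalizer ha, rfl⟩
  have hCN : ∀ c ∈ C, ∀ a, a ∈ A ↔ c * a * c⁻¹ ∈ A := by
    rintro c ⟨⟨c, hcB⟩, hc, rfl⟩ a
    rw [SetLike.mem_coe, Subgroup.mem_normalizer_iff] at hc
    constructor
    · intro ha
      exact (hc ⟨a, hAB ha⟩).1 ha
    · intro ha
      have hab : a ∈ B := by
        have := B.mul_mem (B.mul_mem (B.inv_mem hcB) (hAB ha)) hcB
        simpa [mul_assoc] using this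
      exact (hc ⟨a, hab⟩).2 ha
  have hClt : Nat.card A < Nat.card C := by
    refine lt_of_le_of_ne (Subgroup.card_le_of_le hAC) fun heq => hnorm.ne ?_
    have hCA : A = C := Subgroup.eq_of_le_of_card_ge hAC heq.ge
    refine le_antisymm Subgroup.le_normalizer fun x hx => ?_
    show (x : G) ∈ A
    rw [hCA]
    exact ⟨x, hx, rfl⟩
  -- a fixed point of `C` on `A`
  have hw : ∃ w ∈ A, w ≠ 1 ∧ ∀ c ∈ C, c * w * c⁻¹ = w := by
    let : MulAction C A :=
      { smul := fun c a => ⟨c * a * (c : G)⁻¹, (hCN c c.2 a).1 a.2⟩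
        one_smul := fun a => Subtype.ext (show ((1 : C) : G) * a * ((1 : C) : G)⁻¹ = a by simp)
        mul_smul := fun c d a => Subtype.ext (by
          show ((c * d : C) : G) * a * ((c * d : C) : G)⁻¹ = c * (d * a * (d : G)⁻¹) * (c : G)⁻¹
          simp [mul_assoc]) }
    have hdvd : p ∣ Nat.card A := by
      obtain ⟨k, hk⟩ := IsPGroup.iff_card.1 hAp
      rcases k with _ | k
      · rw [pow_zero, Subgroup.card_eq_one] at hk
        exact absurd (Subgroup.mem_bot.1 (hk ▸ huA)) hu
      · exact hk ▸ dvd_pow_self p (Nat.succ_ne_zero k)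
    obtain ⟨w, hw, hw1⟩ := hCp.exists_fixed_point_of_prime_dvd_card_of_fixed_point A hdvd
      (a := (1 : A)) (fun c => Subtype.ext (show (c : G) * ((1 : A) : G) * (c : G)⁻¹ = 1 by simp))
    exact ⟨w, w.2, fun h => hw1 (Subtype.ext h.symm), fun c hc => congrArg Subtype.val (hw ⟨c, hc⟩)⟩
  obtain ⟨w, hwA, hw1, hwC⟩ := hw
  -- the odd order group `X = C_G(w) ⊓ N_G(A)`
  let X : Subgroup G := Subgroup.centralizer ({w} : Set G) ⊓ Subgroup.normalizer (A : Set G)
  have hCX : C ≤ X := fun c hc => ⟨by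
    show c ∈ Subgroup.centralizer ({w} : Set G)
    rw [Subgroup.mem_centralizer_iff]
    rintro x rfl
    exact (mul_inv_eq_iff_eq_mul.1 (hwC c hc)).symm,
    Subgroup.mem_normalizer_iff.2 (hCN c hc)⟩
  have hodd : Odd (Nat.card X) := by
    rw [← Nat.not_even_iff_odd, even_iff_two_dvd]
    intro h2
    obtain ⟨t, ht⟩ := exists_prime_orderOf_dvd_card' 2 h2
    have ht' : orderOf (t : G) = 2 := by rw [Subgroup.orderOf_coe]; exact ht
    refine hinvc _ ht' ?_
    obtain ⟨k, hk⟩ := IsPGroup.iff_orderOf.1 hAp ⟨w, hwA⟩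
    rw [Subgroup.orderOf_mk] at hk
    rcases k with _ | k
    · rw [pow_zero, orderOf_eq_one_iff] at hk; exact absurd hk hw1
    · have hmem : w ∈ Subgroup.centralizer ({(t : G)} : Set G) := by
        rw [Subgroup.mem_centralizer_iff]
        rintro x rfl
        exact (Subgroup.mem_centralizer_iff.1 t.2.1 w rfl).symm
      exact dvd_trans (hk ▸ dvd_pow_self p (Nat.succ_ne_zero k)) (Subgroup.orderOf_dvd_natCard _ hmem)
  have hss : s * s = 1 := Involutions.mul_self_eq_one hs
  have hsinv : s⁻¹ = s := Involutions.inv_eq_self_of_involution hs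
  have hsX : ∀ x ∈ X, s * x * s⁻¹ ∈ X := by
    rintro x ⟨hx1, hx2⟩
    constructor
    · replace hx1 : x ∈ Subgroup.centralizer ({w} : Set G) := hx1
      show s * x * s⁻¹ ∈ Subgroup.centralizer ({w} : Set G)
      rw [Subgroup.mem_centralizer_iff] at hx1 ⊢
      rintro y rfl
      have h := hx1 y rfl
      have hw' : s * y * s⁻¹ = y⁻¹ := hAi y hwA
      have h' : Commute (s * y * s⁻¹) (s * x * s⁻¹) := (Commute.conj_iff _).2 h
      rw [hw'] at h'
      have h'' := (Commute.inv_left h').eq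
      rwa [inv_inv] at h''
    · exact Subgroup.mul_mem _ (Subgroup.mul_mem _
        (Subgroup.mem_normalizer_iff.2 fun a => ⟨hAinv a, fun h => by
          have h' := hAinv _ h
          simpa [hsinv, ← mul_assoc, hss, mul_assoc _ s s] using h'⟩) hx2)
        (Subgroup.inv_mem _ (Subgroup.mem_normalizer_iff.2 fun a => ⟨hAinv a, fun h => by
          have h' := hAinv _ h
          simpa [hsinv, ← mul_assoc, hss, mul_assoc _ s s] using h'⟩))
  let φ : MulAut X :=
    { toFun := fun x => ⟨s * x * s⁻¹, hsX x x.2⟩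
      invFun := fun x => ⟨s * x * s⁻¹, hsX x x.2⟩
      left_inv := fun x => Subtype.ext (by
        show s * (s * x * s⁻¹) * s⁻¹ = x
        rw [hsinv]; simp [← mul_assoc, hss, mul_assoc _ s s])
      right_inv := fun x => Subtype.ext (by
        show s * (s * x * s⁻¹) * s⁻¹ = x
        rw [hsinv]; simp [← mul_assoc, hss, mul_assoc _ s s])
      map_mul' := fun x y => Subtype.ext (by simp) }
  have hφ : φ * φ = 1 := by
    ext x
    show s * (s * x * s⁻¹) * s⁻¹ = x
    rw [hsinv]; simp [← mul_assoc, hss, mul_assoc _ s s]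
  let σ : Equiv.Perm (Sylow p X) := MulAction.toPerm φ
  have hσ : σ ^ 2 ^ 1 = 1 := by
    ext1 Q
    show φ • φ • Q = Q
    rw [← mul_smul, hφ, one_smul]
  let := Fintype.ofFinite (Sylow p X)
  have hn2 : ¬ 2 ∣ Fintype.card (Sylow p X) := fun h =>
    (Nat.not_even_iff_odd.2 hodd) (even_iff_two_dvd.2 (h.trans (by
      rw [← Nat.card_eq_fintype_card]
      exact (Sylow.card_dvd_index (Classical.arbitrary (Sylow p X))).trans
        (Subgroup.index_dvd_card _))))
  obtain ⟨Q, hQ⟩ := Equiv.Perm.exists_fixed_point_of_prime (p := 2) (n := 1) hn2 hσ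
  let D : Subgroup G := (Q : Subgroup X).map X.subtype
  have hAX : A ≤ X := hAC.trans hCX
  have hAQ : A.subgroupOf X ≤ (Q : Subgroup X) := by
    have : (A.subgroupOf X).Normal :=
      Subgroup.normal_subgroupOf_iff_le_normalizer hAX |>.2 inf_le_right
    have hn : (A.comap X.subtype).Normal := this
    exact IsPGroup.le_sylow_of_normal (N := A.comap X.subtype) (hAp.comap_of_injective _ X.subtype_injective) Q
  have hD : IsPGroup p D ∧ u ∈ D ∧ ∀ a ∈ D, s * a * s⁻¹ ∈ D := by
    refine ⟨Q.2.map _, ⟨⟨u, hAX huA⟩, hAQ huA, rfl⟩, ?_⟩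
    rintro _ ⟨a, ha, rfl⟩
    have : φ a ∈ (Q : Subgroup X) := by
      have h : φ • Q = Q := hQ
      rw [← h, Sylow.pointwise_smul_def]
      exact Subgroup.smul_mem_pointwise_smul a φ _ ha
    exact ⟨φ a, this, rfl⟩
  have h1 := hmax D hD
  have h2 : Nat.card C ≤ Nat.card D := by
    obtain ⟨R, hR⟩ := (hCp.comap_of_injective X.subtype X.subtype_injective).exists_le_sylow
    calc Nat.card C = Nat.card (C.subgroupOf X) :=
          (Nat.card_congr (Subgroup.subgroupOfEquivOfLe hCX).toEquiv).symm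
      _ ≤ Nat.card (R : Subgroup X) := Subgroup.card_le_of_le hR
      _ = Nat.card (Q : Subgroup X) := by rw [R.card_eq_multiplicity, Q.card_eq_multiplicity]
      _ = Nat.card D :=
          (Nat.card_congr ((Q : Subgroup X).equivMapOfInjective _ X.subtype_injective).toEquiv)
  omega

/-- The structure forced by the absence of defect zero characters when every involution has a
`p'`-centralizer. -/
theorem involution_structure [hp : Fact p.Prime]
    (hno : ∀ χ : IrrCharacter G, p ∣ cofDegree χ)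
    (hinvc : ∀ t : G, orderOf t = 2 → ¬ p ∣ Nat.card (Subgroup.centralizer ({t} : Set G)))
    (P : Sylow p G) {s : G} (hs : orderOf s = 2) :
    IsMulCommutative (P : Subgroup G) ∧
      ∃ t : G, IsConj s t ∧ ∀ a ∈ (P : Subgroup G), t * a * t⁻¹ = a⁻¹ := by
  obtain ⟨g, h, hg, hh, hne, hgh⟩ := exists_pair hno P s (hinvc s hs)
  have hg2 : orderOf g = 2 := by rw [Involutions.orderOf_eq_of_isConj hg, hs]
  have hh2 : orderOf h = 2 := by rw [Involutions.orderOf_eq_of_isConj hh, hs]
  rw [Involutions.inv_eq_self_of_involution hh2] at hne hgh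
  obtain ⟨k, hk⟩ := IsPGroup.iff_orderOf.1 P.2 ⟨g * h, hgh⟩
  rw [Subgroup.orderOf_mk] at hk
  obtain ⟨R, hRc, hRi⟩ := exists_inverted_sylow hinvc hg2 hne ⟨k, hk⟩
    (Involutions.left_inverts_prod hg2 hh2)
  obtain ⟨c, hc⟩ := MulAction.exists_smul_eq G R P
  have hmem : ∀ a, a ∈ (P : Subgroup G) ↔ c⁻¹ * a * c ∈ (R : Subgroup G) := by
    intro a
    rw [← hc, Sylow.coe_subgroup_smul, Subgroup.mem_pointwise_smul_iff_inv_smul_mem]
    simp [MulAut.smul_def]
  refine ⟨⟨⟨fun a b => ?_⟩⟩, c * g * c⁻¹, hg.trans (isConj_iff.2 ⟨c, rfl⟩), fun a ha => ?_⟩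
  · have h1 : Commute (c⁻¹ * (a : G) * c) (c⁻¹ * (b : G) * c) :=
      congrArg Subtype.val (hRc.is_comm.comm ⟨_, (hmem a).1 a.2⟩ ⟨_, (hmem b).1 b.2⟩)
    apply Subtype.ext
    have h2 := (Commute.conj_iff c).2 h1
    simpa [mul_assoc, Commute, SemiconjBy] using h2
  · have h1 := hRi _ ((hmem a).1 ha)
    calc c * g * c⁻¹ * a * (c * g * c⁻¹)⁻¹ = c * (g * (c⁻¹ * a * c) * g⁻¹) * c⁻¹ := by group
      _ = c * (c⁻¹ * a * c)⁻¹ * c⁻¹ := by rw [h1]
      _ = a⁻¹ := by group

end CfsgLib.DefectZeroCriterion
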