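import Cfsg.Agent.Lib.Blocks.WeakOrth
import Cfsg.Agent.Lib.Blocks.DefectZeroCriterion
import Cfsg.Agent.Lib.Characters.Values
import Cfsg.Prelude.Def_BlockRank

/-!
# Linear independence of the `p`-regular restrictions in a block and defect zero
-/

set_option autoImplicit false

noncomputable section

namespace CfsgLib.RankOrth

open Cfsg CfsgLib.Characters CfsgLib.ClassCount
open scoped ComplexConjugate

variable {G : Type*} [Group G] [Fintype G] {p : ℕ}

/-- A character vanishing on the `p`-singular elements has defect zero. -/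
theorem not_dvd_cofDegree_of_vanish [hp : Fact p.Prime] (χ : IrrCharacter G)
    (hvan : ∀ g : G, p ∣ orderOf g → (χ : G → ℂ) g = 0) : ¬ p ∣ cofDegree χ := by
  classical
  let P : Sylow p G := default
  obtain ⟨m, hm⟩ := exists_mult χ (P : Subgroup G)
  have hsum : ∑ x : (P : Subgroup G), (χ : G → ℂ) ((x : G)⁻¹) = (charDegree (χ : G → ℂ) : ℂ) := by
    rw [Finset.sum_eq_single 1]
    · simp [(degree_eq χ).1]
    · intro x _ hx
      refine hvan _ ?_
      obtain ⟨j, hj⟩ := IsPGroup.iff_orderOf.1 P.isPGroup' x
      rw [orderOf_inv, Subgroup.orderOf_coe, hj]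
      refine dvd_pow_self p ?_
      rintro rfl
      exact hx (orderOf_eq_one_iff.1 (by rw [hj, pow_zero]))
    · simp
  rw [hsum] at hm
  have hdvd : Nat.card (P : Subgroup G) ∣ charDegree (χ : G → ℂ) := ⟨m, by exact_mod_cast hm⟩
  rw [P.card_eq_multiplicity] at hdvd
  intro hdiv
  have h := mul_dvd_mul hdvd hdiv
  rw [degree_mul_cofDegree, ← pow_succ] at h
  exact Nat.pow_succ_factorization_not_dvd Nat.card_pos.ne' hp.out h

theorem pRegularPart_one_ne_zero (hp : p.Prime) (χ : IrrCharacter G) :
    pRegularPart p (χ : G → ℂ) ≠ 0 := by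
  intro h
  have h1 := congrFun h 1
  have hr : IsPRegular p (1 : G) := by rw [IsPRegular, orderOf_one]; exact hp.not_dvd_one
  rw [pRegularPart, if_pos hr] at h1
  exact irr_one_ne_zero χ h1

/-- The number of irreducible characters in a set bounds its `p`-regular rank. -/
theorem blockRank_le (B : Set (IrrCharacter G)) : blockRank p B ≤ Nat.card B := by
  classical
  have : Fintype B := Fintype.ofFinite B
  rw [blockRank, Set.image_eq_range, Nat.card_eq_fintype_card]
  exact finrank_range_le_card _

/-- If the rank equals the number of characters of a block, all of them vanish off `p`-regular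
elements. -/
theorem vanish_of_rank_eq [Fact p.Prime] {M : Ideal AlgInt} (hM : IsPModular p M)
    {B : Set (IrrCharacter G)} (hB : IsPBlock M B) (heq : Nat.card B = blockRank p B) :
    ∀ χ ∈ B, ∀ g : G, p ∣ orderOf g → (χ : G → ℂ) g = 0 := by
  classical
  intro χ hχ g hg
  let := Fintype.ofFinite B
  have hli : LinearIndependent ℂ (fun ψ : B => pRegularPart p ((ψ : IrrCharacter G) : G → ℂ)) := by
    rw [linearIndependent_iff_card_eq_finrank_span, Set.finrank, ← Nat.card_eq_fintype_card, heq,
      blockRank, Set.image_eq_range]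
  have hzero : ∑ ψ : B, conj (((ψ : IrrCharacter G) : G → ℂ) g) •
      pRegularPart p ((ψ : IrrCharacter G) : G → ℂ) = 0 := by
    funext x
    simp only [Finset.sum_apply, Pi.smul_apply, smul_eq_mul, Pi.zero_apply, pRegularPart]
    by_cases hx : IsPRegular p x
    · simp only [if_pos hx]
      rw [← Finset.sum_subtype (Finset.univ.filter (· ∈ B)) (fun ψ => by simp)
        (fun ψ : IrrCharacter G => conj ((ψ : G → ℂ) g) * (ψ : G → ℂ) x)]
      have h0 := CfsgLib.Blocks.weak_orth hM hB hx hg
      rw [← h0]
      exact Finset.sum_congr rfl fun ψ _ => mul_comm _ _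
    · simp [if_neg hx]
  have := linearIndependent_iff'.1 hli Finset.univ _ hzero ⟨χ, hχ⟩ (Finset.mem_univ _)
  simpa using this

/-- The defect zero criterion for a block. -/
theorem defect_zero_iff [hp : Fact p.Prime] {B : Set (IrrCharacter G)} (hne : B.Nonempty) :
    blockDefect p B = 0 ↔ ∀ χ ∈ B, ¬ p ∣ cofDegree χ := by
  have hle : ∀ χ : IrrCharacter G,
      (charDegree (χ : G → ℂ)).factorization p ≤ (Nat.card G).factorization p := fun χ =>
    (Nat.factorization_le_iff_dvd (degree_eq χ).2.2.ne' Nat.card_pos.ne').2 (degree_eq χ).2.1 p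
  rw [blockDefect]
  constructor
  · intro h χ hχ
    refine DefectZeroCriterion.not_dvd_cofDegree hp.out χ (le_antisymm (hle χ) ?_)
    exact (Nat.le_of_sub_eq_zero h).trans (Nat.sInf_le ⟨χ, hχ, rfl⟩)
  · intro h
    apply Nat.sub_eq_zero_of_le
    refine le_csInf (hne.image _) ?_
    rintro _ ⟨χ, hχ, rfl⟩
    by_contra hlt
    exact h χ hχ (DefectZeroCriterion.dvd_cofDegree hp.out χ fun he => hlt he.ge)

end CfsgLib.RankOrth
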