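import Cfsg.Agent.Lib.Blocks.BlockParts
import Cfsg.Agent.Lib.BlockCover.DefectGroup

/-!
# Defect groups of induced blocks; characters off the defect group
-/

set_option autoImplicit false
set_option linter.style.haveILetI false

namespace CfsgLib.Blocks

open Cfsg MonoidAlgebra CfsgLib.Characters

variable {G : Type*} [Group G] [Fintype G] {p : ℕ} {M : Ideal AlgInt} [Fact p.Prime]

/-- An induced block has a unit coefficient on the subgroup, at a class where the central
character of the inducing block is a unit. -/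
theorem exists_unit_coeff_of_induced (hM : IsPModular p M) {H : Subgroup G} [Fintype H]
    {b : Set (IrrCharacter H)} {B : Set (IrrCharacter G)} (hind : IsInducedBlock M H b B)
    {ξ : IrrCharacter H} (hξ : ξ ∈ b) :
    ∃ h : H, ¬ MemLocalIdeal M (blockCoeff B (h : G)) ∧
      ¬ MemLocalIdeal M (centralChar (ξ : H → ℂ) h) := by
  classical
  obtain ⟨χ, hχ⟩ := IsPBlock.nonempty hM hind.2.1
  have hc := blockIdem_mem_center (G := G) B
  have hR := coeff_blockIdem_memLocalRing hM hind.2.1
  have h1 := omega_resH_congr hM hind hξ hχ hc hR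
  rw [omega_blockIdem, if_pos hχ, omega_eq_sum_classes ξ
    (resH_mem_center H fun h _ g => (mem_center_iff_coeff _).1 hc g h)] at h1
  by_contra! hne
  refine not_memLocalIdeal_one hM ?_
  have h2 : MemLocalIdeal M (∑ c : ConjClasses H,
      (resH H (blockIdem B)).coeff c.out * centralChar (ξ : H → ℂ) c.out) := by
    refine MemLocalIdeal.sum hM _ fun c _ => ?_
    rw [coeff_resH, coeff_blockIdem]
    have hb : MemLocalRing M (blockCoeff B ((c.out : H) : G)) := by
      have := hR ((c.out : H) : G)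
      rwa [coeff_blockIdem] at this
    by_cases h : MemLocalIdeal M (blockCoeff B ((c.out : H) : G))
    · exact MemLocalIdeal.mul_right hM h (centralChar_mem_lRing hM ξ _)
    · exact MemLocalIdeal.mul_left hM hb (hne _ h)
  have h3 := MemLocalIdeal.sub hM h2 h1
  convert h3 using 1
  rw [sub_sub_eq_add_sub, add_comm, add_sub_assoc,
    sub_eq_zero_of_eq (Finset.sum_congr (by ext; simp) fun _ _ => rfl), add_zero]

theorem exists_isDefectGroup (hM : IsPModular p M) {B : Set (IrrCharacter G)}
    (hB : IsPBlock M B) : ∃ D : Subgroup G, IsDefectGroup p M B D := by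
  obtain ⟨g, hg⟩ := exists_isDefectClass hM hB
  exact ⟨_, g, hg, default, rfl⟩

/-- A `p`-subgroup centralizing a unit coefficient lies in a defect group. -/
theorem exists_defectGroup_ge_of_coeff (hM : IsPModular p M) {B : Set (IrrCharacter G)}
    (hB : IsPBlock M B) {g : G} (hg : ¬ MemLocalIdeal M (blockCoeff B g)) {P : Subgroup G}
    (hP : IsPGroup p P) (hPg : P ≤ Subgroup.centralizer ({g} : Set G)) :
    ∃ E : Subgroup G, IsDefectGroup p M B E ∧ P ≤ E := by
  obtain ⟨D, hD⟩ := exists_isDefectGroup hM hB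
  obtain ⟨t, ht⟩ := CfsgLib.BlockCover.exists_conj_le_defect_of_coeff hM hB hD hg hP hPg
  refine ⟨_, CfsgLib.BlockCover.isDefectGroup_conj hM hB hD t⁻¹, fun y hy => ?_⟩
  exact ⟨t * y * t⁻¹, ht ⟨y, hy, by simp⟩, by simp [mul_assoc]⟩

/-- The defect groups of a block lie in defect groups of the induced block. -/
theorem exists_defectGroup_map_le (hM : IsPModular p M) {H : Subgroup G}
    {b : Set (IrrCharacter H)} {B : Set (IrrCharacter G)} (hind : IsInducedBlock M H b B)
    {D : Subgroup H} (hD : IsDefectGroup p M b D) :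
    ∃ E : Subgroup G, IsDefectGroup p M B E ∧ D.map H.subtype ≤ E := by
  letI := Fintype.ofFinite H
  obtain ⟨ξ, hξ⟩ := IsPBlock.nonempty hM hind.1
  obtain ⟨h, hh, hhξ⟩ := exists_unit_coeff_of_induced hM hind hξ
  obtain ⟨S⟩ : Nonempty (Sylow p (Subgroup.centralizer ({h} : Set H))) := inferInstance
  obtain ⟨t, ht⟩ := CfsgLib.BlockCover.defect_le_sylow hM hind.1 hD hξ hhξ S
  refine exists_defectGroup_ge_of_coeff hM hind.2.1 (g := ((t * h * t⁻¹ : H) : G)) ?_
    ((CfsgLib.BlockCover.isPGroup_defect hM hD).map _) ?_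
  · rwa [Subgroup.coe_mul, Subgroup.coe_mul, Subgroup.coe_inv, blockCoeff_conj]
  · rintro _ ⟨d, hd, rfl⟩
    obtain ⟨_, ⟨c, -, rfl⟩, rfl⟩ := ht hd
    refine Subgroup.mem_centralizer_singleton_iff.2 ?_
    have h1 : (h : H) * c = c * h := Subgroup.mem_centralizer_iff.1 c.2 h rfl
    show (((t * c * t⁻¹ : H)) : G) * _ = _ * (((t * c * t⁻¹ : H)) : G)
    rw [← Subgroup.coe_mul, ← Subgroup.coe_mul]
    congr 1
    calc t * c * t⁻¹ * (t * h * t⁻¹) = t * (c * h) * t⁻¹ := by group
      _ = t * (h * c) * t⁻¹ := by rw [h1]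
      _ = _ := by group

/-- If a block of `C(x)` induces `B`, then `x` lies in a defect group of `B`. -/
theorem exists_defectGroup_mem_of_induced (hM : IsPModular p M) {x : G}
    (hx : ∃ k : ℕ, orderOf x = p ^ k)
    {b : Set (IrrCharacter (Subgroup.centralizer ({x} : Set G)))} {B : Set (IrrCharacter G)}
    (hind : IsInducedBlock M (Subgroup.centralizer ({x} : Set G)) b B) :
    ∃ E : Subgroup G, IsDefectGroup p M B E ∧ x ∈ E := by
  letI := Fintype.ofFinite (Subgroup.centralizer ({x} : Set G))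
  obtain ⟨k, hk⟩ := hx
  obtain ⟨ξ, hξ⟩ := IsPBlock.nonempty hM hind.1
  obtain ⟨h, hh, -⟩ := exists_unit_coeff_of_induced hM hind hξ
  obtain ⟨E, hE, hle⟩ := exists_defectGroup_ge_of_coeff hM hind.2.1 hh
    (P := Subgroup.zpowers x) (IsPGroup.of_card (by rw [Nat.card_zpowers, hk]))
    (Subgroup.zpowers_le.2 (Subgroup.mem_centralizer_singleton_iff.2 (commute_centralizer h).eq))
  exact ⟨E, hE, hle (Subgroup.mem_zpowers x)⟩

/-- Characters vanish at elements whose `p`-part lies in no defect group. -/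
theorem apply_eq_zero_of_notMem_defect (hM : IsPModular p M) {χ : IrrCharacter G} {g x : G}
    (hx : IsPPart p g x)
    (hD : ∀ D : Subgroup G, IsDefectGroup p M (blockOf M (χ : G → ℂ)) D → x ∉ D) :
    (χ : G → ℂ) g = 0 := by
  classical
  obtain ⟨y, rfl, hxy, hxp, hyp⟩ := hx
  set C := Subgroup.centralizer ({x} : Set G) with hC
  letI := Fintype.ofFinite C
  set y' : C := ⟨y, Subgroup.mem_centralizer_singleton_iff.2 hxy.eq.symm⟩
  have h1 : blockPart (Set.univ : Set (IrrCharacter C)) (sectionFun x (χ : G → ℂ)) y' = 0 := by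
    refine blockPart_union_eq_zero hM (fun _ _ _ _ => Set.mem_univ _) fun ξ _ => ?_
    refine blockPart_sectionFun_eq_zero hM hxp (isPBlock_blockOf ξ) (fun hind => ?_)
      (by rw [← Subgroup.orderOf_coe]; exact hyp)
    obtain ⟨E, hE, hxE⟩ := exists_defectGroup_mem_of_induced hM hxp hind
    exact hD E hE hxE
  rw [← h1, blockPart_eq_sum]
  show sectionFun x (χ : G → ℂ) y' = _
  conv_lhs => rw [classFunction_eq_sum (isClassFunction_sectionFun (irr_isClassFunction χ))]
  simp
  exact Finset.sum_congr (by ext; simp) fun _ _ => rfl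

end CfsgLib.Blocks
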