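import Cfsg.Agent.Lib.Blocks.SecondMain
import Cfsg.Agent.Lib.CharCorr.Basic

/-!
# Blocks and normal `p'`-subgroups
-/

set_option autoImplicit false
set_option linter.style.haveILetI false

namespace CfsgLib.Blocks

open Cfsg MonoidAlgebra CfsgLib.Characters CfsgLib.CharCorr
open scoped ComplexConjugate

variable {G : Type*} [Group G] [Fintype G] {p : ℕ} {M : Ideal AlgInt}

/-- Characters in one block have the same constituents on a normal `p'`-subgroup. -/
theorem constituent_of_sameBlock (hM : IsPModular p M) {N : Subgroup G} [N.Normal] [Fintype N]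
    (hN : ¬ p ∣ Nat.card N) {χ ψ : IrrCharacter G} (h : SameBlock M (χ : G → ℂ) (ψ : G → ℂ))
    (θ : IrrCharacter N) (hθ : classInner (fun n : N => (χ : G → ℂ) n) (θ : N → ℂ) ≠ 0) :
    classInner (fun n : N => (ψ : G → ℂ) n) (θ : N → ℂ) ≠ 0 := by
  classical
  set O : Set (IrrCharacter N) :=
    Set.range fun g : G => twistIrr (MulAut.conjNormal g : N ≃* N) θ
  have hinv : ∀ (n : N) (g : G), blockCoeff O (MulAut.conjNormal g n) = blockCoeff O n := by
    intro n g
    rw [blockCoeff_eq_sum, blockCoeff_eq_sum]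
    congr 1
    refine Finset.sum_bij (fun φ _ => twistIrr (MulAut.conjNormal g : N ≃* N) φ) ?_ ?_ ?_ ?_
    · intro φ hφ
      simp only [Finset.mem_filter] at hφ
      obtain ⟨a, rfl⟩ := hφ.2
      simp only [Finset.mem_filter]
      refine ⟨Finset.mem_univ _, a * g, Subtype.ext (funext fun m => ?_)⟩
      simp [map_mul, MulAut.mul_apply]
    · intro φ _ φ' _ he
      refine Subtype.ext (funext fun m => ?_)
      have := congrFun (congrArg Subtype.val he) ((MulAut.conjNormal g : N ≃* N).symm m)
      simpa using this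
    · intro φ hφ
      simp only [Finset.mem_filter] at hφ
      obtain ⟨a, rfl⟩ := hφ.2
      refine ⟨twistIrr (MulAut.conjNormal (a * g⁻¹) : N ≃* N) θ,
        (by simp only [Finset.mem_filter]; exact ⟨Finset.mem_univ _, _, rfl⟩),
        Subtype.ext (funext fun m => ?_)⟩
      simp [map_mul, MulAut.mul_apply]
    · intro φ _
      simp
  set z := extH N (blockIdem O)
  have hzc : z ∈ Subalgebra.center ℂ (MonoidAlgebra ℂ G) := by
    rw [mem_center_iff_coeff]
    intro x g
    by_cases hx : x ∈ N
    · have e1 := coeff_extH_mem N (blockIdem O) (MulAut.conjNormal g ⟨x, hx⟩)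
      have e2 := coeff_extH_mem N (blockIdem O) ⟨x, hx⟩
      rw [MulAut.conjNormal_apply] at e1
      rw [e1, e2, coeff_blockIdem, coeff_blockIdem, hinv]
    · rw [coeff_extH_notMem N _ hx, coeff_extH_notMem N]
      intro h2
      refine hx ?_
      simpa [mul_assoc] using ‹N.Normal›.conj_mem _ h2 g⁻¹
  have hzR : ∀ x, MemLocalRing M (z.coeff x) := by
    refine extH_memLocalRing hM N fun k => ?_
    rw [coeff_blockIdem, blockCoeff_eq_sum]
    refine (lRing hM).mul_mem (inv_natCast_mem_lRing hM hN) ((lRing hM).sum_mem fun φ _ => ?_)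
    exact (lRing hM).mul_mem (memLocalRing_of_isIntegral hM (irr_isIntegral φ 1))
      (memLocalRing_of_isIntegral hM (isIntegral_conj (irr_isIntegral φ k)))
  have hval : ∀ η : IrrCharacter G, omega (η : G → ℂ) z =
      ((Finset.univ.filter (· ∈ O)).card : ℂ) * ((θ : N → ℂ) 1 *
        classInner (fun n : N => (η : G → ℂ) n) (θ : N → ℂ)) / (η : G → ℂ) 1 := by
    intro η
    have h1 := omega_extH_mul_single N η (blockIdem O) 1
    rw [show (single (1 : G) (1 : ℂ) : MonoidAlgebra ℂ G) = 1 from rfl, mul_one] at h1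
    rw [h1]
    simp only [mul_one, coeff_blockIdem]
    congr 1
    simp only [blockCoeff_eq_sum, Finset.mul_sum, Finset.sum_mul]
    rw [Finset.sum_comm, Finset.card_eq_sum_ones, Nat.cast_sum, Finset.sum_mul]
    refine Finset.sum_congr (by ext; simp) fun φ hφ => ?_
    obtain ⟨a, rfl⟩ := (Finset.mem_filter.1 hφ).2
    simp only [twistIrr_apply, map_one, Nat.cast_one, one_mul, classInner, Finset.mul_sum]
    refine Fintype.sum_equiv (MulAut.conjNormal a : N ≃* N).toEquiv _ _ fun k => ?_
    simp only [MulEquiv.toEquiv_eq_coe, EquivLike.coe_coe, MulAut.conjNormal_apply]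
    rw [irr_isClassFunction η (k : G) a]
    ring
  have hid : z * z = z := by rw [← map_mul, isIdempotentElem_blockIdem O]
  have hcases : ∀ η : IrrCharacter G, omega (η : G → ℂ) z = 0 ∨ omega (η : G → ℂ) z = 1 := by
    intro η
    have h3 : omega (η : G → ℂ) z * omega (η : G → ℂ) z = omega (η : G → ℂ) z := by
      rw [← omega_mul η hzc, hid]
    exact (mul_left_eq_self₀.1 h3).symm
  have hne : omega (χ : G → ℂ) z ≠ 0 := by
    rw [hval]
    refine div_ne_zero (mul_ne_zero (Nat.cast_ne_zero.2 ?_) (mul_ne_zero (irr_one_ne_zero θ) hθ))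
      (irr_one_ne_zero χ)
    exact Finset.card_ne_zero.2 ⟨twistIrr (MulAut.conjNormal (1 : G) : N ≃* N) θ,
      by simp only [Finset.mem_filter]; exact ⟨Finset.mem_univ _, 1, rfl⟩⟩
  intro h0
  have h2 := omega_congr_of_sameBlock hM h hzc hzR
  rw [(hcases χ).resolve_left hne, show omega (ψ : G → ℂ) z = 0 by
    rw [hval, h0, mul_zero, mul_zero, zero_div], sub_zero] at h2
  exact not_memLocalIdeal_one hM h2

end CfsgLib.Blocks
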