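import Cfsg.Agent.Lib.Blocks.Reduced
import Cfsg.Agent.Lib.Blocks.BrauerMap
import Cfsg.Agent.Lib.Blocks.PairsAlgebra

/-!
# Induced central characters and the Brauer map

For a `p`-subgroup `P` and `P * C(P) ≤ H ≤ N(P)` the induced central characters of `H` agree
modulo `M` with the central characters composed with the Brauer map, so every block of `H`
induces a block of `G`.
-/

set_option autoImplicit false
set_option linter.style.haveILetI false

namespace CfsgLib.Blocks

open Cfsg MonoidAlgebra CfsgLib.Characters CfsgLib.BlockAlg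

variable {p : ℕ} {M : Ideal AlgInt}

theorem p_eq_zero_residue (hM : IsPModular p M) : (p : AlgInt ⧸ M) = 0 := by
  haveI := charP_residue hM
  exact CharP.cast_eq_zero _ p

section Normal

variable {G : Type*} [Group G] [Fintype G]

/-- A central element modulo `M` killed by the Brauer map at a normal `p`-subgroup is killed by
every central character. -/
theorem lamB_eq_zero_of_br (hM : IsPModular p M) {P : Subgroup G} [P.Normal] (hP : IsPGroup p P)
    (χ : IrrCharacter G) (z : Subalgebra.center (AlgInt ⧸ M) (MonoidAlgebra (AlgInt ⧸ M) G))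
    (hz : ∀ g ∈ Subgroup.centralizer (P : Set G),
      (z : MonoidAlgebra (AlgInt ⧸ M) G).coeff g = 0) :
    lamB hM χ z = 0 := by
  haveI := IsPModular.isMaximal hM
  letI := Ideal.Quotient.field M
  haveI : Fact p.Prime := ⟨hM.1⟩
  have hN : Subgroup.normalizer (P : Set G) = ⊤ := Subgroup.normalizer_eq_top P
  have hnil : IsNilpotent (z : MonoidAlgebra (AlgInt ⧸ M) G) := by
    refine isNilpotent_of_br_eq_zero (p_eq_zero_residue hM) hP ?_ ?_ ?_
    · rw [hN]; exact suppIn_top _
    · intro h _ g
      exact (mem_center_iff_coeff _).1 z.2 g h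
    · classical
      ext g
      simp only [coeff_br, coeff_zero, Finsupp.coe_zero, Pi.zero_apply]
      split_ifs with h
      · exact hz g h
      · rfl
  have hz' : IsNilpotent z := by
    obtain ⟨n, hn⟩ := hnil
    exact ⟨n, Subtype.ext (by rw [SubmonoidClass.coe_pow, hn]; rfl)⟩
  exact (hz'.map (lamB hM χ)).eq_zero

/-- The central character of a block vanishes modulo `M` on classes not meeting the centralizer
of a normal `p`-subgroup. -/
theorem centralChar_mem_ideal_of_normal (hM : IsPModular p M) {P : Subgroup G} [P.Normal]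
    (hP : IsPGroup p P) (χ : IrrCharacter G) (g : G)
    (hg : g ∉ Subgroup.centralizer (P : Set G)) :
    MemLocalIdeal M (centralChar (χ : G → ℂ) g) := by
  classical
  rw [← lResD_eq_zero_iff hM (centralChar_mem_lRing hM χ g), ← lamB_classSum]
  refine lamB_eq_zero_of_br hM hP χ _ fun x hx => ?_
  show (classSum (AlgInt ⧸ M) g).coeff x = 0
  rw [coeff_classSum, if_neg]
  intro hgx
  obtain ⟨c, hc⟩ := isConj_iff.1 hgx.symm
  refine hg (hc ▸ ?_)
  rw [Subgroup.mem_centralizer_iff] at hx ⊢
  intro u hu
  have h2 := hx (c⁻¹ * u * c) (by simpa using Subgroup.Normal.conj_mem ‹P.Normal› u hu c⁻¹)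
  calc u * (c * x * c⁻¹) = c * (c⁻¹ * u * c * x) * c⁻¹ := by group
    _ = c * (x * (c⁻¹ * u * c)) * c⁻¹ := by rw [h2]
    _ = c * x * c⁻¹ * u := by group

end Normal

section Restrict

variable {k : Type*} [CommRing k] {G : Type*} [Group G] [Fintype G]

/-- Coefficients restricted to a subgroup. -/
noncomputable def resH (H : Subgroup G) (y : MonoidAlgebra k G) : MonoidAlgebra k H :=
  Blocks.ofFun fun h : H => y.coeff h

@[simp] theorem coeff_resH (H : Subgroup G) (y : MonoidAlgebra k G) (h : H) :
    (resH H y).coeff h = y.coeff h := by simp [resH]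

theorem resH_mul [DecidableEq G] (H : Subgroup G) [Fintype H] {a b : MonoidAlgebra k G}
    (ha : SuppIn H a) : resH H (a * b) = resH H a * resH H b := by
  classical
  ext h
  rw [coeff_resH, coeff_mul_sum, coeff_mul_sum]
  rw [← Finset.sum_subset (Finset.subset_univ ((Finset.univ : Finset H).map
    ⟨Subtype.val, Subtype.val_injective⟩)) (fun x _ hx => ?_), Finset.sum_map]
  · exact Finset.sum_congr rfl fun (x : H) _ => by simp
  · rw [ha x (fun hxH => hx (Finset.mem_map.2 ⟨⟨x, hxH⟩, Finset.mem_univ _, rfl⟩)), zero_mul]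

theorem resH_add (H : Subgroup G) (a b : MonoidAlgebra k G) :
    resH H (a + b) = resH H a + resH H b := by
  ext h; simp

theorem resH_one (H : Subgroup G) : resH H (1 : MonoidAlgebra k G) = 1 := by
  classical
  ext h
  simp [one_def, Finsupp.single_apply, eq_comm (a := (1 : G)), eq_comm (a := (1 : H))]

theorem resH_mem_center (H : Subgroup G) {y : MonoidAlgebra k G} (hy : Inv H y) :
    resH H y ∈ Subalgebra.center k (MonoidAlgebra k H) := by
  rw [mem_center_iff_coeff]
  intro g h
  simp only [coeff_resH, Subgroup.coe_mul, Subgroup.coe_inv]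
  exact hy h h.2 g

/-- The Brauer map at `P`, from the centre of `k[G]` to the centre of `k[H]`. -/
noncomputable def brCentre {p : ℕ} [Fact p.Prime] (hpk : (p : k) = 0) {P H : Subgroup G}
    [Fintype H] (hP : IsPGroup p P) (hCH : Subgroup.centralizer (P : Set G) ≤ H)
    (hHN : H ≤ Subgroup.normalizer (P : Set G)) :
    Subalgebra.center k (MonoidAlgebra k G) →ₐ[k] Subalgebra.center k (MonoidAlgebra k H) where
  toFun y := ⟨resH H (br P (y : MonoidAlgebra k G)), resH_mem_center H
    (inv_br hHN fun h _ g => (mem_center_iff_coeff _).1 y.2 g h)⟩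
  map_one' := Subtype.ext (by
    show resH H (br P (1 : MonoidAlgebra k G)) = 1
    rw [br_one, resH_one])
  map_mul' a b := Subtype.ext (by
    classical
    show resH H (br P ((a : MonoidAlgebra k G) * (b : MonoidAlgebra k G))) = resH H (br P (a : MonoidAlgebra k G)) * resH H (br P (b : MonoidAlgebra k G))
    rw [br_mul hpk hP (fun h _ g => (mem_center_iff_coeff _).1 a.2 g h)
      (fun h _ g => (mem_center_iff_coeff _).1 b.2 g h), resH_mul H ((suppIn_br P _).mono hCH)])
  map_zero' := Subtype.ext (by
    classical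
    show resH H (br P (0 : MonoidAlgebra k G)) = 0
    ext h; simp [coeff_br])
  map_add' a b := Subtype.ext (by
    show resH H (br P ((a : MonoidAlgebra k G) + (b : MonoidAlgebra k G))) = resH H (br P (a : MonoidAlgebra k G)) + resH H (br P (b : MonoidAlgebra k G))
    rw [br_add, resH_add])
  commutes' r := Subtype.ext (by
    classical
    show resH H (br P (algebraMap k (MonoidAlgebra k G) r)) = algebraMap k (MonoidAlgebra k H) r
    rw [Algebra.algebraMap_eq_smul_one, br_smul, br_one, Algebra.algebraMap_eq_smul_one]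
    ext h
    simp [one_def, Finsupp.single_apply, eq_comm (a := (1 : G)), eq_comm (a := (1 : H))])

end Restrict

section Induced

variable {G : Type*} [Group G] [Fintype G]

open scoped Classical in
/-- The indicator of the part of a class lying in a subgroup. -/
noncomputable def classPart (k : Type*) [CommSemiring k] (H : Subgroup G) (g : G) :
    MonoidAlgebra k H :=
  Blocks.ofFun fun h : H => if IsConj g (h : G) then 1 else 0

open scoped Classical in
/-- The indicator of the part of a class lying in `H` and centralizing `P`. -/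
noncomputable def classPartC (k : Type*) [CommSemiring k] (P H : Subgroup G) (g : G) :
    MonoidAlgebra k H :=
  Blocks.ofFun fun h : H =>
    if IsConj g (h : G) ∧ (h : G) ∈ Subgroup.centralizer (P : Set G) then 1 else 0

theorem classPart_mem_center (k : Type*) [CommSemiring k] (H : Subgroup G) (g : G) :
    classPart k H g ∈ Subalgebra.center k (MonoidAlgebra k H) := by
  rw [mem_center_iff_coeff]
  intro x h
  simp only [classPart, Blocks.coeff_ofFun, Subgroup.coe_mul, Subgroup.coe_inv]
  classical exact if_congr (isConj_conj_iff g (x : G) (h : G)) rfl rfl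

theorem classPartC_mem_center (k : Type*) [CommSemiring k] {P H : Subgroup G}
    (hHN : H ≤ Subgroup.normalizer (P : Set G)) (g : G) :
    classPartC k P H g ∈ Subalgebra.center k (MonoidAlgebra k H) := by
  classical
  rw [mem_center_iff_coeff]
  intro x h
  simp only [classPartC, Blocks.coeff_ofFun, Subgroup.coe_mul, Subgroup.coe_inv, isConj_conj_iff]
  have hmem : (h : G) * x * (h : G)⁻¹ ∈ Subgroup.centralizer (P : Set G) ↔
      (x : G) ∈ Subgroup.centralizer (P : Set G) := by
    simp only [Subgroup.mem_centralizer_iff, SetLike.mem_coe]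
    constructor
    · intro H1 u hu
      have h2 := H1 ((h : G) * u * (h : G)⁻¹) ((Subgroup.mem_normalizer_iff.1 (hHN h.2) u).1 hu)
      calc u * (x : G) = (h : G)⁻¹ * ((h : G) * u * (h : G)⁻¹ * ((h : G) * x * (h : G)⁻¹)) *
            (h : G) := by group
        _ = (h : G)⁻¹ * ((h : G) * x * (h : G)⁻¹ * ((h : G) * u * (h : G)⁻¹)) * (h : G) := by
            rw [h2]
        _ = (x : G) * u := by group
    · intro H1 u hu
      have h2 := H1 ((h : G)⁻¹ * u * (h : G))
        ((Subgroup.mem_normalizer_iff''.1 (hHN h.2) u).1 hu)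
      calc u * ((h : G) * x * (h : G)⁻¹) =
            (h : G) * ((h : G)⁻¹ * u * (h : G) * x) * (h : G)⁻¹ := by group
        _ = (h : G) * ((x : G) * ((h : G)⁻¹ * u * (h : G))) * (h : G)⁻¹ := by rw [h2]
        _ = (h : G) * x * (h : G)⁻¹ * u := by group
  exact if_congr (and_congr_right' hmem) rfl rfl

theorem omega_classPart (H : Subgroup G) [Fintype H] (ξ : H → ℂ) (g : G) :
    omega ξ (classPart ℂ H g) = inducedCentralChar H ξ g := by
  classical
  rw [omega_apply, inducedCentralChar, finsum_mem_eq_sum_of_inter_support_eq _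
    (t := Finset.univ.filter fun h : H => IsConj g (h : G)) (by simp), Finset.sum_filter,
    Finset.sum_div]
  refine Finset.sum_congr rfl fun h _ => ?_
  simp only [classPart, Blocks.coeff_ofFun]
  split_ifs <;> simp

theorem omega_classPartC (P H : Subgroup G) [Fintype H] (ξ : H → ℂ) (g : G) :
    omega ξ (classPartC ℂ P H g) = brauerCentralChar P H ξ g := by
  classical
  rw [omega_apply, brauerCentralChar, finsum_mem_eq_sum_of_inter_support_eq _
    (t := Finset.univ.filter fun h : H =>
      IsConj g (h : G) ∧ (h : G) ∈ Subgroup.centralizer (P : Set G)) (by simp), Finset.sum_filter,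
    Finset.sum_div]
  refine Finset.sum_congr rfl fun h _ => ?_
  simp only [classPartC, Blocks.coeff_ofFun]
  split_ifs <;> simp

variable {H : Subgroup G} [Fintype H]

theorem coeff_classPart_memLocalRing (hM : IsPModular p M) (g : G) (h : H) :
    MemLocalRing M ((classPart ℂ H g).coeff h) := by
  classical
  simp only [classPart, Blocks.coeff_ofFun]
  split_ifs
  · exact (lRing hM).one_mem
  · exact (lRing hM).zero_mem

theorem coeff_classPartC_memLocalRing (hM : IsPModular p M) {P : Subgroup G} (g : G) (h : H) :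
    MemLocalRing M ((classPartC ℂ P H g).coeff h) := by
  classical
  simp only [classPartC, Blocks.coeff_ofFun]
  split_ifs
  · exact (lRing hM).one_mem
  · exact (lRing hM).zero_mem

theorem inducedCentralChar_mem_lRing (hM : IsPModular p M) (ξ : IrrCharacter H) (g : G) :
    inducedCentralChar H (ξ : H → ℂ) g ∈ lRing hM := by
  rw [← omega_classPart]
  exact omega_mem_lRing hM ξ (classPart_mem_center ℂ H g) (coeff_classPart_memLocalRing hM g)

theorem brauerCentralChar_mem_lRing (hM : IsPModular p M) {P : Subgroup G}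
    (hHN : H ≤ Subgroup.normalizer (P : Set G)) (ξ : IrrCharacter H) (g : G) :
    brauerCentralChar P H (ξ : H → ℂ) g ∈ lRing hM := by
  rw [← omega_classPartC]
  exact omega_mem_lRing hM ξ (classPartC_mem_center ℂ hHN g) (coeff_classPartC_memLocalRing hM g)

theorem redAlg_classPart (hM : IsPModular p M) (g : G) :
    redAlg hM (classPart ℂ H g) = classPart (AlgInt ⧸ M) H g := by
  classical
  ext h
  simp only [coeff_redAlg, classPart, Blocks.coeff_ofFun]
  split_ifs <;> simp [lResD_one, lResD_zero]

theorem redAlg_classPartC (hM : IsPModular p M) {P : Subgroup G} (g : G) :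
    redAlg hM (classPartC ℂ P H g) = classPartC (AlgInt ⧸ M) P H g := by
  classical
  ext h
  simp only [coeff_redAlg, classPartC, Blocks.coeff_ofFun]
  split_ifs <;> simp [lResD_one, lResD_zero]

/-- Modulo `M` the induced central character only sees the elements centralizing `P`. -/
theorem induced_sub_brauer (hM : IsPModular p M) {P : Subgroup G} (hP : IsPGroup p P)
    (hPH : P ≤ H) (hHN : H ≤ Subgroup.normalizer (P : Set G)) (ξ : IrrCharacter H) (g : G) :
    MemLocalIdeal M (inducedCentralChar H (ξ : H → ℂ) g - brauerCentralChar P H (ξ : H → ℂ) g) := by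
  classical
  rw [← lResD_eq_iff hM (inducedCentralChar_mem_lRing hM ξ g)
    (brauerCentralChar_mem_lRing hM hHN ξ g), ← omega_classPart, ← omega_classPartC,
    ← lamFun_redAlg hM ξ (classPart_mem_center ℂ H g) (coeff_classPart_memLocalRing hM g),
    ← lamFun_redAlg hM ξ (classPartC_mem_center ℂ hHN g) (coeff_classPartC_memLocalRing hM g),
    redAlg_classPart, redAlg_classPartC]
  haveI hn : (P.subgroupOf H).Normal := Subgroup.normal_subgroupOf_of_le_normalizer hHN
  have hP' : IsPGroup p (P.subgroupOf H) :=
    hP.of_equiv (Subgroup.subgroupOfEquivOfLe hPH).symm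
  have h := lamB_eq_zero_of_br hM hP' ξ
    (⟨classPart (AlgInt ⧸ M) H g, classPart_mem_center _ H g⟩ -
      ⟨classPartC (AlgInt ⧸ M) P H g, classPartC_mem_center _ hHN g⟩) fun x hx => by
    have hxC : (x : G) ∈ Subgroup.centralizer (P : Set G) := by
      rw [Subgroup.mem_centralizer_iff] at hx ⊢
      intro u hu
      exact congrArg Subtype.val (hx ⟨u, hPH hu⟩ hu)
    simp [classPart, classPartC, hxC]
  rw [map_sub (lamB hM ξ), sub_eq_zero] at h
  exact h

theorem lamB_classPartC (hM : IsPModular p M) {P : Subgroup G}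
    (hHN : H ≤ Subgroup.normalizer (P : Set G)) (ξ : IrrCharacter H) (g : G) :
    lamB hM ξ ⟨classPartC (AlgInt ⧸ M) P H g, classPartC_mem_center _ hHN g⟩ =
      lResD hM (brauerCentralChar P H (ξ : H → ℂ) g) := by
  rw [lamB_apply, ← omega_classPartC]
  show lamFun hM ξ (classPartC (AlgInt ⧸ M) P H g) = _
  rw [← redAlg_classPartC hM,
    lamFun_redAlg hM ξ (classPartC_mem_center ℂ hHN g) (coeff_classPartC_memLocalRing hM g)]

/-- The central character of a block of `H` composed with the Brauer map is that of a block of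
`G`. -/
theorem exists_irr_brauerCentralChar (hM : IsPModular p M) {P : Subgroup G} (hP : IsPGroup p P)
    (hCH : Subgroup.centralizer (P : Set G) ≤ H) (hHN : H ≤ Subgroup.normalizer (P : Set G))
    (ξ : IrrCharacter H) :
    ∃ χ : IrrCharacter G, ∀ g : G,
      MemLocalIdeal M (brauerCentralChar P H (ξ : H → ℂ) g - centralChar (χ : G → ℂ) g) := by
  classical
  haveI : Fact p.Prime := ⟨hM.1⟩
  obtain ⟨χ, hχ⟩ := exists_eq_lamB hM
    ((lamB hM ξ).comp (brCentre (p_eq_zero_residue hM) hP hCH hHN))
  refine ⟨χ, fun g => ?_⟩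
  rw [← lResD_eq_iff hM (brauerCentralChar_mem_lRing hM hHN ξ g) (centralChar_mem_lRing hM χ g),
    ← lamB_classPartC hM hHN, ← lamB_classSum, ← hχ, AlgHom.comp_apply]
  congr 1
  refine Subtype.ext (MonoidAlgebra.ext (Finsupp.ext fun h => ?_))
  simp only [brCentre, AlgHom.coe_mk, RingHom.coe_mk, MonoidHom.coe_mk, OneHom.coe_mk, coeff_resH,
    coeff_br, coeff_classSum, classPartC, Blocks.coeff_ofFun]
  by_cases h1 : (h : G) ∈ Subgroup.centralizer (P : Set G) <;> simp [h1]

omit [Fintype G] in
/-- Congruence of central characters does not depend on the member of the block. -/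
theorem inducedCentralChar_congr [Finite G] (hM : IsPModular p M) {ξ ξ' : IrrCharacter H}
    (h : SameBlock M (ξ : H → ℂ) (ξ' : H → ℂ)) (g : G) :
    MemLocalIdeal M (inducedCentralChar H (ξ : H → ℂ) g - inducedCentralChar H (ξ' : H → ℂ) g) := by
  letI := Fintype.ofFinite G
  rw [← omega_classPart, ← omega_classPart]
  exact omega_congr_of_sameBlock hM h (classPart_mem_center ℂ H g)
    (coeff_classPart_memLocalRing hM g)

/-- A single pair of congruent central characters gives block induction. -/
theorem isInducedBlock_of_forall (hM : IsPModular p M) {b : Set (IrrCharacter H)}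
    (hb : IsPBlock M b) {B : Set (IrrCharacter G)} (hB : IsPBlock M B) {ξ : IrrCharacter H}
    (hξ : ξ ∈ b) {χ : IrrCharacter G} (hχ : χ ∈ B)
    (h : ∀ g : G,
      MemLocalIdeal M (inducedCentralChar H (ξ : H → ℂ) g - centralChar (χ : G → ℂ) g)) :
    IsInducedBlock M H b B := by
  refine ⟨hb, hB, fun ξ' hξ' χ' hχ' g => ?_⟩
  have h1 := inducedCentralChar_congr hM ((IsPBlock.mem_iff hM hb hξ' ξ).1 hξ) g
  have h2 := (IsPBlock.mem_iff hM hB hχ χ').1 hχ' g
  simpa using MemLocalIdeal.add hM (MemLocalIdeal.add hM h1 (h g)) h2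

/-- Block induction is defined for `P * C(P) ≤ H ≤ N(P)`. -/
theorem inducedBlockDefined (hM : IsPModular p M) {P : Subgroup G} (hP : IsPGroup p P)
    (hPH : P ≤ H) (hCH : Subgroup.centralizer (P : Set G) ≤ H)
    (hHN : H ≤ Subgroup.normalizer (P : Set G)) {b : Set (IrrCharacter H)} (hb : IsPBlock M b) :
    InducedBlockDefined M H b := by
  obtain ⟨ξ, hξ⟩ := IsPBlock.nonempty hM hb
  obtain ⟨χ, hχ⟩ := exists_irr_brauerCentralChar hM hP hCH hHN ξ
  refine ⟨blockOf M (χ : G → ℂ), isInducedBlock_of_forall hM hb (isPBlock_blockOf χ) hξ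
    (mem_blockOf_self hM χ) fun g => ?_⟩
  simpa using MemLocalIdeal.add hM (induced_sub_brauer hM hP hPH hHN ξ g) (hχ g)

end Induced

end CfsgLib.Blocks
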