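import Cfsg.Agent.Lib.Blocks.SectionNorm

/-!
# Column relations restricted to the principal block
-/

set_option autoImplicit false

namespace CfsgLib.Blocks

open Cfsg CfsgLib.Characters
open scoped ComplexConjugate

universe u

variable {G : Type u} [Group G] [Fintype G] {p : ℕ} [Fact p.Prime] {M : Ideal AlgInt} {z : G}

open scoped Classical in
/-- A linear relation between the irreducible characters on a `p`-section holds inside the
principal block. -/
theorem sum_principal_eq_zero_of_section (hM : IsPModular p M) (hz : ∃ k : ℕ, orderOf z = p ^ k)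
    (c : IrrCharacter G → ℂ)
    (h : ∀ y : G, Commute y z → ¬ p ∣ orderOf y →
      ∑ ζ : IrrCharacter G, c ζ * (ζ : G → ℂ) (z * y) = 0) :
    ∑ ζ ∈ Finset.univ.filter (· ∈ principalBlock M G), c ζ * (ζ : G → ℂ) z = 0 := by
  letI := Fintype.ofFinite (Subgroup.centralizer ({z} : Set G))
  have h1 : ¬ p ∣ orderOf (1 : Subgroup.centralizer ({z} : Set G)) := by
    rw [orderOf_one]; exact (Fact.out : p.Prime).not_dvd_one
  have e := blockPart_linear (principalBlock M (Subgroup.centralizer ({z} : Set G))) c
    (fun ζ => sectionFun z (ζ : G → ℂ)) 1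
  rw [blockPart_congr_regular (G := ↥(Subgroup.centralizer ({z} : Set G))) hM (isPBlock_principalBlock M)
    (f := fun y => ∑ ζ, c ζ * sectionFun z (ζ : G → ℂ) y) (g := fun _ => (0 : ℂ))
    (fun y hy => h (y : G) (Subgroup.mem_centralizer_singleton_iff.mp y.2)
      (by rwa [Subgroup.orderOf_coe])) h1] at e
  simp only [blockPart_principal_section hM hz h1, Subgroup.coe_one, mul_one, mul_ite, mul_zero] at e
  rw [Finset.sum_filter, ← e]
  simp [blockPart_eq_sum, classInner]

end CfsgLib.Blocks
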