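import Cfsg.Agent.Lib.Blocks.PrincipalSq
import Cfsg.Agent.Lib.Blocks.RootsMod
import Cfsg.Agent.Lib.Characters.ExtensionUnique
import Cfsg.Agent.Lib.Characters.Galois

/-!
# `p`-rational characters

Automorphisms of `ℂ` fixing the roots of unity of order prime to `p`, their effect on character
values modulo `M`, and determinants of restricted and twisted irreducible characters.
-/

set_option autoImplicit false
set_option linter.unusedSectionVars false
set_option linter.style.haveILetI false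

noncomputable section

namespace CfsgLib.PRational

open Cfsg CfsgLib.Characters CfsgLib.Blocks CfsgLib.CharGalois

universe u v

variable {p : ℕ}

theorem pow_eq_of_modEq {A : Type*} [Monoid A] {n a b : ℕ} {z : A} (hz : z ^ n = 1)
    (h : a ≡ b [MOD n]) : z ^ a = z ^ b := by
  rw [pow_eq_pow_mod a hz, pow_eq_pow_mod b hz, h]

/-- An automorphism of `ℂ` acts on `n`-th roots of unity as a power prime to `n`. -/
theorem exists_pow_on_roots (σ : ℂ ≃+* ℂ) (n : ℕ) [NeZero n] :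
    ∃ k : ℕ, k.Coprime n ∧ ∀ z : ℂ, z ^ n = 1 → σ z = z ^ k := by
  have hζ := Complex.isPrimitiveRoot_exp n (NeZero.ne n)
  have hσζ := hζ.map_of_injective (f := σ.toRingHom) σ.injective
  obtain ⟨k, -, hkζ⟩ := hζ.eq_pow_of_pow_eq_one hσζ.pow_eq_one
  refine ⟨k, (hζ.pow_iff_coprime (NeZero.pos n) k).1 (hkζ.symm ▸ hσζ), fun z hz => ?_⟩
  obtain ⟨i, -, rfl⟩ := hζ.eq_pow_of_pow_eq_one hz
  rw [map_pow, ← show _ = σ.toRingHom _ from rfl] at *
  show σ.toRingHom _ ^ i = _
  rw [← hkζ, pow_right_comm]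

/-- The automorphism fixes the `q`-th roots of unity. -/
def Fix (q : ℕ) (σ : ℂ ≃+* ℂ) : Prop := ∀ z : ℂ, z ^ q = 1 → σ z = z

theorem modEq_one_of_fix {n q k : ℕ} [NeZero q] (hq : q ∣ n) {σ : ℂ ≃+* ℂ} (hσ : Fix q σ)
    (hk : ∀ z : ℂ, z ^ n = 1 → σ z = z ^ k) : k ≡ 1 [MOD q] := by
  have hζ := Complex.isPrimitiveRoot_exp q (NeZero.ne q)
  set ζ := Complex.exp (2 * Real.pi * Complex.I / q)
  obtain ⟨c, hc⟩ := hq
  have h1 : ζ ^ k = ζ ^ 1 := by
    rw [pow_one, ← hk ζ (by rw [hc, pow_mul, hζ.pow_eq_one, one_pow]), hσ ζ hζ.pow_eq_one]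
  have h2 := (orderOf_pos_iff.1 (by rw [← hζ.eq_orderOf]; exact NeZero.pos q :
    0 < orderOf ζ)).pow_eq_pow_iff_modEq.1 h1
  rwa [← hζ.eq_orderOf] at h2

/-- A root of unity of `p`-power order is congruent to one. -/
theorem sub_one_mem_of_pow_prime_pow {M : Ideal AlgInt} (hM : IsPModular p M) {w : ℂ} {a : ℕ}
    (hw : w ^ p ^ a = 1) : MemLocalIdeal M (w - 1) := by
  haveI := IsPModular.isMaximal hM
  letI := Ideal.Quotient.field M
  haveI := charP_residue hM
  haveI : Fact p.Prime := ⟨hM.1⟩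
  let z : AlgInt := ⟨w, IsIntegral.of_pow (pow_pos hM.1.pos a) (by rw [hw]; exact isIntegral_one)⟩
  have h1 : Ideal.Quotient.mk M z ^ p ^ a = 1 ^ p ^ a := by
    rw [one_pow, ← map_pow, show z ^ p ^ a = 1 from Subtype.ext hw, map_one]
  have h2 : Ideal.Quotient.mk M z = Ideal.Quotient.mk M 1 := by
    rw [map_one]
    exact iterateFrobenius_inj (AlgInt ⧸ M) p a (by simpa [iterateFrobenius_def] using h1)
  exact memLocalIdeal_coe hM (Ideal.Quotient.eq.1 h2)

section Values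

variable {H : Type u} [Group H] [Finite H] {q a : ℕ}

/-- Values in a cyclotomic field of order prime to `p` are fixed by automorphisms fixing the
`q`-th roots of unity, where the group order divides `p ^ a * q`. -/
theorem fixed_of_rational (hp : p.Prime) (hq0 : q ≠ 0) (hpq : ¬ p ∣ q)
    (hH : Nat.card H ∣ p ^ a * q) {χ : H → ℂ} (hχ : IsCharacter H χ) {m : ℕ} (hm : ¬ p ∣ m)
    (x : H) (hx : χ x ∈ IntermediateField.adjoin ℚ
      ({Complex.exp (2 * Real.pi * Complex.I / m)} : Set ℂ))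
    {σ : ℂ ≃+* ℂ} (hσ : Fix q σ) : σ (χ x) = χ x := by
  have hm0 : m ≠ 0 := fun h => hm (h ▸ dvd_zero p)
  have hqm : ¬ p ∣ q * m := hp.not_dvd_mul hpq hm
  haveI : NeZero (p ^ a * q) := ⟨mul_ne_zero (pow_ne_zero _ hp.ne_zero) hq0⟩
  haveI : NeZero q := ⟨hq0⟩
  haveI : NeZero (p ^ a * (q * m)) :=
    ⟨mul_ne_zero (pow_ne_zero _ hp.ne_zero) (mul_ne_zero hq0 hm0)⟩
  obtain ⟨k, hk, hσk⟩ := exists_pow_on_roots σ (p ^ a * q)
  have hk1 := modEq_one_of_fix (dvd_mul_left q _) hσ hσk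
  have hco : Nat.Coprime (p ^ a) (q * m) := Nat.Coprime.pow_left _ (hp.coprime_iff_not_dvd.2 hqm)
  obtain ⟨k', hk'a, hk'm⟩ := Nat.chineseRemainder hco k 1
  have hk'cop : Nat.Coprime k' (p ^ a * (q * m)) := by
    refine Nat.Coprime.mul_right ?_ ?_
    · rw [Nat.Coprime, hk'a.gcd_eq]
      exact hk.coprime_dvd_right (dvd_mul_right _ _)
    · rw [Nat.Coprime, hk'm.gcd_eq, Nat.gcd_one_left]
  obtain ⟨τ, hτ⟩ := exists_autComplex (p ^ a * (q * m)) hk'cop
  have hk'k : k' ≡ k [MOD p ^ a * q] :=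
    (Nat.modEq_and_modEq_iff_modEq_mul (Nat.Coprime.pow_left _ (hp.coprime_iff_not_dvd.2 hpq))).1
      ⟨hk'a, ((hk'm.of_dvd (dvd_mul_right q m))).trans hk1.symm⟩
  obtain ⟨N, z, hz, hd⟩ := exists_root_decomp hχ x
  have h1 := hd 1
  simp only [pow_one] at h1
  have hzn : ∀ i, z i ^ (p ^ a * q) = 1 := fun i => by
    obtain ⟨c, hc⟩ := hH
    rw [hc, pow_mul, hz i, one_pow]
  have h2 : τ (χ x) = σ (χ x) := by
    rw [h1, map_sum, map_sum]
    refine Finset.sum_congr rfl fun i _ => ?_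
    rw [hσk _ (hzn i), hτ _ (by rw [← mul_assoc, pow_mul, hzn i, one_pow]),
      pow_eq_of_modEq (hzn i) hk'k]
  rw [← h2]
  clear h1 h2 hd
  have hζ : τ (Complex.exp (2 * Real.pi * Complex.I / m)) =
      Complex.exp (2 * Real.pi * Complex.I / m) := by
    have h3 := (Complex.isPrimitiveRoot_exp m hm0).pow_eq_one
    rw [hτ _ (by rw [show p ^ a * (q * m) = m * (p ^ a * q) by ring, pow_mul, h3, one_pow]),
      pow_eq_of_modEq h3 (hk'm.of_dvd (dvd_mul_left m q)), pow_one]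
  generalize χ x = y at hx ⊢
  induction hx using IntermediateField.adjoin_induction with
  | mem y hy => rw [Set.mem_singleton_iff.1 hy, hζ]
  | algebraMap r => simp
  | add y z _ _ hy hz => rw [map_add, hy, hz]
  | inv y _ hy => rw [map_inv₀, hy]
  | mul y z _ _ hy hz => rw [map_mul, hy, hz]

/-- Automorphisms fixing the `q`-th roots of unity do not change values modulo `M`. -/
theorem congr_of_fix {M : Ideal AlgInt} (hM : IsPModular p M) (hq0 : q ≠ 0)
    (hH : Nat.card H ∣ p ^ a * q) {χ : H → ℂ} (hχ : IsCharacter H χ) (x : H)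
    {σ : ℂ ≃+* ℂ} (hσ : Fix q σ) : MemLocalIdeal M (σ (χ x) - χ x) := by
  haveI : NeZero (p ^ a * q) := ⟨mul_ne_zero (pow_ne_zero _ hM.1.ne_zero) hq0⟩
  haveI : NeZero q := ⟨hq0⟩
  obtain ⟨k, -, hσk⟩ := exists_pow_on_roots σ (p ^ a * q)
  have hk1 := modEq_one_of_fix (dvd_mul_left q _) hσ hσk
  obtain ⟨N, z, hz, hd⟩ := exists_root_decomp hχ x
  have h1 := hd 1
  simp only [pow_one] at h1
  rw [h1, map_sum, ← Finset.sum_sub_distrib]
  refine MemLocalIdeal.sum hM _ fun i _ => ?_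
  have hzn : z i ^ (p ^ a * q) = 1 := by
    obtain ⟨c, hc⟩ := hH
    rw [hc, pow_mul, hz i, one_pow]
  have hn0 : p ^ a * q ≠ 0 := NeZero.ne _
  have hz0 : z i ≠ 0 := fun h0 => by rw [h0, zero_pow hn0] at hzn; exact zero_ne_one hzn
  have hint : IsIntegral ℤ (z i) :=
    IsIntegral.of_pow (Nat.pos_of_ne_zero hn0) (by rw [hzn]; exact isIntegral_one)
  rw [hσk _ hzn, show z i ^ k - z i = z i * (z i ^ k / z i - 1) by field_simp]
  refine MemLocalIdeal.mul_left hM (isIntegral_mem_lRing hM hint)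
    (sub_one_mem_of_pow_prime_pow hM (a := a) ?_)
  rw [div_pow, div_eq_one_iff_eq (pow_ne_zero _ hz0), ← pow_mul]
  refine pow_eq_of_modEq hzn ?_
  rw [mul_comm k]
  simpa using hk1.mul_left' (p ^ a)

/-- A value fixed by all automorphisms fixing the `q`-th roots of unity is in `ℚ(ζ_q)`. -/
theorem mem_adjoin_of_fixed [NeZero q] {n : ℕ} [NeZero n] (hqn : q ∣ n) (hH : Nat.card H ∣ n)
    {χ : H → ℂ} (hχ : IsCharacter H χ) (x : H)
    (h : ∀ σ : ℂ ≃+* ℂ, Fix q σ → σ (χ x) = χ x) :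
    χ x ∈ IntermediateField.adjoin ℚ
      ({Complex.exp (2 * Real.pi * Complex.I / q)} : Set ℂ) := by
  have hζ := Complex.isPrimitiveRoot_exp n (NeZero.ne n)
  have hξ := Complex.isPrimitiveRoot_exp q (NeZero.ne q)
  set ζ : ℂ := Complex.exp (2 * Real.pi * Complex.I / n)
  set ξ : ℂ := Complex.exp (2 * Real.pi * Complex.I / q)
  let K : IntermediateField ℚ ℂ := IntermediateField.adjoin ℚ {ζ}
  haveI : IsCyclotomicExtension {n} ℚ K := isCyclotomic_adjoin hζ
  haveI : FiniteDimensional ℚ K := IsCyclotomicExtension.finiteDimensional {n} ℚ K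
  haveI : IsGalois ℚ K := IsCyclotomicExtension.isGalois {n} ℚ K
  have hmem : ∀ w : ℂ, w ^ n = 1 → w ∈ K := fun w hw => by
    obtain ⟨j, -, hj⟩ := hζ.eq_pow_of_pow_eq_one hw
    exact hj ▸ pow_mem (IntermediateField.mem_adjoin_simple_self ℚ ζ) j
  have hξn : ξ ^ n = 1 := by
    obtain ⟨c, hc⟩ := hqn
    rw [hc, pow_mul, hξ.pow_eq_one, one_pow]
  obtain ⟨N, z, hz, hd⟩ := exists_root_decomp hχ x
  have h1 := hd 1
  simp only [pow_one] at h1
  have hzn : ∀ i, z i ^ n = 1 := fun i => by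
    obtain ⟨c, hc⟩ := hH
    rw [hc, pow_mul, hz i, one_pow]
  let b : K := ∑ i, ⟨z i, hmem _ (hzn i)⟩
  have hb : (b : ℂ) = χ x := by
    rw [h1, show (b : ℂ) = K.val b from rfl, map_sum]
    rfl
  let L : IntermediateField ℚ K := IntermediateField.adjoin ℚ {(⟨ξ, hmem _ hξn⟩ : K)}
  have hbL : b ∈ L := by
    rw [← IsGalois.fixedField_fixingSubgroup L, IntermediateField.mem_fixedField_iff]
    intro τ hτ
    set u := (IsCyclotomicExtension.zeta_spec n ℚ K).autToPow ℚ τ with hu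
    obtain ⟨σ, hσ⟩ := exists_autComplex n (ZMod.val_coe_unit_coprime u)
    have hστ : ∀ w : ℂ, ∀ hw : w ^ n = 1, σ w = ((τ ⟨w, hmem _ hw⟩ : K) : ℂ) := fun w hw => by
      rw [hσ w hw, autToPow_spec' n τ (Subtype.ext hw : (⟨w, hmem _ hw⟩ : K) ^ n = 1)]
      rfl
    have hfix : Fix q σ := fun w hw => by
      obtain ⟨j, -, rfl⟩ := hξ.eq_pow_of_pow_eq_one hw
      rw [map_pow, hστ ξ hξn, (IntermediateField.mem_fixingSubgroup_iff L τ).1 hτ _
        (IntermediateField.mem_adjoin_simple_self ℚ _)]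
    apply Subtype.ext
    rw [hb, ← h σ hfix, h1]
    show K.val (τ (∑ i, (⟨z i, hmem _ (hzn i)⟩ : K))) = _
    rw [map_sum, map_sum, map_sum]
    exact Finset.sum_congr rfl fun i _ => (hστ _ (hzn i)).symm
  let v : K →ₐ[ℚ] ℂ := (K.val : K →+* ℂ).toRatAlgHom
  have hmap : L.map v = IntermediateField.adjoin ℚ ({ξ} : Set ℂ) := by
    rw [IntermediateField.adjoin_map, Set.image_singleton]
    rfl
  rw [← hmap, ← hb]
  exact ⟨b, hbL, rfl⟩

end Values

section Det

variable {X : Type u} [Group X] [Finite X]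

/-- The determinant of any representation affording an irreducible character. -/
theorem detChar_of_char {χ : X → ℂ} (hχ : IsIrrCharacter X χ) {m : ℕ}
    (σ : Representation ℂ X (Fin m → ℂ)) (hσ : σ.character = χ) :
    detChar χ = fun x => LinearMap.det (σ x) := by
  obtain ⟨n, ρ, hρ, rfl⟩ := hχ
  haveI := hρ
  rw [CfsgLib.CharExtension.detChar_eq]
  obtain ⟨φ⟩ := CfsgLib.CharExtension.nonempty_equiv_of_char_eq ρ σ hσ
  funext x
  rw [← LinearMap.det_conj (ρ x) φ.toLinearEquiv]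
  congr 1
  refine LinearMap.ext fun v => ?_
  have h := LinearMap.congr_fun (φ.toIntertwiningMap.isIntertwining' x) (φ.toLinearEquiv.symm v)
  have e : φ.toLinearEquiv (φ.toLinearEquiv.symm v) = v := φ.toLinearEquiv.apply_symm_apply v
  exact h.trans (congrArg (σ x) e)

/-- The determinant as a homomorphism. -/
theorem exists_detHom {χ : X → ℂ} (hχ : IsIrrCharacter X χ) :
    ∃ D : X →* ℂˣ, detChar χ = fun x => (D x : ℂ) := by
  obtain ⟨n, ρ, hρ, rfl⟩ := hχ
  haveI := hρ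
  exact ⟨(LinearMap.det.comp ρ).toHomUnits, CfsgLib.CharExtension.detChar_eq ρ⟩

/-- The determinant of a pullback which stays irreducible. -/
theorem detChar_comp {Y : Type v} [Group Y] [Finite Y] {χ : X → ℂ} (hχ : IsIrrCharacter X χ)
    (f : Y →* X) (hf : IsIrrCharacter Y (fun y => χ (f y))) :
    detChar (fun y => χ (f y)) = fun y => detChar χ (f y) := by
  obtain ⟨n, ρ, hρ, rfl⟩ := hχ
  haveI := hρ
  rw [CfsgLib.CharExtension.detChar_eq ρ, detChar_of_char hf (ρ.comp f) rfl]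
  rfl

/-- The determinant of a twist by a linear character. -/
theorem detChar_mul_hom {χ : X → ℂ} (hχ : IsIrrCharacter X χ) {d : ℕ} (hd : χ 1 = d)
    (f : X →* ℂˣ) :
    detChar (fun x => χ x * (f x : ℂ)) = fun x => (f x : ℂ) ^ d * detChar χ x := by
  have hirr := CfsgLib.LinearTwist.isIrr_mul_hom hχ f
  obtain ⟨n, ρ, hρ, rfl⟩ := hχ
  haveI := hρ
  rw [Representation.char_one, Module.finrank_fin_fun, Nat.cast_inj] at hd
  subst hd
  let σ : Representation ℂ X (Fin n → ℂ) :=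
    { toFun := fun x => (f x : ℂ) • ρ x
      map_one' := by simp
      map_mul' := fun x y => by
        rw [map_mul, map_mul, Units.val_mul, smul_mul_smul_comm] }
  rw [detChar_of_char hirr σ (funext fun x => by
    show LinearMap.trace ℂ _ ((f x : ℂ) • ρ x) = _
    rw [map_smul, smul_eq_mul, mul_comm]
    rfl), CfsgLib.CharExtension.detChar_eq]
  funext x
  show LinearMap.det ((f x : ℂ) • ρ x) = _
  rw [LinearMap.det_smul, Module.finrank_fin_fun]

end Det

/-- A twist by a linear character of `p`-power order stays in the principal block. -/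
theorem mem_principal_mul_hom {G : Type u} [Group G] [Finite G] {M : Ideal AlgInt}
    (hM : IsPModular p M) {χ : IrrCharacter G} (hχ : χ ∈ principalBlock M G) (f : G →* ℂˣ) {a : ℕ}
    (hf : ∀ g, f g ^ p ^ a = 1) (ψ : IrrCharacter G)
    (hψ : ∀ g, (ψ : G → ℂ) g = (χ : G → ℂ) g * (f g : ℂ)) : ψ ∈ principalBlock M G := by
  intro g
  have hpow : (f g : ℂ) ^ p ^ a = 1 := by rw [← Units.val_pow_eq_pow_val, hf, Units.val_one]
  have h0 := hχ g
  rw [CfsgLib.PrincipalSq.centralChar_principal] at h0 ⊢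
  have h1 := MemLocalIdeal.sub hM h0 (MemLocalIdeal.mul_left hM
    (centralChar_mem_lRing hM χ g) (sub_one_mem_of_pow_prime_pow hM hpow))
  convert h1 using 1
  simp only [centralChar, hψ, map_one, Units.val_one, mul_one]
  ring

end CfsgLib.PRational
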