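import Cfsg.Agent.Lib.Blocks.PrincipalSq

/-!
# The theorem of Isaacs and Smith on `p'`-degrees in the principal block
-/

set_option autoImplicit false
set_option linter.unusedSectionVars false
set_option linter.style.haveILetI false

namespace CfsgLib.PrincipalSq

open Cfsg CfsgLib.Characters CfsgLib.Blocks CfsgLib.NormalRes CfsgLib.BrauerPerm
  CfsgLib.LinearTwist

universe u

variable {G : Type u} [Group G] [Finite G] {p : ℕ} {M : Ideal AlgInt}

theorem modEq_of_eq {m a b : ℕ} (h : a = b) : a ≡ b [MOD m] := h ▸ Nat.ModEq.refl a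

theorem isConj_index_equiv (e : G ≃* G) (g : G) :
    (Subgroup.centralizer ({e g} : Set G)).index = (Subgroup.centralizer ({g} : Set G)).index := by
  rw [← card_isConj_eq_index, ← card_isConj_eq_index]
  refine (Nat.card_congr (e.toEquiv.subtypeEquiv fun x => ?_)).symm
  exact ⟨fun h => e.toMonoidHom.map_isConj h, fun h => by
    have := e.symm.toMonoidHom.map_isConj h
    simpa using this⟩

theorem twist_mem_principal (hM : IsPModular p M) (e : G ≃* G) (θ : IrrCharacter G)
    (h : θ ∈ principalBlock M G) : twistIrr e θ ∈ principalBlock M G := by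
  intro g
  have h1 := h (e.symm g)
  rw [centralChar_principal, centralChar, isConj_index_equiv] at h1
  rw [centralChar_principal, centralChar]
  simpa [twistIrr_apply] using h1

/-- Linear characters in the principal block are closed under products. -/
theorem mul_hom_mem_principal (hM : IsPModular p M) (f f' : G →* ℂˣ)
    (h : (⟨_, isIrrCharacter_of_hom f⟩ : IrrCharacter G) ∈ principalBlock M G)
    (h' : (⟨_, isIrrCharacter_of_hom f'⟩ : IrrCharacter G) ∈ principalBlock M G) :
    (⟨_, isIrrCharacter_of_hom (f * f')⟩ : IrrCharacter G) ∈ principalBlock M G := by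
  intro g
  have h1 := h g
  have h2 := MemLocalIdeal.mul_right hM (h' g)
    (char_mem_lRing hM (isCharacter_of_irr (isIrrCharacter_of_hom f)) g)
  rw [centralChar_principal] at h1 ⊢
  rw [centralChar_principal] at h2
  convert MemLocalIdeal.add hM h1 h2 using 1
  simp only [centralChar, map_one, Units.val_one, div_one, MonoidHom.mul_apply, Units.val_mul]
  ring

/-- Homomorphisms from `O^p(G)` to `ℂˣ` have order prime to `p`. -/
theorem not_dvd_orderOf_hom [Fact p.Prime] (f : Cfsg.pResidual p G →* ℂˣ) : ¬ p ∣ orderOf f := by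
  intro hd
  have ho : orderOf f ≠ 0 := (orderOf_pos f).ne'
  obtain ⟨h, hh⟩ : ∃ h, h = f ^ (orderOf f / p) := ⟨_, rfl⟩
  have hord : orderOf h = p := by
    rw [hh]
    exact orderOf_pow_orderOf_div ho hd
  have key : h = 1 := by
    refine MonoidHom.eq_of_eqOn_dense
      (s := ((Cfsg.pResidual p G).subtype) ⁻¹' {g : G | Nat.Coprime (orderOf g) p}) ?_ ?_
    · exact Subgroup.closure_closure_coe_preimage
    · intro x hx
      have h1 : h x ^ p = 1 := by
        have h0 := pow_orderOf_eq_one h
        rw [hord] at h0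
        rw [← MonoidHom.pow_apply, h0, MonoidHom.one_apply]
      have h2 : h x ^ orderOf (x : G) = 1 := by
        rw [← map_pow, Subgroup.orderOf_coe, pow_orderOf_eq_one, map_one]
      have h3 := pow_gcd_eq_one.mpr (And.intro h1 h2)
      rwa [show Nat.gcd p (orderOf (x : G)) = 1 from (Nat.Coprime.symm hx), pow_one] at h3
  rw [key, orderOf_one] at hord
  exact (Fact.out : p.Prime).one_lt.ne hord

/-- **Isaacs–Smith**: if all characters of degree prime to `p` in the principal block are linear,
then `G` has a normal `p`-complement. -/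
theorem hasNormalPComplement_of_linear [Fact p.Prime] (hM : IsPModular p M)
    (h : ∀ χ : IrrCharacter G, χ ∈ principalBlock M G → ¬ p ∣ charDegree (χ : G → ℂ) →
      charDegree (χ : G → ℂ) = 1) : HasNormalPComplement p G := by
  classical
  rw [CfsgLib.Transfer.hasNormalPComplement_iff]
  intro hpN
  haveI hNn : (Cfsg.pResidual p G).Normal := CfsgLib.Transfer.pResidual_normal
  set N := Cfsg.pResidual p G with hNdef
  haveI := Fintype.ofFinite G
  haveI := Fintype.ofFinite N
  have hquot : IsPGroup p (G ⧸ N) := CfsgLib.Transfer.isPGroup_quotient_of_pResidual_le N le_rfl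
  obtain ⟨a, ha⟩ := CfsgLib.Transfer.pResidual_index_eq_pow (G := G) (p := p)
  rw [← hNdef] at ha
  -- invariant characters of `p'`-degree in the principal block of `N` are linear
  have hlin : ∀ θ : IrrCharacter N, θ ∈ principalBlock M N → ¬ p ∣ charDegree (θ : N → ℂ) →
      (∀ g : G, twistIrr (MulAut.conjNormal g) θ = θ) → charDegree (θ : N → ℂ) = 1 := by
    intro θ hθ hdeg hinv
    obtain ⟨d, ρ, hρ, hρc⟩ := θ.2
    haveI := hρ
    have hd : (θ : N → ℂ) 1 = d := by rw [← hρc]; simp
    have hdd : charDegree (θ : N → ℂ) = d := charDegree_eq_of_apply_one hd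
    let f : N →* ℂˣ := (LinearMap.det.comp ρ).toHomUnits
    have hf : CfsgLib.LinearExt.InvHom N f := by
      intro g n
      apply Units.ext
      change LinearMap.det (ρ _) = LinearMap.det (ρ n)
      let σ : Representation ℂ N (Fin d → ℂ) := ρ.comp (MulAut.conjNormal (H := N) g).toMonoidHom
      haveI hσ : σ.IsIrreducible := by
        rw [CfsgLib.Characters.isIrreducible_iff] at hρ ⊢
        exact ⟨hρ.1, fun U hU => hρ.2 U fun x v hv => by
          simpa [σ] using hU ((MulAut.conjNormal g).symm x) v hv⟩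
      have hchar : σ.character = ρ.character := by
        funext x
        change ρ.character (MulAut.conjNormal g x) = _
        rw [hρc]
        conv_rhs => rw [← hinv g⁻¹]
        rw [twistIrr_apply, map_inv, MulAut.inv_symm]
      have h1 := congrFun (CfsgLib.CharExtension.detChar_eq σ) n
      rw [hchar, CfsgLib.CharExtension.detChar_eq ρ] at h1
      dsimp only at h1
      rw [h1]
      congr 2
    have hco : Nat.Coprime (orderOf f) N.index := by
      rw [ha]
      exact Nat.Coprime.pow_right _
        ((Nat.Prime.coprime_iff_not_dvd Fact.out).mpr (not_dvd_orderOf_hom f)).symm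
    obtain ⟨μ, hμ⟩ := CfsgLib.LinearExt.extends_of_coprime hco
      (CfsgLib.LinearExt.powExtends_of_pow_eq_one (pow_orderOf_eq_one f))
      (CfsgLib.LinearExt.powExtends_index hf le_rfl f (fun _ => rfl))
    obtain ⟨χ, hχ, hχres⟩ := CfsgLib.CharExtension.extends_of_det N θ.2
      (fun g n => by
        have := congrFun (congrArg Subtype.val (hinv g⁻¹)) n
        rw [twistIrr_apply] at this
        conv_rhs => rw [← this]
        exact congrArg _ (Subtype.ext (by simp [MulAut.conjNormal_symm_apply])))
      d hd (by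
        rw [ha]
        exact Nat.Coprime.pow_left _ ((Nat.Prime.coprime_iff_not_dvd Fact.out).mpr (hdd ▸ hdeg)))
      (fun g => (μ g : ℂ)) (isCharacter_of_irr (isIrrCharacter_of_hom μ)) (by simp) (by
        intro n
        rw [← hρc, CfsgLib.CharExtension.detChar_eq ρ]
        simp [hμ, f])
    have hχd : charDegree χ = d := charDegree_eq_of_apply_one (by
      rw [← hd, ← hχres 1]; rfl)
    have hmem := mem_principal_of_extension hM N hquot ⟨χ, hχ⟩ θ hχres hθ hdeg
    rw [hdd, ← hχd]
    exact h ⟨χ, hχ⟩ hmem (by rw [hχd, ← hdd]; exact hdeg)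
  -- the invariant linear characters in the principal block
  let H : Submonoid (N →* ℂˣ) :=
    { carrier := {f | (⟨_, isIrrCharacter_of_hom f⟩ : IrrCharacter N) ∈ principalBlock M N ∧
        ∀ (g : G) (n : N), f ((MulAut.conjNormal g).symm n) = f n}
      one_mem' := ⟨by intro g; simp only [MonoidHom.one_apply, Units.val_one];
                      exact sameBlock_refl hM (fun _ : N => (1 : ℂ)) g, fun _ _ => rfl⟩
      mul_mem' := fun {a b} ha hb => ⟨mul_hom_mem_principal hM a b ha.1 hb.1,
        fun g n => by rw [MonoidHom.mul_apply, MonoidHom.mul_apply, ha.2, hb.2]⟩ }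
  let T : Subgroup (N →* ℂˣ) := Subgroup.closure (H : Set (N →* ℂˣ))
  have hTH : (T : Set (N →* ℂˣ)) = H := by
    refine Set.Subset.antisymm (fun f hf => ?_) Subgroup.subset_closure
    have := Subgroup.closure_toSubmonoid_of_finite (s := (H : Set (N →* ℂˣ)))
    rw [Submonoid.closure_eq] at this
    exact this ▸ hf
  haveI : Fintype T := Fintype.ofFinite T
  have hTp : ¬ p ∣ Nat.card T := by
    intro hd
    obtain ⟨x, hx⟩ := exists_prime_orderOf_dvd_card' p hd
    exact not_dvd_orderOf_hom x.1 (by rw [Subgroup.orderOf_coe, hx])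
  -- counting
  obtain ⟨P⟩ : Nonempty (Sylow p G) := inferInstance
  letI act : MulAction (P : Subgroup G) (IrrCharacter N) :=
    { smul := fun x θ => twistIrr (MulAut.conjNormal (x : G)) θ
      one_smul := fun θ => twist_of_mem N N.one_mem θ
      mul_smul := fun x y θ => (twist_twist N (x : G) (y : G) θ).symm }
  have hfix : ∀ θ : IrrCharacter N, θ ∈ MulAction.fixedPoints (P : Subgroup G) (IrrCharacter N) ↔
      ∀ g : G, twistIrr (MulAut.conjNormal g) θ = θ := by
    intro θ
    refine ⟨fun hθ g => ?_, fun hθ x => hθ (x : G)⟩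
    have hg : g ∈ (P : Subgroup G) ⊔ N := by
      rw [CfsgLib.Transfer.sylow_sup_eq_top P N hquot]; trivial
    rw [Subgroup.mem_sup_of_normal_right] at hg
    obtain ⟨x, hx, n, hn, rfl⟩ := hg
    rw [← twist_twist, twist_of_mem N hn]
    exact hθ ⟨x, hx⟩
  have hB : IsPBlock M (principalBlock M N) := isPBlock_principalBlock M
  have hdvd := dvd_sum_sq hM hpN hB
  have hmod : ∀ d : ℕ,
      Nat.card {θ : IrrCharacter N // θ ∈ principalBlock M N ∧ charDegree (θ : N → ℂ) = d} ≡
      Nat.card {θ : IrrCharacter N // (θ ∈ principalBlock M N ∧ charDegree (θ : N → ℂ) = d) ∧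
        ∀ g : G, twistIrr (MulAut.conjNormal g) θ = θ} [MOD p] := by
    intro d
    let S : SubMulAction (P : Subgroup G) (IrrCharacter N) :=
      { carrier := {θ | θ ∈ principalBlock M N ∧ charDegree (θ : N → ℂ) = d}
        smul_mem' := fun x θ hθ => ⟨twist_mem_principal hM _ θ hθ.1, by
          rw [← hθ.2]
          change charDegree (fun k => (θ : N → ℂ) _) = _
          simp [charDegree]⟩ }
    refine (P.2.card_modEq_card_fixedPoints S).trans (modEq_of_eq ?_)
    refine Nat.card_congr ((Equiv.subtypeEquivRight fun θ : S => ?_).trans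
      (Equiv.subtypeSubtypeEquivSubtypeInter _
        (fun θ : IrrCharacter N => ∀ g : G, twistIrr (MulAut.conjNormal g) θ = θ)))
    rw [← hfix]
    exact ⟨fun hθ x => congrArg Subtype.val (hθ x), fun hθ x => Subtype.ext (hθ x)⟩
  set B := Finset.univ.filter (fun θ : IrrCharacter N => θ ∈ principalBlock M N) with hBdef
  set D := B.image (fun θ : IrrCharacter N => charDegree (θ : N → ℂ))
  set F := B.filter (fun θ => ∀ g : G, twistIrr (MulAut.conjNormal g) θ = θ)
  have h1 : ∑ θ ∈ B, charDegree (θ : N → ℂ) ^ 2 ≡ ∑ θ ∈ F, charDegree (θ : N → ℂ) ^ 2 [MOD p] := by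
    rw [← Finset.sum_fiberwise_of_maps_to (t := D) (fun θ hθ => Finset.mem_image_of_mem _ hθ)
      (fun θ : IrrCharacter N => charDegree (θ : N → ℂ) ^ 2),
      ← Finset.sum_fiberwise_of_maps_to (s := F) (t := D)
      (fun θ hθ => Finset.mem_image_of_mem _ (Finset.mem_of_mem_filter θ hθ))
      (fun θ : IrrCharacter N => charDegree (θ : N → ℂ) ^ 2)]
    refine Nat.ModEq.sum fun d _ => ?_
    rw [Finset.sum_congr rfl (fun θ hθ => by rw [(Finset.mem_filter.mp hθ).2]),
      Finset.sum_congr (s₁ := F.filter _) rfl (fun θ hθ => by rw [(Finset.mem_filter.mp hθ).2]),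
      Finset.sum_const, Finset.sum_const, smul_eq_mul, smul_eq_mul]
    refine Nat.ModEq.mul_right _ ?_
    have := hmod d
    rw [Nat.card_eq_fintype_card, Fintype.card_subtype, Nat.card_eq_fintype_card,
      Fintype.card_subtype] at this
    convert this using 2
    · ext; simp [B]
    · ext; simp [F, B, and_assoc, and_comm, and_left_comm]
  have h2 : ∑ θ ∈ F, charDegree (θ : N → ℂ) ^ 2 ≡ Nat.card T [MOD p] := by
    have h3 : ∀ θ ∈ F, charDegree (θ : N → ℂ) ^ 2 ≡
        (if charDegree (θ : N → ℂ) = 1 then 1 else 0) [MOD p] := by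
      intro θ hθ
      simp only [F, B, Finset.mem_filter, Finset.mem_univ, true_and] at hθ
      by_cases hd : p ∣ charDegree (θ : N → ℂ)
      · rw [if_neg (fun h1 => (Fact.out : p.Prime).one_lt.ne' (Nat.dvd_one.mp (by rwa [h1] at hd)))]
        exact Nat.modEq_zero_iff_dvd.mpr (dvd_pow hd two_ne_zero)
      · rw [hlin θ hθ.1 hd hθ.2]
        exact Nat.ModEq.refl _
    refine (Nat.ModEq.sum h3).trans (modEq_of_eq ?_)
    rw [← Finset.sum_filter, Finset.sum_const, smul_eq_mul, mul_one, Nat.card_eq_fintype_card,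
      ← Finset.card_univ (α := T)]
    symm
    refine Finset.card_bij (fun f _ => (⟨_, isIrrCharacter_of_hom f.1⟩ : IrrCharacter N)) ?_ ?_ ?_
    · intro f _
      have hf : f.1 ∈ (T : Set (N →* ℂˣ)) := f.2
      rw [hTH] at hf
      simp only [F, B, Finset.mem_filter, Finset.mem_univ, true_and]
      refine ⟨⟨hf.1, fun g => Subtype.ext (funext fun n => ?_)⟩, charDegree_eq_of_apply_one (by simp)⟩
      rw [twistIrr_apply]
      exact congrArg Units.val (hf.2 g n)
    · intro f _ f' _ heq
      exact Subtype.ext (MonoidHom.ext fun n => Units.ext (congrFun (congrArg Subtype.val heq) n))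
    · intro θ hθ
      simp only [F, B, Finset.mem_filter, Finset.mem_univ, true_and] at hθ
      obtain ⟨f, hf⟩ := exists_hom_of_charDegree_one (irr_isCharacter θ) hθ.2
      have hθ' : θ = ⟨_, isIrrCharacter_of_hom f⟩ := Subtype.ext hf
      have hfT : f ∈ (T : Set (N →* ℂˣ)) := by
        rw [hTH]
        refine ⟨hθ' ▸ hθ.1.1, fun g n => Units.ext ?_⟩
        have := congrFun (congrArg Subtype.val (hθ.1.2 g)) n
        rw [twistIrr_apply, hf] at this
        exact this
      exact ⟨⟨f, hfT⟩, Finset.mem_univ _, hθ'.symm⟩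
  exact hTp (Nat.modEq_zero_iff_dvd.mp
    ((h1.trans h2).symm.trans (Nat.modEq_zero_iff_dvd.mpr hdvd)))

/-- Linear characters only, in degree prime to `p`, when there is a normal `p`-complement. -/
theorem charDegree_eq_one_of_complement [Fact p.Prime] (hM : IsPModular p M)
    (h : HasNormalPComplement p G) (χ : IrrCharacter G) (hχ : χ ∈ principalBlock M G)
    (hdeg : ¬ p ∣ charDegree (χ : G → ℂ)) : charDegree (χ : G → ℂ) = 1 := by
  haveI := Fintype.ofFinite G
  haveI : (Cfsg.pResidual p G).Normal := CfsgLib.Transfer.pResidual_normal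
  have hN := CfsgLib.Transfer.hasNormalPComplement_iff.mp h
  obtain ⟨a, ha⟩ := CfsgLib.Transfer.pResidual_index_eq_pow (G := G) (p := p)
  obtain ⟨d, ρ, hρ, hρc⟩ := χ.2
  haveI := hρ
  have hd : (χ : G → ℂ) 1 = d := by rw [← hρc]; simp
  have h1 : Module.finrank ℂ (Fin d → ℂ) ∣ (Cfsg.pResidual p G).index :=
    CfsgLib.CharScalar.finrank_dvd_index ρ _ fun z hz => by
      have h2 := apply_eq_degree_of_coprime hM _ hN χ hχ ⟨z, hz⟩
      rw [← hρc] at h2
      refine ⟨1, ?_⟩
      rw [one_smul]
      exact (char_eq_degree_iff ρ z).mp (by simpa using h2)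
  rw [Module.finrank_fin_fun, ha] at h1
  rw [charDegree_eq_of_apply_one hd] at hdeg ⊢
  obtain ⟨j, -, rfl⟩ := (Nat.dvd_prime_pow Fact.out).mp h1
  rcases j with _ | j
  · simp
  · exact absurd (dvd_pow_self p (Nat.succ_ne_zero j)) hdeg

end CfsgLib.PrincipalSq
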