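import Cfsg.Agent.Lib.PCore.PSolvable

/-!
# The dual Hall–Higman lemma

In a `p`-solvable group with trivial `p`-core the `p'`-core contains its centralizer.
-/

set_option autoImplicit false

namespace CfsgLib.DualHallHigman

open Cfsg CfsgLib.PCore

variable {p : ℕ} {G : Type*} [Group G]

/-- A central `p'`-subgroup with `p`-power index has a normal complement that is a `p`-group. -/
theorem sup_pCore_eq_top_of_central [Finite G] [hp : Fact p.Prime] (Z : Subgroup G)
    (hZ : Z ≤ Subgroup.center G) (hc : (Nat.card Z).Coprime p) (k : ℕ) (hi : Z.index = p ^ k) :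
    Z ⊔ pCore p G = ⊤ := by
  have : Z.Normal := ⟨fun x hx g => by
    rwa [Subgroup.mem_center_iff.1 (hZ hx) g, mul_inv_cancel_right]⟩
  obtain ⟨K, hK⟩ := Subgroup.exists_right_complement'_of_coprime (N := Z)
    (by rw [hi]; exact Nat.Coprime.pow_right k hc)
  have hsup : Z ⊔ K = ⊤ := hK.sup_eq_top
  have hKn : K.Normal := by
    rw [← Subgroup.normalizer_eq_top_iff, ← top_le_iff, ← hsup, sup_le_iff]
    refine ⟨?_, Subgroup.le_normalizer⟩
    intro z hz
    rw [Subgroup.mem_normalizer_iff]
    intro g
    have h := Subgroup.mem_center_iff.1 (hZ hz) g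
    rw [← h, mul_inv_cancel_right]
  have hKp : IsPGroup p K := IsPGroup.of_card (n := k) (hK.symm.index_eq_card.symm.trans hi)
  exact top_le_iff.1 (hsup ▸ sup_le_sup le_rfl (le_pCore hKn hKp))

/-- Dual Hall–Higman lemma. -/
theorem centralizer_pPrimeCore_le [Finite G] [Fact p.Prime] (h : IsPSolvable p G)
    (h0 : pCore p G = ⊥) :
    Subgroup.centralizer (pPrimeCore p G : Set G) ≤ pPrimeCore p G := by
  set P := pPrimeCore p G with hP
  set C := Subgroup.centralizer (P : Set G) with hC
  by_contra hne
  have hCn : C.Normal := inferInstance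
  set Z : Subgroup G := P ⊓ C with hZdef
  set f := QuotientGroup.mk' Z with hf
  set Q := C.map f with hQ
  have hQn : Q.Normal := hCn.map f (QuotientGroup.mk'_surjective _)
  have hnt : Nontrivial Q := by
    rw [Subgroup.nontrivial_iff_ne_bot, hQ, Ne, Subgroup.map_eq_bot_iff, hf, QuotientGroup.ker_mk']
    exact fun h => hne (h.trans inf_le_left)
  have hZc : (Nat.card Z).Coprime p :=
    Nat.Coprime.coprime_dvd_left (Subgroup.card_dvd_of_le inf_le_left) pPrimeCore_coprime
  have key : ∀ M : Subgroup (G ⧸ Z), M.Normal → M ≤ Q →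
      IsPGroup p M ∨ (Nat.card M).Coprime p → M = ⊥ := by
    intro M hMn hMQ hM
    set D := M.comap f with hD
    have hDC : D ≤ C := by
      refine (Subgroup.comap_mono hMQ).trans ?_
      rw [hQ, Subgroup.comap_map_eq, hf, QuotientGroup.ker_mk']
      exact sup_le le_rfl inf_le_right
    have hDn : D.Normal := hMn.comap f
    have hDcard : Nat.card D = Nat.card Z * Nat.card M := card_comap_mk' Z M
    have hDZ : D ≤ Z := by
      rcases hM with hM | hM
      · have hZD : Z ≤ D := fun x hx => by
          rw [hD, Subgroup.mem_comap, show f x = 1 from (QuotientGroup.eq_one_iff x).2 hx]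
          exact M.one_mem
        have hc : Z.subgroupOf D ≤ Subgroup.center D := by
          intro z hz
          rw [Subgroup.mem_center_iff]
          intro d
          exact Subtype.ext ((Subgroup.mem_centralizer_iff.1 (hDC d.2)) z
            (Subgroup.mem_subgroupOf.1 hz).1).symm
        obtain ⟨k, hk⟩ := IsPGroup.iff_card.1 hM
        have hcz : Nat.card (Z.subgroupOf D) = Nat.card Z :=
          Nat.card_congr (Subgroup.subgroupOfEquivOfLe hZD).toEquiv
        have hidx : (Z.subgroupOf D).index = p ^ k := by
          have h1 := Subgroup.card_mul_index (Z.subgroupOf D)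
          rw [hcz, hDcard, hk] at h1
          exact Nat.eq_of_mul_eq_mul_left Nat.card_pos h1
        have h3 := sup_pCore_eq_top_of_central (Z.subgroupOf D) hc (by rw [hcz]; exact hZc) k hidx
        rw [pCore_eq_bot_of_normal D h0, sup_bot_eq, Subgroup.subgroupOf_eq_top] at h3
        exact h3
      · refine le_inf (le_pPrimeCore hDn ?_) hDC
        rw [hDcard]
        exact Nat.Coprime.mul_left hZc hM
    rw [← Subgroup.map_comap_eq_self_of_surjective (QuotientGroup.mk'_surjective Z) M,
      Subgroup.map_eq_bot_iff, QuotientGroup.ker_mk']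
    exact hDZ
  rcases pCore_ne_bot_or_pPrimeCore_ne_bot
      (isPSolvable_subgroup (isPSolvable_quotient h Z) Q) with hne' | hne'
  · apply hne'
    rw [← Subgroup.map_eq_bot_iff_of_injective _ Q.subtype_injective]
    exact key _ inferInstance (Subgroup.map_subtype_le _) (Or.inl (pCore_isPGroup.map _))
  · apply hne'
    rw [← Subgroup.map_eq_bot_iff_of_injective _ Q.subtype_injective]
    exact key _ inferInstance (Subgroup.map_subtype_le _) (Or.inr
      (Nat.Coprime.coprime_dvd_left (Subgroup.card_map_dvd _ _) pPrimeCore_coprime))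

end CfsgLib.DualHallHigman
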