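import Cfsg.Agent.Lib.Characters.Basic
import Mathlib.GroupTheory.FiniteAbelian.Duality
import Mathlib.RingTheory.RootsOfUnity.AlgebraicallyClosed
import Mathlib.Analysis.Complex.Polynomial.Basic

/-!
# Linear characters of a finite commutative group
-/

set_option autoImplicit false
set_option linter.style.haveILetI false

namespace CfsgLib.Blocks.Homo949

open scoped ComplexConjugate
open Cfsg CfsgLib.Characters

variable {A : Type*} [Group A] [Finite A]

/-- A commutative group structure on a commutative group. -/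
abbrev commGroupOf (hcomm : ∀ a b : A, a * b = b * a) : CommGroup A :=
  { (inferInstance : Group A) with mul_comm := hcomm }

theorem conj_hom (θ : A →* ℂˣ) (x : A) : conj (θ x : ℂ) = (θ x⁻¹ : ℂ) :=
  (irr_apply_inv (⟨_, isIrrCharacter_of_hom θ⟩ : IrrCharacter A) x).symm

theorem finite_dual (hcomm : ∀ a b : A, a * b = b * a) : Finite (A →* ℂˣ) := by
  letI := commGroupOf hcomm
  obtain ⟨f⟩ := CommGroup.monoidHom_mulEquiv_of_hasEnoughRootsOfUnity A ℂ
  exact Finite.of_equiv A f.symm.toEquiv

theorem card_dual (hcomm : ∀ a b : A, a * b = b * a) : Nat.card (A →* ℂˣ) = Nat.card A := by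
  letI := commGroupOf hcomm
  exact CommGroup.card_monoidHom_of_hasEnoughRootsOfUnity A ℂ

open scoped Classical in
theorem sum_hom_eval (hcomm : ∀ a b : A, a * b = b * a) [Fintype (A →* ℂˣ)] (x : A) :
    ∑ θ : A →* ℂˣ, (θ x : ℂ) = if x = 1 then (Nat.card A : ℂ) else 0 := by
  split_ifs with hx
  · subst hx
    simp [← card_dual hcomm, Nat.card_eq_fintype_card]
  · letI := commGroupOf hcomm
    obtain ⟨θ₀, hθ₀⟩ := CommGroup.exists_apply_ne_one_of_hasEnoughRootsOfUnity A ℂ hx
    have e : (θ₀ x : ℂ) * ∑ θ : A →* ℂˣ, (θ x : ℂ) = ∑ θ : A →* ℂˣ, (θ x : ℂ) := by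
      rw [Finset.mul_sum]
      exact (Finset.sum_congr rfl fun θ _ => by simp).trans
        (Equiv.sum_comp (Equiv.mulLeft θ₀) (fun θ : A →* ℂˣ => (θ x : ℂ)))
    rcases mul_left_eq_self₀.mp e with h | h
    · exact absurd (Units.val_eq_one.mp h) hθ₀
    · exact h

open scoped Classical in
/-- Column orthogonality of linear characters. -/
theorem sum_hom_mul_conj (hcomm : ∀ a b : A, a * b = b * a) [Fintype (A →* ℂˣ)] (a b : A) :
    ∑ θ : A →* ℂˣ, (θ a : ℂ) * conj (θ b : ℂ) = if a = b then (Nat.card A : ℂ) else 0 := by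
  simp only [conj_hom, ← Units.val_mul, ← map_mul]
  rw [sum_hom_eval hcomm]
  simp [mul_inv_eq_one]

omit [Finite A] in
open scoped Classical in
/-- Row orthogonality of linear characters. -/
theorem sum_hom_orth [Fintype A] (θ η : A →* ℂˣ) :
    ∑ x : A, (θ x : ℂ) * conj (η x : ℂ) = if θ = η then (Nat.card A : ℂ) else 0 := by
  have h : classInner (fun x => (θ x : ℂ)) (fun x => (η x : ℂ)) = if θ = η then 1 else 0 := by
    split_ifs with h
    · subst h
      exact classInner_irr_self (isIrrCharacter_of_hom θ)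
    · refine classInner_irr_ne (isIrrCharacter_of_hom θ) (isIrrCharacter_of_hom η) fun e => h ?_
      ext x
      exact congrFun e x
  rw [classInner, inv_mul_eq_iff_eq_mul₀ (by simp)] at h
  rw [h]
  split_ifs <;> simp

/-- A function on a commutative group is the combination of the linear characters with its
coefficients. -/
theorem eq_sum_coef (hcomm : ∀ a b : A, a * b = b * a) [Fintype A] [Fintype (A →* ℂˣ)]
    (f : A → ℂ) (x : A) :
    (Nat.card A : ℂ) * f x = ∑ θ : A →* ℂˣ, (∑ y : A, f y * conj (θ y : ℂ)) * (θ x : ℂ) := by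
  classical
  simp only [Finset.sum_mul, mul_assoc, mul_comm (conj _)]
  rw [Finset.sum_comm]
  simp only [← Finset.mul_sum, sum_hom_mul_conj hcomm, mul_ite, mul_zero]
  rw [Finset.sum_ite_eq Finset.univ x, if_pos (Finset.mem_univ x), mul_comm]

end CfsgLib.Blocks.Homo949
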