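import Cfsg.Agent.Lib.Blocks.CentralChar
import Cfsg.Agent.Lib.Blocks.TraceVanish
import Cfsg.Agent.Lib.Blocks.PPart
import Cfsg.Agent.Lib.Characters.Values

/-!
# Twisted rotation of tuples

For an element `γ` of the group algebra with local integral coefficients that commutes with `h` and
has no support on `C(h_p)`, the value of a character at `γ ^ (p ^ n) * h` is divisible by `p ^ n`.
-/

set_option autoImplicit false
set_option linter.style.haveILetI false

namespace CfsgLib.Blocks

open Cfsg MonoidAlgebra CfsgLib.Characters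

variable {G : Type*} [Group G]

/-- A tuple extended to a sequence that is periodic up to conjugation by `h`. -/
def twistSeq {N : ℕ} [NeZero N] (h : G) (s : Fin N → G) (i : ℕ) : G :=
  h ^ (i / N) * periodicSeq s i * (h ^ (i / N))⁻¹

theorem twistSeq_lt {N : ℕ} [NeZero N] (h : G) (s : Fin N → G) {i : ℕ} (hi : i < N) :
    twistSeq h s i = s ⟨i, hi⟩ := by
  rw [twistSeq, Nat.div_eq_of_lt hi, pow_zero, one_mul, inv_one, mul_one, periodicSeq]
  congr 1
  exact Fin.ext (Nat.mod_eq_of_lt hi)

/-- Rotation of tuples twisted by `h`. -/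
def twistRot {N : ℕ} [NeZero N] (h : G) : Equiv.Perm (Fin N → G) where
  toFun s i := twistSeq h s ((i : ℕ) + 1)
  invFun s i := h⁻¹ * twistSeq h s ((i : ℕ) + (N - 1)) * h
  left_inv s := by
    have hN : 0 < N := NeZero.pos N
    funext i
    have key : ∀ j, twistSeq h (fun k : Fin N => twistSeq h s ((k : ℕ) + 1)) j =
        twistSeq h s (j + 1) := by
      intro j
      rw [twistSeq, periodicSeq]
      simp only [twistSeq, Fin.val_ofNat]
      have hj := Nat.div_add_mod j N
      have hr := Nat.mod_lt j hN
      have h1 : (j + 1) / N = j / N + (j % N + 1) / N := by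
        conv_lhs => rw [← hj, add_assoc, Nat.mul_add_div hN]
      have h2 : periodicSeq s (j % N + 1) = periodicSeq s (j + 1) := by
        rw [periodicSeq, periodicSeq]
        congr 1
        exact Fin.ext (Nat.mod_add_mod j N 1)
      rw [h1, h2, pow_add]
      group
    show h⁻¹ * twistSeq h _ ((i : ℕ) + (N - 1)) * h = s i
    rw [key, show (i : ℕ) + (N - 1) + 1 = (i : ℕ) + N by omega, twistSeq,
      Nat.add_div_right _ hN, Nat.div_eq_of_lt i.2, periodicSeq_add_self, periodicSeq]
    simp [Fin.ext_iff, Nat.mod_eq_of_lt i.2, mul_assoc]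
  right_inv s := by
    have hN : 0 < N := NeZero.pos N
    funext i
    show twistSeq h (fun k : Fin N => h⁻¹ * twistSeq h s ((k : ℕ) + (N - 1)) * h) ((i : ℕ) + 1) = s i
    rcases Nat.lt_or_ge ((i : ℕ) + 1) N with hi | hi
    · rw [twistSeq_lt h _ hi]
      show h⁻¹ * twistSeq h s ((i : ℕ) + 1 + (N - 1)) * h = s i
      rw [show (i : ℕ) + 1 + (N - 1) = (i : ℕ) + N by omega, twistSeq,
        Nat.add_div_right _ hN, Nat.div_eq_of_lt i.2, periodicSeq_add_self, periodicSeq]
      simp [Fin.ext_iff, Nat.mod_eq_of_lt i.2, mul_assoc]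
    · have hi' : (i : ℕ) + 1 = N := by omega
      rw [hi', twistSeq, Nat.div_self hN, pow_one, periodicSeq]
      simp only [Fin.val_ofNat, Nat.mod_self, zero_add]
      rw [twistSeq_lt h s (show N - 1 < N by omega)]
      simp only [← mul_assoc, mul_inv_cancel, one_mul, mul_inv_cancel_right]
      congr 1
      exact Fin.ext (by simp only; omega)

theorem twistSeq_twistRot {N : ℕ} [NeZero N] (h : G) (s : Fin N → G) (j : ℕ) :
    twistSeq h (twistRot h s) j = twistSeq h s (j + 1) := by
  have hN : 0 < N := NeZero.pos N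
  rw [twistSeq, periodicSeq]
  simp only [twistRot, Equiv.coe_fn_mk, twistSeq, Fin.val_ofNat]
  have hj := Nat.div_add_mod j N
  have h1 : (j + 1) / N = j / N + (j % N + 1) / N := by
    conv_lhs => rw [← hj, add_assoc, Nat.mul_add_div hN]
  have h2 : periodicSeq s (j % N + 1) = periodicSeq s (j + 1) := by
    rw [periodicSeq, periodicSeq]
    congr 1
    exact Fin.ext (Nat.mod_add_mod j N 1)
  rw [h1, h2, pow_add]
  group

theorem twistSeq_twistRot_pow {N : ℕ} [NeZero N] (h : G) (k : ℕ) (s : Fin N → G) (j : ℕ) :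
    twistSeq h ((twistRot h ^ k) s) j = twistSeq h s (j + k) := by
  induction k generalizing s with
  | zero => simp
  | succ k ih =>
    rw [pow_succ, Equiv.Perm.mul_apply, ih, twistSeq_twistRot, add_assoc]

theorem twistRot_pow_mul {N : ℕ} [NeZero N] (h : G) (j : ℕ) (s : Fin N → G) (i : Fin N) :
    (twistRot h ^ (N * j)) s i = h ^ j * s i * (h ^ j)⁻¹ := by
  have h1 := twistSeq_twistRot_pow h (N * j) s (i : ℕ)
  rw [twistSeq_lt h _ i.2] at h1
  rw [h1, twistSeq, Nat.add_mul_div_left _ _ (NeZero.pos N), Nat.div_eq_of_lt i.2, zero_add,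
    periodicSeq]
  congr 2
  exact congrArg s (Fin.ext (by simp [Nat.add_mul_mod_self_left, Nat.mod_eq_of_lt i.2]))

variable [Fintype G] {p : ℕ} {M : Ideal AlgInt}

/-- The divisibility at the heart of the Second Main Theorem. -/
theorem dvd_omega_pow_mul_single (hM : IsPModular p M) (χ : IrrCharacter G)
    {γ : MonoidAlgebra ℂ G} (hR : ∀ x, MemLocalRing M (γ.coeff x)) {h u : G}
    (hu : IsPPart p h u) (hγ : ∀ x, γ.coeff (h * x * h⁻¹) = γ.coeff x)
    (hsupp : ∀ x ∈ Subgroup.centralizer ({u} : Set G), γ.coeff x = 0) (n : ℕ) :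
    ∃ w : ℂ, MemLocalRing M w ∧
      (χ : G → ℂ) 1 * omega (χ : G → ℂ) (γ ^ p ^ n * single h 1) = (p : ℂ) ^ n * w := by
  classical
  set N := p ^ n
  haveI : NeZero N := ⟨pow_ne_zero _ hM.1.ne_zero⟩
  have hexp : γ = ∑ x : G, single x (γ.coeff x) := by
    ext x
    simp [Finsupp.single_apply]
  let c : G → lRing hM := fun x => ⟨γ.coeff x, hR x⟩
  let X : G → lRing hM := fun x => ⟨(χ : G → ℂ) x,
    isIntegral_mem_lRing hM (isIntegral_of_isCharacter (irr_isCharacter χ) x)⟩
  let F : (Fin N → G) → lRing hM := fun s =>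
    (∏ i, c (s i)) * X (seqProd (twistSeq h s) N * h)
  have hsum : (χ : G → ℂ) 1 * omega (χ : G → ℂ) (γ ^ N * single h 1) =
      ((∑ s, F s : lRing hM) : ℂ) := by
    conv_lhs => rw [hexp, sum_pow_single, Finset.sum_mul, map_sum, Finset.mul_sum]
    rw [AddSubmonoidClass.coe_finsetSum]
    refine Finset.sum_congr rfl fun s _ => ?_
    simp only [F, c, X, MulMemClass.coe_mul, SubmonoidClass.coe_finsetProd]
    rw [single_mul_single, omega_single, mul_one, mul_div_cancel₀ _ (irr_one_ne_zero χ),
      show seqProd (twistSeq h s) N = seqProd (periodicSeq s) N from seqProd_congr fun i hi => by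
        rw [twistSeq, Nat.div_eq_of_lt hi, pow_zero, one_mul, inv_one, mul_one]]
  -- invariance under the twisted rotation
  have hF : ∀ s, F (twistRot h s) = F s := by
    intro s
    have hprod : ∏ i, c (twistRot h s i) = ∏ i, c (s i) := by
      refine Fintype.prod_equiv (Equiv.addRight (1 : Fin N)) _ _ fun i => Subtype.ext ?_
      simp only [c, twistRot, Equiv.coe_fn_mk, Equiv.coe_addRight, twistSeq]
      have hj : ∀ j : ℕ, ∀ x, γ.coeff (h ^ j * x * (h ^ j)⁻¹) = γ.coeff x := by
        intro j
        induction j with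
        | zero => simp
        | succ j ih =>
          intro x
          rw [pow_succ', show h * h ^ j * x * (h * h ^ j)⁻¹ = h * (h ^ j * x * (h ^ j)⁻¹) * h⁻¹ by
            group, hγ, ih]
      rw [hj, periodicSeq]
      congr 2
      exact Fin.ext (by simp [Fin.val_add, Fin.val_ofNat])
    have hshift : seqProd (twistSeq h (twistRot h s)) N =
        seqProd (fun i => twistSeq h s (i + 1)) N :=
      congrArg (seqProd · N) (funext fun j => twistSeq_twistRot h s j)
    have hlast : twistSeq h s N = h * twistSeq h s 0 * h⁻¹ := by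
      rw [twistSeq, twistSeq, Nat.div_self (NeZero.pos N), Nat.zero_div, pow_one, pow_zero, one_mul,
        inv_one, mul_one]
      congr 2
      have := periodicSeq_add_self s 0
      rwa [zero_add] at this
    have hconj : seqProd (fun i => twistSeq h s (i + 1)) N * h =
        (twistSeq h s 0)⁻¹ * (seqProd (twistSeq h s) N * h) * twistSeq h s 0 := by
      have h1 := seqProd_succ' (twistSeq h s) N
      rw [seqProd, hlast] at h1
      rw [eq_inv_mul_of_mul_eq h1.symm]
      group
    simp only [F, hprod]
    congr 1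
    refine Subtype.ext ?_
    simp only [X]
    rw [hshift, hconj]
    exact classFunction_eq_of_isConj (irr_isClassFunction χ)
      (isConj_iff.2 ⟨twistSeq h s 0, by group⟩)
  -- the exponents
  set ord := orderOf h
  set a := ord.factorization p
  set q := ord / p ^ a
  obtain ⟨e, he, hqe⟩ := exists_pPart_exponent hM.1 (isOfFinOrder_of_finite h)
  have hue : u = h ^ e := IsPPart.unique hM.1 hu he
  have hτ : ((twistRot (N := N) h) ^ q) ^ p ^ (n + a) = 1 := by
    ext s i
    rw [← pow_mul, show q * p ^ (n + a) = N * (p ^ a * q) by rw [pow_add]; ring,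
      twistRot_pow_mul, Equiv.Perm.one_apply, show p ^ a * q = ord from
        Nat.ordProj_mul_ordCompl_eq_self ord p, pow_orderOf_eq_one]
    simp
  have hdvd : (p : lRing hM) ^ n ∣ ∑ s, F s := by
    refine dvd_sum_of_perm hM.1 ((twistRot h) ^ q) hτ F ?_ ?_
    · intro s
      have : ∀ k, F ((twistRot h ^ k) s) = F s := by
        intro k
        induction k with
        | zero => simp
        | succ k ih => rw [pow_succ', Equiv.Perm.mul_apply, hF, ih]
      exact this q
    · intro s hs
      rw [← pow_mul, show q * p ^ n = N * q from mul_comm _ _] at hs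
      have h0 := congrFun hs 0
      rw [twistRot_pow_mul] at h0
      have hc : Commute (h ^ q) (s 0) := mul_inv_eq_iff_eq_mul.1 h0
      obtain ⟨d, hd⟩ := hqe
      have hz : c (s 0) = 0 := by
        refine Subtype.ext (hsupp _ ?_)
        rw [Subgroup.mem_centralizer_iff]
        intro v hv
        rw [Set.mem_singleton_iff.1 hv, hue, hd, pow_mul]
        exact (hc.pow_left d).eq
      simp only [F, Finset.prod_eq_zero (f := fun i => c (s i)) (Finset.mem_univ 0) hz, zero_mul]
  obtain ⟨w, hw⟩ := hdvd
  exact ⟨w, w.2, by rw [hsum, hw]; simp⟩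

end CfsgLib.Blocks
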