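import Cfsg.Agent.Lib.Blk7.KleinFour
import Cfsg.Agent.Lib.Blk7.SectionCount
import Cfsg.Agent.Lib.BrauerPairs.Inside
import Cfsg.Agent.Lib.BlockCover.Basic

/-!
# Brauer's count of characters, weighted over all `p`-elements and localised at a subgroup
-/

set_option autoImplicit false
set_option linter.style.haveILetI false
set_option linter.unusedSectionVars false

noncomputable section

namespace CfsgLib.LocalCount

open Cfsg CfsgLib.Characters CfsgLib.Blocks CfsgLib.Blk7
open scoped Classical

universe u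

variable {G : Type u} [Group G] [Fintype G] {p : ℕ} {M : Ideal AlgInt} [hp : Fact p.Prime]

/-- The rank of the blocks of `D` inducing `B`. -/
def localRank (p : ℕ) (M : Ideal AlgInt) (D : Subgroup G) (B : Set (IrrCharacter G)) : ℕ :=
  ∑ᶠ e ∈ {e : Set (IrrCharacter D) | IsInducedBlock M D e B}, blockRank p e

/-- The nontrivial `p`-elements. -/
def singularPElts (p : ℕ) (G : Type u) [Group G] [Fintype G] : Finset G :=
  Finset.univ.filter fun y => (∃ k : ℕ, orderOf y = p ^ k) ∧ y ≠ 1

theorem mem_singularPElts {y : G} :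
    y ∈ singularPElts p G ↔ (∃ k : ℕ, orderOf y = p ^ k) ∧ y ≠ 1 := by
  simp [singularPElts]

/-- Brauer's count, weighted over all `p`-elements. -/
theorem card_mul_card_block (hM : IsPModular p M) {B : Set (IrrCharacter G)} (hB : IsPBlock M B) :
    (Nat.card G : ℤ) * ((Nat.card B : ℤ) - (blockRank p B : ℤ)) =
      ∑ y ∈ singularPElts p G, (Nat.card (Subgroup.centralizer ({y} : Set G)) : ℤ) *
        (Module.finrank ℂ (regSpan p (inducing M y B)) : ℤ) := by
  set F : G → ℤ := fun y => (Module.finrank ℂ (regSpan p (inducing M y B)) : ℤ)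
  set S : Finset G := Finset.univ.filter fun y => ∃ k : ℕ, orderOf y = p ^ k
  -- representatives of the classes of `p`-elements
  let rep : G → G := fun g => (ConjClasses.mk g).out
  have hrep : ∀ g, IsConj g (rep g) := fun g =>
    (ConjClasses.mk_eq_mk_iff_isConj.1 (Quotient.out_eq (ConjClasses.mk g))).symm
  have hord : ∀ {g h : G}, IsConj g h → orderOf g = orderOf h := by
    intro g h hgh
    obtain ⟨c, rfl⟩ := isConj_iff.1 hgh
    exact ((MulAut.conj c).orderOf_eq g).symm
  set X := S.image rep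
  have hXS : ∀ x ∈ X, ∃ k : ℕ, orderOf x = p ^ k := by
    intro x hx
    obtain ⟨g, hg, rfl⟩ := Finset.mem_image.1 hx
    rw [← hord (hrep g)]
    exact (Finset.mem_filter.1 hg).2
  have hcount : ∀ c : G, (Nat.card B : ℤ) = ∑ x ∈ X, F (c * x * c⁻¹) := by
    intro c
    have h := card_block_eq hM hB (X.image fun x => c * x * c⁻¹) (fun x hx => by
        obtain ⟨w, hw, rfl⟩ := Finset.mem_image.1 hx
        rw [show c * w * c⁻¹ = MulAut.conj c w from rfl, MulEquiv.orderOf_eq]
        exact hXS w hw)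
      (fun g hg => by
        refine ⟨c * rep g * c⁻¹, ⟨Finset.mem_image_of_mem _ (Finset.mem_image_of_mem _
          (Finset.mem_filter.2 ⟨Finset.mem_univ _, hg⟩)), (hrep g).trans (isConj_iff.2 ⟨c, rfl⟩)⟩, ?_⟩
        rintro x ⟨hx, hgx⟩
        obtain ⟨w, hw, rfl⟩ := Finset.mem_image.1 hx
        obtain ⟨g', hg', rfl⟩ := Finset.mem_image.1 hw
        have h1 : IsConj g' g := (hrep g').trans ((isConj_iff.2 ⟨c, rfl⟩).trans hgx.symm)
        show c * rep g' * c⁻¹ = c * rep g * c⁻¹
        simp only [rep, ConjClasses.mk_eq_mk_iff_isConj.2 h1])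
    rw [Finset.sum_image fun a _ b _ hab => mul_left_cancel (mul_right_cancel hab)] at h
    rw [h, Nat.cast_sum]
  have hall : ∑ y ∈ S, (Nat.card (Subgroup.centralizer ({y} : Set G)) : ℤ) * F y =
      (Nat.card G : ℤ) * (Nat.card B : ℤ) := by
    rw [Nat.card_eq_fintype_card (α := G), ← Finset.card_univ, ← nsmul_eq_mul, ← Finset.sum_const,
      Finset.sum_congr rfl fun c (_ : c ∈ (Finset.univ : Finset G)) => hcount c, Finset.sum_comm]
    have hfib : ∀ x ∈ X, ∑ c : G, F (c * x * c⁻¹) =
        ∑ y ∈ S.filter (fun y => rep y = x),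
          (Nat.card (Subgroup.centralizer ({y} : Set G)) : ℤ) * F y := by
      intro x hx
      obtain ⟨g, hg, rfl⟩ := Finset.mem_image.1 hx
      rw [← Finset.sum_fiberwise_of_maps_to (t := S.filter (fun y => rep y = rep g))
        (g := fun c : G => c * rep g * c⁻¹) (fun c _ => by
          have h1 : IsConj g (c * rep g * c⁻¹) := (hrep g).trans (isConj_iff.2 ⟨c, rfl⟩)
          refine Finset.mem_filter.2 ⟨Finset.mem_filter.2 ⟨Finset.mem_univ _, ?_⟩, ?_⟩
          · rw [← hord h1]; exact (Finset.mem_filter.1 hg).2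
          · simp only [rep, ConjClasses.mk_eq_mk_iff_isConj.2 h1.symm])]
      refine Finset.sum_congr rfl fun y hy => ?_
      rw [Finset.sum_congr rfl fun c hc => by rw [(Finset.mem_filter.1 hc).2],
        Finset.sum_const, nsmul_eq_mul]
      congr 1
      obtain ⟨a, ha⟩ := isConj_iff.1 ((hrep y).trans (by rw [(Finset.mem_filter.1 hy).2]) :
        IsConj y (rep g))
      rw [Nat.cast_inj, ← Fintype.card_subtype, ← Nat.card_eq_fintype_card]
      refine Nat.card_congr ⟨fun c => ⟨c.1 * a, ?_⟩, fun d => ⟨d.1 * a⁻¹, ?_⟩,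
        fun c => by simp, fun d => by simp⟩
      · rw [Subgroup.mem_centralizer_singleton_iff]
        have hc : (c : G) * (a * y * a⁻¹) * (c : G)⁻¹ = y := by rw [ha]; exact c.2
        rw [mul_inv_eq_iff_eq_mul] at hc
        have : c.1 * (a * y * a⁻¹) * a = c.1 * a * y := by group
        rw [← this, hc]
        group
      · have hd := Subgroup.mem_centralizer_singleton_iff.1 d.2
        rw [← ha]
        calc d.1 * a⁻¹ * (a * y * a⁻¹) * (d.1 * a⁻¹)⁻¹ = (d.1 * y) * d.1⁻¹ := by group
          _ = (y * d.1) * d.1⁻¹ := by rw [hd]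
          _ = y := mul_inv_cancel_right _ _
    rw [Finset.sum_congr rfl hfib]
    exact (Finset.sum_fiberwise_of_maps_to (fun y hy => Finset.mem_image_of_mem _ hy) _).symm
  have h1S : (1 : G) ∈ S := Finset.mem_filter.2 ⟨Finset.mem_univ _, 0, by rw [orderOf_one, pow_zero]⟩
  have hsing : singularPElts p G = S.erase 1 := by
    ext y
    simp [singularPElts, S, and_comm]
  rw [hsing, Finset.sum_erase_eq_sub h1S, hall, mul_sub]
  congr 1
  have hC : Nat.card (Subgroup.centralizer ({1} : Set G)) = Nat.card G := by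
    rw [show Subgroup.centralizer ({1} : Set G) = ⊤ from eq_top_iff.2 fun g _ =>
      one_mem_centralizer_one g, Subgroup.card_top]
  rw [hC]
  simp only [F, finrank_regSpan_inducing_one hM hB]

omit hp [Fintype G] in
/-- The rank is unchanged by an isomorphism. -/
theorem blockRank_twist {A : Type u} [Group A] (e : A ≃* G) (s : Set (IrrCharacter G)) :
    blockRank p (CharCorr.twistIrr e '' s) = blockRank p s := by
  set L : (G → ℂ) ≃ₗ[ℂ] (A → ℂ) := LinearEquiv.funCongrLeft ℂ ℂ e.toEquiv
  have hL : ∀ χ : IrrCharacter G, pRegularPart p (CharCorr.twistIrr e χ : A → ℂ) =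
      L (pRegularPart p (χ : G → ℂ)) := by
    intro χ
    funext a
    simp [L, LinearEquiv.funCongrLeft, LinearMap.funLeft, pRegularPart, IsPRegular,
      e.orderOf_eq a]
    by_cases h : p ∣ orderOf a <;> simp [h]
  rw [blockRank, blockRank, Set.image_image]
  rw [Set.image_congr fun χ (_ : χ ∈ s) => hL χ]
  rw [show ((fun χ : IrrCharacter G => L (pRegularPart p (χ : G → ℂ))) '' s) =
      (L : (G → ℂ) →ₗ[ℂ] (A → ℂ)) '' ((fun χ : IrrCharacter G => pRegularPart p (χ : G → ℂ)) '' s)
    from by rw [Set.image_image]; rfl, ← Submodule.map_span]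
  exact LinearEquiv.finrank_map_eq L _

variable {H : Subgroup G} [Fintype H] {K' : Subgroup H} [Fintype K'] {D : Subgroup G} [Fintype D]

omit hp in
/-- Induction in two steps. -/
theorem isInducedBlock_trans_iff (hM : IsPModular p M) (hle : D ≤ H)
    (hK : ∀ x : H, x ∈ K' ↔ (x : G) ∈ D) {e : Set (IrrCharacter D)} (he : IsPBlock M e)
    {β : Set (IrrCharacter H)}
    (hind : IsInducedBlock M K' (CharCorr.twistIrr (BrauerPairs.inEquiv hle hK) '' e) β)
    {B : Set (IrrCharacter G)} :
    IsInducedBlock M D e B ↔ IsInducedBlock M H β B := by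
  set f := BrauerPairs.inEquiv hle hK
  obtain ⟨η, hη⟩ := IsPBlock.nonempty hM he
  obtain ⟨χ, hχ⟩ := IsPBlock.nonempty hM hind.2.1
  have key : ∀ g : G, MemLocalIdeal M (inducedCentralChar D (η : D → ℂ) g -
      inducedCentralChar H (χ : H → ℂ) g) := by
    intro g
    have h := BlockCover.sum_mul_congr_induced K' hM (CharCorr.twistIrr f η) χ
      (hind.2.2 _ ⟨η, hη, rfl⟩ χ hχ)
      (f := fun h : H => if IsConj g (h : G) then (1 : ℂ) else 0) (fun a b => by
        simp only [Subgroup.coe_mul, Subgroup.coe_inv]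
        have hb : IsConj ((a : G)) ((b : G) * a * (b : G)⁻¹) := isConj_iff.2 ⟨b, rfl⟩
        exact if_congr ⟨fun h => h.trans hb.symm, fun h => h.trans hb⟩ rfl rfl)
      (fun x => by
        split_ifs
        · exact (lRing hM).one_mem
        · exact (lRing hM).zero_mem)
    rw [← BlockCover.inducedCentralChar_eq_sum] at h
    rw [BlockCover.inducedCentralChar_eq_sum D]
    convert h using 2
    rw [← Equiv.sum_comp f.toEquiv]
    simp only [CharCorr.twistIrr_apply, map_one, MulEquiv.toEquiv_eq_coe, EquivLike.coe_coe]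
    rfl
  constructor
  · intro h
    obtain ⟨ψ, hψ⟩ := IsPBlock.nonempty hM h.2.1
    refine Blocks.isInducedBlock_of_forall hM hind.2.1 h.2.1 hχ hψ fun g => ?_
    have h2 := MemLocalIdeal.sub hM (h.2.2 η hη ψ hψ g) (key g)
    rwa [sub_sub_sub_cancel_left] at h2
  · intro h
    obtain ⟨ψ, hψ⟩ := IsPBlock.nonempty hM h.2.1
    refine Blocks.isInducedBlock_of_forall hM he h.2.1 hη hψ fun g => ?_
    simpa using MemLocalIdeal.add hM (key g) (h.2.2 χ hχ ψ hψ g)

/-- The weight of a subgroup in the count. -/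
def weight (p : ℕ) (M : Ideal AlgInt) (B : Set (IrrCharacter G)) (D : Subgroup G) : ℤ :=
  (Nat.card D : ℤ) * (localRank p M D B : ℤ)

theorem card_mul_eq_sum_weight (hM : IsPModular p M) {B : Set (IrrCharacter G)}
    (hB : IsPBlock M B) :
    (Nat.card G : ℤ) * ((Nat.card B : ℤ) - (blockRank p B : ℤ)) =
      ∑ y ∈ singularPElts p G, weight p M B (Subgroup.centralizer ({y} : Set G)) := by
  rw [card_mul_card_block hM hB]
  refine Finset.sum_congr rfl fun y _ => ?_
  rw [weight, regSpan_inducing hM y B]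
  rfl

/-- The count in a subgroup, for the characters in blocks inducing `B`. -/
theorem card_mul_subgroup (hM : IsPModular p M) (H : Subgroup G) [Fintype H]
    (B : Set (IrrCharacter G)) :
    (Nat.card H : ℤ) *
        ((Nat.card {ψ : IrrCharacter H | ∃ β : Set (IrrCharacter H), ψ ∈ β ∧ IsInducedBlock M H β B} : ℤ) -
          (blockRank p {ψ : IrrCharacter H |
            ∃ β : Set (IrrCharacter H), ψ ∈ β ∧ IsInducedBlock M H β B} : ℤ)) =
      ∑ y ∈ (singularPElts p G).filter (· ∈ H),
        weight p M B (Subgroup.centralizer ({y} : Set G) ⊓ H) := by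
  set T : Finset (Set (IrrCharacter H)) := Finset.univ.filter fun β => IsInducedBlock M H β B
  have hT : ∀ β ∈ T, IsPBlock M β := fun β hβ => (Finset.mem_filter.1 hβ).2.1
  have hA : {ψ : IrrCharacter H | ∃ β : Set (IrrCharacter H), ψ ∈ β ∧ IsInducedBlock M H β B} =
      ⋃ β ∈ T, β := by
    ext ψ
    simp [T, and_comm]
  have hrank : blockRank p (⋃ β ∈ T, β) = ∑ β ∈ T, blockRank p β := finrank_regSpan_sUnion hM T hT
  have hdisj : (T : Set (Set (IrrCharacter H))).PairwiseDisjoint fun β => β.toFinset := by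
    intro β hβ β' hβ' hne
    refine Finset.disjoint_left.2 fun ψ hψ hψ' => hne ?_
    rw [Set.mem_toFinset] at hψ hψ'
    rw [IsPBlock.eq_blockOf hM (hT β hβ) hψ, IsPBlock.eq_blockOf hM (hT β' hβ') hψ']
  have hcard : Nat.card (⋃ β ∈ T, β : Set (IrrCharacter H)) = ∑ β ∈ T, Nat.card β := by
    rw [Nat.card_eq_fintype_card, ← Set.toFinset_card,
      show (⋃ β ∈ T, β : Set (IrrCharacter H)).toFinset = T.biUnion fun β => β.toFinset by
        ext ψ; simp, Finset.card_biUnion hdisj]
    exact Finset.sum_congr rfl fun β _ => by rw [Set.toFinset_card, Nat.card_eq_fintype_card]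
  rw [hA, hrank, hcard, Nat.cast_sum, Nat.cast_sum, ← Finset.sum_sub_distrib, Finset.mul_sum,
    Finset.sum_congr rfl fun β hβ => card_mul_card_block hM (hT β hβ), Finset.sum_comm]
  refine Finset.sum_bij (fun (x : H) _ => (x : G)) ?_ (fun a _ b _ h => Subtype.ext h) ?_ ?_
  · intro x hx
    rw [mem_singularPElts] at hx
    refine Finset.mem_filter.2 ⟨mem_singularPElts.2 ⟨?_, ?_⟩, x.2⟩
    · simpa [Subgroup.orderOf_coe] using hx.1
    · simpa using hx.2
  · intro y hy
    obtain ⟨hy, hyH⟩ := Finset.mem_filter.1 hy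
    rw [mem_singularPElts] at hy
    refine ⟨⟨y, hyH⟩, mem_singularPElts.2 ⟨?_, ?_⟩, rfl⟩
    · simpa [Subgroup.orderOf_mk] using hy.1
    · simpa [Subtype.ext_iff] using hy.2
  intro x hx
  set D : Subgroup G := Subgroup.centralizer ({(x : G)} : Set G) ⊓ H
  have hle : D ≤ H := inf_le_right
  have hK : ∀ z : H, z ∈ Subgroup.centralizer ({x} : Set H) ↔ (z : G) ∈ D := by
    intro z
    simp [D, Subgroup.mem_centralizer_singleton_iff, Subtype.ext_iff]
  set f := BrauerPairs.inEquiv hle hK
  have hxp : ∃ k : ℕ, orderOf x = p ^ k := (mem_singularPElts.1 hx).1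
  have hc : Nat.card (Subgroup.centralizer ({x} : Set H)) = Nat.card D := Nat.card_congr f.toEquiv
  rw [← Finset.mul_sum, ← Nat.cast_sum, hc, weight]
  congr 2
  simp only [regSpan_inducing hM x, localRank]
  set U : Finset (Set (IrrCharacter D)) := Finset.univ.filter fun e => IsInducedBlock M D e B
  rw [show (∑ᶠ e ∈ {e : Set (IrrCharacter D) | IsInducedBlock M D e B}, blockRank p e) =
    ∑ e ∈ U, blockRank p e from finsum_mem_eq_sum_of_inter_support_eq _ (by ext e; simp [U])]
  rw [Finset.sum_congr rfl fun β (_ : β ∈ T) => finsum_mem_eq_sum_of_inter_support_eq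
    (blockRank p) (t := Finset.univ.filter fun e : Set (IrrCharacter
      (Subgroup.centralizer ({x} : Set H))) => IsInducedBlock M _ e β) (by ext e; simp)]
  have hdisj2 : (T : Set (Set (IrrCharacter H))).PairwiseDisjoint
      fun β => Finset.univ.filter fun e : Set (IrrCharacter
        (Subgroup.centralizer ({x} : Set H))) => IsInducedBlock M _ e β :=
    fun β hβ β' hβ' hne => Finset.disjoint_left.2 fun e he he' => hne
      (IsInducedBlock.unique hM (Finset.mem_filter.1 he).2 (Finset.mem_filter.1 he').2)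
  rw [← Finset.sum_biUnion hdisj2]
  symm
  refine Finset.sum_bij (fun e _ => CharCorr.twistIrr f '' e) ?_ ?_ ?_ ?_
  · intro e he
    have he' := (Finset.mem_filter.1 he).2
    obtain ⟨β, hβ⟩ := inducedBlockDefined_centralizer hM hxp
      (BrauerPairs.isPBlock_twist f he'.1)
    exact Finset.mem_biUnion.2 ⟨β, Finset.mem_filter.2 ⟨Finset.mem_univ _,
      (isInducedBlock_trans_iff hM hle hK he'.1 hβ).1 he'⟩,
      Finset.mem_filter.2 ⟨Finset.mem_univ _, hβ⟩⟩
  · intro a _ b _ h
    exact Set.image_injective.2 (BrauerPairs.twistIrr_injective f) h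
  · intro e' he'
    obtain ⟨β, hβ, he'⟩ := Finset.mem_biUnion.1 he'
    have hb := (Finset.mem_filter.1 he').2
    have e0 : CharCorr.twistIrr f '' (CharCorr.twistIrr f.symm '' e') = e' := by
      rw [Set.image_image]
      simp [BrauerPairs.twistIrr_symm]
    refine ⟨CharCorr.twistIrr f.symm '' e', Finset.mem_filter.2 ⟨Finset.mem_univ _,
      (isInducedBlock_trans_iff hM hle hK (BrauerPairs.isPBlock_twist f.symm hb.1)
        (β := β) (by rw [e0]; exact hb)).2 (Finset.mem_filter.1 hβ).2⟩, e0⟩
  · intro e _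
    rw [blockRank_twist]

end CfsgLib.LocalCount

end
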