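import Cfsg.Agent.Lib.Blocks12.Basic
import Cfsg.Agent.Lib.Blocks.ThirdMain
import Cfsg.Agent.Lib.BlockCover.Basic
import Cfsg.Agent.Lib.Characters.NormalRes
import Cfsg.Agent.Lib.Characters.Galois

/-!
# Height zero characters under block induction
-/

set_option autoImplicit false
set_option linter.style.haveILetI false

namespace CfsgLib.Blocks

open Cfsg MonoidAlgebra CfsgLib.Characters CfsgLib.Contribution
open scoped ComplexConjugate

universe u

variable {G : Type u} [Group G] [Fintype G] {p : ℕ} {M : Ideal AlgInt}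

theorem not_dvd_red_iff (hM : IsPModular p M) {B : Set (IrrCharacter G)} {χ : IrrCharacter G}
    (hχ : χ ∈ B) : ¬ p ∣ red p B χ ↔ blockHeight p B (χ : G → ℂ) = 0 := by
  have h := pow_dvd_red hM.1 hχ (k := 1)
  rw [pow_one] at h
  rw [h, blockHeight, Nat.sub_eq_zero_iff_le]
  show ¬ _ ↔ _ ≤ minExp p B
  omega

/-- The regular inner product of two characters as a multiple of `tfac`. -/
theorem regSum_div_eq [Fintype (ConjClasses G)] (hM : IsPModular p M) {B : Set (IrrCharacter G)}
    (hB : IsPBlock M B) (χ : IrrCharacter G) {ψ : IrrCharacter G} (hψ : ψ ∈ B) :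
    CfsgLib.Contribution.regSum p (ψ : G → ℂ) (χ : G → ℂ) / (ψ : G → ℂ) 1 =
      ((Nat.card G / p ^ (Nat.card G).factorization p : ℕ) : ℂ) * tfac p χ ψ := by
  have h1 := contrib_eq hM hB χ hψ
  rw [contrib_symm hM hB χ hψ, contrib] at h1
  have hc := cast_card_eq (G := G) (p := p)
  rw [← minExp_add_defect hM hB, pow_add] at hc
  have hp : (p : ℂ) ≠ 0 := Nat.cast_ne_zero.2 hM.1.ne_zero
  have hr : (red p B ψ : ℂ) ≠ 0 := Nat.cast_ne_zero.2 (red_pos hψ).ne'
  have hn : ((Nat.card G / p ^ (Nat.card G).factorization p : ℕ) : ℂ) ≠ 0 :=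
    Nat.cast_ne_zero.2 fun h0 => cofactor_not_dvd (G := G) hM.1 (h0 ▸ dvd_zero p)
  rw [← minExp_add_defect hM hB] at hn ⊢
  rw [apply_one_red (p := p) hψ]
  rw [hc] at h1
  field_simp at h1 ⊢
  linear_combination h1

open scoped Classical in
/-- Characters of positive height pair into the ideal with those of height zero. -/
theorem tfac_mem_ideal [Fintype (ConjClasses G)] (hM : IsPModular p M) {B : Set (IrrCharacter G)}
    (hB : IsPBlock M B) {η ξ : IrrCharacter G} (hη : η ∈ B) (hξ : ξ ∈ B)
    (h1 : p ∣ red p B η) (h0 : ¬ p ∣ red p B ξ) : MemLocalIdeal M (tfac p η ξ) := by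
  have h2 := contrib_symm hM hB η hξ
  rw [contrib_eq hM hB η hξ, contrib_eq hM hB ξ hη] at h2
  have h3 : MemLocalIdeal M ((red p B ξ : ℂ) * tfac p η ξ) := by
    rw [h2]
    exact MemLocalIdeal.mul_right hM ((memLocalIdeal_natCast_iff hM _).2 h1) (tfac_mem hM ξ η)
  exact (MemLocalIdeal.mul_cases hM (natCast_mem (lRing hM) _) (tfac_mem hM η ξ) h3).resolve_left
    fun h => h0 ((memLocalIdeal_natCast_iff hM _).1 h)

/-- The function `x ↦ conj (χ x)` on `p`-regular elements. -/
noncomputable def regFun (p : ℕ) (χ : G → ℂ) : G → ℂ :=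
  fun x => if p ∣ orderOf x then 0 else conj (χ x)

theorem isClassFunction_regFun (χ : IrrCharacter G) :
    IsClassFunction G (regFun p (χ : G → ℂ)) := by
  intro y h
  have h1 : orderOf (h * y * h⁻¹) = orderOf y :=
    orderOf_injective (MulAut.conj h).toMonoidHom (MulAut.conj h).injective y
  simp only [regFun, h1, irr_isClassFunction χ y h]

theorem omega_regFun (χ : G → ℂ) (ψ : G → ℂ) :
    omega ψ (ofFun (regFun p χ)) = CfsgLib.Contribution.regSum p ψ χ / ψ 1 := by
  classical
  rw [omega_ofFun, CfsgLib.Contribution.regSum, Finset.sum_filter]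
  congr 1
  refine Finset.sum_congr rfl fun x _ => ?_
  simp only [regFun]
  by_cases h : p ∣ orderOf x <;> simp [h, mul_comm]

/-- The congruence between regular inner products given by block induction. -/
theorem regSum_congr_of_induced (hM : IsPModular p M) {H : Subgroup G} [Fintype H]
    {b : Set (IrrCharacter H)} {B : Set (IrrCharacter G)} (hind : IsInducedBlock M H b B)
    {ξ : IrrCharacter H} (hξ : ξ ∈ b) {φ : IrrCharacter G} (hφ : φ ∈ B) (χ : IrrCharacter G) :
    MemLocalIdeal M (CfsgLib.Contribution.regSum p (ξ : H → ℂ) (fun h : H => (χ : G → ℂ) h) /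
      (ξ : H → ℂ) 1 - CfsgLib.Contribution.regSum p (φ : G → ℂ) (χ : G → ℂ) / (φ : G → ℂ) 1) := by
  classical
  rw [← omega_regFun, ← omega_regFun]
  have h := omega_resH_congr hM hind hξ hφ
    (CfsgLib.BlockCover.ofFun_mem_center (isClassFunction_regFun (p := p) χ)) fun x => by
      simp only [coeff_ofFun, regFun]
      split_ifs
      · exact (lRing hM).zero_mem
      · exact memLocalRing_of_isIntegral hM (isIntegral_conj (isIntegral_of_isCharacter (irr_isCharacter χ) x))
  have he : resH H (ofFun (regFun p (χ : G → ℂ))) =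
      ofFun (regFun p fun h : H => (χ : G → ℂ) h) := by
    refine MonoidAlgebra.ext (Finsupp.ext fun h => ?_)
    simp [regFun, Subgroup.orderOf_coe]
  rwa [he] at h

variable [Fact p.Prime]

/-- Blau: a height zero character has a height zero constituent of multiplicity prime to `p` in
each inducing block. -/
theorem exists_height_zero_constituent (hM : IsPModular p M) {H : Subgroup G} [Fintype H]
    {b : Set (IrrCharacter H)} {B : Set (IrrCharacter G)} (hind : IsInducedBlock M H b B)
    {χ : IrrCharacter G} (hχ : χ ∈ B) (h0 : blockHeight p B (χ : G → ℂ) = 0) :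
    ∃ ξ ∈ b, blockHeight p b (ξ : H → ℂ) = 0 ∧ ∃ n : ℕ,
      classInner (fun h : H => (χ : G → ℂ) h) (ξ : H → ℂ) = (n : ℂ) ∧ ¬ p ∣ n := by
  classical
  letI := Fintype.ofFinite (ConjClasses G)
  letI := Fintype.ofFinite (ConjClasses H)
  obtain ⟨ξ, hξ, hξ0, -⟩ := CfsgLib.Contribution.exists_height_zero hM hind.1
  set θ : H → ℂ := fun h => (χ : G → ℂ) h
  have hθ : IsCharacter H θ := CfsgLib.CharGalois.isCharacter_comp (irr_isCharacter χ) H.subtype
  choose m hm using fun η : IrrCharacter H => classInner_char_nat hθ (irr_isCharacter η)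
  by_contra! hne
  have hexp : CfsgLib.Contribution.regSum p (ξ : H → ℂ) θ / (ξ : H → ℂ) 1 =
      ∑ η : IrrCharacter H,
        (m η : ℂ) * (CfsgLib.Contribution.regSum p (ξ : H → ℂ) (η : H → ℂ) / (ξ : H → ℂ) 1) := by
    conv_lhs => rw [classFunction_eq_sum (φ := θ)
      (fun a c => by simpa [θ] using irr_isClassFunction χ (a : G) (c : G))]
    simp only [CfsgLib.Contribution.regSum, Finset.sum_apply, Pi.smul_apply, smul_eq_mul, hm,
      map_sum, map_mul, Complex.conj_natCast, Finset.mul_sum, Finset.sum_div]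
    rw [Finset.sum_comm]
    exact Finset.sum_congr rfl fun η _ => Finset.sum_congr rfl fun x _ => by ring
  have hI : MemLocalIdeal M (CfsgLib.Contribution.regSum p (ξ : H → ℂ) θ / (ξ : H → ℂ) 1) := by
    rw [hexp]
    refine MemLocalIdeal.sum hM _ fun η _ => ?_
    by_cases hη : η ∈ b
    · rw [regSum_div_eq hM hind.1 η hξ]
      by_cases hηh : p ∣ red p b η
      · exact MemLocalIdeal.mul_left hM (natCast_mem (lRing hM) _) (MemLocalIdeal.mul_left hM
          (natCast_mem (lRing hM) _) (tfac_mem_ideal hM hind.1 hη hξ hηh hξ0))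
      · exact MemLocalIdeal.mul_right hM ((memLocalIdeal_natCast_iff hM _).2
          (hne η hη ((not_dvd_red_iff hM hη).1 hηh) (m η) (hm η)))
          ((lRing hM).mul_mem (natCast_mem (lRing hM) _) (tfac_mem hM η ξ))
    · have h1 := sum_regular_eq_zero_of_not_sameBlock (χ := ξ) (ψ := η) hM
        fun hs => hη ((IsPBlock.mem_iff hM hind.1 hξ η).2 hs)
      rw [show CfsgLib.Contribution.regSum p (ξ : H → ℂ) (η : H → ℂ) = 0 from h1, zero_div, mul_zero]
      exact memLocalIdeal_zero hM
  have h2 := MemLocalIdeal.sub hM hI (regSum_congr_of_induced hM hind hξ hχ χ)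
  rw [sub_sub_cancel, regSum_div_eq hM hind.2.1 χ hχ] at h2
  refine (MemLocalIdeal.mul_cases hM (natCast_mem (lRing hM) _) (tfac_mem hM χ χ) h2).elim
    (fun h => cofactor_not_dvd (G := G) hM.1 ((memLocalIdeal_natCast_iff hM _).1 h)) ?_
  exact tfac_unit hM hind.2.1 hχ ((not_dvd_red_iff hM hχ).2 h0) hχ

/-- Okuyama: with an irreducible restriction of height zero, only its block induces the block of
`χ`. -/
theorem isInducedBlock_iff_eq_of_restriction (hM : IsPModular p M) {H : Subgroup G} [Fintype H]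
    {χ : IrrCharacter G} (hres : IsIrrCharacter H (fun h : H => (χ : G → ℂ) h))
    (hχ0 : blockHeight p (blockOf M (χ : G → ℂ)) (χ : G → ℂ) = 0)
    (hψ0 : blockHeight p (blockOf M (fun h : H => (χ : G → ℂ) h))
      (fun h : H => (χ : G → ℂ) h) = 0)
    {e : Set (IrrCharacter H)} (he : InducedBlockDefined M H e) :
    IsInducedBlock M H e (blockOf M (χ : G → ℂ)) ↔
      e = blockOf M (fun h : H => (χ : G → ℂ) h) := by
  classical
  letI := Fintype.ofFinite (ConjClasses H)
  set ψ : IrrCharacter H := ⟨_, hres⟩ with hψdef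
  have hχB := mem_blockOf_self hM χ
  constructor
  · intro hind
    obtain ⟨ξ, hξ, -, n, hn, hpn⟩ := exists_height_zero_constituent hM hind hχB hχ0
    have hξψ : ξ = ψ := by
      by_contra hne
      have h1 := classInner_irr ψ ξ
      rw [if_neg (fun h => hne h.symm)] at h1
      refine hpn ?_
      have h2 : (n : ℂ) = 0 := hn ▸ h1
      rw [Nat.cast_eq_zero.1 h2]
      exact dvd_zero p
    exact IsPBlock.eq_blockOf hM hind.1 (hξψ ▸ hξ)
  · rintro rfl
    obtain ⟨B', hB'⟩ := he
    obtain ⟨φ, hφ⟩ := IsPBlock.nonempty hM hB'.2.1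
    suffices hχ' : χ ∈ B' by rwa [← IsPBlock.eq_blockOf hM hB'.2.1 hχ']
    by_contra hχ'
    have hψb : ψ ∈ blockOf M (ψ : H → ℂ) := mem_blockOf_self hM ψ
    have hb : IsPBlock M (blockOf M (ψ : H → ℂ)) := isPBlock_blockOf ψ
    have h1 := regSum_congr_of_induced hM hB' hψb hφ χ
    have h2 : CfsgLib.Contribution.regSum p (φ : G → ℂ) (χ : G → ℂ) = 0 :=
      sum_regular_eq_zero_of_not_sameBlock (χ := φ) (ψ := χ) hM
        fun hs => hχ' ((IsPBlock.mem_iff hM hB'.2.1 hφ χ).2 hs)
    rw [h2, zero_div, sub_zero] at h1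
    change MemLocalIdeal M (CfsgLib.Contribution.regSum p (ψ : H → ℂ) (ψ : H → ℂ) / (ψ : H → ℂ) 1)
      at h1
    rw [regSum_div_eq hM hb ψ hψb] at h1
    refine (MemLocalIdeal.mul_cases hM (natCast_mem (lRing hM) _) (tfac_mem hM ψ ψ) h1).elim
      (fun h => cofactor_not_dvd (G := H) hM.1 ((memLocalIdeal_natCast_iff hM _).1 h)) ?_
    exact tfac_unit hM hb hψb ((not_dvd_red_iff hM hψb).2 hψ0) hψb

end CfsgLib.Blocks
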