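import Cfsg.Agent.Lib.Blocks.BlockParts
import Cfsg.Agent.Lib.Blocks.Kernel
import Cfsg.Agent.Lib.Chars17.IrrBasic

/-!
# Blocks of `G` and of `G ⧸ P`, `G ⧸ C(P)` a `p`-group
-/

set_option autoImplicit false
set_option linter.style.haveILetI false

namespace CfsgLib.Blocks

open Cfsg CfsgLib.Characters
open scoped ComplexConjugate

universe u

variable {G : Type u} [Group G] [Fintype G] {p : ℕ} {M : Ideal AlgInt}

/-- Congruence at regular elements is enough for lying in one block. -/
theorem sameBlock_of_regular (hM : IsPModular p M) {χ ψ : IrrCharacter G}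
    (h : ∀ g : G, ¬ p ∣ orderOf g →
      MemLocalIdeal M (centralChar (χ : G → ℂ) g - centralChar (ψ : G → ℂ) g)) :
    SameBlock M (χ : G → ℂ) (ψ : G → ℂ) := by
  classical
  set B := blockOf M (χ : G → ℂ)
  have hB : IsPBlock M B := isPBlock_blockOf χ
  have h1 : MemLocalIdeal M (omega (χ : G → ℂ) (blockIdem B) - omega (ψ : G → ℂ) (blockIdem B)) := by
    rw [omega_eq_sum_classes χ (blockIdem_mem_center B),
      omega_eq_sum_classes ψ (blockIdem_mem_center B), ← Finset.sum_sub_distrib]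
    refine MemLocalIdeal.sum hM _ fun c _ => ?_
    rw [← mul_sub, coeff_blockIdem]
    by_cases hc : p ∣ orderOf c.out
    · rw [blockCoeff_eq_zero_of_singular hM hB hc, zero_mul]
      exact memLocalIdeal_zero hM
    · exact MemLocalIdeal.mul_left hM (memLocalRing_blockCoeff hM hB _) (h _ hc)
  rw [omega_blockIdem, omega_blockIdem, if_pos (mem_blockOf_self hM χ)] at h1
  split_ifs at h1 with h2
  · exact h2
  · rw [sub_zero] at h1
    exact absurd h1 (not_memLocalIdeal_one hM)

variable [Fact p.Prime] (P : Subgroup G) [P.Normal]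

/-- Every block contains a character trivial on a normal `p`-subgroup. -/
theorem exists_mem_trivial_on (hM : IsPModular p M) (hP : IsPGroup p P) {B : Set (IrrCharacter G)}
    (hB : IsPBlock M B) : ∃ θ ∈ B, ∀ u ∈ P, (θ : G → ℂ) u = (θ : G → ℂ) 1 := by
  classical
  let f : G → ℂ := fun g => if g ∈ P then 1 else 0
  have hf : IsClassFunction G f := fun g h => by
    have : h * g * h⁻¹ ∈ P ↔ g ∈ P :=
      ⟨fun hh => by simpa [mul_assoc] using ‹P.Normal›.conj_mem _ hh h⁻¹,
        fun hh => ‹P.Normal›.conj_mem _ hh h⟩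
    simp only [f, this]
  have h1 : blockPart B f 1 = blockCoeff B 1 := by
    rw [← sum_blockCoeff_mul_eq_blockPart B hf, Finset.sum_eq_single (1 : G)]
    · simp [f]
    · intro k _ hk
      by_cases hkP : k ∈ P
      · obtain ⟨j, hj⟩ := IsPGroup.iff_orderOf.1 hP ⟨k, hkP⟩
        rw [← Subgroup.orderOf_coe] at hj
        change orderOf k = p ^ j at hj
        rw [blockCoeff_eq_zero_of_singular hM hB, zero_mul]
        rw [hj]
        refine dvd_pow_self p fun h0 => hk ?_
        rw [h0, pow_zero, orderOf_eq_one_iff] at hj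
        exact hj
      · simp [f, hkP]
    · simp
  have hne : blockCoeff B 1 ≠ 0 := by
    intro h0
    rw [blockCoeff_eq_sum] at h0
    obtain ⟨χ, hχ⟩ := IsPBlock.nonempty hM hB
    rcases mul_eq_zero.1 h0 with h | h
    · simp at h
    · have h2 := congrArg Complex.re h
      rw [Complex.re_sum, Complex.zero_re] at h2
      have hpos : ∀ ψ : IrrCharacter G, 0 < ((ψ : G → ℂ) 1 * conj ((ψ : G → ℂ) 1)).re := fun ψ => by
        rw [Complex.mul_conj, Complex.ofReal_re]
        exact Complex.normSq_pos.2 (irr_one_ne_zero ψ)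
      exact absurd h2 (Finset.sum_pos (fun ψ _ => hpos ψ)
        ⟨χ, Finset.mem_filter.2 ⟨Finset.mem_univ χ, hχ⟩⟩).ne'
  rw [blockPart_eq_sum] at h1
  obtain ⟨θ, hθ, hθ0⟩ := Finset.exists_ne_zero_of_sum_ne_zero (h1 ▸ hne)
  refine ⟨θ, (Finset.mem_filter.1 hθ).2, fun u hu => apply_eq_one_of_omega_avgElt ?_ hu⟩
  have h3 : omega (θ : G → ℂ) (avgElt P) * omega (θ : G → ℂ) (avgElt P) = omega (θ : G → ℂ) (avgElt P) := by
    rw [← omega_mul θ (avgElt_mem_center P), isIdempotentElem_avgElt P]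
  refine (mul_left_eq_self₀.1 h3).resolve_right fun h4 => hθ0 ?_
  rw [omega_avgElt, div_eq_zero_iff, div_eq_zero_iff] at h4
  have h5 := (h4.resolve_right (irr_one_ne_zero θ)).resolve_right (by simp)
  refine mul_eq_zero_of_left (mul_eq_zero_of_right _ ?_) _
  rw [Finset.sum_filter] at h5
  rw [← map_zero (starRingEnd ℂ), ← h5, map_sum]
  refine Finset.sum_congr rfl fun x _ => ?_
  simp only [f]
  by_cases hx : x ∈ P <;> simp [hx]

/-- Central characters of inflations at regular elements centralizing `P`. -/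
theorem centralChar_infl (hP : IsPGroup p P) (hM : IsPModular p M) {g : G}
    (hg : ¬ p ∣ orderOf g) (hgC : g ∈ Subgroup.centralizer (P : Set G))
    (χ : IrrCharacter (G ⧸ P)) :
    centralChar ((χ : G ⧸ P → ℂ) ∘ QuotientGroup.mk) g = centralChar (χ : G ⧸ P → ℂ) (g : G ⧸ P) := by
  have hmap : (Subgroup.centralizer ({g} : Set G)).map (QuotientGroup.mk' P) =
      Subgroup.centralizer ({(g : G ⧸ P)} : Set (G ⧸ P)) := by
    refine le_antisymm ?_ ?_
    · rintro _ ⟨w, hw, rfl⟩
      refine Subgroup.mem_centralizer_singleton_iff.2 ?_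
      show ((w : G) : G ⧸ P) * (g : G ⧸ P) = (g : G ⧸ P) * w
      rw [← QuotientGroup.mk_mul, Subgroup.mem_centralizer_singleton_iff.1 hw, QuotientGroup.mk_mul]
    · intro q hq
      induction q using QuotientGroup.induction_on with | H w => ?_
      refine ⟨w, ?_, rfl⟩
      have h1 := Subgroup.mem_centralizer_singleton_iff.1 hq
      rw [← QuotientGroup.mk_mul, ← QuotientGroup.mk_mul, QuotientGroup.eq] at h1
      set v := g⁻¹ * (w * g * w⁻¹) with hv
      have hvP : v ∈ P := by
        have h2 := P.inv_mem h1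
        have h3 := ‹P.Normal›.conj_mem _ h2 w
        have h4 := ‹P.Normal›.conj_mem _ (P.inv_mem h2) (g⁻¹ * (g * w))
        have h5 : v = g⁻¹ * ((g * w) * ((w * g)⁻¹ * (g * w))⁻¹ * (g * w)⁻¹) * g := by
          rw [hv]; group
        rw [h5]
        have h6 := ‹P.Normal›.conj_mem _ (‹P.Normal›.conj_mem _ h2 (g * w)) g⁻¹
        simpa using h6
      have hcomm : Commute v g := (Subgroup.mem_centralizer_iff.1 hgC v hvP)
      obtain ⟨j, hj⟩ := IsPGroup.iff_orderOf.1 hP ⟨v, hvP⟩
      rw [← Subgroup.orderOf_coe] at hj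
      have h2 : IsPPart p (v * g) v := isPPart_mul hcomm ⟨j, hj⟩ hg
      have he : v * g = w * g * w⁻¹ := by rw [hcomm.eq, hv, mul_inv_cancel_left]
      have h3 : IsPPart p (w * g * w⁻¹) (w * 1 * w⁻¹) :=
        IsPPart.conj ⟨g, one_mul g, Commute.one_left g, ⟨0, by simp⟩, hg⟩ w
      rw [he] at h2
      have h4 := IsPPart.unique hM.1 h2 h3
      rw [mul_one, mul_inv_cancel] at h4
      rw [h4, one_mul] at he
      refine Subgroup.mem_centralizer_singleton_iff.2 ?_
      exact mul_inv_eq_iff_eq_mul.1 he.symm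
  have hker : (QuotientGroup.mk' P).ker ≤ Subgroup.centralizer ({g} : Set G) := by
    rw [QuotientGroup.ker_mk']
    exact fun u hu => Subgroup.mem_centralizer_singleton_iff.2 (Subgroup.mem_centralizer_iff.1 hgC u hu)
  simp only [centralChar, Function.comp_apply, QuotientGroup.mk_one, ← hmap,
    Subgroup.index_map_eq _ (QuotientGroup.mk'_surjective P) hker]

theorem regular_mem_centralizer (hC : ∃ k : ℕ, (Subgroup.centralizer (P : Set G)).index = p ^ k)
    {g : G} (hg : ¬ p ∣ orderOf g) : g ∈ Subgroup.centralizer (P : Set G) := by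
  obtain ⟨k, hk⟩ := hC
  have h1 := Subgroup.pow_index_mem (Subgroup.centralizer (P : Set G)) g
  rw [hk] at h1
  obtain ⟨m, hm⟩ := exists_pow_eq_self_of_coprime
    (Nat.Coprime.pow_left k ((Fact.out : p.Prime).coprime_iff_not_dvd.2 hg))
  rw [← hm]
  exact Subgroup.pow_mem _ h1 m

/-- Inflation respects blocks both ways. -/
theorem sameBlock_infl_iff (hM : IsPModular p M) (hP : IsPGroup p P)
    (hC : ∃ k : ℕ, (Subgroup.centralizer (P : Set G)).index = p ^ k)
    (χ ψ : IrrCharacter (G ⧸ P)) :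
    SameBlock M (χ : G ⧸ P → ℂ) (ψ : G ⧸ P → ℂ) ↔
      SameBlock M ((χ : G ⧸ P → ℂ) ∘ QuotientGroup.mk) ((ψ : G ⧸ P → ℂ) ∘ QuotientGroup.mk) := by
  classical
  letI := Fintype.ofFinite (G ⧸ P)
  constructor
  · intro h
    refine sameBlock_of_regular hM (χ := CfsgLib.Chars17.infl P χ) (ψ := CfsgLib.Chars17.infl P ψ)
      fun g hg => ?_
    show MemLocalIdeal M (centralChar ((χ : G ⧸ P → ℂ) ∘ QuotientGroup.mk) g -
      centralChar ((ψ : G ⧸ P → ℂ) ∘ QuotientGroup.mk) g)
    rw [centralChar_infl P hP hM hg (regular_mem_centralizer P hC hg) χ,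
      centralChar_infl P hP hM hg (regular_mem_centralizer P hC hg) ψ]
    exact h _
  · intro h
    refine sameBlock_of_regular hM fun q hq => ?_
    obtain ⟨g, rfl⟩ := QuotientGroup.mk_surjective q
    obtain ⟨x, hx⟩ := exists_isPPart hM.1 g
    obtain ⟨y, hxy, hc, ⟨j, hxj⟩, hy⟩ := hx
    have hxq : (x : G ⧸ P) = 1 := by
      have h1 : IsPPart p (g : G ⧸ P) (x : G ⧸ P) := by
        refine ⟨(y : G ⧸ P), by rw [← QuotientGroup.mk_mul, hxy], hc.map (QuotientGroup.mk' P), ?_, ?_⟩
        · obtain ⟨i, -, hi⟩ := (Nat.dvd_prime_pow hM.1).1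
            (hxj ▸ orderOf_map_dvd (QuotientGroup.mk' P) x)
          exact ⟨i, hi⟩
        · exact fun hh => hy (hh.trans (orderOf_map_dvd (QuotientGroup.mk' P) y))
      exact IsPPart.unique hM.1 h1 ⟨(g : G ⧸ P), one_mul _, Commute.one_left _, ⟨0, by simp⟩, hq⟩
    have hgy : (g : G ⧸ P) = (y : G ⧸ P) := by rw [← hxy, QuotientGroup.mk_mul, hxq, one_mul]
    rw [hgy, ← centralChar_infl P hP hM hy (regular_mem_centralizer P hC hy) χ,
      ← centralChar_infl P hP hM hy (regular_mem_centralizer P hC hy) ψ]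
    exact h y

end CfsgLib.Blocks
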