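import Cfsg.Agent.Lib.Blocks.CyclicSection
import Cfsg.Agent.Lib.BrauerPairs.Inside
import Cfsg.Agent.Lib.BrauerPairs.Pairs
import Cfsg.Agent.Lib.BrauerPairs.Bridge
import Cfsg.Agent.Lib.BrauerPairs.Induced
import Cfsg.Agent.Lib.Blocks.LocalCount
import Cfsg.Agent.Lib.Blocks.Brauer
import Cfsg.Agent.Lib.Fusion.Saturated

/-!
# Blocks with cyclic defect group and trivial inertial quotient

Such a block has one Brauer character: every subsection contributes at least one to
`k(B) - l(B)`, and `k(B)` is at most the order of the defect group.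
-/

set_option autoImplicit false
set_option linter.style.haveILetI false
set_option linter.unusedSectionVars false

namespace CfsgLib.CyclicDefectBound

open Cfsg MonoidAlgebra CfsgLib.BrauerPairs
open CfsgLib.Blocks (IsPBlock.nonempty)

universe u

variable {G : Type u} [Group G] [Fintype G] {p : ℕ} [hp : Fact p.Prime] {M : Ideal AlgInt}
  [M.IsMaximal]

theorem centralizer_singleton_eq (x : G) :
    Subgroup.centralizer ({x} : Set G) = cz (Subgroup.zpowers x) := by
  ext g
  rw [Subgroup.mem_centralizer_singleton_iff, mem_cz]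
  refine ⟨fun h q hq => ?_, fun h => (h x (Subgroup.mem_zpowers x)).symm⟩
  obtain ⟨i, rfl⟩ := Subgroup.mem_zpowers_iff.1 hq
  exact ((Commute.zpow_right (show Commute g x from h) i).eq).symm

theorem one_le_blockRank {H : Type u} [Group H] [Finite H] (hM : IsPModular p M)
    {b : Set (IrrCharacter H)} (hb : IsPBlock M b) : 1 ≤ blockRank p b := by
  obtain ⟨χ, hχ⟩ := IsPBlock.nonempty hM hb
  haveI : Fintype H := Fintype.ofFinite H
  rw [blockRank, Nat.one_le_iff_ne_zero]
  intro h0
  have hbot := Submodule.finrank_eq_zero.1 h0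
  have hmem : pRegularPart p (χ : H → ℂ) ∈ (⊥ : Submodule ℂ (H → ℂ)) :=
    hbot ▸ Submodule.subset_span ⟨χ, hχ, rfl⟩
  have h1 := congrFun ((Submodule.mem_bot ℂ).1 hmem) 1
  rw [Pi.zero_apply, pRegularPart, if_pos (by rw [IsPRegular, orderOf_one]; exact hp.out.not_dvd_one)]
    at h1
  exact Characters.irr_one_ne_zero χ h1

/-- A block of a local centraliser covered by the Brauer image of `B` induces `B`. -/
theorem induced_of_cover (hM : IsPModular p M) {Q K : Subgroup G} (hQ : IsPGroup p Q)
    (hQc : Q ≤ cz Q) (hK : K = cz Q) [Fintype K] {B : Set (IrrCharacter G)} (hB : IsPBlock M B)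
    {f : Set (IrrCharacter K)} (hf : IsPBlock M f)
    (hcov : brMap (ResK M) Q (eG hM B) * eA hM K f = eA hM K f) : IsInducedBlock M K f B := by
  subst hK
  have := charP_res hM
  obtain ⟨B', hB'⟩ := Blocks.inducedBlockDefined hM hQ hQc le_rfl (cz_le_normalizer Q) hf
  obtain ⟨-, -, hO⟩ := (isBrauerPairOf_iff hM B' Q f).1 (isBrauerPairOf_of_isInducedBlock hM hQ hB')
  suffices h : B = B' by rwa [h]
  by_contra hne
  refine (isBlockIdem_eA hM hf).ne_zero ?_
  have h0 : eG hM B * eG hM B' = 0 := (isBlockIdem_eG hM hB).mul_eq_zero (isBlockIdem_eG hM hB'.2.1)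
    fun h => hne (eG_inj hM hB hB'.2.1 h)
  calc eA hM (cz Q) f
      = brMap (ResK M) Q (eG hM B) * (brMap (ResK M) Q (eG hM B') * eA hM (cz Q) f) := by
        rw [hO.cover, hcov]
    _ = 0 := by
        rw [← mul_assoc, ← brMap_mul hQ (fixAlg_anti le_top (isBlockIdem_eG hM hB).fixed)
          (fixAlg_anti le_top (isBlockIdem_eG hM hB'.2.1).fixed), h0, map_zero, zero_mul]

variable {B : Set (IrrCharacter G)} {P : Subgroup G} {e : MonoidAlgebra (ResK M) G}

/-- The local block below a maximal pair: it induces `B` and has defect group `P`. -/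
theorem exists_local_block (hM : IsPModular p M) (hB : IsPBlock M B)
    (hD : IsDefectGroup p M B P) (hPc : P ≤ cz P) (he : IsBlockIdem (cz P) e)
    (hcov : brMap (ResK M) P (eG hM B) * e = e) {Q K : Subgroup G} (hQP : Q ≤ P) (hK : K = cz Q)
    [Fintype K] :
    ∃ f : Set (IrrCharacter K), IsPBlock M f ∧ PairLE p (Q, eA hM K f) (P, e) ∧
      brMap (ResK M) Q (eG hM B) * eA hM K f = eA hM K f ∧ IsInducedBlock M K f B ∧
      IsDefect p Q (eA hM K f) K P ∧ IsDefectGroup p M f (P.subgroupOf K) ∧
      OverPair p Q (eA hM K f) K P e := by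
  classical
  have := charP_res hM
  have hEb := isBlockIdem_eG hM hB
  have hD0 := (isDefectGroup_iff hM hB P).1 hD
  have hPp : IsPGroup p P := hD0.pgroup
  have hQp : IsPGroup p Q := hPp.to_le hQP
  have hPH : P ≤ cz Q := hPc.trans (cz_anti hQP)
  have hQc : Q ≤ cz Q := hQP.trans hPH
  obtain ⟨a, ha, hale⟩ := exists_pairLE (p := p) (hasBlocks hM) hQP hPp he
  rw [← hK] at ha
  obtain ⟨f, hf, rfl⟩ := exists_eA_eq hM ha
  have hQB : brMap (ResK M) Q (eG hM B) * eA hM K f = eA hM K f :=
    (brMap_cover_iff hale hEb.fixed hEb.idem).2 hcov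
  have hfix : eA hM K f ∈ fixAlg (ResK M) K := (isBlockIdem_eA hM hf).fixed
  have hS : BrSetup p Q (eA hM K f) K :=
    ⟨hQp, hK ▸ isBlockIdem_eA hM hf, hK ▸ cz_le_normalizer Q, hK.ge, hK ▸ hQc, hfix⟩
  have hstep : brMap (ResK M) P (eA hM K f) * e = e := by
    obtain ⟨g, hg⟩ := exists_normalSub (p := p) (hasBlocks hM) hQP
      (hPH.trans (cz_le_normalizer Q)) hPp he
    have : g = eA hM K f := pairLE_unique (hasBlocks hM) (b := (P, e)) he hPp
      (Relation.ReflTransGen.single hg) hale
    exact this ▸ hg.cover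
  have hO : OverPair p Q (eA hM K f) K P e := ⟨hPp, hQP, hK ▸ hPH, he, hstep⟩
  have hDQ : IsDefect p Q (eA hM K f) K P :=
    isDefect_local hM hB hS hQB hD0 (hK ▸ hPH) (hS.brMap_ne_zero hO)
  refine ⟨f, hf, hale, hQB, induced_of_cover hM hQp hQc hK hB hf hQB, hDQ, ?_, hO⟩
  rw [isDefectGroup_stabilizer_iff hM hS hf rfl,
    Subgroup.map_subgroupOf_eq_of_le (hK ▸ hPH)]
  exact hDQ

/-- Two elements of the same order of a cyclic group generate the same subgroup. -/
theorem mem_zpowers_of_orderOf_eq (hcyc : IsCyclic P) {u u' : G} (hu : u ∈ P) (hu' : u' ∈ P)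
    (h : orderOf u' = orderOf u) : u' ∈ Subgroup.zpowers u := by
  classical
  have := hcyc
  let x : P := ⟨u, hu⟩
  let y : P := ⟨u', hu'⟩
  have hn : 0 < orderOf x := orderOf_pos x
  have hle : (Finset.univ.filter fun a : P => a ^ orderOf x = 1).card ≤ orderOf x :=
    IsCyclic.card_pow_eq_one_le hn
  have hsub : (Finset.univ.filter fun a : P => a ∈ Subgroup.zpowers x) ⊆
      Finset.univ.filter fun a : P => a ^ orderOf x = 1 := by
    intro a ha
    simp only [Finset.mem_filter, Finset.mem_univ, true_and] at ha ⊢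
    obtain ⟨i, rfl⟩ := Subgroup.mem_zpowers_iff.1 ha
    rw [← zpow_natCast, ← zpow_mul, mul_comm, zpow_mul, zpow_natCast, pow_orderOf_eq_one, one_zpow]
  have hcard : (Finset.univ.filter fun a : P => a ∈ Subgroup.zpowers x).card = orderOf x := by
    rw [← Fintype.card_subtype, Fintype.card_zpowers]
  have heq := Finset.eq_of_subset_of_card_le hsub (by rw [hcard]; exact hle)
  have hy : y ∈ Finset.univ.filter fun a : P => a ^ orderOf x = 1 := by
    simp only [Finset.mem_filter, Finset.mem_univ, true_and]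
    have hxy : orderOf y = orderOf x := by
      rw [← Subgroup.orderOf_coe, ← Subgroup.orderOf_coe]; exact h
    rw [← hxy, pow_orderOf_eq_one]
  rw [← heq, Finset.mem_filter] at hy
  obtain ⟨i, hi⟩ := Subgroup.mem_zpowers_iff.1 hy.2
  exact Subgroup.mem_zpowers_iff.2 ⟨i, by simpa [x, y] using congrArg Subtype.val hi⟩

/-- A block with cyclic defect group and trivial inertial quotient has rank one and `|P|` members. -/
theorem rank_and_card (hM : IsPModular p M) (hB : IsPBlock M B) (hD : IsDefectGroup p M B P)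
    (hcyc : IsCyclic P) (he : IsBlockIdem (cz P) e)
    (hcov : brMap (ResK M) P (eG hM B) * e = e)
    (hfree : ∀ g : G, g ∈ Subgroup.normalizer (P : Set G) → conjA g e = e → g ∈ cz P) :
    blockRank p B = 1 ∧ Nat.card B = Nat.card P := by
  classical
  let _ : ∀ K : Subgroup G, Fintype K := fun K => Fintype.ofFinite K
  have := charP_res hM
  have hD0 := (isDefectGroup_iff hM hB P).1 hD
  have hPp : IsPGroup p P := hD0.pgroup
  have hPc : P ≤ cz P := fun a ha => mem_cz.2 fun c hc => by
    have := hcyc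
    obtain ⟨g, hg⟩ := IsCyclic.exists_generator (α := P)
    obtain ⟨i, hi⟩ := Subgroup.mem_zpowers_iff.1 (hg ⟨a, ha⟩)
    obtain ⟨j, hj⟩ := Subgroup.mem_zpowers_iff.1 (hg ⟨c, hc⟩)
    have h1 := congrArg Subtype.val ((Commute.zpow_zpow_self g j i).eq)
    rw [hi, hj] at h1
    exact h1
  have hone := one_le_blockRank hM hB
  -- a generator and the upper bound
  obtain ⟨⟨x, hx⟩, hgen⟩ := IsCyclic.exists_generator (α := P)
  have hPz : Subgroup.zpowers x = P := by
    refine le_antisymm (Subgroup.zpowers_le.2 hx) fun a ha => ?_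
    obtain ⟨i, hi⟩ := Subgroup.mem_zpowers_iff.1 (hgen ⟨a, ha⟩)
    exact Subgroup.mem_zpowers_iff.2 ⟨i, by simpa using congrArg Subtype.val hi⟩
  set H := Subgroup.centralizer ({x} : Set G) with hHdef
  have hH : H = cz P := by rw [hHdef, centralizer_singleton_eq, hPz]
  obtain ⟨f, hf, hle, -, hind, -, hfD, -⟩ :=
    exists_local_block (Q := P) (K := H) hM hB hD hPc he hcov le_rfl hH
  have hfe : eA hM H f = e := pairLE_unique (hasBlocks hM) (b := (P, e)) he hPp hle
    Relation.ReflTransGen.refl
  set Z := P.subgroupOf H with hZ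
  have hPH : P ≤ H := hH ▸ hPc
  have hZc : Z ≤ Subgroup.center H := fun z hz => Subgroup.mem_center_iff.2 fun h => by
    have h2 : (h : G) ∈ cz P := hH ▸ h.2
    exact Subtype.ext (mem_cz.1 h2 z (Subgroup.mem_subgroupOf.1 hz)).symm
  obtain ⟨hl, η₀, bn, hbase⟩ := exists_base hM (hPp.comap_subtype (K := H)) hZc hf hfD
  let xZ : Z := ⟨⟨x, hPH hx⟩, Subgroup.mem_subgroupOf.2 hx⟩
  have hmap : Z.map H.subtype = P := Subgroup.map_subgroupOf_eq_of_le hPH
  have hN : ∀ g : G, g * ((xZ : H) : G) * g⁻¹ ∈ Z.map H.subtype →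
      g ∈ Subgroup.normalizer (P : Set G) := fun g hg => by
    rw [hmap] at hg
    refine Fusion.mem_normalizer_of_forall fun a ha => ?_
    rw [← hPz] at ha
    obtain ⟨i, rfl⟩ := Subgroup.mem_zpowers_iff.1 ha
    rw [← conj_zpow]
    exact P.zpow_mem hg i
  have hNH : ∀ g : G, g ∈ Subgroup.normalizer (P : Set G) →
      g ∈ Subgroup.normalizer (H : Set G) := fun g hg => by
    rw [hH]; exact normalizer_le_normalizer_cz P hg
  have hfuse : fuseSet (η₀ := η₀) f Z xZ = (H : Set G) := by
    ext g
    constructor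
    · rintro ⟨hg1, hg2⟩
      have hgP := hN g hg1
      have hgH := hNH g hgP
      have hK : ∀ k : G, k ∈ H ↔ (g⁻¹)⁻¹ * k * g⁻¹ ∈ H := fun k =>
        mem_normalizer_conj_iff (inv_mem hgH) k
      have hmem : CharCorr.twistIrr (conjEquiv g⁻¹ hK) η₀ ∈ f := hg2 _ fun c c' hcc => by
        rw [CharCorr.twistIrr_apply]
        refine congrArg (η₀ : H → ℂ) (Subtype.ext ?_)
        show (g⁻¹)⁻¹ * (c : G) * g⁻¹ = c'
        rw [inv_inv, hcc]
      have himg : CharCorr.twistIrr (conjEquiv g⁻¹ hK) '' f = f := by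
        have h1 := isPBlock_twist (M := M) (conjEquiv g⁻¹ hK) hf
        rw [Blocks.IsPBlock.eq_blockOf hM h1 ⟨η₀, hbase.mem, rfl⟩,
          ← Blocks.IsPBlock.eq_blockOf hM hf hmem]
      have hfix : conjA g⁻¹ e = e := by
        rw [← hfe]
        exact (conjA_eA hM g⁻¹ hK f).trans (by rw [himg])
      have h2 : g⁻¹ ∈ cz P := hfree g⁻¹ (inv_mem hgP) hfix
      rw [SetLike.mem_coe, hH]
      exact inv_mem_iff.1 h2
    · intro hg
      have hgx : g * x * g⁻¹ = x := by
        have := Subgroup.mem_centralizer_singleton_iff.1 hg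
        rw [this, mul_inv_cancel_right]
      refine ⟨by rw [hmap]; show g * x * g⁻¹ ∈ P; rw [hgx]; exact hx, fun θ hθ => ?_⟩
      have : θ = η₀ := Subtype.ext (funext fun c => by
        have hg' : g ∈ H := hg
        rw [hθ c (⟨g, hg'⟩ * c * (⟨g, hg'⟩ : H)⁻¹) rfl, Characters.irr_isClassFunction η₀ c ⟨g, hg'⟩])
      exact this ▸ hbase.mem
  have hup : Nat.card B ≤ Nat.card P := by
    rw [← Nat.card_congr (Subgroup.subgroupOfEquivOfLe hPH).toEquiv]
    refine natCard_block_le hM hbase xZ rfl hl hB hind fun χ hχ => ?_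
    refine dCoef_ne_zero hM hbase xZ rfl hind hχ (fun g hg => hNH g (hN g hg)) (e := 1)
      hp.out.not_dvd_one ?_
    rw [one_mul]
    exact congrArg (fun s : Set G => Nat.card s) hfuse
  -- the subsections
  have hdata : ∀ u : P, ∃ a : MonoidAlgebra (ResK M) G, (u : G) = u ∧
      ∃ f : Set (IrrCharacter (Subgroup.centralizer ({(u : G)} : Set G))), IsPBlock M f ∧
        eA hM _ f = a ∧ PairLE p (Subgroup.zpowers (u : G), a) (P, e) ∧
        brMap (ResK M) (Subgroup.zpowers (u : G)) (eG hM B) * a = a ∧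
        IsDefect p (Subgroup.zpowers (u : G)) a (cz (Subgroup.zpowers (u : G))) P ∧
        OverPair p (Subgroup.zpowers (u : G)) a (cz (Subgroup.zpowers (u : G))) P e := by
    intro u
    obtain ⟨f, hf, h1, h2, -, h3, -, h4⟩ := exists_local_block (Q := Subgroup.zpowers (u : G))
      (K := Subgroup.centralizer ({(u : G)} : Set G)) hM hB hD hPc he hcov
      (Subgroup.zpowers_le.2 u.2) (centralizer_singleton_eq _)
    exact ⟨_, rfl, f, hf, rfl, h1, h2, centralizer_singleton_eq (u : G) ▸ h3,
      centralizer_singleton_eq (u : G) ▸ h4⟩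
  choose a _ fu hfu hfa hale hacov hadef haover using hdata
  set D₀ : Finset (P × G) := (Finset.univ.filter fun u : P => u ≠ 1) ×ˢ Finset.univ with hD₀
  let Φ : P × G → G × MonoidAlgebra (ResK M) G := fun t =>
    (t.2 * (t.1 : G) * t.2⁻¹, conjA t.2 (a t.1))
  set I := D₀.image Φ with hI
  -- the stabiliser of a subsection
  have hinj : ∀ u u' : P, ∀ h : G, h * (u : G) * h⁻¹ = u' → conjA h (a u) = a u' →
      u' = u ∧ h ∈ Subgroup.centralizer ({(u : G)} : Set G) := by
    intro u u' h hhu hha
    set Q := Subgroup.zpowers (u : G) with hQ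
    have hord : orderOf (u' : G) = orderOf (u : G) := by
      rw [← hhu]; exact (MulAut.conj h).orderOf_eq _
    have hu'Q : (u' : G) ∈ Q := mem_zpowers_of_orderOf_eq hcyc u.2 u'.2 hord
    have hQ' : Subgroup.zpowers (u' : G) = Q :=
      Subgroup.eq_of_le_of_card_ge (Subgroup.zpowers_le.2 hu'Q) (by
        rw [hQ, Nat.card_zpowers, Nat.card_zpowers, hord])
    have hhN : h ∈ Subgroup.normalizer (Q : Set G) := by
      refine Fusion.mem_normalizer_of_forall fun z hz => ?_
      obtain ⟨i, rfl⟩ := Subgroup.mem_zpowers_iff.1 hz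
      rw [← conj_zpow, hhu]
      exact Q.zpow_mem hu'Q i
    have hale' : PairLE p (Q, a u') (P, e) := by
      have h' := hale u'
      rwa [hQ'] at h'
    have hau : a u' = a u := pairLE_unique (hasBlocks hM) (b := (P, e)) he hPp hale' (hale u)
    have hfix : conjA h (a u) = a u := hha.trans hau
    have hPQ : P ≤ cz Q := hPc.trans (cz_anti (Subgroup.zpowers_le.2 u.2))
    have hS : BrSetup p Q (a u) (cz Q) := by
      have hb : IsBlockIdem (cz Q) (a u) := by
        rw [hQ, ← centralizer_singleton_eq, ← hfa u]; exact isBlockIdem_eA hM (hfu u)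
      exact ⟨hPp.to_le (Subgroup.zpowers_le.2 u.2), hb, cz_le_normalizer Q, le_rfl,
        (Subgroup.zpowers_le.2 u.2).trans hPQ, hb.fixed⟩
    have hhcz : ∀ z ∈ cz Q, h * z * h⁻¹ ∈ cz Q := fun z hz =>
      (Subgroup.mem_normalizer_iff.1 (normalizer_le_normalizer_cz Q hhN) z).1 hz
    have hmapQ : Q.map (MulAut.conj h).toMonoidHom = Q := map_conj_eq_self hhN
    have hO' : OverPair p Q (a u) (cz Q) (P.map (MulAut.conj h).toMonoidHom) (conjA h e) := by
      refine ⟨hPp.map _, hmapQ ▸ Subgroup.map_mono (Subgroup.zpowers_le.2 u.2), ?_, ?_, ?_⟩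
      · rintro _ ⟨z, hz, rfl⟩
        exact hhcz z (hPQ hz)
      · rw [cz_map_conj]; exact he.conjA h
      · conv_lhs => rw [← hfix]
        rw [← conjA_brMap, ← conjA_mul, (haover u).cover]
    obtain ⟨v, hv, hvle⟩ := hS.exists_conj_le (hasBlocks hM) hO' (hadef u) (haover u)
    have hcard : (conjPair v (P.map (MulAut.conj h).toMonoidHom, conjA h e)).1 = P :=
      Subgroup.eq_of_le_of_card_ge hvle.le (by
        show Nat.card P ≤ Nat.card ((P.map (MulAut.conj h).toMonoidHom).map
          (MulAut.conj v).toMonoidHom : Subgroup G)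
        rw [Subgroup.card_map_of_injective (MulAut.conj v).injective,
          Subgroup.card_map_of_injective (MulAut.conj h).injective])
    have heq : conjPair (v * h) (P, e) = (P, e) := by
      rw [conjPair_mul]
      refine Prod.ext hcard (pairLE_unique (hasBlocks hM) (b := (P, e)) (Q := P) he hPp ?_
        Relation.ReflTransGen.refl)
      have h' := hvle
      rw [show conjPair v (P.map (MulAut.conj h).toMonoidHom, conjA h e) =
        (P, (conjPair v (P.map (MulAut.conj h).toMonoidHom, conjA h e)).2) from Prod.ext hcard rfl]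
        at h'
      exact h'
    have hvN : v * h ∈ Subgroup.normalizer (P : Set G) := by
      refine Fusion.mem_normalizer_of_forall fun z hz => ?_
      have h1 : P.map (MulAut.conj (v * h)).toMonoidHom = P := congrArg Prod.fst heq
      exact h1.le ⟨z, hz, rfl⟩
    have hvh := hfree _ hvN (congrArg Prod.snd heq)
    have hhQ : h ∈ cz Q := by
      have h2 : v * h ∈ cz Q := cz_anti (Subgroup.zpowers_le.2 u.2) hvh
      have h3 := (cz Q).mul_mem ((cz Q).inv_mem hv) h2
      rwa [inv_mul_cancel_left] at h3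
    have hhC : h ∈ Subgroup.centralizer ({(u : G)} : Set G) :=
      centralizer_singleton_eq (u : G) ▸ hhQ
    refine ⟨Subtype.ext ?_, hhC⟩
    rw [← hhu, Subgroup.mem_centralizer_singleton_iff.1 hhC, mul_inv_cancel_right]
  have hfib : ∀ i ∈ I, (D₀.filter fun t => Φ t = i).card =
      Nat.card (Subgroup.centralizer ({i.1} : Set G)) := by
    intro i hi
    obtain ⟨⟨u, g⟩, hug, rfl⟩ := Finset.mem_image.1 hi
    have hcc : Nat.card (Subgroup.centralizer ({g * (u : G) * g⁻¹} : Set G)) =
        Nat.card (Subgroup.centralizer ({(u : G)} : Set G)) := by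
      refine Nat.card_congr ⟨fun z => ⟨g⁻¹ * z * g, ?_⟩, fun z => ⟨g * z * g⁻¹, ?_⟩,
        fun z => Subtype.ext (by group), fun z => Subtype.ext (by group)⟩
      · have hz := Subgroup.mem_centralizer_singleton_iff.1 z.2
        rw [Subgroup.mem_centralizer_singleton_iff]
        have := congrArg (fun w => g⁻¹ * w * g) hz
        simpa [mul_assoc] using this
      · have hz := Subgroup.mem_centralizer_singleton_iff.1 z.2
        rw [Subgroup.mem_centralizer_singleton_iff]
        have := congrArg (fun w => g * w * g⁻¹) hz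
        simpa [mul_assoc] using this
    show _ = Nat.card (Subgroup.centralizer ({g * (u : G) * g⁻¹} : Set G))
    rw [hcc, Nat.card_eq_fintype_card, ← Finset.card_univ]
    refine (Finset.card_bij
      (fun (c : ↥(Subgroup.centralizer ({(u : G)} : Set G))) _ => (u, g * (c : G))) ?_ ?_ ?_).symm
    · intro c _
      simp only [Finset.mem_filter, hD₀, Finset.mem_product, Finset.mem_univ, and_true]
      refine ⟨by simpa [hD₀] using hug, ?_⟩
      simp only [Φ]
      have hc : (c : G) ∈ cz (Subgroup.zpowers (u : G)) := centralizer_singleton_eq (u : G) ▸ c.2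
      refine Prod.ext ?_ ?_
      · show g * (c : G) * (u : G) * (g * c)⁻¹ = g * u * g⁻¹
        have := Subgroup.mem_centralizer_singleton_iff.1 c.2
        rw [mul_assoc g, this]; group
      · show conjA (g * (c : G)) (a u) = conjA g (a u)
        rw [conjA_mul_left]
        congr 1
        have hb : IsBlockIdem (Subgroup.centralizer ({(u : G)} : Set G)) (a u) := by
          rw [← hfa u]; exact isBlockIdem_eA hM (hfu u)
        exact hb.fixed c c.2
    · intro c _ c' _ hcc'
      exact Subtype.ext (mul_left_cancel (congrArg Prod.snd hcc'))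
    · rintro ⟨u', g'⟩ ht
      simp only [Finset.mem_filter, Φ] at ht
      have e1 : g' * (u' : G) * g'⁻¹ = g * u * g⁻¹ := congrArg Prod.fst ht.2
      have e2 : conjA g' (a u') = conjA g (a u) := congrArg Prod.snd ht.2
      obtain ⟨huu, hh⟩ := hinj u u' (g'⁻¹ * g)
        (by rw [show g'⁻¹ * g * (u : G) * (g'⁻¹ * g)⁻¹ = g'⁻¹ * (g * u * g⁻¹) * g' by group, ← e1]
            group)
        (by rw [conjA_mul_left, ← e2, ← conjA_mul_left, inv_mul_cancel, conjA_one_left])
      subst huu
      exact ⟨⟨g⁻¹ * g', by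
        have := inv_mem hh
        rwa [mul_inv_rev, inv_inv] at this⟩, Finset.mem_univ _,
        Prod.ext rfl (mul_inv_cancel_left g g')⟩
  have hsum : ∑ i ∈ I, Nat.card (Subgroup.centralizer ({i.1} : Set G)) =
      (Nat.card P - 1) * Nat.card G := by
    rw [← Finset.sum_congr rfl hfib, ← Finset.card_eq_sum_card_image, hD₀, Finset.card_product,
      Finset.filter_ne', Finset.card_erase_of_mem (Finset.mem_univ _), Finset.card_univ,
      Finset.card_univ, Nat.card_eq_fintype_card, Nat.card_eq_fintype_card]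
  have hlow : ∀ y : G, (I.filter fun i => i.1 = y).card ≤
      LocalCount.localRank p M (Subgroup.centralizer ({y} : Set G)) B := by
    intro y
    have hfin : {b : Set (IrrCharacter (Subgroup.centralizer ({y} : Set G))) |
        IsInducedBlock M (Subgroup.centralizer ({y} : Set G)) b B}.Finite := Set.toFinite _
    rw [LocalCount.localRank, finsum_mem_eq_finite_toFinset_sum _ hfin]
    refine le_trans ?_ (Finset.card_nsmul_le_sum _ _ 1 fun b hb =>
      one_le_blockRank hM (hfin.mem_toFinset.1 hb).1)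
    rw [smul_eq_mul, mul_one]
    refine le_trans (Finset.card_le_card (s := (I.filter fun i => i.1 = y))
      (t := hfin.toFinset.image fun b => (y, eA hM _ b)) ?_) Finset.card_image_le
    intro i hi
    obtain ⟨hiI, rfl⟩ := Finset.mem_filter.1 hi
    obtain ⟨⟨u, g⟩, -, rfl⟩ := Finset.mem_image.1 hiI
    rw [Finset.mem_image]
    simp only [Φ]
    have hK : ∀ k : G, k ∈ Subgroup.centralizer ({g * (u : G) * g⁻¹} : Set G) ↔
        g⁻¹ * k * g ∈ Subgroup.centralizer ({(u : G)} : Set G) := by
      intro k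
      simp only [Subgroup.mem_centralizer_singleton_iff]
      constructor
      · intro hz
        have := congrArg (fun w => g⁻¹ * w * g) hz
        simpa [mul_assoc] using this
      · intro hz
        have := congrArg (fun w => g * w * g⁻¹) hz
        simpa [mul_assoc] using this
    refine ⟨CharCorr.twistIrr (conjEquiv g hK) '' fu u, hfin.mem_toFinset.2 ?_, ?_⟩
    swap
    · rw [← conjA_eA hM g hK, hfa]
    have hQ : Subgroup.zpowers (g * (u : G) * g⁻¹) =
        (Subgroup.zpowers (u : G)).map (MulAut.conj g).toMonoidHom := by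
      rw [MonoidHom.map_zpowers]; rfl
    have hQc : Subgroup.zpowers (g * (u : G) * g⁻¹) ≤ cz (Subgroup.zpowers (g * (u : G) * g⁻¹)) := by
      rw [← centralizer_singleton_eq]
      exact Subgroup.zpowers_le.2 (Subgroup.mem_centralizer_singleton_iff.2 rfl)
    refine induced_of_cover hM (hQ ▸ (hPp.to_le (Subgroup.zpowers_le.2 u.2)).map _) hQc
      (centralizer_singleton_eq _) hB (isPBlock_twist _ (hfu u)) ?_
    rw [← conjA_eA hM g hK, hfa, hQ]
    have hfix : conjA g (eG hM B) = eG hM B :=
      (isBlockIdem_eG hM hB).fixed g (Subgroup.mem_top g)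
    conv_lhs => rw [← hfix]
    rw [← conjA_brMap, ← conjA_mul, hacov u]
  have hcount := LocalCount.card_mul_eq_sum_weight hM hB
  have hIS : ∀ i ∈ I, i.1 ∈ LocalCount.singularPElts p G := by
    intro i hi
    obtain ⟨⟨u, g⟩, hug, rfl⟩ := Finset.mem_image.1 hi
    have hu1 : u ≠ 1 := by simpa [hD₀] using hug
    rw [LocalCount.mem_singularPElts]
    refine ⟨?_, ?_⟩
    · simp only [Φ]
      rw [show g * (u : G) * g⁻¹ = MulAut.conj g (u : G) from rfl, MulEquiv.orderOf_eq,
        Subgroup.orderOf_coe]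
      exact IsPGroup.iff_orderOf.1 hPp u
    · simp only [Φ]
      intro h0
      exact hu1 (Subtype.ext (conj_eq_one_iff.1 h0))
  have hge : ((Nat.card P - 1) * Nat.card G : ℤ) ≤
      (Nat.card G : ℤ) * ((Nat.card B : ℤ) - (blockRank p B : ℤ)) := by
    rw [hcount]
    have hnat : (Nat.card P - 1) * Nat.card G ≤
        ∑ y ∈ LocalCount.singularPElts p G, Nat.card (Subgroup.centralizer ({y} : Set G)) *
          LocalCount.localRank p M (Subgroup.centralizer ({y} : Set G)) B := by
      rw [← hsum, ← Finset.sum_fiberwise_of_maps_to (g := Prod.fst) hIS]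
      refine Finset.sum_le_sum fun y _ => ?_
      rw [Finset.sum_congr rfl fun i hi => by rw [(Finset.mem_filter.1 hi).2], Finset.sum_const,
        smul_eq_mul, mul_comm]
      exact Nat.mul_le_mul_left _ (hlow y)
    have h1 : 1 ≤ Nat.card P := Nat.card_pos
    have h2 : (((Nat.card P - 1) * Nat.card G : ℕ) : ℤ) ≤ _ := Int.ofNat_le.2 hnat
    push_cast [h1] at h2
    simpa only [LocalCount.weight] using h2
  have hG : (0 : ℤ) < Nat.card G := by exact_mod_cast Nat.card_pos
  have h2 : ((Nat.card P : ℤ) - 1) ≤ (Nat.card B : ℤ) - (blockRank p B : ℤ) :=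
    le_of_mul_le_mul_left (by linarith) hG
  have h3 : (Nat.card B : ℤ) ≤ Nat.card P := by exact_mod_cast hup
  omega

/-- A block with cyclic defect group and trivial inertial quotient has rank one. -/
theorem blockRank_eq_one (hM : IsPModular p M) (hB : IsPBlock M B) (hD : IsDefectGroup p M B P)
    (hcyc : IsCyclic P) (he : IsBlockIdem (cz P) e)
    (hcov : brMap (ResK M) P (eG hM B) * e = e)
    (hfree : ∀ g : G, g ∈ Subgroup.normalizer (P : Set G) → conjA g e = e → g ∈ cz P) :
    blockRank p B = 1 :=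
  (rank_and_card hM hB hD hcyc he hcov hfree).1

end CfsgLib.CyclicDefectBound
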