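import Cfsg.Agent.Lib.Blocks.NormalPPrime
import Cfsg.Agent.Lib.Blocks12.Bounds
import Cfsg.Agent.Lib.BlockCover.KnorrCover
import Cfsg.Agent.Lib.Blocks.FirstMain
import Cfsg.Agent.Lib.Characters.NormalRes
import Cfsg.Agent.Lib.Characters.Ramified

/-!
# The characters over an invariant character of a normal `p'`-subgroup

If `K` is a normal `p'`-subgroup, `θ` an invariant irreducible character of `K` and the `p`-regular
classes outside `K` have central characters in the local ideal on the characters over `θ`, then the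
characters over `θ` form one block of full defect.  This applies when `K ≤ L`, `L` is normal,
`L / K` is a `p`-group and the centraliser of a Sylow subgroup of `L` lies in `L`.
-/

set_option autoImplicit false
set_option linter.style.haveILetI false
set_option linter.unusedSectionVars false

namespace CfsgLib.BlockOver

open Cfsg CfsgLib.Characters CfsgLib.Blocks CfsgLib.NormalRes
open scoped ComplexConjugate

universe u

variable {G : Type u} [Group G] [Fintype G] (K : Subgroup G) [hK : K.Normal] [Fintype K]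

/-- `θ` is invariant under conjugation. -/
def IsInvariant (θ : K → ℂ) : Prop :=
  ∀ (g : G) (n : K), θ ⟨g * n * g⁻¹, hK.conj_mem n n.2 g⟩ = θ n

/-- The irreducible characters over `θ`. -/
def overSet (θ : IrrCharacter K) : Set (IrrCharacter G) :=
  {χ | classInner (fun k : K => (χ : G → ℂ) k) (θ : K → ℂ) ≠ 0}

section General

variable {K}
variable {θ : IrrCharacter K} (hinv : IsInvariant K (θ : K → ℂ))

include hinv

theorem res_apply {χ : IrrCharacter G} (hχ : χ ∈ overSet K θ) (k : K) :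
    (χ : G → ℂ) k = (χ : G → ℂ) 1 / (θ : K → ℂ) 1 * (θ : K → ℂ) k := by
  have h := CfsgLib.Ramified.res_eq_smul_of_invariant K χ.2 θ.2 hinv hχ
  have h1 := congrFun h 1
  have hk := congrFun h k
  simp only [Pi.smul_apply, smul_eq_mul, Subgroup.coe_one] at h1 hk
  rw [hk, h1, mul_div_assoc, div_self (irr_one_ne_zero θ), mul_one]

theorem res_congr {χ χ' : IrrCharacter G} (hχ : χ ∈ overSet K θ) (hχ' : χ' ∈ overSet K θ)
    {g : G} (hg : g ∈ K) : centralChar (χ : G → ℂ) g = centralChar (χ' : G → ℂ) g := by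
  have h := fun {ψ : IrrCharacter G} (hψ : ψ ∈ overSet K θ) => res_apply hinv hψ ⟨g, hg⟩
  have h0 := irr_one_ne_zero θ
  have h1 := irr_one_ne_zero χ
  have h2 := irr_one_ne_zero χ'
  simp only [centralChar]
  rw [h hχ, h hχ']
  field_simp

/-- The idempotent coefficient of the characters over `θ`. -/
theorem blockCoeff_overSet (g : G) :
    blockCoeff (overSet K θ) g =
      (Nat.card G : ℂ)⁻¹ * ((θ : K → ℂ) 1 * conj (indFun K (θ : K → ℂ) g)) := by
  classical
  rw [blockCoeff_eq_sum, indFun_eq_sum K θ, Finset.sum_apply, map_sum]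
  congr 1
  rw [Finset.mul_sum]
  rw [← Finset.sum_subset (Finset.subset_univ (Finset.univ.filter (· ∈ overSet K θ)))
    (f := fun χ : IrrCharacter G => (θ : K → ℂ) 1 *
      conj ((mult K (χ : G → ℂ) θ • (χ : G → ℂ)) g))]
  · refine Finset.sum_congr rfl fun χ hχ => ?_
    have hover : χ ∈ overSet K θ := (Finset.mem_filter.1 hχ).2
    obtain ⟨m, hm⟩ := mult_nat K (irr_isCharacter χ) θ
    have h := congrFun (CfsgLib.Ramified.res_eq_smul_of_invariant K χ.2 θ.2 hinv hover) 1
    simp only [Pi.smul_apply, smul_eq_mul, Subgroup.coe_one] at h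
    rw [h, show classInner (fun n : K => (χ : G → ℂ) n) (θ : K → ℂ) = mult K (χ : G → ℂ) θ
      from rfl, Pi.smul_apply, smul_eq_mul, hm, map_mul, Complex.conj_natCast]
    ring
  · intro χ _ hχ
    have : mult K (χ : G → ℂ) θ = 0 := by
      by_contra h0
      exact hχ (Finset.mem_filter.2 ⟨Finset.mem_univ _, h0⟩)
    simp [this]

theorem blockCoeff_of_notMem {g : G} (hg : g ∉ K) : blockCoeff (overSet K θ) g = 0 := by
  rw [blockCoeff_overSet hinv, CfsgLib.Induction.indFun_normal_eq_zero K hg]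
  simp

theorem blockCoeff_of_mem (k : K) :
    blockCoeff (overSet K θ) (k : G) =
      (θ : K → ℂ) 1 * conj ((θ : K → ℂ) k) / (Nat.card K : ℂ) := by
  rw [blockCoeff_overSet hinv, CfsgLib.Induction.indFun_normal_apply K,
    Finset.sum_congr rfl fun x _ => hinv x k, Finset.sum_const, Finset.card_univ, nsmul_eq_mul,
    ← Nat.card_eq_fintype_card]
  have hG : (Nat.card G : ℂ) ≠ 0 := by simp
  simp only [map_mul, map_inv₀, Complex.conj_natCast]
  field_simp

theorem sum_degree_sq :
    ∑ᶠ χ ∈ overSet K θ, charDegree (χ : G → ℂ) ^ 2 =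
      K.index * charDegree (θ : K → ℂ) ^ 2 := by
  classical
  rw [finsum_mem_eq_finite_toFinset_sum _ (Set.toFinite _)]
  have h := blockCoeff_of_mem hinv 1
  rw [Subgroup.coe_one, blockCoeff_eq_sum] at h
  simp only [CfsgLib.CharCorr.irr_one_eq_charDegree, Complex.conj_natCast] at h
  have hG : (Nat.card G : ℂ) = (Nat.card K : ℂ) * (K.index : ℂ) := by
    rw [← Nat.cast_mul, Subgroup.card_mul_index]
  have hK0 : (Nat.card K : ℂ) ≠ 0 := by simp
  have hI0 : (K.index : ℂ) ≠ 0 := by simp [Subgroup.FiniteIndex.index_ne_zero]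
  rw [hG] at h
  field_simp at h
  have e : (Set.toFinite (overSet K θ)).toFinset = Finset.univ.filter (· ∈ overSet K θ) := by
    ext χ; simp
  rw [e]
  have h2 : ((∑ χ ∈ Finset.univ.filter (· ∈ overSet K θ), charDegree (χ : G → ℂ) ^ 2 : ℕ) : ℂ) =
      ((K.index * charDegree (θ : K → ℂ) ^ 2 : ℕ) : ℂ) := by
    push_cast
    simp only [pow_two] at h ⊢
    linear_combination h
  exact_mod_cast h2

variable {p : ℕ} {M : Ideal AlgInt}

/-- The characters over `θ` form a block when the `p`-regular classes outside `K` vanish modulo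
`M`. -/
theorem isPBlock_overSet (hM : IsPModular p M) (hKp : ¬ p ∣ Nat.card K)
    (hvan : ∀ χ ∈ overSet K θ, ∀ g : G, g ∉ K → ¬ p ∣ orderOf g →
      MemLocalIdeal M (centralChar (χ : G → ℂ) g)) :
    IsPBlock M (overSet K θ) := by
  classical
  obtain ⟨χ₀, hχ₀⟩ := exists_mult_ne_zero_of_irr (G := G) K θ
  have hχ₀' : χ₀ ∈ overSet K θ := hχ₀
  suffices h : overSet K θ = blockOf M (χ₀ : G → ℂ) from h ▸ isPBlock_blockOf χ₀
  refine Set.Subset.antisymm (fun ψ hψ => ?_) fun ψ hψ =>
    constituent_of_sameBlock hM hKp hψ θ hχ₀'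
  by_contra hne
  have h1 := sum_blockCoeff_mul_centralChar (mem_blockOf_self hM χ₀)
  have h2 := omega_eq_sum_classes ψ (blockIdem_mem_center (blockOf M (χ₀ : G → ℂ)))
  rw [omega_blockIdem, if_neg hne] at h2
  simp only [coeff_blockIdem] at h2
  apply not_memLocalIdeal_one hM
  rw [show (1 : ℂ) = 1 - 0 from (sub_zero _).symm, ← h1, h2, ← Finset.sum_sub_distrib]
  refine MemLocalIdeal.sum hM _ fun c _ => ?_
  have hB : IsPBlock M (blockOf M (χ₀ : G → ℂ)) := isPBlock_blockOf χ₀
  rw [← mul_sub]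
  by_cases hc : c.out ∈ K
  · rw [res_congr hinv hχ₀' hψ hc, sub_self, mul_zero]
    exact memLocalIdeal_zero hM
  by_cases hp : p ∣ orderOf c.out
  · rw [blockCoeff_eq_zero_of_singular hM hB hp, zero_mul]
    exact memLocalIdeal_zero hM
  · exact MemLocalIdeal.mul_left hM (memLocalRing_blockCoeff hM hB _)
      (MemLocalIdeal.sub hM (hvan χ₀ hχ₀' _ hc hp) (hvan ψ hψ _ hc hp))

theorem blockDefect_overSet (hM : IsPModular p M) (hKp : ¬ p ∣ Nat.card K)
    (hB : IsPBlock M (overSet K θ)) :
    blockDefect p (overSet K θ) = (Nat.card G).factorization p := by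
  classical
  have h := CfsgLib.Contribution.sum_sq_valuation hM hB
  rw [sum_degree_sq hinv] at h
  have hd : ¬ p ∣ charDegree (θ : K → ℂ) := fun hd =>
    hKp (hd.trans (CfsgLib.CharCorr.charDegree_irr_dvd_card θ))
  have hd0 : charDegree (θ : K → ℂ) ≠ 0 := fun h0 => hd (h0 ▸ dvd_zero p)
  have hi : K.index.factorization p = (Nat.card G).factorization p := by
    rw [← Subgroup.card_mul_index K, Nat.factorization_mul (by simp)
      Subgroup.FiniteIndex.index_ne_zero, Finsupp.add_apply,
      Nat.factorization_eq_zero_of_not_dvd hKp, zero_add]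
  rw [Nat.factorization_mul Subgroup.FiniteIndex.index_ne_zero (pow_ne_zero 2 hd0),
    Finsupp.add_apply, Nat.factorization_pow, Finsupp.smul_apply, hi,
    Nat.factorization_eq_zero_of_not_dvd hd] at h
  have hle : blockDefect p (overSet K θ) ≤ (Nat.card G).factorization p := Nat.sub_le _ _
  simp only [smul_zero, add_zero] at h
  omega

theorem isDefectGroup_sylow [hp : Fact p.Prime] (hM : IsPModular p M) (hKp : ¬ p ∣ Nat.card K)
    (hB : IsPBlock M (overSet K θ)) (S : Sylow p G) :
    IsDefectGroup p M (overSet K θ) S := by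
  obtain ⟨D, hD⟩ := exists_isDefectGroup hM hB
  have hc := CfsgLib.BlockCover.natCard_defect hM hB hD
  rw [blockDefect_overSet hinv hM hKp hB] at hc
  obtain ⟨t, ht⟩ := MulAction.exists_smul_eq G (Sylow.ofCard D hc) S
  rw [← ht, Sylow.coe_subgroup_smul, Subgroup.pointwise_smul_def]
  exact CfsgLib.BlockCover.isDefectGroup_conj hM hB hD t

end General

section Constrained

variable {G : Type u} [Group G] [Fintype G] {K : Subgroup G} [hK : K.Normal] [Fintype K]
variable {θ : IrrCharacter K} (hinv : IsInvariant K (θ : K → ℂ))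
variable {p : ℕ} [hp : Fact p.Prime] {M : Ideal AlgInt}

theorem mem_of_regular {L : Subgroup G} (hLp : ∀ x ∈ L, ∃ k : ℕ, x ^ p ^ k ∈ K) {g : G}
    (hg : g ∈ L) (hgp : ¬ p ∣ orderOf g) : g ∈ K := by
  obtain ⟨k, hk⟩ := hLp g hg
  obtain ⟨m, hm⟩ := exists_pow_eq_self_of_coprime (x := g) (n := p ^ k)
    (Nat.Coprime.pow_left k ((Nat.Prime.coprime_iff_not_dvd hp.out).2 hgp))
  exact hm ▸ pow_mem hk m

include hinv

/-- A constituent over `θ` on an intermediate normal subgroup. -/
theorem exists_constituent_over {L : Subgroup G} [L.Normal] [Fintype L] (hKL : K ≤ L)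
    [Fintype (K.subgroupOf L)] {χ : IrrCharacter G} (hχ : χ ∈ overSet K θ) :
    ∃ ψ : IrrCharacter L, classInner (fun n : L => (χ : G → ℂ) n) (ψ : L → ℂ) ≠ 0 ∧
      ψ ∈ overSet (K.subgroupOf L)
        (CfsgLib.CharCorr.twistIrr (Subgroup.subgroupOfEquivOfLe hKL) θ) := by
  classical
  set e := Subgroup.subgroupOfEquivOfLe hKL
  set θ' := CfsgLib.CharCorr.twistIrr e θ
  by_contra hcon
  push Not at hcon
  apply hχ
  have h := CfsgLib.CharCorr.classInner_comp_equiv e (fun k : K => (χ : G → ℂ) k) (θ : K → ℂ)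
  rw [← h]
  have hfun : (fun k : K => (χ : G → ℂ) k) ∘ e =
      ∑ ψ : IrrCharacter L, mult L (χ : G → ℂ) ψ • fun k : K.subgroupOf L => (ψ : L → ℂ) k := by
    funext k
    simp only [Function.comp_apply, Finset.sum_apply, Pi.smul_apply, smul_eq_mul]
    exact res_eq_sum L (irr_isClassFunction χ) (k : L)
  rw [hfun, classInner_sum_left]
  refine Finset.sum_eq_zero fun ψ _ => ?_
  rw [classInner_smul_left]
  by_cases h0 : mult L (χ : G → ℂ) ψ = 0
  · rw [h0, zero_mul]
  · have := hcon ψ h0
    simp only [overSet, Set.mem_setOf_eq, not_not] at this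
    rw [show (θ : K → ℂ) ∘ e = (θ' : K.subgroupOf L → ℂ) from rfl, this, mul_zero]

/-- Constrained case: `L / K` is a `p`-group and centralisers of Sylow subgroups of `L` lie in
`L`. -/
theorem centralChar_mem_ideal (hM : IsPModular p M) (hKp : ¬ p ∣ Nat.card K) {L : Subgroup G}
    [L.Normal] (hKL : K ≤ L) (hLp : ∀ x ∈ L, ∃ k : ℕ, x ^ p ^ k ∈ K)
    (hC : ∀ S : Sylow p L,
      Subgroup.centralizer (((S : Subgroup L).map L.subtype : Subgroup G) : Set G) ≤ L)
    {χ : IrrCharacter G} (hχ : χ ∈ overSet K θ) {g : G} (hgK : g ∉ K) (hgp : ¬ p ∣ orderOf g) :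
    MemLocalIdeal M (centralChar (χ : G → ℂ) g) := by
  classical
  haveI : Fintype L := Fintype.ofFinite _
  haveI : Fintype (K.subgroupOf L) := Fintype.ofFinite _
  set e := Subgroup.subgroupOfEquivOfLe hKL
  set θ' := CfsgLib.CharCorr.twistIrr e θ
  have hinv' : IsInvariant (K.subgroupOf L) (θ' : K.subgroupOf L → ℂ) := fun x n =>
    hinv (x : G) (e n)
  have hKp' : ¬ p ∣ Nat.card (K.subgroupOf L) := by rwa [Nat.card_congr e.toEquiv]
  set b := overSet (K.subgroupOf L) θ'
  have hb : IsPBlock M b := isPBlock_overSet hinv' hM hKp' fun _ _ x hx hxp => by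
    refine absurd ?_ hx
    rw [Subgroup.mem_subgroupOf]
    exact mem_of_regular hLp x.2 (by rwa [Subgroup.orderOf_coe])
  obtain ⟨ψ, hcov, hψ⟩ := exists_constituent_over hinv hKL hχ
  have hbinv : ∀ x : G, ∀ φ ∈ b, CfsgLib.CharCorr.conjIrr L x φ ∈ b := by
    intro x φ hφ
    show classInner _ _ ≠ 0
    have hfun : (fun k : K.subgroupOf L => (CfsgLib.CharCorr.conjIrr L x φ : L → ℂ) k) =
        fun k : K.subgroupOf L => (φ : L → ℂ) k := by
      funext k
      rw [CfsgLib.CharCorr.conjIrr_apply]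
      have hk : (⟨x * (k : L) * x⁻¹, (inferInstance : L.Normal).conj_mem _ (k : L).2 x⟩ : L) ∈
          K.subgroupOf L :=
        Subgroup.mem_subgroupOf.2 (hK.conj_mem _ (Subgroup.mem_subgroupOf.1 k.2) x)
      rw [show (φ : L → ℂ) _ = (φ : L → ℂ) ((⟨_, hk⟩ : K.subgroupOf L) : L) from rfl,
        res_apply hinv' hφ, res_apply hinv' hφ]
      congr 1
      exact hinv x (e k)
    rw [hfun]
    exact hφ
  by_contra hg
  set B := blockOf M (χ : G → ℂ)
  have hB : IsPBlock M B := isPBlock_blockOf χ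
  obtain ⟨D, hD⟩ := exists_isDefectGroup hM hB
  obtain ⟨x, hgx, hxD, -⟩ :=
    exists_conj_centralizer_of_centralChar hM hB hD (mem_blockOf_self hM χ) hg
  obtain ⟨hDb, -⟩ := CfsgLib.BlockCover.isDefectGroup_inter_of_invariant L hM hB hb
    (mem_blockOf_self hM χ) hψ hcov hbinv hD
  have hc := CfsgLib.BlockCover.natCard_defect hM hb hDb
  rw [blockDefect_overSet hinv' hM hKp' hb] at hc
  have hxL : x ∈ L := by
    refine hC (Sylow.ofCard _ hc) (Subgroup.centralizer_le ?_ hxD)
    rintro _ ⟨y, hy, rfl⟩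
    exact (Subgroup.mem_subgroupOf.1 hy).1
  obtain ⟨c, hc'⟩ := isConj_iff.1 hgx.symm
  exact hgK (mem_of_regular hLp (hc' ▸ (inferInstance : L.Normal).conj_mem x hxL c) hgp)

/-- In the constrained case the characters over `θ` form one block. -/
theorem isPBlock_of_constrained (hM : IsPModular p M) (hKp : ¬ p ∣ Nat.card K) {L : Subgroup G}
    [L.Normal] (hKL : K ≤ L) (hLp : ∀ x ∈ L, ∃ k : ℕ, x ^ p ^ k ∈ K)
    (hC : ∀ S : Sylow p L,
      Subgroup.centralizer (((S : Subgroup L).map L.subtype : Subgroup G) : Set G) ≤ L) :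
    IsPBlock M (overSet K θ) :=
  isPBlock_overSet hinv hM hKp fun _ hχ _ hgK hgp =>
    centralChar_mem_ideal hinv hM hKp hKL hLp hC hχ hgK hgp

end Constrained

end CfsgLib.BlockOver
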