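import Cfsg.Agent.Lib.BrauerPairs.Bridge
import Cfsg.Agent.Lib.Blocks.PairsAlgebra
import Mathlib.LinearAlgebra.Lagrange

/-!
# Blocks and a normal `p`-subgroup

The idempotent of a block is supported, exactly and not only modulo `M`, on the centraliser of a
normal `p`-subgroup; the block over a block of that centraliser is the trace of the latter.
-/

set_option autoImplicit false
set_option linter.style.haveILetI false
set_option linter.unusedSectionVars false

namespace CfsgLib.BlockNormalP

open Cfsg MonoidAlgebra CfsgLib.Blocks CfsgLib.BrauerPairs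

variable {p : ℕ} {M : Ideal AlgInt}

section Exact

variable {G : Type*} [Group G] [Fintype G]

/-- If the coefficients of a block idempotent vanish modulo `M` outside a normal subgroup then
they vanish. -/
theorem blockCoeff_eq_zero_of_congr (hM : IsPModular p M) {B : Set (IrrCharacter G)}
    (hB : IsPBlock M B) (H : Subgroup G) [H.Normal]
    (hcong : ∀ g, g ∉ H → MemLocalIdeal M (blockCoeff B g)) {g : G} (hg : g ∉ H) :
    blockCoeff B g = 0 := by
  classical
  set c : G → ℂ := fun x => if x ∈ H then blockCoeff B x else 0 with hc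
  have hcl : ∀ a x, c (a * x * a⁻¹) = c x := fun a x => by
    have : a * x * a⁻¹ ∈ H ↔ x ∈ H :=
      ⟨fun h => by simpa [mul_assoc] using Subgroup.Normal.conj_mem ‹H.Normal› _ h a⁻¹,
        fun h => Subgroup.Normal.conj_mem ‹H.Normal› x h a⟩
    simp only [c, this, CfsgLib.Blocks.blockCoeff_conj]
  set z := CfsgLib.Blocks.ofFun c with hz
  have hzc : z ∈ Subalgebra.center ℂ (MonoidAlgebra ℂ G) := ofFun_mem_center hcl
  have hzs : z ∈ suppAlg ℂ H := fun x hx => by
    by_contra h
    exact hx (by simp [z, c, if_neg (show x ∉ H from h)])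
  have hdiff : ∀ x, MemLocalIdeal M ((blockIdem B - z).coeff x) := fun x => by
    simp only [coeff_sub, Finsupp.sub_apply, coeff_blockIdem, z, CfsgLib.Blocks.coeff_ofFun, c]
    by_cases hx : x ∈ H
    · simpa [hx] using memLocalIdeal_zero hM
    · simpa [hx] using hcong x hx
  have hω : ∀ χ : IrrCharacter G,
      MemLocalIdeal M ((if χ ∈ B then 1 else 0) - omega (χ : G → ℂ) z) := by
    intro χ
    rw [← omega_blockIdem B χ, ← map_sub,
      omega_eq_sum_classes χ (Subalgebra.sub_mem _ (blockIdem_mem_center B) hzc)]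
    exact MemLocalIdeal.sum hM _ fun _ _ =>
      MemLocalIdeal.mul_right hM (hdiff _) (centralChar_mem_lRing hM χ _)
  set S := Finset.univ.image (fun χ : IrrCharacter G => omega (χ : G → ℂ) z)
  set r : ℂ → ℂ := fun v => if ∃ χ ∈ B, omega (χ : G → ℂ) z = v then 1 else 0
  set Q := Lagrange.interpolate S id r
  have hQ : ∀ χ : IrrCharacter G,
      Q.eval (omega (χ : G → ℂ) z) = if χ ∈ B then 1 else 0 := by
    intro χ
    have h0 : Q.eval (omega (χ : G → ℂ) z) = r (omega (χ : G → ℂ) z) :=
      Lagrange.eval_interpolate_at_node (s := S) (v := id) (i := omega (χ : G → ℂ) z) r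
        Function.injective_id.injOn
        (Finset.mem_image_of_mem (fun χ : IrrCharacter G => omega (χ : G → ℂ) z) (Finset.mem_univ χ))
    rw [h0]
    by_cases hχ : χ ∈ B
    · rw [if_pos hχ]; exact if_pos ⟨χ, hχ, rfl⟩
    · rw [if_neg hχ]
      refine if_neg ?_
      rintro ⟨ψ, hψ, he⟩
      apply not_memLocalIdeal_one hM
      have h1 := hω ψ
      have h2 := hω χ
      rw [if_pos hψ, he] at h1
      rw [if_neg hχ, zero_sub] at h2
      simpa using MemLocalIdeal.sub hM h1 h2
  have hmem : Polynomial.aeval z Q ∈ suppAlg ℂ H := by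
    have := (Polynomial.aeval (⟨z, hzs⟩ : suppAlg ℂ H) Q).2
    rwa [Polynomial.aeval_subalgebra_coe] at this
  set w : Subalgebra.center ℂ (MonoidAlgebra ℂ G) := Polynomial.aeval ⟨z, hzc⟩ Q
  have hw : (w : MonoidAlgebra ℂ G) = Polynomial.aeval z Q := Polynomial.aeval_subalgebra_coe _ _ _
  have heq : (w : MonoidAlgebra ℂ G) = blockIdem B := by
    refine central_ext w.2 (blockIdem_mem_center B) fun χ => ?_
    rw [omega_blockIdem, ← hQ χ, ← omegaAlgHom_apply χ w]
    exact (Polynomial.aeval_algHom_apply (omegaAlgHom χ) _ Q).symm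
  rw [← coeff_blockIdem B g, ← heq, hw]
  exact coeff_eq_zero_of_mem_suppAlg hmem hg

/-- The block idempotent of a block is supported on the centraliser of a normal `p`-subgroup. -/
theorem blockCoeff_eq_zero (hM : IsPModular p M) [Fact p.Prime] (P : Subgroup G) [P.Normal]
    (hP : IsPGroup p P) {B : Set (IrrCharacter G)} (hB : IsPBlock M B) {g : G}
    (hg : g ∉ Subgroup.centralizer (P : Set G)) : blockCoeff B g = 0 := by
  haveI : M.IsMaximal := hM.2.1
  have := charP_res hM
  refine blockCoeff_eq_zero_of_congr hM hB (Subgroup.centralizer (P : Set G)) (fun x hx => ?_) hg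
  have hb := isBlockIdem_eG hM hB
  have hN : Subgroup.normalizer (P : Set G) = ⊤ := Subgroup.normalizer_eq_top _
  have hkey : BlockAlg.br P (eG hM B) = eG hM B := by
    refine BlockAlg.br_idempotent_eq (k := ResK M) (p := p) (CharP.cast_eq_zero _ p) hP
      (T := ⊤) (by rw [hN]) le_top ⟨BlockAlg.suppIn_top _, ?_⟩ hb.idem le_top
    exact mem_fixAlg_iff_coeff.1 hb.fixed
  have h0 : (eG hM B).coeff x = 0 := by
    rw [← hkey]; exact BlockAlg.suppIn_br P _ x hx
  rw [eG, coeff_redFun hM (blockCoeff_mem hM hB x)] at h0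
  exact (resK_eq_zero_iff hM _).1 h0

end Exact

section Below

variable {K : Type*} [Group K] [Fintype K]

theorem blockIdem_injective {A A' : Set (IrrCharacter K)} (h : blockIdem A = blockIdem A') :
    A = A' := by
  classical
  ext χ
  have := congrArg (omega (χ : K → ℂ)) h
  rw [omega_blockIdem, omega_blockIdem] at this
  by_cases h1 : χ ∈ A <;> by_cases h2 : χ ∈ A' <;> simp [h1, h2] at this ⊢

theorem exists_eq_blockIdem {z : MonoidAlgebra ℂ K}
    (hz : z ∈ Subalgebra.center ℂ (MonoidAlgebra ℂ K)) (hid : z * z = z) :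
    ∃ A : Set (IrrCharacter K), z = blockIdem A := by
  classical
  refine ⟨{χ | omega (χ : K → ℂ) z = 1}, eq_blockIdem hz fun χ => ?_⟩
  have h := omega_mul χ hz z
  rw [hid] at h
  by_cases h1 : omega (χ : K → ℂ) z = 1
  · simp [h1]
  · rw [if_neg (by simpa using h1)]
    by_contra h0
    exact h1 (mul_left_cancel₀ h0 (by rw [← h, mul_one]))

theorem exists_block_le (hM : IsPModular p M) {z : MonoidAlgebra ℂ K}
    (hz : z ∈ Subalgebra.center ℂ (MonoidAlgebra ℂ K)) (hid : z * z = z)
    (hR : ∀ x, MemLocalRing M (z.coeff x)) (h0 : z ≠ 0) :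
    ∃ E : Set (IrrCharacter K), IsPBlock M E ∧ blockIdem E * z = blockIdem E := by
  obtain ⟨A, rfl⟩ := exists_eq_blockIdem hz hid
  obtain ⟨χ, hχ⟩ : A.Nonempty := by
    rw [Set.nonempty_iff_ne_empty]
    rintro rfl
    exact h0 blockIdem_empty
  refine ⟨blockOf M (χ : K → ℂ), isPBlock_blockOf χ, ?_⟩
  rw [blockIdem_mul, Set.inter_eq_left.2
    (blockOf_subset_of_coeff hM (fun g => by simpa using hR g) hχ)]

theorem eq_of_below (hM : IsPModular p M) {z : MonoidAlgebra ℂ K}
    (hz : z ∈ Subalgebra.center ℂ (MonoidAlgebra ℂ K)) (hid : z * z = z)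
    (hR : ∀ x, MemLocalRing M (z.coeff x)) (h0 : z ≠ 0) {f : Set (IrrCharacter K)}
    (hf : IsPBlock M f) (hzf : z * blockIdem f = z) : z = blockIdem f := by
  obtain ⟨A, rfl⟩ := exists_eq_blockIdem hz hid
  obtain ⟨χ, hχ⟩ : A.Nonempty := by
    rw [Set.nonempty_iff_ne_empty]
    rintro rfl
    exact h0 blockIdem_empty
  rw [blockIdem_mul] at hzf
  have hAf : A ⊆ f := Set.inter_eq_left.1 (blockIdem_injective hzf)
  have hfA : f ⊆ A := by
    rw [IsPBlock.eq_blockOf hM hf (hAf hχ)]
    exact blockOf_subset_of_coeff hM (fun g => by simpa using hR g) hχ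
  rw [Set.Subset.antisymm hAf hfA]

theorem blockIdem_ne_zero (hM : IsPModular p M) {f : Set (IrrCharacter K)} (hf : IsPBlock M f) :
    blockIdem f ≠ 0 := by
  classical
  obtain ⟨χ, hχ⟩ := IsPBlock.nonempty hM hf
  intro h
  have := congrArg (omega (χ : K → ℂ)) h
  rw [omega_blockIdem, if_pos hχ, map_zero] at this
  exact one_ne_zero this

theorem coeff_mul_memLocalRing (hM : IsPModular p M) {a b : MonoidAlgebra ℂ K}
    (ha : ∀ x, MemLocalRing M (a.coeff x)) (hb : ∀ x, MemLocalRing M (b.coeff x)) (x : K) :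
    MemLocalRing M ((a * b).coeff x) :=
  haveI : M.IsMaximal := hM.2.1
  coeff_mul_mem hM ha hb x

end Below

section Cover

variable {G : Type*} [Group G] [Fintype G]

/-- The idempotent of a set of characters of a subgroup, inside the complex algebra of `G`. -/
noncomputable def subIdem (K : Subgroup G) (f : Set (IrrCharacter K)) : MonoidAlgebra ℂ G :=
  CfsgLib.Blocks.ofFun (subgroupBlockCoeff K f)

theorem subIdem_eq_inclA (K : Subgroup G) [Fintype K] (f : Set (IrrCharacter K)) :
    subIdem K f = inclA ℂ K (blockIdem f) := by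
  ext x
  by_cases hx : x ∈ K
  · exact (subgroupBlockCoeff_coe K f ⟨x, hx⟩).trans
      (((coeff_inclA (blockIdem f) ⟨x, hx⟩).trans (coeff_blockIdem f _)).symm) |>.trans rfl |>
      (fun h => (CfsgLib.Blocks.coeff_ofFun _ x).trans h)
  · rw [subIdem, CfsgLib.Blocks.coeff_ofFun, subgroupBlockCoeff_notMem f hx,
      coeff_inclA_of_notMem _ hx]

variable (P : Subgroup G) [P.Normal]

theorem mem_normalizer_centralizer (x : G) :
    x ∈ Subgroup.normalizer (Subgroup.centralizer (P : Set G) : Set G) := by
  rw [Subgroup.normalizer_eq_top]; exact Subgroup.mem_top x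

theorem conjA_subIdem (e : Set (IrrCharacter (Subgroup.centralizer (P : Set G)))) (x : G) :
    conjA x (subIdem _ e) = subIdem _ (CharCorr.twistIrr
      (conjEquiv x (mem_normalizer_conj_iff (mem_normalizer_centralizer P x))) '' e) := by
  ext g
  rw [coeff_conjA, subIdem, subIdem, CfsgLib.Blocks.coeff_ofFun, CfsgLib.Blocks.coeff_ofFun]
  exact (subgroupBlockCoeff_twist x _ e g).symm

theorem stabilizes_iff_conjA_subIdem (e : Set (IrrCharacter (Subgroup.centralizer (P : Set G))))
    (x : G) :
    StabilizesBlock (Subgroup.centralizer (P : Set G)) e x ↔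
      conjA x (subIdem _ e) = subIdem _ e := by
  rw [stabilizesBlock_iff e (mem_normalizer_centralizer P x), conjA_subIdem P e x]
  refine ⟨fun h => by rw [h], fun h => ?_⟩
  haveI := Fintype.ofFinite (Subgroup.centralizer (P : Set G))
  rw [subIdem_eq_inclA, subIdem_eq_inclA] at h
  exact blockIdem_injective (inclA_injective _ h)

theorem conjA_coeff_mem {a : MonoidAlgebra ℂ G} (ha : ∀ x, MemLocalRing M (a.coeff x)) (g x : G) :
    MemLocalRing M ((conjA g a).coeff x) := by
  rw [coeff_conjA]; exact ha _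

/-- The block over a block of the centraliser of a normal `p`-subgroup is its trace. -/
theorem cover (hM : IsPModular p M) [Fact p.Prime] (hP : IsPGroup p P)
    (B : Set (IrrCharacter G)) (e : Set (IrrCharacter (Subgroup.centralizer (P : Set G))))
    (hBe : IsBrauerPairOf p M B P e) (T : Subgroup G)
    (hT : ∀ x : G, x ∈ T ↔ StabilizesBlock (Subgroup.centralizer (P : Set G)) e x)
    (huniq : ∀ B' : Set (IrrCharacter G), IsBrauerPairOf p M B' P e → B' = B) :
    (∃ E : Set (IrrCharacter T), IsPBlock M E ∧ ∀ t : T,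
        blockCoeff E t = subgroupBlockCoeff (Subgroup.centralizer (P : Set G)) e (t : G)) ∧
      ∀ g : G, blockCoeff B g = (Nat.card T : ℂ)⁻¹ *
        ∑ x : G, subgroupBlockCoeff (Subgroup.centralizer (P : Set G)) e (x⁻¹ * g * x) := by
  classical
  haveI : M.IsMaximal := hM.2.1
  letI := Fintype.ofFinite (Subgroup.centralizer (P : Set G))
  letI := Fintype.ofFinite T
  have he : IsPBlock M e := hBe.1.2
  set c := subIdem (Subgroup.centralizer (P : Set G)) e with hc
  have hcI : c = inclA ℂ (Subgroup.centralizer (P : Set G)) (blockIdem e) := subIdem_eq_inclA (Subgroup.centralizer (P : Set G)) e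
  have hcid : c * c = c := by rw [hcI, ← map_mul, isIdempotentElem_blockIdem e]
  have hcs : c ∈ suppAlg ℂ (Subgroup.centralizer (P : Set G)) := hcI ▸ inclA_mem_suppAlg _
  have hcR : ∀ x, MemLocalRing M (c.coeff x) := fun x => by
    rw [hc, subIdem, CfsgLib.Blocks.coeff_ofFun]
    exact subgroupBlockCoeff_mem hM he x
  have hT' : ∀ x, x ∈ T ↔ conjA x c = c := fun x =>
    (hT x).trans (stabilizes_iff_conjA_subIdem P e x)
  have hCT : (Subgroup.centralizer (P : Set G)) ≤ T := fun x hx => (hT' x).2 (by
    rw [hc, subIdem]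
    ext g
    rw [coeff_conjA, CfsgLib.Blocks.coeff_ofFun, CfsgLib.Blocks.coeff_ofFun]
    simpa using subgroupBlockCoeff_conj (Subgroup.centralizer (P : Set G)) e ((Subgroup.centralizer (P : Set G)).inv_mem hx) g)
  have hcT : c ∈ suppAlg ℂ T := suppAlg_mono hCT hcs
  have hcne : c ≠ 0 := by
    rw [hcI]
    exact fun h => blockIdem_ne_zero hM he (inclA_injective (Subgroup.centralizer (P : Set G)) (h.trans (map_zero _).symm))
  -- elements supported on `(Subgroup.centralizer (P : Set G))`, below `c`, invariant under `(Subgroup.centralizer (P : Set G))`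
  have hbelow : ∀ z : MonoidAlgebra ℂ G, z ∈ suppAlg ℂ (Subgroup.centralizer (P : Set G)) → z ∈ fixAlg ℂ (Subgroup.centralizer (P : Set G)) → z * z = z →
      (∀ x, MemLocalRing M (z.coeff x)) → z ≠ 0 → z * c = z → z = c := by
    intro z hzs hzf hzid hzR hz0 hzc
    have hzi : inclA ℂ (Subgroup.centralizer (P : Set G)) (restrA ℂ (Subgroup.centralizer (P : Set G)) z) = z := inclA_restrA hzs
    rw [← hzi, hcI]
    refine congrArg (inclA ℂ (Subgroup.centralizer (P : Set G))) (eq_of_below hM ?_ ?_ (fun x => ?_) ?_ he ?_)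
    · rw [mem_center_iff_coeff]
      intro g h
      rw [coeff_restrA, coeff_restrA]
      exact mem_fixAlg_iff_coeff.1 hzf h h.2 g
    · apply inclA_injective (Subgroup.centralizer (P : Set G))
      rw [map_mul, hzi, hzid]
    · rw [coeff_restrA]; exact hzR _
    · intro h
      rw [h, map_zero] at hzi
      exact hz0 hzi.symm
    · apply inclA_injective (Subgroup.centralizer (P : Set G))
      rw [map_mul, hzi, ← hcI, hzc]
  -- the block of `T`
  set zT := restrA ℂ T c
  have hzTi : inclA ℂ T zT = c := inclA_restrA hcT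
  have hzTc : zT ∈ Subalgebra.center ℂ (MonoidAlgebra ℂ T) := by
    rw [mem_center_iff_coeff]
    intro g h
    rw [coeff_restrA, coeff_restrA]
    exact (mem_fixAlg_iff_coeff (H := T)).1 (fun x hx => (hT' x).1 hx) h h.2 g
  have hzTid : zT * zT = zT := inclA_injective T (by rw [map_mul, hzTi, hcid])
  obtain ⟨E, hE, hEz⟩ := exists_block_le hM hzTc hzTid (fun x => by
    rw [coeff_restrA]; exact hcR _) (fun h => hcne (by rw [← hzTi, h, map_zero]))
  have hEeq : inclA ℂ T (blockIdem E) = c := by
    refine hbelow _ ?_ ?_ ?_ ?_ ?_ ?_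
    · intro x hx
      by_contra hxC
      apply hx
      by_cases hxT : x ∈ T
      · rw [show x = ((⟨x, hxT⟩ : T) : G) from rfl, coeff_inclA, coeff_blockIdem]
        haveI : (P.subgroupOf T).Normal := Subgroup.Normal.subgroupOf ‹P.Normal› T
        have hPp : IsPGroup p (P.subgroupOf T) := hP.comap_subtype
        refine blockCoeff_eq_zero hM (P.subgroupOf T) hPp hE fun h => hxC ?_
        rw [Subgroup.mem_centralizer_iff]
        intro u hu
        have hPT : P ≤ T := fun v hv => (hT' v).2 (fixed_of_supp_cz (R := P) hcs v hv)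
        exact congrArg Subtype.val
          (Subgroup.mem_centralizer_iff.1 h ⟨u, hPT hu⟩ (Subgroup.mem_subgroupOf.2 hu))
      · exact coeff_inclA_of_notMem _ hxT
    · refine fixAlg_anti hCT ((inclA_mem_fixAlg_iff _).2 ?_)
      exact mem_fixAlg_iff_coeff.2 fun g _ x => by
        rw [coeff_blockIdem, coeff_blockIdem, CfsgLib.Blocks.blockCoeff_conj]
    · rw [← map_mul, isIdempotentElem_blockIdem E]
    · intro x
      by_cases hxT : x ∈ T
      · rw [show x = ((⟨x, hxT⟩ : T) : G) from rfl, coeff_inclA, coeff_blockIdem]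
        exact memLocalRing_blockCoeff hM hE _
      · rw [coeff_inclA_of_notMem _ hxT]; exact (lRing hM).zero_mem
    · exact fun h => blockIdem_ne_zero hM hE (inclA_injective T (h.trans (map_zero _).symm))
    · rw [← hzTi, ← map_mul, hEz]
  refine ⟨⟨E, hE, fun t => ?_⟩, ?_⟩
  · rw [← coeff_blockIdem E t, ← coeff_inclA (blockIdem E) t, hEeq, hc, subIdem,
      CfsgLib.Blocks.coeff_ofFun]
  -- the block of `G`
  have horth : ∀ g, g ∉ T → conjA g c * c = 0 := by
    intro g hg
    rw [hc, conjA_subIdem P e g, subIdem_eq_inclA, subIdem_eq_inclA, ← map_mul, blockIdem_mul]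
    have hne : CharCorr.twistIrr
        (conjEquiv g (mem_normalizer_conj_iff (mem_normalizer_centralizer P g))) '' e ≠ e :=
      fun h => hg ((hT g).2 ((stabilizesBlock_iff e (mem_normalizer_centralizer P g)).2 h))
    have hdis : (CharCorr.twistIrr
        (conjEquiv g (mem_normalizer_conj_iff (mem_normalizer_centralizer P g))) '' e) ∩ e = ∅ :=
      Set.eq_empty_iff_forall_notMem.2 fun χ hχ => hne
        ((IsPBlock.eq_blockOf hM (isPBlock_twist _ he) hχ.1).trans
          (IsPBlock.eq_blockOf hM he hχ.2).symm)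
    rw [hdis, blockIdem_empty, map_zero]
  letI := Fintype.ofFinite (G ⧸ T)
  set s : MonoidAlgebra ℂ G := ∑ q : G ⧸ T, conjA q.out c with hs
  have hconj_mk : ∀ a b : G, (a : G ⧸ T) = (b : G ⧸ T) → conjA a c = conjA b c := by
    intro a b hab
    conv_lhs => rw [← (hT' (a⁻¹ * b)).1 (QuotientGroup.eq.1 hab), ← conjA_mul_left,
      mul_inv_cancel_left]
  have hsfix : ∀ g, conjA g s = s := by
    intro g
    rw [hs, conjA_sum]
    refine Fintype.sum_equiv (MulAction.toPerm g) _ _ fun q => ?_
    rw [← conjA_mul_left]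
    refine hconj_mk _ _ ?_
    rw [QuotientGroup.out_eq', MulAction.toPerm_apply]
    conv_rhs => rw [← QuotientGroup.out_eq' q]
    rfl
  have hsid : s * s = s := by
    rw [hs, Finset.sum_mul]
    refine Finset.sum_congr rfl fun q _ => ?_
    rw [Finset.mul_sum, Finset.sum_eq_single q]
    · rw [← conjA_mul, hcid]
    · intro q' _ hne
      have hnotT : q'.out⁻¹ * q.out ∉ T := fun h => hne (by
        rw [← QuotientGroup.out_eq' q, ← QuotientGroup.out_eq' q', QuotientGroup.eq]; exact h)
      have h1 : conjA q.out c = conjA q'.out (conjA (q'.out⁻¹ * q.out) c) := by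
        rw [← conjA_mul_left, mul_inv_cancel_left]
      rw [h1, ← conjA_mul, horth _ hnotT, conjA_zero]
    · intro h; exact absurd (Finset.mem_univ _) h
  have hsc : s * c = c := by
    rw [hs, Finset.sum_mul, Finset.sum_eq_single ((1 : G) : G ⧸ T)]
    · rw [hconj_mk _ 1 (QuotientGroup.out_eq' _), conjA_one_left, hcid]
    · intro q _ hq
      refine horth _ fun h => hq ?_
      rw [← QuotientGroup.out_eq' q, QuotientGroup.eq, mul_one]
      exact T.inv_mem h
    · intro h; exact absurd (Finset.mem_univ _) h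
  have hscen : s ∈ Subalgebra.center ℂ (MonoidAlgebra ℂ G) := by
    rw [mem_center_iff_coeff]
    intro g h
    conv_lhs => rw [← hsfix h, coeff_conjA]
    congr 1; group
  have hsR : ∀ x, MemLocalRing M (s.coeff x) := fun x => by
    rw [hs, coeff_sum, Finsupp.finsetSum_apply]
    exact (lRing hM).sum_mem fun q _ => conjA_coeff_mem hcR _ x
  obtain ⟨B', hB', hB's⟩ := exists_block_le hM hscen hsid hsR
    (fun h => hcne (by rw [← hsc, h, zero_mul]))
  have hEs : blockIdem B' ∈ suppAlg ℂ (Subgroup.centralizer (P : Set G)) := fun x hx => by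
    by_contra hxC
    apply hx
    rw [coeff_blockIdem]
    exact blockCoeff_eq_zero hM P hP hB' hxC
  have hEfix : ∀ g, conjA g (blockIdem B') = blockIdem B' := fun g => by
    ext x
    rw [coeff_conjA, coeff_blockIdem, coeff_blockIdem]
    simpa using CfsgLib.Blocks.blockCoeff_conj B' x g⁻¹
  have hEc : blockIdem B' * c = c := by
    by_cases h0 : blockIdem B' * c = 0
    · exfalso
      apply blockIdem_ne_zero hM hB'
      rw [← hB's, hs, Finset.mul_sum]
      refine Finset.sum_eq_zero fun q _ => ?_
      rw [← hEfix q.out, ← conjA_mul, h0, conjA_zero]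
    · have hcom : c * blockIdem B' = blockIdem B' * c :=
        (Subalgebra.mem_center_iff.1 (blockIdem_mem_center B') c)
      refine hbelow _ (Subalgebra.mul_mem _ hEs hcs) ?_ ?_ ?_ h0 ?_
      · exact Subalgebra.mul_mem _ (fun g _ => hEfix g) (fixAlg_anti hCT fun g hg => (hT' g).1 hg)
      · rw [mul_assoc, ← mul_assoc c, hcom, mul_assoc, hcid, ← mul_assoc,
          isIdempotentElem_blockIdem B']
      · exact coeff_mul_memLocalRing hM (fun x => by
          rw [coeff_blockIdem]; exact memLocalRing_blockCoeff hM hB' x) hcR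
      · rw [mul_assoc, hcid]
  have hEq : blockIdem B' = s := by
    rw [← hB's, hs, Finset.mul_sum]
    refine Finset.sum_congr rfl fun q _ => ?_
    rw [← hEfix q.out, ← conjA_mul, hEc]
  have hpair : IsBrauerPairOf p M B' P e := by
    refine ⟨hBe.1, hB', fun ξ hξ => ?_⟩
    have hr : restrA ℂ (Subgroup.centralizer (P : Set G)) (blockIdem B') * blockIdem e = blockIdem e := by
      apply inclA_injective (Subgroup.centralizer (P : Set G))
      rw [map_mul, inclA_restrA hEs, ← hcI, hEc]
    have hcen : restrA ℂ (Subgroup.centralizer (P : Set G)) (blockIdem B') ∈ Subalgebra.center ℂ (MonoidAlgebra ℂ (Subgroup.centralizer (P : Set G))) := by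
      rw [mem_center_iff_coeff]
      intro g h
      rw [coeff_restrA, coeff_restrA, coeff_blockIdem, coeff_blockIdem]
      exact CfsgLib.Blocks.blockCoeff_conj B' (g : G) (h : G)
    have h1 := omega_mul ξ hcen (blockIdem e)
    rw [hr, omega_blockIdem, if_pos hξ, mul_one, omega_apply, Finset.sum_div] at h1
    have h2 : brauerOmega P (blockCoeff B') (ξ : (Subgroup.centralizer (P : Set G)) → ℂ) = 1 := by
      rw [h1, brauerOmega, finsum_eq_sum_of_fintype]
      refine Finset.sum_congr rfl fun x _ => ?_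
      rw [coeff_restrA, coeff_blockIdem]
    rw [h2, sub_self]
    exact memLocalIdeal_zero hM
  intro g
  rw [← huniq B' hpair, ← coeff_blockIdem B' g, hEq, hs, coeff_sum, Finsupp.finsetSum_apply]
  have hfib : ∑ x : G, subgroupBlockCoeff (Subgroup.centralizer (P : Set G)) e (x⁻¹ * g * x) =
      ∑ q : G ⧸ T, (Nat.card T : ℂ) * (conjA q.out c).coeff g := by
    rw [← Finset.sum_fiberwise Finset.univ (fun x : G => (x : G ⧸ T))]
    refine Finset.sum_congr rfl fun q _ => ?_
    rw [Finset.sum_congr rfl (fun x hx => (?_ : _ = (conjA q.out c).coeff g)), Finset.sum_const,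
      nsmul_eq_mul]
    · congr 2
      rw [Nat.card_eq_fintype_card, ← Finset.card_univ]
      refine Finset.card_nbij' (fun x => if h : q.out⁻¹ * x ∈ T then ⟨_, h⟩ else 1)
        (fun t => q.out * t) ?_ ?_ ?_ ?_
      · intro x _; exact Finset.mem_univ _
      · intro t _
        simp only [Finset.coe_filter, Finset.mem_univ, true_and, Set.mem_ofPred_eq]
        rw [← QuotientGroup.out_eq' q, QuotientGroup.eq]
        simp
      · intro x hx
        simp only [Finset.coe_filter, Finset.mem_univ, true_and, Set.mem_ofPred_eq] at hx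
        have : q.out⁻¹ * x ∈ T := QuotientGroup.eq.1 (by rw [QuotientGroup.out_eq', hx])
        simp [this]
      · intro t _
        simp
    · rw [← hconj_mk x q.out ((Finset.mem_filter.1 hx).2.trans (QuotientGroup.out_eq' q).symm),
        coeff_conjA, hc, subIdem, CfsgLib.Blocks.coeff_ofFun]
  rw [hfib, ← Finset.mul_sum, inv_mul_cancel_left₀ (Nat.cast_ne_zero.2 Nat.card_pos.ne')]

end Cover

end CfsgLib.BlockNormalP
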