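import Cfsg.Agent.Lib.Blocks.FirstMain
import Cfsg.Agent.Lib.Blocks.NormalPSubgroup

/-!
# Brauer's First Main Theorem
-/

set_option autoImplicit false
set_option linter.style.haveILetI false

namespace CfsgLib.Blocks

open Cfsg MonoidAlgebra CfsgLib.Characters

variable {G : Type*} [Group G] [Fintype G] {p : ℕ} {M : Ideal AlgInt} [Fact p.Prime]
  {D : Subgroup G}

omit [Fact p.Prime] in
theorem natCard_centralizer_normalizer (c : Subgroup.normalizer (D : Set G)) :
    Nat.card (Subgroup.centralizer ({c} : Set (Subgroup.normalizer (D : Set G)))) =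
      Nat.card ↥(Subgroup.centralizer ({(c : G)} : Set G) ⊓ Subgroup.normalizer (D : Set G)) :=
  Nat.card_congr
    { toFun := fun u => ⟨((u : Subgroup.normalizer (D : Set G)) : G),
        Subgroup.mem_centralizer_singleton_iff.2
          (congrArg Subtype.val (Subgroup.mem_centralizer_singleton_iff.1 u.2)), u.1.2⟩
      invFun := fun u => ⟨⟨u, u.2.2⟩, Subgroup.mem_centralizer_singleton_iff.2
        (Subtype.ext (Subgroup.mem_centralizer_singleton_iff.1 u.2.1))⟩
      left_inv := fun u => rfl
      right_inv := fun u => rfl }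

/-- At classes with defect group `D` the induced block has the same central character. -/
theorem centralChar_sub_of_defect (hM : IsPModular p M) (hD : IsPGroup p D)
    [Fintype (Subgroup.normalizer (D : Set G))]
    {b : Set (IrrCharacter (Subgroup.normalizer (D : Set G)))} {B : Set (IrrCharacter G)}
    (hind : IsInducedBlock M (Subgroup.normalizer (D : Set G)) b B)
    {ξ : IrrCharacter (Subgroup.normalizer (D : Set G))} (hξ : ξ ∈ b) {χ : IrrCharacter G}
    (hχ : χ ∈ B) (c : Subgroup.normalizer (D : Set G))
    (hc : (c : G) ∈ Subgroup.centralizer (D : Set G))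
    (hcard : Nat.card D =
      p ^ (Nat.card (Subgroup.centralizer ({(c : G)} : Set G))).factorization p) :
    MemLocalIdeal M (centralChar (ξ : Subgroup.normalizer (D : Set G) → ℂ) c -
      centralChar (χ : G → ℂ) (c : G)) := by
  classical
  have heq : classPartC ℂ D (Subgroup.normalizer (D : Set G)) (c : G) = classSum ℂ c := by
    refine MonoidAlgebra.ext (Finsupp.ext fun h => ?_)
    simp only [classPartC, Blocks.coeff_ofFun, coeff_classSum]
    have hiff : (IsConj (c : G) (h : G) ∧ (h : G) ∈ Subgroup.centralizer (D : Set G)) ↔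
        IsConj c h := by
      constructor
      · rintro ⟨h1, h2⟩
        obtain ⟨n, hn, hnc⟩ := exists_normalizer_conj hcard (IsConj.refl _) h1 hc h2
        exact isConj_iff.2 ⟨⟨n, hn⟩, Subtype.ext hnc⟩
      · intro h1
        refine ⟨MonoidHom.map_isConj (Subgroup.normalizer (D : Set G)).subtype h1, ?_⟩
        obtain ⟨n, rfl⟩ := isConj_iff.1 h1
        rw [Subgroup.mem_centralizer_iff] at hc ⊢
        intro u hu
        have h3 := hc ((n : G)⁻¹ * u * (n : G))
          (by simpa using (Subgroup.mem_normalizer_iff.1 ((Subgroup.normalizer (D : Set G)).inv_mem n.2) u).1 hu)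
        simp only [Subgroup.coe_mul, Subgroup.coe_inv]
        calc u * ((n : G) * c * (n : G)⁻¹) = n * ((n : G)⁻¹ * u * n * c) * (n : G)⁻¹ := by group
          _ = n * (c * ((n : G)⁻¹ * u * n)) * (n : G)⁻¹ := by rw [h3]
          _ = _ := by group
    by_cases h1 : IsConj c h
    · rw [if_pos (hiff.2 h1), if_pos h1]
    · rw [if_neg (fun h2 => h1 (hiff.1 h2)), if_neg h1]
  have h1 := induced_sub_brauer hM hD Subgroup.le_normalizer le_rfl ξ (c : G)
  rw [← omega_classPartC, heq, omega_classSum (irr_isClassFunction ξ)] at h1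
  have h2 := MemLocalIdeal.sub hM (hind.2.2 ξ hξ χ hχ (c : G)) h1
  rwa [sub_sub_sub_cancel_left] at h2

/-- A block of `N(D)` with defect group `D` induces a block with defect group `D`. -/
theorem exists_induced_defect_eq (hM : IsPModular p M) (hD : IsPGroup p D)
    {b : Set (IrrCharacter (Subgroup.normalizer (D : Set G)))} (hb : IsPBlock M b)
    (hbD : IsDefectGroup p M b (D.subgroupOf (Subgroup.normalizer (D : Set G)))) :
    ∃ B : Set (IrrCharacter G), IsPBlock M B ∧ IsDefectGroup p M B D ∧
      IsInducedBlock M (Subgroup.normalizer (D : Set G)) b B := by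
  classical
  letI := Fintype.ofFinite (Subgroup.normalizer (D : Set G))
  obtain ⟨B, hind⟩ := inducedBlockDefined hM hD Subgroup.le_normalizer
    (Subgroup.centralizer_le_normalizer _) le_rfl hb
  refine ⟨B, hind.2.1, ?_, hind⟩
  obtain ⟨E, hE, hle⟩ := exists_defectGroup_map_le hM hind hbD
  rw [Subgroup.map_subgroupOf_eq_of_le (show D ≤ (Subgroup.normalizer (D : Set G)) from Subgroup.le_normalizer)] at hle
  obtain ⟨c, hc, S, hS⟩ := hbD
  obtain ⟨n, hn⟩ := IsPGroup.iff_card.1 hD
  have hcard := card_eq_of_sylow_map S hS.symm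
  rw [Nat.card_congr (Subgroup.subgroupOfEquivOfLe
    (show D ≤ (Subgroup.normalizer (D : Set G)) from Subgroup.le_normalizer)).toEquiv, natCard_centralizer_normalizer, hn] at hcard
  have hcC : (c : G) ∈ Subgroup.centralizer (D : Set G) := by
    refine Subgroup.mem_centralizer_iff.2 fun u hu => ?_
    obtain ⟨v, -, hv⟩ := hS.le (show (⟨u, Subgroup.le_normalizer hu⟩ : (Subgroup.normalizer (D : Set G))) ∈ D.subgroupOf (Subgroup.normalizer (D : Set G)) from hu)
    have h1 := congrArg Subtype.val (Subgroup.mem_centralizer_singleton_iff.1 v.2)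
    rw [show ((Subgroup.centralizer ({c} : Set (Subgroup.normalizer (D : Set G)))).subtype v) = (v : (Subgroup.normalizer (D : Set G))) from rfl] at hv
    rw [hv] at h1
    exact h1
  have h2 := exists_sylow_of_normalizer hcC hn (Nat.pow_right_injective hM.1.two_le hcard).symm
  obtain ⟨ξ, hξ⟩ := IsPBlock.nonempty hM hb
  have hu : ∀ χ ∈ B, ¬ MemLocalIdeal M (centralChar (χ : G → ℂ) (c : G)) := by
    intro χ hχ h
    refine hc.2.2 ξ hξ ?_
    have h3 := MemLocalIdeal.add hM
      (centralChar_sub_of_defect hM hD hind hξ hχ c hcC (by rw [h2, hn])) h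
    rwa [sub_add_cancel] at h3
  have hdB := CfsgLib.BlockCover.blockDefect_le hM hind.2.1 hu
  rw [h2] at hdB
  have : D = E := Subgroup.eq_of_le_of_card_ge hle (by
    rw [CfsgLib.BlockCover.natCard_defect hM hind.2.1 hE, hn]
    exact Nat.pow_le_pow_right hM.1.pos hdB)
  rwa [this]

/-- At most one block of `N(D)` with defect group `D` induces a given block. -/
theorem inducing_block_unique (hM : IsPModular p M) (hD : IsPGroup p D)
    {b b' : Set (IrrCharacter (Subgroup.normalizer (D : Set G)))}
    (hbD : IsDefectGroup p M b (D.subgroupOf (Subgroup.normalizer (D : Set G))))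
    {B : Set (IrrCharacter G)}
    (hind : IsInducedBlock M (Subgroup.normalizer (D : Set G)) b B)
    (hind' : IsInducedBlock M (Subgroup.normalizer (D : Set G)) b' B) : b = b' := by
  classical
  letI := Fintype.ofFinite (Subgroup.normalizer (D : Set G))
  obtain ⟨ξ, hξ⟩ := IsPBlock.nonempty hM hind.1
  obtain ⟨ξ', hξ'⟩ := IsPBlock.nonempty hM hind'.1
  obtain ⟨χ, hχ⟩ := IsPBlock.nonempty hM hind.2.1
  have hDN : D ≤ (Subgroup.normalizer (D : Set G)) := Subgroup.le_normalizer
  haveI : (D.subgroupOf (Subgroup.normalizer (D : Set G))).Normal := Subgroup.normal_subgroupOf_of_le_normalizer le_rfl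
  have hP : IsPGroup p (D.subgroupOf (Subgroup.normalizer (D : Set G))) := hD.of_equiv (Subgroup.subgroupOfEquivOfLe hDN).symm
  obtain ⟨n, hn⟩ := IsPGroup.iff_card.1 hD
  have hnN : Nat.card (D.subgroupOf (Subgroup.normalizer (D : Set G))) = p ^ n := by
    rw [Nat.card_congr (Subgroup.subgroupOfEquivOfLe hDN).toEquiv, hn]
  have key : ∀ c : (Subgroup.normalizer (D : Set G)), MemLocalIdeal M (blockCoeff b c * centralChar (ξ : (Subgroup.normalizer (D : Set G)) → ℂ) c -
      blockCoeff b c * centralChar (ξ' : (Subgroup.normalizer (D : Set G)) → ℂ) c) := by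
    intro c
    rw [← mul_sub]
    by_cases hu : MemLocalIdeal M (blockCoeff b c)
    · exact MemLocalIdeal.mul_right hM hu
        ((lRing hM).sub_mem (centralChar_mem_lRing hM ξ c) (centralChar_mem_lRing hM ξ' c))
    · refine MemLocalIdeal.mul_left hM (memLocalRing_blockCoeff hM hind.1 c) ?_
      have hcC : c ∈ Subgroup.centralizer ((D.subgroupOf (Subgroup.normalizer (D : Set G)) : Subgroup (Subgroup.normalizer (D : Set G))) : Set (Subgroup.normalizer (D : Set G))) := by
        by_contra h
        exact hu (by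
          rw [CfsgLib.BlockNormalP.blockCoeff_eq_zero hM _ hP hind.1 h]; exact memLocalIdeal_zero hM)
      have hcG : (c : G) ∈ Subgroup.centralizer (D : Set G) := Subgroup.mem_centralizer_iff.2
        fun u hu' => congrArg Subtype.val (Subgroup.mem_centralizer_iff.1 hcC ⟨u, hDN hu'⟩ hu')
      obtain ⟨S⟩ : Nonempty (Sylow p (Subgroup.centralizer ({c} : Set (Subgroup.normalizer (D : Set G))))) := inferInstance
      obtain ⟨t, ht⟩ := CfsgLib.BlockCover.exists_conj_le_defect_of_coeff hM hind.1 hbD hu
        (S.2.map _) (Subgroup.map_subtype_le _)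
      have h1 := Subgroup.card_le_of_le ht
      rw [Subgroup.card_map_of_injective (MulAut.conj t).injective,
        CfsgLib.BlockCover.natCard_sylow_centralizer, hnN] at h1
      have hle := (Nat.pow_le_pow_iff_right hM.1.one_lt).1 h1
      rw [natCard_centralizer_normalizer] at hle
      have hge : n ≤ (Nat.card ↥(Subgroup.centralizer ({(c : G)} : Set G) ⊓ (Subgroup.normalizer (D : Set G)))).factorization p := by
        rw [← hM.1.pow_dvd_iff_le_factorization Nat.card_pos.ne', ← hn]
        exact Subgroup.card_dvd_of_le (le_inf (le_centralizer_iff_mem.2 hcG) hDN)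
      have h2 := exists_sylow_of_normalizer hcG hn (le_antisymm hle hge)
      have e1 := centralChar_sub_of_defect hM hD hind hξ hχ c hcG (by rw [h2, hn])
      have e2 := centralChar_sub_of_defect hM hD hind' hξ' hχ c hcG (by rw [h2, hn])
      have := MemLocalIdeal.sub hM e1 e2
      rwa [sub_sub_sub_cancel_right] at this
  have h1 : MemLocalIdeal M (omega (ξ : (Subgroup.normalizer (D : Set G)) → ℂ) (blockIdem b) - omega (ξ' : (Subgroup.normalizer (D : Set G)) → ℂ) (blockIdem b)) := by
    rw [omega_eq_sum_classes ξ (blockIdem_mem_center b),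
      omega_eq_sum_classes ξ' (blockIdem_mem_center b), ← Finset.sum_sub_distrib]
    refine MemLocalIdeal.sum hM _ fun c _ => ?_
    simp only [coeff_blockIdem]
    exact key _
  rw [omega_blockIdem, omega_blockIdem, if_pos hξ] at h1
  split_ifs at h1 with h2
  · rw [IsPBlock.eq_blockOf hM hind.1 h2, IsPBlock.eq_blockOf hM hind'.1 hξ']
  · rw [sub_zero] at h1
    exact absurd h1 (not_memLocalIdeal_one hM)

end CfsgLib.Blocks
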