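import Cfsg.Agent.Lib.BlockCover.PairBlocks

/-!
# Blocks of centralizers when the Sylow `p`-subgroups are abelian

A block of `C(t)`, `t` a `p`-element, has the same defect as the block of the group it induces.
-/

set_option autoImplicit false
set_option linter.style.haveILetI false
set_option linter.unusedSectionVars false

namespace CfsgLib.Blocks

open Cfsg CfsgLib.CharCorr CfsgLib.BlockCover

variable {G : Type*} [Group G] [Fintype G] {p : ℕ} [Fact p.Prime] {M : Ideal AlgInt}

/-- The conjugate of an irreducible character of a normalised subgroup. -/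
theorem exists_conj_irr {L : Subgroup G} {g : G} (hg : g ∈ Subgroup.normalizer (L : Set G))
    (θ : IrrCharacter L) :
    ∃ θ' : IrrCharacter L, ∀ h h' : L, (h' : G) = g * h * g⁻¹ →
      (θ' : L → ℂ) h' = (θ : L → ℂ) h :=
  ⟨twistIrr (BrauerPairs.conjEquiv g (BrauerPairs.mem_normalizer_conj_iff hg)) θ,
    (BrauerPairs.isConjCharOf_iff hg θ _).2 rfl⟩

/-- The stabiliser of a block of a subgroup normalised by `N`. -/
theorem exists_stabilizer {L N : Subgroup G} (hLN : L ≤ N)
    (hN : N ≤ Subgroup.normalizer (L : Set G)) (b : Set (IrrCharacter L)) :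
    ∃ T : Subgroup G, L ≤ T ∧ T ≤ N ∧ ∀ g : G, g ∈ T ↔ (g ∈ N ∧ ∀ θ ∈ b, ∀ θ' : IrrCharacter L,
      (∀ h h' : L, (h' : G) = g * h * g⁻¹ → (θ' : L → ℂ) h' = (θ : L → ℂ) h) → θ' ∈ b) := by
  set P : G → Prop := fun g => g ∈ N ∧ ∀ θ ∈ b, ∀ θ' : IrrCharacter L,
      (∀ h h' : L, (h' : G) = g * h * g⁻¹ → (θ' : L → ℂ) h' = (θ : L → ℂ) h) → θ' ∈ b with hP
  have hL : ∀ g ∈ L, P g := fun g hg => ⟨hLN hg, fun θ hθ θ' h => by
    have : θ' = θ := Subtype.ext (funext fun x => by
      have e : (x : G) = g * ((⟨g, hg⟩⁻¹ * x * ⟨g, hg⟩ : L) : G) * g⁻¹ := by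
        simp only [Subgroup.coe_mul, Subgroup.coe_inv]
        group
      rw [h _ x e]
      exact CfsgLib.Characters.classFunction_eq_of_isConj
        (CfsgLib.Characters.irr_isClassFunction θ) (isConj_iff.2 ⟨⟨g, hg⟩, by group⟩))
    rwa [this]⟩
  have hmul : ∀ {a c}, P a → P c → P (a * c) := by
    intro a c ha hc
    refine ⟨mul_mem ha.1 hc.1, fun θ hθ θ' h => ?_⟩
    obtain ⟨θ₁, h₁⟩ := exists_conj_irr (hN hc.1) θ
    refine ha.2 θ₁ (hc.2 θ hθ θ₁ h₁) θ' fun x x' hx => ?_
    have hm : c⁻¹ * (x : G) * c ∈ L := by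
      have := (Subgroup.mem_normalizer_iff.1 (hN (inv_mem hc.1)) x).1 x.2
      simpa using this
    rw [h ⟨_, hm⟩ x' (by rw [hx]; simp only [mul_inv_rev]; group),
      h₁ ⟨_, hm⟩ x (by simp only; group)]
  have hpow : ∀ {a}, P a → ∀ k : ℕ, P (a ^ k) := fun {a} ha k => by
    induction k with
    | zero => rw [pow_zero]; exact hL 1 (one_mem L)
    | succ k ih => rw [pow_succ]; exact hmul ih ha
  refine ⟨{ carrier := {g | P g}
            one_mem' := hL 1 (one_mem L)
            mul_mem' := hmul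
            inv_mem' := fun {a} ha => ?_ }, hL, fun g hg => hg.1, fun g => Iff.rfl⟩
  show P a⁻¹
  have h1 := hpow ha (orderOf a - 1)
  rwa [show a ^ (orderOf a - 1) = a⁻¹ from eq_inv_of_mul_eq_one_left (by
    rw [← pow_succ, Nat.sub_add_cancel (orderOf_pos a), pow_orderOf_eq_one])] at h1

/-- A block of the centralizer of a `p`-element has the defect of the block it induces. -/
theorem blockDefect_eq_of_abelian (hM : IsPModular p M)
    (hab : ∀ R : Subgroup G, IsPGroup p R → ∀ x ∈ R, ∀ y ∈ R, x * y = y * x) {t : G}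
    (ht : ∃ k : ℕ, orderOf t = p ^ k)
    {b : Set (IrrCharacter (Subgroup.centralizer ({t} : Set G)))} {B : Set (IrrCharacter G)}
    (hind : IsInducedBlock M (Subgroup.centralizer ({t} : Set G)) b B) :
    blockDefect p b = blockDefect p B := by
  classical
  set C := Subgroup.centralizer ({t} : Set G) with hC
  let _ : Fintype C := Fintype.ofFinite _
  obtain ⟨D', hD'⟩ := exists_isDefectGroup hM hind.1
  set P := D'.map C.subtype with hPdef
  have hPp : IsPGroup p P := (isPGroup_defect hM hD').map _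
  have htC : t ∈ C := Subgroup.mem_centralizer_singleton_iff.2 rfl
  haveI : (Subgroup.zpowers (⟨t, htC⟩ : C)).Normal := by
    refine ⟨fun x hx g => ?_⟩
    obtain ⟨i, rfl⟩ := hx
    have hg : Commute g (⟨t, htC⟩ : C) :=
      Subtype.ext (Subgroup.mem_centralizer_singleton_iff.1 g.2)
    rw [(hg.zpow_right i).eq, mul_inv_cancel_right]
    exact Subgroup.zpow_mem_zpowers _ _
  have htP : t ∈ P := by
    obtain ⟨k, hk⟩ := ht
    exact ⟨⟨t, htC⟩, normal_le_defect hM hind.1 (P := Subgroup.zpowers (⟨t, htC⟩ : C))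
      (IsPGroup.of_card (by rw [Nat.card_zpowers, ← Subgroup.orderOf_coe, hk])) hD'
      (Subgroup.mem_zpowers _), rfl⟩
  set L := Subgroup.centralizer (P : Set G) with hLdef
  have hPL : P ≤ L := fun x hx => Subgroup.mem_centralizer_iff.2 fun y hy => hab P hPp y hy x hx
  have hLC : L ≤ C := fun x hx =>
    Subgroup.mem_centralizer_singleton_iff.2 (Subgroup.mem_centralizer_iff.1 hx t htP).symm
  let _ : Fintype L := Fintype.ofFinite _
  let _ : Fintype (L.subgroupOf C) := Fintype.ofFinite _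
  have hD'le : D' ≤ L.subgroupOf C := fun x hx => hPL ⟨x, hx, rfl⟩
  have hcent : Subgroup.centralizer (D' : Set C) ≤ L.subgroupOf C := fun x hx =>
    Subgroup.mem_centralizer_iff.2 (by
      rintro _ ⟨y, hy, rfl⟩
      exact congrArg Subtype.val (Subgroup.mem_centralizer_iff.1 hx y hy))
  have hnorm : L.subgroupOf C ≤ Subgroup.normalizer (D' : Set C) := fun x hx =>
    Subgroup.centralizer_le_normalizer _ (Subgroup.mem_centralizer_iff.2 fun y hy =>
      Subtype.ext (Subgroup.mem_centralizer_iff.1 hx _ ⟨y, hy, rfl⟩))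
  obtain ⟨b', hb', hind', hbD'⟩ := exists_inducing_block hM hind.1 hD' hD'le hcent hnorm
  set e := Subgroup.subgroupOfEquivOfLe hLC
  set b₀ := twistIrr e.symm '' b' with hb₀def
  have hb₀ : IsPBlock M b₀ := BrauerPairs.isPBlock_twist _ hb'
  have hb₀D : IsDefectGroup p M b₀ (P.subgroupOf L) := by
    have h := BrauerPairs.isDefectGroup_twist e.symm hbD'
    convert h using 1
    ext x
    simp only [Subgroup.mem_map, MulEquiv.coe_toMonoidHom, MulEquiv.symm_symm,
      Subgroup.mem_subgroupOf]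
    constructor
    · intro hx
      obtain ⟨y, hy, hyx⟩ := (show (x : G) ∈ P from hx)
      exact ⟨⟨y, hD'le hy⟩, hy, Subtype.ext hyx⟩
    · rintro ⟨y, hy, rfl⟩
      exact ⟨_, hy, rfl⟩
  obtain ⟨χ, hχ⟩ := IsPBlock.nonempty hM hind.2.1
  obtain ⟨η, hη⟩ := IsPBlock.nonempty hM hind.1
  obtain ⟨ξ', hξ'⟩ := IsPBlock.nonempty hM hb'
  have hind₀ : IsInducedBlock M L b₀ B := by
    refine isInducedBlock_of_forall hM hb₀ hind.2.1 ⟨ξ', hξ', rfl⟩ hχ fun g => ?_
    have h1 := inducedCentralChar_trans hM hLC (twistIrr e.symm ξ') η (fun x => by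
      rw [BrauerPairs.twistIrr_symm]
      exact hind'.2.2 ξ' hξ' η hη x) g
    have h2 : MemLocalIdeal M
        (inducedCentralChar C (η : C → ℂ) g - centralChar (χ : G → ℂ) g) := hind.2.2 η hη χ hχ g
    have h3 := MemLocalIdeal.add hM h1 h2
    rwa [sub_add_sub_cancel] at h3
  have hLsup : L = P ⊔ Subgroup.centralizer (P : Set G) := (sup_eq_right.2 hPL).symm
  obtain ⟨hLn, hLN⟩ := normal_pc hLsup
  have hNL : Subgroup.normalizer (P : Set G) ≤ Subgroup.normalizer (L : Set G) :=
    (Subgroup.normal_subgroupOf_iff_le_normalizer hLN).1 hLn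
  obtain ⟨T, hLT, hTN, hT⟩ := exists_stabilizer hLN hNL b₀
  have hrel : ¬ p ∣ L.relIndex T := by
    obtain ⟨S, hS⟩ := hPp.exists_le_sylow
    have hSL : (S : Subgroup G) ≤ L := fun x hx => Subgroup.mem_centralizer_iff.2 fun y hy =>
      hab S S.2 y (hS hy) x hx
    exact fun h => S.not_dvd_index
      ((h.trans (Subgroup.relIndex_dvd_index_of_le hLT)).trans (Subgroup.index_dvd_of_le hSL))
  have hBP := (isDefectGroup_iff_inertial hM hPp hLsup hb₀ hb₀D hind₀ hT).2 hrel
  have h1 := natCard_defect hM hind.2.1 hBP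
  rw [hPdef, natCard_map_subtype, natCard_defect hM hind.1 hD'] at h1
  exact Nat.pow_right_injective (Fact.out : p.Prime).two_le h1

end CfsgLib.Blocks
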