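import Cfsg.Agent.Lib.Blocks.CentralChar
import Cfsg.Agent.Lib.Characters.Galois
import Cfsg.Agent.Lib.Characters.Values
import Mathlib.FieldTheory.Minpoly.IsIntegrallyClosed

/-!
# Blocks do not depend on the maximal ideal
-/

set_option autoImplicit false
set_option linter.style.haveILetI false

namespace CfsgLib.Blocks

open Cfsg CfsgLib.Characters Polynomial

/-- An algebraic integer all of whose conjugates lie in `M` lies in every maximal ideal over `p`. -/
theorem mem_of_conjugates_mem {p : ℕ} {M M' : Ideal AlgInt} (hM : IsPModular p M)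
    (hM' : IsPModular p M') (d : AlgInt)
    (h : ∀ r : ℂ, (aeval r) (minpoly ℚ (d : ℂ)) = 0 → ∃ a : AlgInt, a ∈ M ∧ (a : ℂ) = r) :
    d ∈ M' := by
  haveI := IsPModular.isMaximal hM
  haveI := IsPModular.isPrime hM'
  have hd : IsIntegral ℤ (d : ℂ) := d.2
  set P := minpoly ℤ (d : ℂ)
  have hP : P.Monic := minpoly.monic hd
  have hQ : minpoly ℚ (d : ℂ) = P.map (algebraMap ℤ ℚ) :=
    minpoly.isIntegrallyClosed_eq_field_fractions' ℚ hd
  have hroots : ∀ r ∈ (P.map (algebraMap ℤ ℂ)).roots, ∃ a : AlgInt, a ∈ M ∧ (a : ℂ) = r := by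
    intro r hr
    refine h r ?_
    rw [hQ, aeval_map_algebraMap, aeval_def, ← eval_map]
    exact (mem_roots'.1 hr).2
  choose a haM har using hroots
  set s : Multiset AlgInt := (P.map (algebraMap ℤ ℂ)).roots.pmap a fun _ hr => hr
  have hs : P.map (algebraMap ℤ AlgInt) = (s.map fun b => X - C b).prod := by
    refine Polynomial.map_injective (algebraMap AlgInt ℂ) Subtype.val_injective ?_
    rw [Polynomial.map_map, Polynomial.map_multiset_prod, Multiset.map_map,
      ← IsScalarTower.algebraMap_eq]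
    conv_lhs => rw [((IsAlgClosed.splits _).eq_prod_roots_of_monic (hP.map _))]
    congr 1
    simp only [s, Multiset.map_pmap, Function.comp_apply, Polynomial.map_sub, Polynomial.map_X,
      Polynomial.map_C]
    conv_lhs => rw [← Multiset.pmap_eq_map (p := fun r => r ∈ (P.map (algebraMap ℤ ℂ)).roots)
      (H := fun _ hr => hr)]
    exact Multiset.pmap_congr _ fun r hr h1 h2 => by rw [show algebraMap AlgInt ℂ (a r h2) = r from har r h2]
  have hmod : P.map (Int.castRingHom (AlgInt ⧸ M)) = X ^ P.natDegree := by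
    have h1 : P.map (Int.castRingHom (AlgInt ⧸ M)) =
        ((s.map fun b => X - C b).prod).map (Ideal.Quotient.mk M) := by
      rw [← hs, Polynomial.map_map]
      congr 1
    rw [h1, Polynomial.map_multiset_prod, Multiset.map_map]
    have h2 : ∀ b ∈ s, (Polynomial.map (Ideal.Quotient.mk M) ∘ fun b => X - C b) b = X := by
      intro b hb
      obtain ⟨r, hr, rfl⟩ := Multiset.mem_pmap.1 hb
      simp [Ideal.Quotient.eq_zero_iff_mem.2 (haM r hr)]
    rw [Multiset.map_congr rfl h2, Multiset.map_const', Multiset.prod_replicate]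
    congr 1
    rw [Multiset.card_pmap, ← (IsAlgClosed.splits _).natDegree_eq_card_roots,
      hP.natDegree_map]
  have hcoef : ∀ i < P.natDegree, ((P.coeff i : ℤ) : AlgInt) ∈ M' := by
    intro i hi
    have h1 := congrArg (fun Q => Q.coeff i) hmod
    simp only [coeff_map, coeff_X_pow, if_neg hi.ne, eq_intCast] at h1
    rw [← map_intCast (Ideal.Quotient.mk M), Ideal.Quotient.eq_zero_iff_mem,
      intCast_mem_iff hM] at h1
    exact (intCast_mem_iff hM' _).2 h1
  have h0 : (aeval d) P = 0 := by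
    apply Subtype.val_injective
    show ((aeval d P : AlgInt) : ℂ) = 0
    rw [show ((aeval d P : AlgInt) : ℂ) = algebraMap AlgInt ℂ (aeval d P) from rfl,
      ← aeval_algebraMap_apply]
    exact minpoly.aeval ℤ (d : ℂ)
  rw [aeval_eq_sum_range, Finset.sum_range_succ, hP.coeff_natDegree, one_smul] at h0
  refine Ideal.IsPrime.mem_of_pow_mem ‹_› P.natDegree ?_
  rw [eq_neg_of_add_eq_zero_right h0]
  refine M'.neg_mem (M'.sum_mem fun i hi => ?_)
  rw [zsmul_eq_mul]
  exact M'.mul_mem_right _ (hcoef i (Finset.mem_range.1 hi))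

/-- Blocks are independent of the choice of the maximal ideal over `p`. -/
theorem centralChar_sub_mem_of_sameBlock {G : Type*} [Group G] [Fintype G] {p : ℕ}
    {M M' : Ideal AlgInt} (hM : IsPModular p M) (hM' : IsPModular p M') {χ ψ : IrrCharacter G}
    (h : SameBlock M (χ : G → ℂ) (ψ : G → ℂ)) (g : G) :
    ∃ r : AlgInt, r ∈ M' ∧ (r : ℂ) = centralChar (χ : G → ℂ) g - centralChar (ψ : G → ℂ) g := by
  classical
  set n := Nat.card G
  haveI : NeZero n := ⟨Nat.card_pos.ne'⟩
  refine ⟨⟨_, (isIntegral_centralChar χ g).sub (isIntegral_centralChar ψ g)⟩, ?_, rfl⟩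
  refine mem_of_conjugates_mem hM hM' _ fun r hr => ?_
  have hζ := Complex.isPrimitiveRoot_exp n (NeZero.ne n)
  set ζ : ℂ := Complex.exp (2 * Real.pi * Complex.I / n)
  let K : IntermediateField ℚ ℂ := IntermediateField.adjoin ℚ {ζ}
  haveI : IsCyclotomicExtension {n} ℚ K := CfsgLib.CharGalois.isCyclotomic_adjoin hζ
  haveI : FiniteDimensional ℚ K := IsCyclotomicExtension.finiteDimensional {n} ℚ K
  obtain ⟨N₁, z₁, hz₁, hd₁⟩ := CfsgLib.CharGalois.exists_root_decomp (irr_isCharacter χ) g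
  obtain ⟨N₂, z₂, hz₂, hd₂⟩ := CfsgLib.CharGalois.exists_root_decomp (irr_isCharacter ψ) g
  have hmem : ∀ w : ℂ, w ^ n = 1 → w ∈ K := fun w hw => by
    obtain ⟨j, -, hj⟩ := hζ.eq_pow_of_pow_eq_one hw
    exact hj ▸ pow_mem (IntermediateField.mem_adjoin_simple_self ℚ ζ) j
  obtain ⟨d₁, e₁, -⟩ := irr_degree_dvd_card χ
  obtain ⟨d₂, e₂, -⟩ := irr_degree_dvd_card ψ
  let A : K := ∑ i, ⟨z₁ i, hmem _ (hz₁ i)⟩
  let B : K := ∑ i, ⟨z₂ i, hmem _ (hz₂ i)⟩
  let c : K := ((Subgroup.centralizer ({g} : Set G)).index : K) * A / (d₁ : K) -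
    ((Subgroup.centralizer ({g} : Set G)).index : K) * B / (d₂ : K)
  have hc : (c : ℂ) = centralChar (χ : G → ℂ) g - centralChar (ψ : G → ℂ) g := by
    have h1 := hd₁ 1
    have h2 := hd₂ 1
    simp only [pow_one] at h1 h2
    simp [c, A, B, centralChar, e₁, e₂, h1, h2]
  change (aeval r) (minpoly ℚ (centralChar (χ : G → ℂ) g - centralChar (ψ : G → ℂ) g)) = 0 at hr
  rw [← hc, ← IntermediateField.minpoly_eq] at hr
  have hr' : r ∈ (minpoly ℚ c).rootSet ℂ :=
    mem_rootSet.2 ⟨minpoly.ne_zero (IsIntegral.of_finite ℚ c), hr⟩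
  rw [← Algebra.IsAlgebraic.range_eval_eq_rootSet_minpoly ℂ c] at hr'
  obtain ⟨f, rfl⟩ := hr'
  have hfζ : IsPrimitiveRoot (f ⟨ζ, IntermediateField.mem_adjoin_simple_self ℚ ζ⟩) n :=
    (IsPrimitiveRoot.of_map_of_injective (f := K.val) (by exact hζ) Subtype.val_injective).map_of_injective
      f.injective
  obtain ⟨m, -, hm, hfm⟩ := hζ.isPrimitiveRoot_iff.1 hfζ
  have hfw : ∀ w : ℂ, ∀ hw : w ^ n = 1, f ⟨w, hmem w hw⟩ = w ^ m := by
    intro w hw
    obtain ⟨j, -, rfl⟩ := hζ.eq_pow_of_pow_eq_one hw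
    rw [show (⟨ζ ^ j, hmem _ hw⟩ : K) = ⟨ζ, IntermediateField.mem_adjoin_simple_self ℚ ζ⟩ ^ j from
      Subtype.ext (by simp), map_pow, ← hfm, pow_right_comm]
  have hcop : (orderOf g).Coprime m :=
    (hm.coprime_dvd_right (orderOf_dvd_natCard g)).symm
  have hcent : Subgroup.centralizer ({g ^ m} : Set G) = Subgroup.centralizer ({g} : Set G) := by
    obtain ⟨k, hk⟩ := exists_pow_eq_self_of_coprime hcop.symm
    ext w
    rw [Subgroup.mem_centralizer_singleton_iff, Subgroup.mem_centralizer_singleton_iff]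
    constructor
    · intro hw
      have hw' : Commute w (g ^ m) := hw
      have := hw'.pow_right k
      rw [hk] at this
      exact this
    · intro hw
      have hw' : Commute w g := hw
      exact hw'.pow_right m
  have hval : f c = centralChar (χ : G → ℂ) (g ^ m) - centralChar (ψ : G → ℂ) (g ^ m) := by
    simp only [c, A, B, map_sub, map_div₀, map_mul, map_natCast, map_sum, centralChar, e₁, e₂,
      hd₁ m, hd₂ m, hcent, hfw _ (hz₁ _), hfw _ (hz₂ _)]
  refine ⟨⟨_, (isIntegral_centralChar χ (g ^ m)).sub (isIntegral_centralChar ψ (g ^ m))⟩, ?_,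
    hval.symm⟩
  exact (memLocalIdeal_coe_iff hM _).1 (h (g ^ m))

end CfsgLib.Blocks
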