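import Cfsg.Agent.Lib.Blocks.DefectInduced
import Cfsg.Agent.Lib.Blocks.PrincipalSq
import Cfsg.Agent.Lib.BlockCover.Defect

/-!
# Height zero characters at `x * y` with `y` in a defect class
-/

set_option autoImplicit false
set_option linter.style.haveILetI false

namespace CfsgLib.Blocks

open Cfsg CfsgLib.Characters

variable {p : ℕ} {M : Ideal AlgInt}

theorem memLocalIdeal_of_natCast_mul_eq (hM : IsPModular p M) {a b : ℕ} (ha : a ≠ 0)
    (h : a.factorization p = b.factorization p) {u w : ℂ}
    (he : (a : ℂ) * u = (b : ℂ) * w) (hw : MemLocalIdeal M w) : MemLocalIdeal M u := by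
  set a' := a / p ^ a.factorization p
  set b' := b / p ^ b.factorization p
  have ha' : ¬ p ∣ a' := Nat.not_dvd_ordCompl hM.1 ha
  have ha0 : (a' : ℂ) ≠ 0 := Nat.cast_ne_zero.2 fun h0 => ha' (h0 ▸ dvd_zero p)
  have hp0 : ((p ^ a.factorization p : ℕ) : ℂ) ≠ 0 :=
    Nat.cast_ne_zero.2 (pow_ne_zero _ hM.1.ne_zero)
  have h1 : (a : ℂ) = ((p ^ a.factorization p : ℕ) : ℂ) * a' := by
    rw [← Nat.cast_mul, Nat.ordProj_mul_ordCompl_eq_self]
  have h2 : (b : ℂ) = ((p ^ a.factorization p : ℕ) : ℂ) * b' := by
    rw [h, ← Nat.cast_mul, Nat.ordProj_mul_ordCompl_eq_self]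
  rw [h1, h2, mul_assoc, mul_assoc] at he
  have h3 := mul_left_cancel₀ hp0 he
  have h4 : u = ((a' : ℂ)⁻¹ * b') * w := by rw [mul_assoc, ← h3, inv_mul_cancel_left₀ ha0]
  rw [h4]
  exact MemLocalIdeal.mul_left hM
    ((lRing hM).mul_mem (inv_natCast_mem_lRing hM ha') (natCast_mem _ _)) hw

variable {G : Type*} [Group G] [Fintype G] [Fact p.Prime]

theorem not_dvd_orderOf_of_isDefectClass (hM : IsPModular p M) {B : Set (IrrCharacter G)}
    (hB : IsPBlock M B) {y : G} (hy : IsDefectClass M B y) : ¬ p ∣ orderOf y := fun h =>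
  hy.2.1 (by rw [blockCoeff_eq_zero_of_singular hM hB h]; exact memLocalIdeal_zero hM)

/-- The order of a Sylow subgroup of the centraliser of a defect class. -/
theorem factorization_centralizer_of_isDefectClass (hM : IsPModular p M)
    {B : Set (IrrCharacter G)} (hB : IsPBlock M B) {y : G} (hy : IsDefectClass M B y) :
    (Nat.card (Subgroup.centralizer ({y} : Set G))).factorization p = blockDefect p B := by
  obtain ⟨S⟩ : Nonempty (Sylow p (Subgroup.centralizer ({y} : Set G))) := inferInstance
  have h := CfsgLib.BlockCover.natCard_defect hM hB (D := _) ⟨y, hy, S, rfl⟩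
  rw [CfsgLib.BlockCover.natCard_sylow_centralizer] at h
  exact Nat.pow_right_injective hM.1.two_le h

theorem factorization_index_of_isDefectClass (hM : IsPModular p M)
    {B : Set (IrrCharacter G)} (hB : IsPBlock M B) {y : G} (hy : IsDefectClass M B y)
    {χ : IrrCharacter G} (hχ : χ ∈ B) (h0 : blockHeight p B (χ : G → ℂ) = 0) :
    (Subgroup.centralizer ({y} : Set G)).index.factorization p =
      (charDegree (χ : G → ℂ)).factorization p := by
  have hmin : ∀ ψ ∈ B, (charDegree (χ : G → ℂ)).factorization p ≤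
      (charDegree (ψ : G → ℂ)).factorization p := fun ψ hψ =>
    (Nat.sub_eq_zero_iff_le.1 h0).trans (Nat.sInf_le ⟨ψ, hψ, rfl⟩)
  have h1 := CfsgLib.BlockCover.factorization_index_le_of_centralChar hM (hy.2.2 χ hχ)
  have h2 := CfsgLib.BlockCover.factorization_card_eq (p := p)
    (Subgroup.centralizer ({y} : Set G))
  have h3 := factorization_centralizer_of_isDefectClass hM hB hy
  rw [CfsgLib.BlockCover.blockDefect_eq hχ hmin] at h3
  obtain ⟨d, hd1, -, hd2⟩ := irr_degree_dvd_card χ
  have hdeg : charDegree (χ : G → ℂ) = d := by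
    rw [charDegree, hd1, Complex.natCast_re, Nat.floor_natCast]
  have h4 := (Nat.factorization_le_iff_dvd (by rintro rfl; simp at hd2) Nat.card_pos.ne').2 hd2 p
  rw [← hdeg] at h4
  omega

/-- Height zero characters are units at `x * y`, `x` a `p`-element commuting with the defect
class `y`. -/
theorem not_memLocalIdeal_apply_mul (hM : IsPModular p M) {B : Set (IrrCharacter G)}
    (hB : IsPBlock M B) {y : G} (hy : IsDefectClass M B y) {x : G} (hxy : Commute x y)
    (hx : ∃ k : ℕ, orderOf x = p ^ k) {χ : IrrCharacter G} (hχ : χ ∈ B)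
    (h0 : blockHeight p B (χ : G → ℂ) = 0) : ¬ MemLocalIdeal M ((χ : G → ℂ) (x * y)) := by
  intro h
  obtain ⟨k, hk⟩ := hx
  have h1 : MemLocalIdeal M ((χ : G → ℂ) (x * y) - (χ : G → ℂ) y) :=
    CfsgLib.PrincipalSq.char_congr_of_pow_eq hM (irr_isCharacter χ) (k := k)
      (by rw [hxy.mul_pow, ← hk, pow_orderOf_eq_one, one_mul])
  have h2 : MemLocalIdeal M ((χ : G → ℂ) y) := by
    have := MemLocalIdeal.sub hM h h1
    rwa [sub_sub_cancel] at this
  exact hy.2.2 χ hχ (memLocalIdeal_of_natCast_mul_eq hM
    (CfsgLib.BlockCover.charDegree_ne_zero χ) (factorization_index_of_isDefectClass hM hB hy hχ h0).symm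
    (CfsgLib.BlockCover.degree_mul_centralChar χ y) h2)

/-- The central character is a unit at `x * y` when `x` is central in a Sylow subgroup of the
centraliser of the defect class `y`. -/
theorem not_memLocalIdeal_centralChar_mul (hM : IsPModular p M) {B : Set (IrrCharacter G)}
    (hB : IsPBlock M B) {y : G} (hy : IsDefectClass M B y) {x : G} (hxy : Commute x y)
    (hx : ∃ k : ℕ, orderOf x = p ^ k) (S : Sylow p (Subgroup.centralizer ({y} : Set G)))
    (hS : ∀ w ∈ (S : Subgroup (Subgroup.centralizer ({y} : Set G))), Commute x (w : G))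
    {χ : IrrCharacter G} (hχ : χ ∈ B) :
    ¬ MemLocalIdeal M (centralChar (χ : G → ℂ) (x * y)) := by
  obtain ⟨η, hη, hmin⟩ := CfsgLib.BlockCover.exists_height_zero hM hB
  have h0 : blockHeight p B (η : G → ℂ) = 0 := by
    rw [blockHeight, CfsgLib.BlockCover.sInf_degree_eq hη hmin, Nat.sub_self]
  refine CfsgLib.BlockCover.centralChar_unit_iff hM hB hη hχ _ fun h => ?_
  have hle : Subgroup.centralizer ({x * y} : Set G) ≤ Subgroup.centralizer ({y} : Set G) := by
    intro w hw
    rw [Subgroup.mem_centralizer_singleton_iff] at hw ⊢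
    have hp' : IsPPart p (x * y) x := isPPart_mul hxy hx (not_dvd_orderOf_of_isDefectClass hM hB hy)
    have hwe : w * (x * y) * w⁻¹ = x * y := by rw [hw, mul_inv_cancel_right]
    have h3 := IsPPart.conj hp' w
    rw [hwe] at h3
    have h4 := IsPPart.unique hM.1 h3 hp'
    have hwx : w * x = x * w := by rw [← mul_inv_eq_iff_eq_mul]; exact h4
    rw [← mul_assoc, hwx, mul_assoc, mul_assoc] at hw
    exact mul_left_cancel hw
  have hge : ((S : Subgroup _).map (Subgroup.centralizer ({y} : Set G)).subtype) ≤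
      Subgroup.centralizer ({x * y} : Set G) := by
    rintro _ ⟨w, hw, rfl⟩
    refine Subgroup.mem_centralizer_singleton_iff.2 ?_
    exact (Commute.mul_right (hS w hw).symm
      (Subgroup.mem_centralizer_iff.1 w.2 y rfl).symm).eq
  have h1 : (Nat.card (Subgroup.centralizer ({y} : Set G))).factorization p ≤
      (Nat.card (Subgroup.centralizer ({x * y} : Set G))).factorization p := by
    have := Subgroup.card_dvd_of_le hge
    rw [CfsgLib.BlockCover.natCard_sylow_centralizer] at this
    exact (hM.1.pow_dvd_iff_le_factorization Nat.card_pos.ne').1 this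
  have h2 : (Nat.card (Subgroup.centralizer ({x * y} : Set G))).factorization p ≤
      (Nat.card (Subgroup.centralizer ({y} : Set G))).factorization p :=
    (Nat.factorization_le_iff_dvd Nat.card_pos.ne' Nat.card_pos.ne').2
      (Subgroup.card_dvd_of_le hle) p
  have h4 := CfsgLib.BlockCover.factorization_card_eq (p := p)
    (Subgroup.centralizer ({y} : Set G))
  have h5 := CfsgLib.BlockCover.factorization_card_eq (p := p)
    (Subgroup.centralizer ({x * y} : Set G))
  have h6 := factorization_index_of_isDefectClass hM hB hy hη h0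
  exact not_memLocalIdeal_apply_mul hM hB hy hxy hx hη h0
    (memLocalIdeal_of_natCast_mul_eq hM Subgroup.index_ne_zero_of_finite (by omega)
      (CfsgLib.BlockCover.degree_mul_centralChar η (x * y)).symm h)

end CfsgLib.Blocks
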