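import Cfsg.Agent.Lib.Blocks.FirstMain
import Cfsg.Agent.Lib.Blocks.HeightZero

/-!
# Centres of defect groups of induced blocks
-/

set_option autoImplicit false
set_option linter.style.haveILetI false

namespace CfsgLib.Blocks

open Cfsg CfsgLib.Characters

variable {G : Type*} [Group G] [Fintype G] {p : ℕ} {M : Ideal AlgInt} [Fact p.Prime]

/-- Elements of the centre of a defect group of an induced block are conjugate into the centre
of the defect group of the inducing block. -/
theorem exists_conj_centre_of_induced (hM : IsPModular p M) {H : Subgroup G}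
    {b : Set (IrrCharacter H)} {B : Set (IrrCharacter G)} (hind : IsInducedBlock M H b B)
    {D : Subgroup H} (hD : IsDefectGroup p M b D) {P : Subgroup G}
    (hP : IsDefectGroup p M B P) {x : G} (hx : x ∈ P) (hxc : ∀ w ∈ P, x * w = w * x) :
    ∃ g : G, g * x * g⁻¹ ∈ D.map H.subtype ∧
      ∀ w ∈ D.map H.subtype, (g * x * g⁻¹) * w = w * (g * x * g⁻¹) := by
  letI := Fintype.ofFinite H
  have hxp : ∃ k : ℕ, orderOf x = p ^ k := by
    obtain ⟨k, hk⟩ := IsPGroup.iff_orderOf.1 (CfsgLib.BlockCover.isPGroup_defect hM hP) ⟨x, hx⟩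
    exact ⟨k, by rwa [← Subgroup.orderOf_coe] at hk⟩
  obtain ⟨y, hy, S, rfl⟩ := hP
  obtain ⟨χ, hχ⟩ := IsPBlock.nonempty hM hind.2.1
  obtain ⟨ξ, hξ⟩ := IsPBlock.nonempty hM hind.1
  have hxy : Commute x y := by
    obtain ⟨c, -, rfl⟩ := hx
    exact (Subgroup.mem_centralizer_iff.1 c.2 y rfl).symm
  have hu := not_memLocalIdeal_centralChar_mul hM hind.2.1 hy hxy hxp S
    (fun w hw => hxc _ ⟨w, hw, rfl⟩) hχ
  obtain ⟨h, hgh, hhu⟩ := exists_unit_class_of_induced hM hind hξ hχ hu
  obtain ⟨h', hhh', -, hcen⟩ := exists_conj_centralizer_of_centralChar hM hind.1 hD hξ hhu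
  obtain ⟨z, hz⟩ := exists_isPPart hM.1 h'
  obtain ⟨hzD, hzc⟩ := hcen z hz
  have hzG : IsPPart p (h' : G) (z : G) := by
    obtain ⟨v, hv, hcv, hk, hvp⟩ := hz
    exact ⟨(v : G), congrArg Subtype.val hv, congrArg Subtype.val hcv.eq,
      by simpa [Subgroup.orderOf_coe] using hk, by rwa [Subgroup.orderOf_coe]⟩
  obtain ⟨g, hg⟩ := isConj_iff.1 (hgh.trans (MonoidHom.map_isConj H.subtype hhh'))
  have hgz : g * x * g⁻¹ = z := by
    have h1 := IsPPart.conj (isPPart_mul hxy hxp (not_dvd_orderOf_of_isDefectClass hM hind.2.1 hy)) g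
    rw [hg] at h1
    exact IsPPart.unique hM.1 h1 hzG
  refine ⟨g, hgz ▸ ⟨z, hzD, rfl⟩, ?_⟩
  rintro _ ⟨w, hw, rfl⟩
  rw [hgz]
  exact congrArg Subtype.val (hzc w hw)

/-- Defect zero is preserved and reflected by block induction. -/
theorem blockDefect_eq_zero_iff_of_induced (hM : IsPModular p M) {H : Subgroup G}
    {b : Set (IrrCharacter H)} {B : Set (IrrCharacter G)} (hind : IsInducedBlock M H b B) :
    blockDefect p b = 0 ↔ blockDefect p B = 0 := by
  letI := Fintype.ofFinite H
  obtain ⟨D, hD⟩ := exists_isDefectGroup hM hind.1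
  obtain ⟨P, hP⟩ := exists_isDefectGroup hM hind.2.1
  constructor
  · intro h0
    by_contra hne
    have hPg := CfsgLib.BlockCover.isPGroup_defect hM hP
    haveI : Nontrivial P := by
      rw [← Finite.one_lt_card_iff_nontrivial, CfsgLib.BlockCover.natCard_defect hM hind.2.1 hP]
      exact Nat.one_lt_pow hne hM.1.one_lt
    haveI : Nontrivial (Subgroup.center P) := hPg.center_nontrivial
    obtain ⟨z, hz⟩ := exists_ne (1 : Subgroup.center P)
    obtain ⟨g, hg, -⟩ := exists_conj_centre_of_induced hM hind hD hP (x := ((z : P) : G)) (z : P).2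
      fun w hw => congrArg Subtype.val ((Subgroup.mem_center_iff.1 z.2 ⟨w, hw⟩).symm)
    have hbot : D = ⊥ := Subgroup.eq_bot_of_card_eq _ (by
      rw [CfsgLib.BlockCover.natCard_defect hM hind.1 hD, h0, pow_zero])
    rw [hbot, Subgroup.map_bot, Subgroup.mem_bot, mul_inv_eq_one, mul_eq_left] at hg
    exact hz (Subtype.ext (Subtype.ext hg))
  · intro h0
    obtain ⟨E, hE, hle⟩ := exists_defectGroup_map_le hM hind hD
    have h1 := Subgroup.card_le_of_le hle
    rw [Subgroup.card_map_of_injective H.subtype_injective,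
      CfsgLib.BlockCover.natCard_defect hM hind.1 hD, CfsgLib.BlockCover.natCard_defect hM hind.2.1 hE,
      h0, pow_zero] at h1
    by_contra hne
    exact absurd h1 (not_le.2 (Nat.one_lt_pow hne hM.1.one_lt))

end CfsgLib.Blocks
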