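import Cfsg.Agent.Lib.Blocks.ClassCount
import Cfsg.Agent.Lib.Chars17.IrrBasic
import Cfsg.Agent.Lib.Chars17.Constituents
import Cfsg.Agent.Lib.Characters.Counting
import Cfsg.Agent.Lib.Characters.BrauerPerm
import Cfsg.Agent.Lib.Characters.Values
import Cfsg.Agent.Lib.Recognition.RealDegreeThree

/-!
An element `u ≠ 1` such that every non-principal irreducible character `χ` has
`χ 1 - χ u = 4` or `χ u = 0`: the column of `u` is `1, -1, -1, 1` on characters of degrees
`1, 3, 3, 5` and zero elsewhere, and the kernel of the cubic characters has a quotient of order 60.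
-/

set_option autoImplicit false
set_option linter.style.haveILetI false
set_option linter.unusedSectionVars false
set_option linter.unusedSimpArgs false

namespace CfsgLib.ConstFour

open Cfsg CfsgLib.Characters CfsgLib.Chars17 CfsgLib.ClassCount CfsgLib.BrauerPerm
open scoped ComplexConjugate

universe u

variable {G : Type u} [Group G] [Fintype G]

/-- The hypothesis on `u`. -/
def Hyp (u : G) : Prop :=
  u ≠ 1 ∧ ∀ χ : IrrCharacter G, (χ : G → ℂ) ≠ (fun _ => (1 : ℂ)) →
    ((χ : G → ℂ) 1 - (χ : G → ℂ) u = 4 ∨ (χ : G → ℂ) u = 0)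

/-- The degree. -/
noncomputable def deg (χ : IrrCharacter G) : ℕ := charDegree (χ : G → ℂ)

open scoped Classical in
/-- The value at `u` as an integer. -/
noncomputable def val (u : G) (χ : IrrCharacter G) : ℤ :=
  if (χ : G → ℂ) u = 0 then 0 else if χ = principalIrr G then 1 else (deg χ : ℤ) - 4

/-- A cubic character with value `-1`. -/
def IsT (u : G) (χ : IrrCharacter G) : Prop := deg χ = 3 ∧ val u χ = -1

/-- Pointwise complex conjugation. -/
def cj (f : G → ℂ) : G → ℂ := fun g => conj (f g)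

theorem coe_deg (χ : IrrCharacter G) : (χ : G → ℂ) 1 = (deg χ : ℂ) := (cast_irrDegree χ).symm

theorem deg_pos (χ : IrrCharacter G) : 0 < deg χ := irrDegree_pos χ

theorem deg_principal : deg (principalIrr G) = 1 := by
  have h := coe_deg (principalIrr G)
  rw [principalIrr_apply] at h
  exact_mod_cast h.symm

theorem deg_conjIrr (χ : IrrCharacter G) : deg (conjIrr χ) = deg χ := by
  have h := coe_deg (conjIrr χ)
  rw [conjIrr_apply, coe_deg χ, map_natCast] at h
  exact_mod_cast h.symm

theorem ne_of_deg_ne {χ ψ : IrrCharacter G} (h : deg χ ≠ deg ψ) : χ ≠ ψ :=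
  fun e => h (by rw [e])

section Hyp

variable {u : G} (h : Hyp u)
include h

theorem val_eq (χ : IrrCharacter G) : (χ : G → ℂ) u = (val u χ : ℂ) := by
  classical
  unfold val
  split_ifs with h0 h1
  · simpa using h0
  · rw [h1, principalIrr_apply]; simp
  · have hne : (χ : G → ℂ) ≠ fun _ => (1 : ℂ) := fun e => h1 (Subtype.ext e)
    rcases h.2 χ hne with e | e
    · rw [coe_deg] at e
      push_cast
      linear_combination -e
    · exact absurd e h0

theorem conj_val (χ : IrrCharacter G) : conj ((χ : G → ℂ) u) = (χ : G → ℂ) u := by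
  rw [val_eq h]; exact map_intCast _ _

theorem val_principal : val u (principalIrr G) = 1 := by
  have := val_eq h (principalIrr G)
  rw [principalIrr_apply] at this
  exact_mod_cast this.symm

theorem val_cases (χ : IrrCharacter G) (hχ : χ ≠ principalIrr G) :
    val u χ = 0 ∨ val u χ = (deg χ : ℤ) - 4 := by
  classical
  unfold val
  split_ifs
  · exact Or.inl rfl
  · exact Or.inr rfl

theorem eq_principal_of_deg_one (χ : IrrCharacter G) (h1 : deg χ = 1) : χ = principalIrr G := by
  by_contra hne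
  obtain ⟨f, hf⟩ := exists_linearIrr_eq χ (by rw [coe_deg, h1, Nat.cast_one])
  have hv : (χ : G → ℂ) u = (f u : ℂ) := by rw [← hf]; rfl
  have hn : ‖(χ : G → ℂ) u‖ = 1 := by
    rw [hv]
    refine Complex.norm_eq_one_of_pow_eq_one ?_ (orderOf_pos u).ne'
    rw [← Units.val_pow_eq_pow_val, ← map_pow, pow_orderOf_eq_one, map_one, Units.val_one]
  rw [val_eq h] at hn
  rcases val_cases h χ hne with e | e <;> rw [e] at hn
  · simp at hn
  · rw [h1] at hn; norm_num at hn

theorem perfect : commutator G = ⊤ := by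
  rw [← Subgroup.index_eq_one, ← card_linear_irr, Nat.card_eq_one_iff_unique]
  refine ⟨⟨fun a b => Subtype.ext ?_⟩, ⟨⟨principalIrr G, rfl⟩⟩⟩
  have key : ∀ c : {χ : IrrCharacter G // (χ : G → ℂ) 1 = 1}, c.1 = principalIrr G := fun c =>
    eq_principal_of_deg_one h _ (by
      have := coe_deg c.1
      rw [c.2] at this
      exact_mod_cast this.symm)
  rw [key a, key b]

/-- Decomposition of a character, with the value at `u`. -/
theorem decomp {P : G → ℂ} (hP : IsCharacter G P) :
    ∃ m : IrrCharacter G → ℕ, (∀ ψ : IrrCharacter G, classInner P (ψ : G → ℂ) = (m ψ : ℂ)) ∧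
      (∀ g, P g = ∑ ψ, (m ψ : ℂ) * (ψ : G → ℂ) g) ∧
      (P 1 = ((∑ ψ, m ψ * deg ψ : ℕ) : ℂ)) ∧
      (P u = ((∑ ψ, (m ψ : ℤ) * val u ψ : ℤ) : ℂ)) := by
  obtain ⟨m, hm, hin, -⟩ := exists_decomp hP
  have hg : ∀ g, P g = ∑ ψ, (m ψ : ℂ) * (ψ : G → ℂ) g := fun g => by
    conv_lhs => rw [hm]
    simp
  refine ⟨m, hin, hg, ?_, ?_⟩
  · rw [hg]; push_cast
    exact Finset.sum_congr rfl fun ψ _ => by rw [coe_deg]
  · rw [hg]; push_cast
    exact Finset.sum_congr rfl fun ψ _ => by rw [val_eq h]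

theorem val_zero_of_deg_two (χ : IrrCharacter G) (h2 : deg χ = 2) : val u χ = 0 := by
  classical
  have hne : χ ≠ principalIrr G := ne_of_deg_ne (by rw [h2, deg_principal]; norm_num)
  by_contra hv0
  have hv : val u χ = -2 := by
    rw [(val_cases h χ hne).resolve_left hv0, h2]; norm_num
  have hPc : IsCharacter G ((χ : G → ℂ) * cj (χ : G → ℂ)) :=
    isCharacter_mul (irr_isCharacter χ) (isCharacter_conj (irr_isCharacter χ))
  obtain ⟨m, hin, -, h1, hu⟩ := decomp h hPc
  simp only [Pi.mul_apply, cj, coe_deg, h2, val_eq h, hv, map_intCast, map_natCast] at h1 hu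
  have h1' : ∑ ψ, m ψ * deg ψ = 4 := by
    have := h1.symm; norm_num at this; exact_mod_cast this
  have hu' : ∑ ψ, (m ψ : ℤ) * val u ψ = 4 := by
    have := hu.symm; norm_num at this; exact_mod_cast this
  have hm1 : m (principalIrr G) = 1 := by
    have e := hin (principalIrr G)
    have : classInner ((χ : G → ℂ) * cj (χ : G → ℂ)) (principalIrr G : G → ℂ) =
        classInner (χ : G → ℂ) (χ : G → ℂ) := by
      simp [classInner, cj]
    rw [this, classInner_irr_self χ.2] at e
    exact_mod_cast e.symm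
  have hle : ∀ ψ : IrrCharacter G, (m ψ : ℤ) * val u ψ ≤ ((m ψ * deg ψ : ℕ) : ℤ) := fun ψ => by
    push_cast
    refine mul_le_mul_of_nonneg_left ?_ (Int.natCast_nonneg _)
    rcases eq_or_ne ψ (principalIrr G) with rfl | hψ
    · rw [val_principal h, deg_principal]; rfl
    · have := deg_pos ψ
      rcases val_cases h ψ hψ with e | e <;> omega
  have hzero : ∀ ψ : IrrCharacter G, ψ ≠ principalIrr G → m ψ = 0 := by
    intro ψ hψ
    by_contra hm
    have hlt : (m ψ : ℤ) * val u ψ < ((m ψ * deg ψ : ℕ) : ℤ) := by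
      push_cast
      refine mul_lt_mul_of_pos_left ?_ (by omega)
      have := deg_pos ψ
      rcases val_cases h ψ hψ with e | e <;> omega
    have hcast : ((∑ ψ, m ψ * deg ψ : ℕ) : ℤ) = ∑ ψ, ((m ψ * deg ψ : ℕ) : ℤ) := Nat.cast_sum _ _
    have := Finset.sum_lt_sum (fun ψ _ => hle ψ) ⟨ψ, Finset.mem_univ _, hlt⟩
    omega
  rw [Finset.sum_eq_single (principalIrr G) (fun ψ _ hψ => by rw [hzero ψ hψ, zero_mul])
    (fun hc => absurd (Finset.mem_univ _) hc), hm1, deg_principal] at h1'
  omega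

/-- The possible degrees and values of a non-principal character. -/
theorem shape (χ : IrrCharacter G) (hχ : χ ≠ principalIrr G) :
    2 ≤ deg χ ∧ ((deg χ = 3 ∧ val u χ = -1) ∨ val u χ = 0 ∨
      (5 ≤ deg χ ∧ val u χ = (deg χ : ℤ) - 4)) := by
  have h1 : deg χ ≠ 1 := fun e => hχ (eq_principal_of_deg_one h χ e)
  have h0 := deg_pos χ
  refine ⟨by omega, ?_⟩
  rcases val_cases h χ hχ with e | e
  · exact Or.inr (Or.inl e)
  · rcases (show deg χ = 2 ∨ deg χ = 3 ∨ deg χ = 4 ∨ 5 ≤ deg χ by omega) with d | d | d | d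
    · exact Or.inr (Or.inl (val_zero_of_deg_two h χ d))
    · exact Or.inl ⟨d, by omega⟩
    · exact Or.inr (Or.inl (by omega))
    · exact Or.inr (Or.inr ⟨d, e⟩)

theorem five_le_of_val_pos (χ : IrrCharacter G) (hχ : χ ≠ principalIrr G) (hv : 0 < val u χ) :
    5 ≤ deg χ ∧ val u χ = (deg χ : ℤ) - 4 := by
  rcases (shape h χ hχ).2 with ⟨-, e⟩ | e | e
  · omega
  · omega
  · exact e

theorem IsT.ne_principal {χ : IrrCharacter G} (hχ : IsT u χ) : χ ≠ principalIrr G :=
  ne_of_deg_ne (by rw [hχ.1, deg_principal]; norm_num)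

theorem IsT.value {χ : IrrCharacter G} (hχ : IsT u χ) : (χ : G → ℂ) u = -1 := by
  rw [val_eq h, hχ.2]; norm_num

theorem IsT.conjIrr {χ : IrrCharacter G} (hχ : IsT u χ) :
    IsT u (CfsgLib.BrauerPerm.conjIrr χ) := by
  refine ⟨by rw [deg_conjIrr, hχ.1], ?_⟩
  have := val_eq h (CfsgLib.BrauerPerm.conjIrr χ)
  rw [conjIrr_apply, conj_val h, val_eq h, hχ.2] at this
  exact_mod_cast this.symm

end Hyp

theorem classInner_mul_left (a b c : G → ℂ) :
    classInner (a * b) c = classInner a (c * cj b) := by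
  simp [classInner, cj, mul_assoc, mul_comm, mul_left_comm]

theorem classInner_swap (a b c : G → ℂ) :
    classInner (a * cj b) (a * cj c) = classInner (a * cj a) (b * cj c) := by
  simp [classInner, cj, mul_assoc, mul_comm, mul_left_comm]

theorem cj_cj (f : G → ℂ) : cj (cj f) = f := by
  funext g; simp [cj]

theorem cj_irr (χ : IrrCharacter G) : cj (χ : G → ℂ) = (conjIrr χ : G → ℂ) := rfl

theorem isCharacter_mul_cj (a b : IrrCharacter G) :
    IsCharacter G ((a : G → ℂ) * cj (b : G → ℂ)) :=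
  isCharacter_mul (irr_isCharacter a) (isCharacter_conj (irr_isCharacter b))

theorem principal_eq : ((principalIrr G : IrrCharacter G) : G → ℂ) = fun _ => (1 : ℂ) := rfl

theorem classInner_cj_principal (a b : G → ℂ) :
    classInner (a * cj b) (fun _ => (1 : ℂ)) = classInner a b := by
  simp [classInner, cj]

/-- The inner product of two characters through their multiplicities. -/
theorem classInner_mult {P Q : G → ℂ} (hQ : IsCharacter G Q) {m m' : IrrCharacter G → ℕ}
    (hm : ∀ ψ : IrrCharacter G, classInner P (ψ : G → ℂ) = (m ψ : ℂ))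
    (hm' : ∀ ψ : IrrCharacter G, classInner Q (ψ : G → ℂ) = (m' ψ : ℂ)) :
    classInner P Q = ((∑ ψ, m ψ * m' ψ : ℕ) : ℂ) := by
  rw [classInner_eq_sum_mul (isClassFunction_of_isCharacter hQ)]
  push_cast
  exact Finset.sum_congr rfl fun ψ _ => by rw [hm, hm', map_natCast]

theorem pair_le_sum {ι : Type*} [Fintype ι] {x y : ι} (hxy : x ≠ y) (f : ι → ℕ) :
    f x + f y ≤ ∑ i, f i := by
  classical
  rw [← Finset.sum_pair hxy]
  exact Finset.sum_le_sum_of_subset (Finset.subset_univ _)

theorem exists_pos_term {ι : Type*} (s : Finset ι) (f : ι → ℤ) (h : 0 < ∑ i ∈ s, f i) :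
    ∃ i ∈ s, 0 < f i := by
  by_contra hc
  push Not at hc
  have := Finset.sum_nonpos hc
  omega

/-- `λ ⊗ b` for a quadratic `λ` cannot contain a cubic `a` with value `-1`. -/
theorem no_quadratic {u : G} (h : Hyp u) {a b φ : IrrCharacter G} (ha : IsT u a) (hb : IsT u b)
    (hφ : deg φ = 2) : classInner ((a : G → ℂ) * cj (b : G → ℂ)) (φ : G → ℂ) = 0 := by
  classical
  by_contra hne
  rw [classInner_mul_left, cj_cj, classInner_conj_symm] at hne
  have hQ : IsCharacter G ((φ : G → ℂ) * (b : G → ℂ)) :=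
    isCharacter_mul (irr_isCharacter φ) (irr_isCharacter b)
  obtain ⟨m, hin, -, h1, hu⟩ := decomp h hQ
  simp only [Pi.mul_apply, coe_deg, hφ, hb.1, val_eq h, hb.2,
    val_zero_of_deg_two h φ hφ] at h1 hu
  have h1' : ∑ ψ, m ψ * deg ψ = 6 := by
    have := h1.symm; norm_num at this; exact_mod_cast this
  have hu' : ∑ ψ, (m ψ : ℤ) * val u ψ = 0 := by
    have := hu.symm; norm_num at this; exact_mod_cast this
  have hma : 0 < m a := by
    refine Nat.pos_of_ne_zero fun e => hne ?_
    rw [hin, e, Nat.cast_zero, map_zero]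
  have hm1 : m (principalIrr G) = 0 := by
    have e := hin (principalIrr G)
    rw [principal_eq, ← cj_cj (b : G → ℂ), classInner_cj_principal, cj_irr,
      classInner_irr_ne φ.2 (conjIrr b).2 (fun e' => by
        have := congrArg deg (Subtype.ext e' : φ = conjIrr b)
        rw [deg_conjIrr, hφ, hb.1] at this
        omega)] at e
    exact_mod_cast e.symm
  rw [← Finset.add_sum_erase _ _ (Finset.mem_univ a), ha.2] at hu'
  obtain ⟨ψ, hψ, hpos⟩ := exists_pos_term (Finset.univ.erase a)
    (fun ψ => (m ψ : ℤ) * val u ψ) (by omega)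
  have hmψ : 0 < m ψ := Nat.pos_of_ne_zero fun e => by rw [e] at hpos; simp at hpos
  have hψ1 : ψ ≠ principalIrr G := fun e => by rw [e, hm1] at hmψ; omega
  have h5 := five_le_of_val_pos h ψ hψ1 (pos_of_mul_pos_right hpos (Int.natCast_nonneg _))
  have := pair_le_sum (Finset.ne_of_mem_erase hψ) fun ψ => m ψ * deg ψ
  have h3 := Nat.mul_le_mul hmψ h5.1
  have h4 := Nat.mul_le_mul hma (le_of_eq ha.1.symm)
  omega

/-- The product of two distinct cubic characters with value `-1`. -/
theorem prod_two {u : G} (h : Hyp u) {a b : IrrCharacter G} (ha : IsT u a) (hb : IsT u b)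
    (hab : a ≠ b) :
    (∀ ψ : IrrCharacter G, classInner ((a : G → ℂ) * cj (b : G → ℂ)) (ψ : G → ℂ) ≠ 0 →
      3 ≤ deg ψ ∧ deg ψ ≤ 6) ∧
    classInner ((a : G → ℂ) * cj (b : G → ℂ)) ((a : G → ℂ) * cj (b : G → ℂ)) = 2 ∧
    ∃ ψ : IrrCharacter G, classInner ((a : G → ℂ) * cj (b : G → ℂ)) (ψ : G → ℂ) ≠ 0 ∧
      ψ ≠ principalIrr G ∧ 0 < val u ψ := by
  classical
  obtain ⟨m, hin, -, h1, hu⟩ := decomp h (isCharacter_mul_cj a b)
  simp only [Pi.mul_apply, cj, coe_deg, ha.1, hb.1, val_eq h, ha.2, hb.2, map_intCast,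
    map_natCast] at h1 hu
  have h1' : ∑ ψ, m ψ * deg ψ = 9 := by
    have := h1.symm; norm_num at this; exact_mod_cast this
  have hu' : ∑ ψ, (m ψ : ℤ) * val u ψ = 1 := by
    have := hu.symm; norm_num at this; exact_mod_cast this
  have hm1 : m (principalIrr G) = 0 := by
    have e := hin (principalIrr G)
    rw [principal_eq, classInner_cj_principal, classInner_irr_ne a.2 b.2
      (fun e' => hab (Subtype.ext e'))] at e
    exact_mod_cast e.symm
  have hge : ∀ ψ, m ψ ≠ 0 → 3 ≤ deg ψ ∧ ψ ≠ principalIrr G := by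
    intro ψ hm
    have hne : ψ ≠ principalIrr G := fun e => hm (e ▸ hm1)
    refine ⟨?_, hne⟩
    have := (shape h ψ hne).1
    by_contra hc
    have h2 := hin ψ
    rw [no_quadratic h ha hb (by omega : deg ψ = 2)] at h2
    exact hm (by exact_mod_cast h2.symm)
  obtain ⟨ψ, -, hpos⟩ := exists_pos_term Finset.univ
    (fun ψ => (m ψ : ℤ) * val u ψ) (by omega)
  have hmψ : m ψ ≠ 0 := fun e => by rw [e] at hpos; simp at hpos
  have hψ1 := (hge ψ hmψ).2
  have hvψ : 0 < val u ψ := pos_of_mul_pos_right hpos (Int.natCast_nonneg _)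
  obtain ⟨hd5, hvd⟩ := five_le_of_val_pos h ψ hψ1 hvψ
  rw [← Finset.add_sum_erase _ _ (Finset.mem_univ ψ)] at h1' hu'
  have hmψ1 : m ψ = 1 := by
    by_contra hc
    have := Nat.mul_le_mul (show 2 ≤ m ψ by omega) hd5
    omega
  rw [hmψ1, Nat.cast_one, one_mul] at hu'
  rw [hmψ1, one_mul] at h1'
  have hnz : ∃ φ ∈ Finset.univ.erase ψ, m φ ≠ 0 := by
    by_contra hc
    push Not at hc
    rw [Finset.sum_eq_zero fun φ hφ => by rw [hc φ hφ, zero_mul]] at h1'
    rw [Finset.sum_eq_zero fun φ hφ => by rw [hc φ hφ, Nat.cast_zero, zero_mul]] at hu'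
    omega
  obtain ⟨φ, hφ, hmφ⟩ := hnz
  have hsingle := Finset.single_le_sum (f := fun χ => m χ * deg χ)
    (fun _ _ => Nat.zero_le _) hφ
  have hφ3 := (hge φ hmφ).1
  have hmφ1 : m φ = 1 := by
    by_contra hc
    have := Nat.mul_le_mul (show 2 ≤ m φ by omega) hφ3
    omega
  rw [hmφ1, one_mul] at hsingle
  have huniq : ∀ χ ∈ Finset.univ.erase ψ, χ ≠ φ → m χ = 0 := by
    intro χ hχ hne
    by_contra hc
    have hpair : m χ * deg χ + m φ * deg φ ≤
        ∑ x ∈ Finset.univ.erase ψ, m x * deg x := by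
      rw [← Finset.sum_pair (f := fun x => m x * deg x) hne]
      exact Finset.sum_le_sum_of_subset fun x hx => by
        rcases Finset.mem_insert.1 hx with rfl | hx
        · exact hχ
        · exact Finset.mem_singleton.1 hx ▸ hφ
    have h3 := (hge χ hc).1
    have := Nat.mul_le_mul (Nat.one_le_iff_ne_zero.2 hc) h3
    rw [hmφ1, one_mul] at hpair
    omega
  have hd6 : deg ψ ≤ 6 := by omega
  refine ⟨fun χ hχ => ?_, ?_, ψ, ?_, hψ1, hvψ⟩
  · rw [hin, Nat.cast_ne_zero] at hχ
    refine ⟨(hge χ hχ).1, ?_⟩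
    rcases eq_or_ne χ ψ with rfl | hne
    · exact hd6
    · rcases eq_or_ne χ φ with rfl | hne'
      · omega
      · exact absurd (huniq χ (Finset.mem_erase.2 ⟨hne, Finset.mem_univ _⟩) hne') hχ
  · rw [classInner_mult (isCharacter_mul_cj a b) hin hin,
      ← Finset.add_sum_erase _ _ (Finset.mem_univ ψ),
      Finset.sum_eq_single φ (fun χ hχ hne => by rw [huniq χ hχ hne, zero_mul])
        (fun hc => absurd hφ hc), hmψ1, hmφ1]
    norm_num
  · rw [hin, hmψ1]; norm_num

open scoped Classical in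
/-- The cubic characters with value `-1`. -/
noncomputable def tSet (u : G) : Finset (IrrCharacter G) :=
  Finset.univ.filter fun χ => deg χ = 3 ∧ val u χ = -1

open scoped Classical in
/-- The non-principal characters with positive value. -/
noncomputable def posSet (u : G) : Finset (IrrCharacter G) :=
  Finset.univ.filter fun χ => χ ≠ principalIrr G ∧ 0 < val u χ

theorem mem_tSet {u : G} {χ : IrrCharacter G} : χ ∈ tSet u ↔ IsT u χ := by
  classical
  simp [tSet, IsT]

theorem mem_posSet {u : G} {χ : IrrCharacter G} :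
    χ ∈ posSet u ↔ χ ≠ principalIrr G ∧ 0 < val u χ := by
  classical
  simp [posSet]

section Count

variable {u : G} (h : Hyp u)
include h

/-- The orthogonality relation between the columns of `1` and `u`. -/
theorem three_mul_card :
    3 * ((tSet u).card : ℤ) = 1 + ∑ χ ∈ posSet u, (deg χ : ℤ) * val u χ := by
  classical
  have h0 : ∑ χ : IrrCharacter G, (deg χ : ℤ) * val u χ = 0 := by
    have := sum_degree_mul_irr (G := G) u
    rw [if_neg h.1] at this
    simp only [coe_deg, val_eq h] at this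
    exact_mod_cast this
  have hp : ∀ χ : IrrCharacter G, (deg χ : ℤ) * val u χ =
      (if χ = principalIrr G then 1 else 0) + (if χ ∈ tSet u then -3 else 0) +
        (if χ ∈ posSet u then (deg χ : ℤ) * val u χ else 0) := by
    intro χ
    rcases eq_or_ne χ (principalIrr G) with rfl | hχ
    · rw [if_pos rfl, if_neg (fun e => (mem_tSet.1 e).ne_principal h rfl),
        if_neg (fun e => (mem_posSet.1 e).1 rfl), val_principal h, deg_principal]
      norm_num
    · rw [if_neg hχ]
      rcases (shape h χ hχ).2 with ⟨d, e⟩ | e | ⟨d, e⟩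
      · rw [if_pos (mem_tSet.2 ⟨d, e⟩), if_neg (fun x => by have := (mem_posSet.1 x).2; omega),
          d, e]
        norm_num
      · rw [if_neg (fun x => by have := (mem_tSet.1 x).2; omega),
          if_neg (fun x => by have := (mem_posSet.1 x).2; omega), e]
        simp
      · rw [if_neg (fun x => by have := (mem_tSet.1 x).1; omega),
          if_pos (mem_posSet.2 ⟨hχ, by omega⟩)]
        simp
  rw [Finset.sum_congr rfl fun χ _ => hp χ, Finset.sum_add_distrib, Finset.sum_add_distrib,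
    Finset.sum_ite_eq' Finset.univ (principalIrr G) fun _ => (1 : ℤ),
    if_pos (Finset.mem_univ _), Finset.sum_ite_mem, Finset.sum_ite_mem, Finset.univ_inter,
    Finset.univ_inter, Finset.sum_const, nsmul_eq_mul] at h0
  omega

theorem five_le_term {χ : IrrCharacter G} (hχ : χ ∈ posSet u) :
    5 ≤ (deg χ : ℤ) * val u χ := by
  obtain ⟨h1, h2⟩ := mem_posSet.1 hχ
  obtain ⟨hd, hv⟩ := five_le_of_val_pos h χ h1 h2
  calc (5 : ℤ) ≤ (deg χ : ℤ) * 1 := by omega
    _ ≤ _ := mul_le_mul_of_nonneg_left (by omega) (Int.natCast_nonneg _)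

theorem five_mul_card_le :
    5 * ((posSet u).card : ℤ) ≤ ∑ χ ∈ posSet u, (deg χ : ℤ) * val u χ := by
  rw [mul_comm, ← nsmul_eq_mul]
  exact Finset.card_nsmul_le_sum _ _ _ fun χ hχ => five_le_term h hχ

theorem two_le_card : 2 ≤ (tSet u).card := by
  have h1 := three_mul_card h
  have h2 := five_mul_card_le h
  rcases (posSet u).eq_empty_or_nonempty with e | e
  · rw [e, Finset.sum_empty] at h1
    omega
  · have := e.card_pos
    omega

/-- A non-real cubic character forces exactly two cubic characters. -/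
theorem card_tSet_of_nonreal {a : IrrCharacter G} (ha : IsT u a) (hnr : conjIrr a ≠ a) :
    (tSet u).card = 2 := by
  classical
  obtain ⟨M, hM, -, hM1, -⟩ := decomp h (isCharacter_mul_cj a a)
  have hM9 : ∑ ψ, M ψ * deg ψ = 9 := by
    simp only [Pi.mul_apply, cj, coe_deg, ha.1, map_natCast] at hM1
    have := hM1.symm; norm_num at this; exact_mod_cast this
  have hMone : M (principalIrr G) = 1 := by
    have e := hM (principalIrr G)
    rw [principal_eq, classInner_cj_principal, classInner_irr_self a.2] at e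
    exact_mod_cast e.symm
  have hnorm : ∑ ψ, M ψ * M ψ = 2 := by
    have e1 := (prod_two h ha (IsT.conjIrr h ha) (Ne.symm hnr)).2.1
    rw [classInner_swap, ← cj_irr, cj_cj, mul_comm (cj (a : G → ℂ)) (a : G → ℂ),
      classInner_mult (isCharacter_mul_cj a a) hM hM] at e1
    exact_mod_cast e1
  rw [← Finset.add_sum_erase _ _ (Finset.mem_univ (principalIrr G)), hMone] at hM9 hnorm
  obtain ⟨ψ₀, hψ₀, hM0⟩ : ∃ ψ ∈ Finset.univ.erase (principalIrr G), M ψ ≠ 0 := by
    by_contra hc
    push Not at hc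
    rw [Finset.sum_eq_zero fun φ hφ => by rw [hc φ hφ, zero_mul]] at hnorm
    omega
  have hA : ∀ ψ ∈ Finset.univ.erase (principalIrr G), ψ ≠ ψ₀ → M ψ = 0 := by
    intro ψ hψ hne
    by_contra hc
    have hpair : M ψ * M ψ + M ψ₀ * M ψ₀ ≤
        ∑ x ∈ Finset.univ.erase (principalIrr G), M x * M x := by
      rw [← Finset.sum_pair (f := fun x => M x * M x) hne]
      exact Finset.sum_le_sum_of_subset fun x hx => by
        rcases Finset.mem_insert.1 hx with rfl | hx
        · exact hψ
        · exact Finset.mem_singleton.1 hx ▸ hψ₀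
    have := Nat.mul_pos (Nat.pos_of_ne_zero hc) (Nat.pos_of_ne_zero hc)
    have := Nat.mul_pos (Nat.pos_of_ne_zero hM0) (Nat.pos_of_ne_zero hM0)
    omega
  rw [Finset.sum_eq_single ψ₀ (fun ψ hψ hne => by rw [hA ψ hψ hne, zero_mul])
    (fun hc => absurd hψ₀ hc)] at hM9 hnorm
  have hM01 : M ψ₀ = 1 := Nat.eq_one_of_mul_eq_one_left (show M ψ₀ * M ψ₀ = 1 by omega)
  rw [hM01, one_mul, deg_principal] at hM9
  have hall : ∀ ψ, M ψ ≠ 0 → deg ψ = 1 ∨ deg ψ = 8 := by
    intro ψ hψ
    rcases eq_or_ne ψ (principalIrr G) with rfl | h1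
    · exact Or.inl deg_principal
    · rcases eq_or_ne ψ ψ₀ with rfl | h2
      · exact Or.inr (by omega)
      · exact absurd (hA ψ (Finset.mem_erase.2 ⟨h1, Finset.mem_univ _⟩) h2) hψ
  have hchoice : ∀ b : IrrCharacter G, ∃ θ : IrrCharacter G, b ∈ (tSet u).erase a →
      classInner ((a : G → ℂ) * cj (b : G → ℂ)) (θ : G → ℂ) ≠ 0 ∧ θ ∈ posSet u := by
    intro b
    by_cases hb : b ∈ (tSet u).erase a
    · obtain ⟨hne, hb'⟩ := Finset.mem_erase.1 hb
      obtain ⟨-, -, θ, hθ, hθ1, hθv⟩ := prod_two h ha (mem_tSet.1 hb') (Ne.symm hne)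
      exact ⟨θ, fun _ => ⟨hθ, mem_posSet.2 ⟨hθ1, hθv⟩⟩⟩
    · exact ⟨a, fun e => absurd e hb⟩
  choose Θ hΘ using hchoice
  have hinj : Set.InjOn Θ ↑((tSet u).erase a) := by
    intro b hb c hc e
    rw [Finset.mem_coe] at hb hc
    by_contra hbc
    obtain ⟨mb, hmb, -⟩ := decomp h (isCharacter_mul_cj a b)
    obtain ⟨mc, hmc, -⟩ := decomp h (isCharacter_mul_cj a c)
    obtain ⟨n, hn, -⟩ := decomp h (isCharacter_mul_cj b c)
    have e1 := classInner_swap (a : G → ℂ) (b : G → ℂ) (c : G → ℂ)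
    rw [classInner_mult (isCharacter_mul_cj a c) hmb hmc,
      classInner_mult (isCharacter_mul_cj b c) hM hn] at e1
    have hz : ∑ ψ, M ψ * n ψ = 0 := Finset.sum_eq_zero fun ψ _ => by
      by_contra hne
      obtain ⟨hM', hn'⟩ := mul_ne_zero_iff.1 hne
      have hcb := (prod_two h (mem_tSet.1 (Finset.mem_of_mem_erase hb))
        (mem_tSet.1 (Finset.mem_of_mem_erase hc)) hbc).1 ψ (by rw [hn, Nat.cast_ne_zero]; exact hn')
      rcases hall ψ hM' with d | d <;> omega
    rw [hz, Nat.cast_inj] at e1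
    have h1 := (hΘ b hb).1
    have h2 := (hΘ c hc).1
    rw [hmb, Nat.cast_ne_zero] at h1
    rw [hmc, Nat.cast_ne_zero, ← e] at h2
    exact mul_ne_zero h1 h2 ((Finset.sum_eq_zero_iff.1 e1) (Θ b) (Finset.mem_univ _))
  have hle : ((tSet u).erase a).card ≤ (posSet u).card :=
    Finset.card_le_card_of_injOn Θ (fun b hb => (hΘ b hb).2) hinj
  rw [Finset.card_erase_of_mem (mem_tSet.2 ha)] at hle
  have := three_mul_card h
  have := five_mul_card_le h
  have := two_le_card h
  omega

end Count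

/-- The column of `u`. -/
structure Col (u : G) (a b θ : IrrCharacter G) : Prop where
  ha : IsT u a
  hb : IsT u b
  ne : a ≠ b
  deg_θ : deg θ = 5
  val_θ : val u θ = 1
  vanish : ∀ ψ, val u ψ ≠ 0 → ψ = principalIrr G ∨ ψ = a ∨ ψ = b ∨ ψ = θ
  only : ∀ ψ, IsT u ψ → ψ = a ∨ ψ = b

theorem exists_col {u : G} (h : Hyp u) (h2 : (tSet u).card = 2) :
    ∃ a b θ : IrrCharacter G, Col u a b θ := by
  classical
  obtain ⟨a, b, hab, hT⟩ := Finset.card_eq_two.1 h2
  have h1 := three_mul_card h
  have hc := five_mul_card_le h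
  rw [h2] at h1
  have hcard : (posSet u).card = 1 := by
    rcases (posSet u).eq_empty_or_nonempty with e | e
    · rw [e, Finset.sum_empty] at h1
      omega
    · have := e.card_pos
      omega
  obtain ⟨θ, hθ⟩ := Finset.card_eq_one.1 hcard
  rw [hθ, Finset.sum_singleton] at h1
  have hθp := mem_posSet.1 (show θ ∈ posSet u by rw [hθ]; exact Finset.mem_singleton_self θ)
  obtain ⟨hd, hv⟩ := five_le_of_val_pos h θ hθp.1 hθp.2
  have hd5 : deg θ = 5 := by
    by_contra hne
    have : (6 : ℤ) * 2 ≤ (deg θ : ℤ) * val u θ :=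
      mul_le_mul (by omega) (by omega) (by norm_num) (Int.natCast_nonneg _)
    omega
  have hmemT : ∀ ψ, ψ ∈ tSet u ↔ ψ = a ∨ ψ = b := fun ψ => by rw [hT]; simp
  refine ⟨a, b, θ, mem_tSet.1 ((hmemT a).2 (Or.inl rfl)), mem_tSet.1 ((hmemT b).2 (Or.inr rfl)),
    hab, hd5, by omega, fun ψ hψ => ?_, fun ψ hψ => (hmemT ψ).1 (mem_tSet.2 hψ)⟩
  by_cases hp : ψ = principalIrr G
  · exact Or.inl hp
  rcases (shape h ψ hp).2 with e | e | ⟨d, e⟩
  · rcases (hmemT ψ).1 (mem_tSet.2 e) with e | e
    · exact Or.inr (Or.inl e)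
    · exact Or.inr (Or.inr (Or.inl e))
  · exact absurd e hψ
  · have : ψ ∈ posSet u := mem_posSet.2 ⟨hp, by omega⟩
    rw [hθ, Finset.mem_singleton] at this
    exact Or.inr (Or.inr (Or.inr this))

namespace Col

variable {u : G} (h : Hyp u) {a b θ : IrrCharacter G} (hc : Col u a b θ)
include h hc

theorem sum_eq (F : IrrCharacter G → ℂ) :
    ∑ ψ, F ψ * (ψ : G → ℂ) u = F (principalIrr G) - F a - F b + F θ := by
  classical
  have d1 := deg_principal (G := G)
  have n1 : principalIrr G ∉ ({a, b, θ} : Finset (IrrCharacter G)) := by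
    simp only [Finset.mem_insert, Finset.mem_singleton, not_or]
    exact ⟨ne_of_deg_ne (by rw [d1, hc.ha.1]; norm_num), ne_of_deg_ne (by rw [d1, hc.hb.1]; norm_num),
      ne_of_deg_ne (by rw [d1, hc.deg_θ]; norm_num)⟩
  have n2 : a ∉ ({b, θ} : Finset (IrrCharacter G)) := by
    simp only [Finset.mem_insert, Finset.mem_singleton, not_or]
    exact ⟨hc.ne, ne_of_deg_ne (by rw [hc.ha.1, hc.deg_θ]; norm_num)⟩
  have n3 : b ∉ ({θ} : Finset (IrrCharacter G)) := by
    simp only [Finset.mem_singleton]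
    exact ne_of_deg_ne (by rw [hc.hb.1, hc.deg_θ]; norm_num)
  rw [← Finset.sum_subset (Finset.subset_univ {principalIrr G, a, b, θ}) (fun ψ _ hψ => by
    have hv : val u ψ = 0 := by
      by_contra hne
      exact hψ (by simpa using hc.vanish ψ hne)
    rw [val_eq h, hv, Int.cast_zero, mul_zero]),
    Finset.sum_insert n1, Finset.sum_insert n2, Finset.sum_insert n3, Finset.sum_singleton,
    val_eq h, val_eq h, val_eq h, val_eq h, val_principal h, hc.ha.2, hc.hb.2, hc.val_θ]
  push_cast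
  ring

theorem card_centralizer : Nat.card (Subgroup.centralizer ({u} : Set G)) = 4 := by
  classical
  have e := column_orth (G := G) u u
  rw [if_pos (IsConj.refl u)] at e
  simp only [conj_val h] at e
  rw [hc.sum_eq h fun ψ => (ψ : G → ℂ) u, principalIrr_apply, IsT.value h hc.ha,
    IsT.value h hc.hb, val_eq h θ, hc.val_θ] at e
  have := e.symm
  norm_num at this
  rw [Nat.card_eq_fintype_card]
  exact_mod_cast this

theorem orth {g : G} (hg : ¬ IsConj g u) :
    1 - (a : G → ℂ) g - (b : G → ℂ) g + (θ : G → ℂ) g = 0 := by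
  classical
  have e := column_orth (G := G) g u
  rw [if_neg hg] at e
  simp only [conj_val h] at e
  rw [hc.sum_eq h fun ψ => (ψ : G → ℂ) g, principalIrr_apply] at e
  exact e

/-- The number of ways to write `g` as a product of two conjugates of `u`. -/
theorem pairs_eq (g : G) :
    ((pairs u u {g}).card : ℂ) * 16 = (Nat.card G : ℂ) *
      (1 + ((a : G → ℂ) g⁻¹ + (b : G → ℂ) g⁻¹) / 3 + (θ : G → ℂ) g⁻¹ / 5) := by
  classical
  have e := card_pairs_mul_centralizers u u ({g} : Finset G)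
  simp only [Finset.sum_singleton] at e
  rw [hc.card_centralizer h] at e
  have hterm : ∀ ψ : IrrCharacter G, (cofDegree ψ : ℂ) *
      ((ψ : G → ℂ) u * (ψ : G → ℂ) u * (ψ : G → ℂ) g⁻¹) =
      ((cofDegree ψ : ℂ) * (ψ : G → ℂ) u * (ψ : G → ℂ) g⁻¹) * (ψ : G → ℂ) u := fun ψ => by ring
  rw [Finset.sum_congr rfl fun ψ _ => hterm ψ,
    hc.sum_eq h fun ψ => (cofDegree ψ : ℂ) * (ψ : G → ℂ) u * (ψ : G → ℂ) g⁻¹,
    ← card_div_degree, ← card_div_degree, ← card_div_degree, ← card_div_degree,
    principalIrr_apply, principalIrr_apply, principalIrr_apply, coe_deg a, coe_deg b, coe_deg θ,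
    hc.ha.1, hc.hb.1, hc.deg_θ, IsT.value h hc.ha, IsT.value h hc.hb, val_eq h θ, hc.val_θ] at e
  push_cast at e
  linear_combination e

theorem mul_self_mem : u * u ∈ irrKer a := by
  obtain ⟨n, ρ, hρ, hχ⟩ := a.2
  have hn : n = 3 := by
    have := congrFun hχ 1
    rw [Representation.char_one, Module.finrank_fin_fun, coe_deg, hc.ha.1] at this
    exact_mod_cast this
  subst hn
  have h1 := RealDegreeThree.mul_self_eq_one ρ (perfect h) (g := u) (by
    rw [congrFun hχ u]; exact IsT.value h hc.ha)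
  rw [mem_irrKer, ← congrFun hχ (u * u), ← congrFun hχ 1, character_eq_one_iff, map_mul, h1]

end Col

/-- A cubic character with value `-1` is real valued. -/
theorem real_of_isT {u : G} (h : Hyp u) {a : IrrCharacter G} (ha : IsT u a) :
    conjIrr a = a := by
  classical
  by_contra hnr
  obtain ⟨x, y, θ, hc⟩ := exists_col h (card_tSet_of_nonreal h ha hnr)
  have hxy : ∀ g, (x : G → ℂ) g + (y : G → ℂ) g = (a : G → ℂ) g + conj ((a : G → ℂ) g) := by
    intro g
    rcases hc.only a ha with e | e <;> rcases hc.only _ (IsT.conjIrr h ha) with e' | e'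
    · exact absurd (e'.trans e.symm) hnr
    · rw [← e, ← e', conjIrr_apply]
    · rw [← e, ← e', conjIrr_apply, add_comm]
    · exact absurd (e'.trans e.symm) hnr
  apply hnr
  rw [conjIrr_eq_self_iff]
  intro g
  rw [← Complex.conj_eq_iff_im, ← irr_apply_inv]
  by_cases hconj : IsConj g u
  · rw [irr_apply_inv, classFunction_eq_of_isConj (irr_isClassFunction a) hconj, conj_val h]
  have hinv : ¬ IsConj g⁻¹ u := by
    intro hi
    apply hconj
    refine (isConj_iff_irr g u).2 fun χ => ?_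
    have e := (isConj_iff_irr g⁻¹ u).1 hi χ
    rw [irr_apply_inv] at e
    rw [← Complex.conj_conj ((χ : G → ℂ) g), e, conj_val h]
  have hne : (pairs u u {g}).Nonempty := by
    rw [← Finset.card_pos]
    by_contra hzero
    have e := hc.pairs_eq h g
    rw [show (pairs u u {g}).card = 0 by omega, Nat.cast_zero, zero_mul] at e
    have hG : (Nat.card G : ℂ) ≠ 0 := Nat.cast_ne_zero.2 Nat.card_pos.ne'
    have e' := (mul_eq_zero.1 e.symm).resolve_left hG
    have ho := hc.orth h hinv
    have hR : (x : G → ℂ) g⁻¹ + (y : G → ℂ) g⁻¹ = ((-3 / 2 : ℚ) : ℂ) := by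
      push_cast
      linear_combination (15 / 8 : ℂ) * e' - (3 / 8 : ℂ) * ho
    have hint : IsIntegral ℤ ((-3 / 2 : ℚ) : ℂ) := by
      rw [← hR]
      exact (CfsgLib.ClassCount.irr_isIntegral x _).add (CfsgLib.ClassCount.irr_isIntegral y _)
    obtain ⟨z, hz⟩ := exists_int_of_isIntegral_rat hint
    have h2 : ((2 * z : ℤ) : ℚ) = ((-3 : ℤ) : ℚ) := by push_cast; rw [hz]; norm_num
    have := Int.cast_inj.1 h2
    omega
  obtain ⟨⟨v, w⟩, hvw⟩ := hne
  simp only [pairs, Finset.mem_filter, Finset.mem_product, mem_cls, Finset.mem_singleton] at hvw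
  obtain ⟨⟨hv, hw⟩, rfl⟩ := hvw
  obtain ⟨n, ρ, hρ, hχ⟩ := a.2
  have hn : n = 3 := by
    have := congrFun hχ 1
    rw [Representation.char_one, Module.finrank_fin_fun, coe_deg, ha.1] at this
    exact_mod_cast this
  subst hn
  have hsq : ∀ z, IsConj u z → ρ z * ρ z = 1 := fun z hz =>
    RealDegreeThree.mul_self_eq_one ρ (perfect h) (by
      rw [congrFun hχ z, ← classFunction_eq_of_isConj (irr_isClassFunction a) hz]
      exact IsT.value h ha)
  have hinvρ : ∀ z, IsConj u z → ρ z⁻¹ = ρ z := fun z hz => by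
    calc ρ z⁻¹ = ρ z⁻¹ * (ρ z * ρ z) := by rw [hsq z hz, mul_one]
      _ = ρ z := by rw [← mul_assoc, ← map_mul, inv_mul_cancel, map_one, one_mul]
  rw [← congrFun hχ, ← congrFun hχ]
  show LinearMap.trace ℂ _ (ρ (v * w)⁻¹) = LinearMap.trace ℂ _ (ρ (v * w))
  rw [mul_inv_rev, map_mul ρ w⁻¹ v⁻¹, map_mul ρ v w, hinvρ v hv, hinvρ w hw,
    LinearMap.trace_mul_comm]

/-- A constituent of a character inherits kernel elements. -/
theorem constituent_kernel {P : G → ℂ} (hP : IsCharacter G P) {k : G} (hk : P k = P 1)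
    (ψ : IrrCharacter G) (hψ : classInner P (ψ : G → ℂ) ≠ 0) : k ∈ irrKer ψ := by
  classical
  obtain ⟨m, hm, hin, -⟩ := exists_decomp hP
  have hg : ∀ g, P g = ∑ χ, (m χ : ℂ) * (χ : G → ℂ) g := fun g => by
    conv_lhs => rw [hm]
    simp
  rw [hg, hg] at hk
  have hre : ∀ χ : IrrCharacter G, ((χ : G → ℂ) k).re ≤ ((χ : G → ℂ) 1).re := fun χ => by
    refine (Complex.re_le_norm _).trans ?_
    have := norm_irr_le χ k
    rw [coe_deg, Complex.norm_natCast] at this
    rw [coe_deg, Complex.natCast_re]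
    exact this
  have e := congrArg Complex.re hk
  simp only [Complex.re_sum, Complex.mul_re, Complex.natCast_re, Complex.natCast_im, zero_mul,
    sub_zero] at e
  have h1 := ((Finset.sum_eq_sum_iff_of_le fun χ _ =>
    mul_le_mul_of_nonneg_left (hre χ) (Nat.cast_nonneg (m χ))).1 e) ψ (Finset.mem_univ _)
  rw [hin, Nat.cast_ne_zero] at hψ
  have h2 := mul_left_cancel₀ (Nat.cast_ne_zero.2 hψ) h1
  rw [mem_irrKer]
  have h3 := norm_irr_le ψ k
  rw [coe_deg, Complex.norm_natCast] at h3
  rw [coe_deg, Complex.natCast_re] at h2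
  rw [coe_deg]
  have him : ((ψ : G → ℂ) k).im = 0 := by
    have hn : ‖(ψ : G → ℂ) k‖ ^ 2 ≤ ((deg ψ : ℝ)) ^ 2 :=
      pow_le_pow_left₀ (norm_nonneg _) h3 2
    rw [Complex.sq_norm, Complex.normSq_apply, h2] at hn
    nlinarith
  exact Complex.ext (by simpa using h2) (by simpa using him)

theorem perfect_quotient (hp : commutator G = ⊤) (N : Subgroup G) [N.Normal] :
    commutator (G ⧸ N) = ⊤ := by
  rw [commutator_def, ← Subgroup.map_top_of_surjective (QuotientGroup.mk' N)
    (QuotientGroup.mk'_surjective N), ← Subgroup.map_commutator, ← commutator_def, hp]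

/-- The image of a cubic character is the icosahedral group. -/
theorem quotient_sixty {u : G} (h : Hyp u) {a : IrrCharacter G} (ha : IsT u a)
    [(irrKer a).Normal] :
    Nat.card (G ⧸ irrKer a) = 60 ∧ IsSimpleGroup (G ⧸ irrKer a) := by
  obtain ⟨η, hη⟩ := exists_infl_eq (irrKer a) (χ := a) le_rfl
  have hval : ∀ g : G, (a : G → ℂ) g = (η : G ⧸ irrKer a → ℂ) (g : G ⧸ irrKer a) := fun g => by
    rw [← infl_apply, hη]
  have h3 : (a : G → ℂ) 1 = 3 := by rw [coe_deg, ha.1]; norm_num
  refine RealDegreeThree.card_eq_sixty (perfect_quotient (perfect h) _) η ?_ ?_ ?_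
  · rw [← QuotientGroup.mk_one, ← hval, h3]
  · intro q
    obtain ⟨g, rfl⟩ := QuotientGroup.mk_surjective q
    rw [← hval]
    exact (conjIrr_eq_self_iff a).1 (real_of_isT h ha) g
  · intro q hq
    obtain ⟨g, rfl⟩ := QuotientGroup.mk_surjective q
    rw [QuotientGroup.eq_one_iff, mem_irrKer, hval, hq, h3]

theorem irrKer_normal (χ : IrrCharacter G) : (irrKer χ).Normal := ⟨fun n hn g => by
  rw [mem_irrKer] at hn ⊢
  rw [irr_isClassFunction χ n g, hn]⟩

/-- All cubic characters with value `-1` have the same kernel. -/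
theorem kernel_eq {u : G} (h : Hyp u) {a b : IrrCharacter G} (ha : IsT u a) (hb : IsT u b) :
    irrKer b = irrKer a := by
  classical
  by_contra hne
  have hab : a ≠ b := fun e => hne (by rw [e])
  have hna := irrKer_normal a
  have hnb := irrKer_normal b
  have hsa := quotient_sixty h ha
  have hsb := quotient_sixty h hb
  have hmax : ∀ (c : IrrCharacter G) [(irrKer c).Normal], IsSimpleGroup (G ⧸ irrKer c) →
      ∀ (L : Subgroup G), L.Normal → irrKer c ≤ L → L ≠ irrKer c → L = ⊤ := by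
    intro c _ hs L hL hle hLne
    have hmap := hL.map (QuotientGroup.mk' (irrKer c)) (QuotientGroup.mk'_surjective _)
    have hcm : (L.map (QuotientGroup.mk' (irrKer c))).comap (QuotientGroup.mk' (irrKer c)) = L := by
      rw [Subgroup.comap_map_eq, QuotientGroup.ker_mk', sup_eq_left.2 hle]
    rcases hs.eq_bot_or_eq_top_of_normal _ hmap with e | e
    · rw [e, MonoidHom.comap_bot, QuotientGroup.ker_mk'] at hcm
      exact absurd hcm.symm hLne
    · rw [e, Subgroup.comap_top] at hcm
      exact hcm.symm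
  have hnor : (irrKer a ⊔ irrKer b).Normal := inferInstance
  have htop : irrKer a ⊔ irrKer b = ⊤ := by
    rcases eq_or_ne (irrKer a ⊔ irrKer b) (irrKer a) with e | e
    · refine hmax b hsb.2 _ hnor le_sup_right ?_
      rw [e]; exact Ne.symm hne
    · exact hmax a hsa.2 _ hnor le_sup_left e
  obtain ⟨ma, hma, -⟩ := decomp h (isCharacter_mul_cj a a)
  obtain ⟨mb, hmb, -⟩ := decomp h (isCharacter_mul_cj b b)
  have e := (prod_two h ha hb hab).2.1
  rw [classInner_swap, classInner_mult (isCharacter_mul_cj b b) hma hmb] at e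
  have hone : ∀ c : IrrCharacter G, classInner ((c : G → ℂ) * cj (c : G → ℂ))
      (principalIrr G : G → ℂ) = 1 := fun c => by
    rw [principal_eq, classInner_cj_principal, classInner_irr_self c.2]
  have hsum : ∑ ψ, ma ψ * mb ψ = 1 := by
    rw [Finset.sum_eq_single (principalIrr G) (fun ψ _ hψ => ?_)
      (fun hc => absurd (Finset.mem_univ _) hc)]
    · have e1 := hma (principalIrr G)
      have e2 := hmb (principalIrr G)
      rw [hone] at e1 e2
      rw [show ma (principalIrr G) = 1 by exact_mod_cast e1.symm,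
        show mb (principalIrr G) = 1 by exact_mod_cast e2.symm]
    · by_contra hne'
      obtain ⟨h1, h2⟩ := mul_ne_zero_iff.1 hne'
      have hin : ∀ (c : IrrCharacter G) (mc : IrrCharacter G → ℕ),
          (∀ ψ : IrrCharacter G, classInner ((c : G → ℂ) * cj (c : G → ℂ)) (ψ : G → ℂ) = (mc ψ : ℂ)) →
          mc ψ ≠ 0 → irrKer c ≤ irrKer ψ := by
        intro c mc hmc hne k hk
        refine constituent_kernel (isCharacter_mul_cj c c) ?_ ψ (by
          rw [hmc, Nat.cast_ne_zero]; exact hne)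
        simp only [Pi.mul_apply, cj, mem_irrKer.1 hk]
      have hk : irrKer ψ = ⊤ := top_unique (htop ▸ sup_le (hin a ma hma h1) (hin b mb hmb h2))
      exact hψ (Subtype.ext ((irrKer_eq_top_iff ψ).1 hk))
  rw [hsum] at e
  norm_num at e

/-- There are exactly two cubic characters with value `-1`. -/
theorem card_tSet_eq_two {u : G} (h : Hyp u) : (tSet u).card = 2 := by
  classical
  obtain ⟨a, haT⟩ := Finset.card_pos.1 (lt_of_lt_of_le two_pos (two_le_card h))
  have ha := mem_tSet.1 haT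
  have hN := irrKer_normal a
  obtain ⟨h60, -⟩ := quotient_sixty h ha
  haveI : Fintype (G ⧸ irrKer a) := Fintype.ofFinite _
  set N := irrKer a with hNdef
  have hdeg : ∀ η : IrrCharacter (G ⧸ N), deg (infl N η) = deg η := fun η => by
    have e := coe_deg (infl N η)
    rw [infl_apply, QuotientGroup.mk_one, coe_deg] at e
    exact_mod_cast e.symm
  have hprin : infl N (principalIrr (G ⧸ N)) = principalIrr G := Subtype.ext (funext fun g => rfl)
  have hu' : (u : G ⧸ N) ≠ 1 := fun e => by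
    rw [QuotientGroup.eq_one_iff, hNdef, mem_irrKer, IsT.value h ha, coe_deg, ha.1] at e
    norm_num at e
  have h' : Hyp (u : G ⧸ N) := ⟨hu', fun η hη => by
    have := h.2 (infl N η) (fun e => hη (congrArg Subtype.val
      (infl_injective N ((Subtype.ext e : infl N η = principalIrr G).trans hprin.symm))))
    rwa [infl_apply, infl_apply, QuotientGroup.mk_one] at this⟩
  have hval : ∀ η : IrrCharacter (G ⧸ N), val u (infl N η) = val (u : G ⧸ N) η := fun η => by
    have e := val_eq h (infl N η)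
    rw [infl_apply, val_eq h'] at e
    exact_mod_cast e.symm
  have hT : ∀ η : IrrCharacter (G ⧸ N), infl N η ∈ tSet u ↔ η ∈ tSet (u : G ⧸ N) := fun η => by
    simp only [mem_tSet, IsT, hdeg, hval]
  have hcard : (tSet u).card = (tSet (u : G ⧸ N)).card := by
    symm
    refine Finset.card_nbij (infl N) (fun η hη => (hT η).2 hη) (infl_injective N).injOn ?_
    intro χ hχ
    obtain ⟨η, hη⟩ := exists_infl_eq N (χ := χ)
      (hNdef ▸ (kernel_eq h ha (mem_tSet.1 hχ)).ge)
    exact ⟨η, (hT η).1 (hη.symm ▸ hχ), hη⟩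
  rw [hcard]
  set v := (u : G ⧸ N)
  have h2 := two_le_card h'
  have h3 := three_mul_card h'
  have hsq := natSum_sq_degrees (G := G ⧸ N)
  rw [h60] at hsq
  have hp1 : principalIrr (G ⧸ N) ∉ tSet v ∪ posSet v := by
    rw [Finset.mem_union, not_or]
    exact ⟨fun e => (mem_tSet.1 e).ne_principal h' rfl, fun e => (mem_posSet.1 e).1 rfl⟩
  have hdisj : Disjoint (tSet v) (posSet v) := Finset.disjoint_left.2 fun χ h1 h2 => by
    have := (mem_tSet.1 h1).2
    have := (mem_posSet.1 h2).2
    omega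
  have hle : 1 + ((tSet v).card * 9 + (posSet v).card * 25) ≤ 60 := by
    rw [← hsq]
    refine le_trans ?_ (Finset.sum_le_sum_of_subset
      (Finset.subset_univ (insert (principalIrr (G ⧸ N)) (tSet v ∪ posSet v))))
    rw [Finset.sum_insert hp1, Finset.sum_union hdisj]
    refine add_le_add (le_of_eq ?_) (add_le_add ?_ ?_)
    · show 1 = deg (principalIrr (G ⧸ N)) ^ 2
      rw [deg_principal]; rfl
    · rw [← smul_eq_mul]
      refine Finset.card_nsmul_le_sum _ _ _ fun χ hχ => ?_
      show 9 ≤ deg χ ^ 2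
      rw [(mem_tSet.1 hχ).1]; norm_num
    · rw [← smul_eq_mul]
      refine Finset.card_nsmul_le_sum _ _ _ fun χ hχ => ?_
      obtain ⟨h1, h1'⟩ := mem_posSet.1 hχ
      exact le_trans (by norm_num) (Nat.pow_le_pow_left (five_le_of_val_pos h' χ h1 h1').1 2)
  have hne : (posSet v).Nonempty := by
    by_contra hne
    rw [Finset.not_nonempty_iff_eq_empty] at hne
    rw [hne, Finset.sum_empty] at h3
    omega
  have := hne.card_pos
  by_contra hne2
  obtain ⟨θ, hθ⟩ := Finset.card_eq_one.1 (show (posSet v).card = 1 by omega)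
  rw [hθ, Finset.sum_singleton] at h3
  have hθp := mem_posSet.1 (show θ ∈ posSet v by rw [hθ]; exact Finset.mem_singleton_self θ)
  obtain ⟨hd, hv⟩ := five_le_of_val_pos h' θ hθp.1 hθp.2
  rcases (show deg θ = 5 ∨ 6 ≤ deg θ by omega) with e | e
  · rw [e] at h3 hv; omega
  · have : (6 : ℤ) * 2 ≤ (deg θ : ℤ) * val v θ :=
      mul_le_mul (by omega) (by omega) (by norm_num) (Int.natCast_nonneg _)
    omega

/-- The data attached to `u`: its column and the icosahedral quotient. -/
theorem exists_data {u : G} (h : Hyp u) :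
    ∃ (a b θ : IrrCharacter G) (K : Subgroup G) (_ : K.Normal), Col u a b θ ∧
      Nat.card (G ⧸ K) = 60 ∧ IsSimpleGroup (G ⧸ K) ∧ u * u ∈ K ∧ u ∉ K := by
  obtain ⟨a, b, θ, hc⟩ := exists_col h (card_tSet_eq_two h)
  have hN := irrKer_normal a
  obtain ⟨h1, h2⟩ := quotient_sixty h hc.ha
  refine ⟨a, b, θ, irrKer a, hN, hc, h1, h2, hc.mul_self_mem h, fun e => ?_⟩
  rw [mem_irrKer, IsT.value h hc.ha, coe_deg, hc.ha.1] at e
  norm_num at e

end CfsgLib.ConstFour
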