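import Cfsg.Agent.Lib.Characters.Galois
import Cfsg.Agent.Lib.CharCorr.Basic

/-!
# An averaging bound for character values at generators
-/

set_option autoImplicit false
set_option linter.unusedSectionVars false

namespace CfsgLib.CyclicDefectBound

open Cfsg CfsgLib.Characters

universe u v

variable {P : Type u} [Group P] [Finite P]

theorem isCharacter_prod {ι : Type v} (s : Finset ι) {f : ι → P → ℂ}
    (h : ∀ i ∈ s, IsCharacter P (f i)) : IsCharacter P (∏ i ∈ s, f i) := by
  classical
  induction s using Finset.induction with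
  | empty =>
    rw [Finset.prod_empty]
    have h1 := isCharacter_of_irr (isIrrCharacter_of_hom (1 : P →* ℂˣ))
    simp only [MonoidHom.one_apply, Units.val_one] at h1
    exact h1
  | insert a s ha ih =>
    rw [Finset.prod_insert ha]
    exact isCharacter_mul (h a (Finset.mem_insert_self a s))
      (ih fun i hi => h i (Finset.mem_insert_of_mem hi))

theorem isIntegral_char {χ : P → ℂ} (h : IsCharacter P χ) (x : P) : IsIntegral ℤ (χ x) := by
  obtain ⟨n, ρ, rfl⟩ := h
  exact CfsgLib.CharScalar.isIntegral_character ρ x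

/-- If the squared absolute values of finitely many characters at every generator sum to `q`
and none vanishes, there are at most `q` of them. -/
theorem card_le_of_sum_normSq {ι : Type v} (hab : ∀ x y : P, Commute x y) (s : Finset ι)
    (ψ : ι → P → ℂ) (hψ : ∀ i ∈ s, IsCharacter P (ψ i)) (u : P) (hne : ∀ i ∈ s, ψ i u ≠ 0) (q : ℕ)
    (hsum : ∀ m : ℕ, m.Coprime (Nat.card P) →
      ∑ i ∈ s, ψ i (u ^ m) * ψ i (u ^ m)⁻¹ = (q : ℂ)) :
    s.card ≤ q := by
  classical
  set n := Nat.card P with hn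
  have hn0 : 0 < n := Nat.card_pos
  set U : Finset ℕ := (Finset.range n).filter fun m => m.Coprime n with hU
  have hUne : U.Nonempty := by
    refine ⟨1 % n, Finset.mem_filter.2 ⟨Finset.mem_range.2 (Nat.mod_lt _ hn0), ?_⟩⟩
    rw [Nat.Coprime, ← Nat.gcd_rec, Nat.gcd_comm, Nat.gcd_one_left]
  let x : ι → ℕ → ℝ := fun i m => Complex.normSq (ψ i (u ^ m))
  have hx : ∀ i ∈ s, ∀ m, (x i m : ℂ) = ψ i (u ^ m) * ψ i (u ^ m)⁻¹ := fun i hi m => by
    rw [Complex.normSq_eq_conj_mul_self, mul_comm, char_apply_inv (hψ i hi)]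
  have hrow : ∀ i ∈ s, (U.card : ℝ) ≤ ∑ m ∈ U, x i m := by
    intro i hi
    have hpos : ∀ m ∈ U, 0 < x i m := by
      intro m hm
      haveI : NeZero n := ⟨hn0.ne'⟩
      obtain ⟨σ, hσ⟩ := CharGalois.exists_autComplex n (Finset.mem_filter.1 hm).2
      refine Complex.normSq_pos.2 ?_
      rw [← CharGalois.map_char_eq_pow (hψ i hi) σ hσ u]
      exact fun h => hne i hi (σ.injective (h.trans (map_zero σ).symm))
    let pw : ℕ → P →* P := fun m => MonoidHom.mk' (fun a => a ^ m) fun a b => (hab a b).mul_pow m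
    let iv : P →* P := MonoidHom.mk' (fun a => a⁻¹) fun a b => by
      rw [(hab a b).eq, mul_inv_rev]
    let Θ : P → ℂ := ∏ m ∈ U, ((fun a => ψ i (pw m a)) * fun a => ψ i ((iv.comp (pw m)) a))
    have hΘ : IsCharacter P Θ := isCharacter_prod U fun m _ =>
      isCharacter_mul (CharGalois.isCharacter_comp (hψ i hi) (pw m))
        (CharGalois.isCharacter_comp (hψ i hi) (iv.comp (pw m)))
    have hval : ∀ a : P, Θ a = ∏ m ∈ U, ψ i (a ^ m) * ψ i (a ^ m)⁻¹ := fun a => by
      simp only [Θ, Finset.prod_apply]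
      rfl
    have hmod : ∀ m : ℕ, u ^ (m % n) = u ^ m := fun m => pow_mod_natCard u m
    obtain ⟨q', hq'⟩ := CharGalois.exists_rat_char hΘ u fun k hk => by
      rw [hval, hval]
      have hmem : ∀ m ∈ U, k * m % n ∈ U := fun m hm => by
        refine Finset.mem_filter.2 ⟨Finset.mem_range.2 (Nat.mod_lt _ hn0), ?_⟩
        have h := hk.mul_left (Finset.mem_filter.1 hm).2
        rw [Nat.Coprime, ← Nat.gcd_rec, Nat.gcd_comm]
        exact h
      have hinj : Set.InjOn (fun m => k * m % n) (U : Set ℕ) := fun a ha b hb h => by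
        have h' : a ≡ b [MOD n] :=
          Nat.ModEq.cancel_left_of_coprime (by rwa [Nat.gcd_comm]) (show k * a ≡ k * b [MOD n] from h)
        exact h'.eq_of_lt_of_lt (Finset.mem_range.1 (Finset.mem_filter.1 ha).1)
          (Finset.mem_range.1 (Finset.mem_filter.1 hb).1)
      refine Finset.prod_nbij (fun m => k * m % n) hmem hinj
        (Finset.surjOn_of_injOn_of_card_le _ (fun m hm => hmem m hm) hinj le_rfl) fun m _ => ?_
      rw [hmod, pow_mul]
    have hP : ((∏ m ∈ U, x i m : ℝ) : ℂ) = (q' : ℂ) := by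
      rw [← hq', hval, Complex.ofReal_prod]
      exact Finset.prod_congr rfl fun m _ => hx i hi m
    have hint : IsIntegral ℤ q' := by
      have h := isIntegral_char hΘ u
      rw [hq', show ((q' : ℚ) : ℂ) = algebraMap ℚ ℂ q' from (eq_ratCast _ _).symm,
        isIntegral_algebraMap_iff (algebraMap ℚ ℂ).injective] at h
      exact h
    obtain ⟨z, hz⟩ := IsIntegrallyClosed.isIntegral_iff.1 hint
    have hP' : ∏ m ∈ U, x i m = (z : ℝ) := by
      have h1 : ((∏ m ∈ U, x i m : ℝ) : ℂ) = ((z : ℝ) : ℂ) := by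
        rw [hP, ← hz]
        push_cast
        rfl
      exact_mod_cast h1
    have hz1 : (1 : ℝ) ≤ z := by
      have h0 : (0 : ℝ) < z := hP' ▸ Finset.prod_pos hpos
      exact_mod_cast (Int.add_one_le_iff.2 (show (0 : ℤ) < z by exact_mod_cast h0))
    have h1 : 0 ≤ ∑ m ∈ U, Real.log (x i m) := by
      rw [← Real.log_prod fun m hm => (hpos m hm).ne', hP']
      exact Real.log_nonneg hz1
    have h2 : ∑ m ∈ U, Real.log (x i m) ≤ ∑ m ∈ U, (x i m - 1) :=
      Finset.sum_le_sum fun m hm => Real.log_le_sub_one_of_pos (hpos m hm)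
    rw [Finset.sum_sub_distrib, Finset.sum_const, nsmul_one] at h2
    linarith
  have htot : ∑ i ∈ s, ∑ m ∈ U, x i m = (U.card : ℝ) * q := by
    rw [Finset.sum_comm]
    have h : ∀ m ∈ U, ∑ i ∈ s, x i m = (q : ℝ) := fun m hm => by
      have h1 : ((∑ i ∈ s, x i m : ℝ) : ℂ) = ((q : ℝ) : ℂ) := by
        rw [Complex.ofReal_sum, Finset.sum_congr rfl fun i hi => hx i hi m,
          hsum m (Finset.mem_filter.1 hm).2]
        simp
      exact_mod_cast h1
    rw [Finset.sum_congr rfl h, Finset.sum_const, nsmul_eq_mul]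
  have hle : (s.card : ℝ) * U.card ≤ (U.card : ℝ) * q := by
    rw [← htot, ← nsmul_eq_mul, ← Finset.sum_const]
    exact Finset.sum_le_sum hrow
  have hU0 : (0 : ℝ) < U.card := by exact_mod_cast hUne.card_pos
  have h3 : (s.card : ℝ) ≤ q := by
    by_contra hlt
    nlinarith
  exact_mod_cast h3

end CfsgLib.CyclicDefectBound
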