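import Cfsg.Agent.Lib.Blocks.CyclicNilpotent
import Cfsg.Agent.Lib.BrauerPairs.Normalizer
import Cfsg.Agent.S4633

/-!
# The inertial group of a block with cyclic defect group acts freely
-/

set_option autoImplicit false
set_option linter.unusedSectionVars false

namespace CfsgLib.CyclicDefectBound

open Cfsg MonoidAlgebra CfsgLib.BrauerPairs

universe u

variable {G : Type u} [Group G] [Fintype G] {p : ℕ} [hp : Fact p.Prime]

theorem conj_pow_mem {P : Subgroup G} {g y : G} {r : ℤ} (hy : g * y * g⁻¹ = y ^ r) (n : ℕ) :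
    g ^ n * y * (g ^ n)⁻¹ = y ^ r ^ n := by
  induction n with
  | zero => simp
  | succ n ih =>
    rw [pow_succ' g, mul_inv_rev, show g * g ^ n * y * ((g ^ n)⁻¹ * g⁻¹) =
      g * (g ^ n * y * (g ^ n)⁻¹) * g⁻¹ by group, ih, ← conj_zpow, hy, ← zpow_mul, pow_succ']

/-- An element normalising a cyclic `p`-group and fixing a nontrivial element of it acts as a
`p`-element. -/
theorem pow_card_mem_cz {P : Subgroup G} (hP : IsPGroup p P) (hcyc : IsCyclic P) {g : G}
    (hg : g ∈ Subgroup.normalizer (P : Set G)) {q : G} (hq : q ∈ P) (hq1 : q ≠ 1)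
    (hfix : g * q * g⁻¹ = q) : g ^ Nat.card P ∈ cz P := by
  obtain ⟨⟨y, hy⟩, hgen⟩ := IsCyclic.exists_generator (α := P)
  have hz : Subgroup.zpowers y = P := by
    refine le_antisymm (Subgroup.zpowers_le.2 hy) fun a ha => ?_
    obtain ⟨i, hi⟩ := Subgroup.mem_zpowers_iff.1 (hgen ⟨a, ha⟩)
    exact Subgroup.mem_zpowers_iff.2 ⟨i, by simpa using congrArg Subtype.val hi⟩
  obtain ⟨r, hr⟩ := Subgroup.mem_zpowers_iff.1
    (hz.symm ▸ (Subgroup.mem_normalizer_iff.1 hg y).1 hy : g * y * g⁻¹ ∈ Subgroup.zpowers y)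
  obtain ⟨i, hi⟩ := Subgroup.mem_zpowers_iff.1 (hz.symm ▸ hq : q ∈ Subgroup.zpowers y)
  obtain ⟨a, ha⟩ := hP.exists_card_eq
  have hord : orderOf y = p ^ a := by rw [← Nat.card_zpowers, hz, ha]
  have hri : y ^ (r * i) = y ^ i := by
    rw [zpow_mul, hr, conj_zpow, hi, hfix]
  have hdvd : (p : ℤ) ^ a ∣ (r - 1) * i := by
    have h1 : y ^ ((r - 1) * i) = 1 := by
      rw [sub_mul, one_mul, zpow_sub, hri, mul_inv_cancel]
    have := orderOf_dvd_iff_zpow_eq_one.2 h1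
    rwa [hord, Nat.cast_pow] at this
  have hr1 : (p : ℤ) ∣ r - 1 := by
    by_contra hnd
    refine hq1 ?_
    have hco : IsCoprime ((p : ℤ) ^ a) (r - 1) :=
      (((Nat.prime_iff_prime_int.1 hp.out).coprime_iff_not_dvd).2 hnd).pow_left
    have hdi : (p : ℤ) ^ a ∣ i := hco.dvd_of_dvd_mul_left hdvd
    rw [← hi]
    exact orderOf_dvd_iff_zpow_eq_one.1 (by rwa [hord, Nat.cast_pow])
  have hpow : (p : ℤ) ^ (a + 1) ∣ r ^ p ^ a - 1 := by
    have := dvd_sub_pow_of_dvd_sub hr1 a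
    simpa using this
  have hfixy : g ^ Nat.card P * y * (g ^ Nat.card P)⁻¹ = y := by
    rw [ha, conj_pow_mem (P := P) hr.symm]
    have h1 : y ^ (r ^ p ^ a - 1) = 1 := orderOf_dvd_iff_zpow_eq_one.1 (by
      rw [hord, Nat.cast_pow]; exact (pow_dvd_pow _ a.le_succ).trans hpow)
    rw [zpow_sub, zpow_one, mul_inv_eq_one] at h1
    exact h1
  refine mem_cz.2 fun z hzP => ?_
  obtain ⟨j, rfl⟩ := Subgroup.mem_zpowers_iff.1 (hz.symm ▸ hzP : z ∈ Subgroup.zpowers y)
  have hc : Commute (g ^ Nat.card P) y := mul_inv_eq_iff_eq_mul.1 hfixy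
  exact ((hc.zpow_right j).eq).symm

variable {M : Ideal AlgInt} [M.IsMaximal]

/-- The inertial group of a cyclic defect group acts freely. -/
theorem free_of_cyclic {P T : Subgroup G} {e : MonoidAlgebra (ResK M) G} [CharP (ResK M) p]
    (hST : BrSetup p P e T) (hPC : P ≤ cz P) (hDS : IsDefect p P e T P) (hcyc : IsCyclic P) :
    ∀ g ∈ T, ∀ q ∈ P, q ≠ 1 → g * q * g⁻¹ = q → g ∈ cz P := by
  intro g hg q hq hq1 hfix
  have hPp := hST.pgroup
  have hpow := pow_card_mem_cz hPp hcyc (hST.le_norm hg) hq hq1 hfix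
  have hndvd : ¬ p ∣ (cz P).relIndex T :=
    Cfsg.Agent.S4633.not_dvd_relIndex_of_trace hST hPC hDS
  haveI : ((cz P).subgroupOf T).Normal :=
    Subgroup.normal_subgroupOf_of_le_normalizer (hST.le_norm.trans (normalizer_le_normalizer_cz P))
  have hm : g ^ (cz P).relIndex T ∈ cz P := by
    have h1 : (((⟨g, hg⟩ : T) : T ⧸ (cz P).subgroupOf T)) ^
        Nat.card (T ⧸ (cz P).subgroupOf T) = 1 := pow_card_eq_one'
    rw [← QuotientGroup.mk_pow, QuotientGroup.eq_one_iff, Subgroup.mem_subgroupOf] at h1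
    simpa [Subgroup.relIndex, Subgroup.index] using h1
  obtain ⟨k, hk⟩ := hPp.exists_card_eq
  rw [hk] at hpow
  have hcop : Nat.Coprime (p ^ k) ((cz P).relIndex T) :=
    (hp.out.coprime_iff_not_dvd.2 hndvd).pow_left k
  obtain ⟨a, b, hab⟩ := Int.isCoprime_iff_gcd_eq_one.2 (by rwa [Int.gcd_natCast_natCast] :
    Int.gcd ((p ^ k : ℕ) : ℤ) ((cz P).relIndex T : ℤ) = 1)
  rw [← zpow_one g, ← hab, zpow_add, zpow_mul', zpow_mul', zpow_natCast, zpow_natCast]
  exact (cz P).mul_mem ((cz P).zpow_mem hpow a) ((cz P).zpow_mem hm b)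

end CfsgLib.CyclicDefectBound
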