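import Cfsg.Agent.Lib.Blocks.BrauerMap
import Mathlib.GroupTheory.Sylow
import Mathlib.Algebra.Ring.GeomSum

/-!
# Defect groups of a block idempotent, algebraically

A block of the subgroup algebra `invAlg k K H` is given by an idempotent `e` and an algebra map
`lam` to the field `k` with `lam e = 1` such that `(a - lam a) * e` is always nilpotent.
-/

set_option autoImplicit false
set_option linter.style.haveILetI false
set_option linter.unusedSectionVars false

namespace CfsgLib.BlockAlg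

open MonoidAlgebra

variable {k G : Type*} [Field k] [Group G] [Fintype G]

/-- The sum of the `H`-conjugates of `c`. -/
noncomputable def classSum (k : Type*) [Field k] (H : Subgroup G) (c : G) : MonoidAlgebra k G :=
  letI := Classical.decPred fun y : G => ∃ h ∈ H, h * c * h⁻¹ = y
  ofFun fun y => if ∃ h ∈ H, h * c * h⁻¹ = y then 1 else 0

theorem coeff_classSum {H : Subgroup G} (c y : G) [Decidable (∃ h ∈ H, h * c * h⁻¹ = y)] :
    (classSum k H c).coeff y = if ∃ h ∈ H, h * c * h⁻¹ = y then 1 else 0 := by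
  unfold classSum
  rw [coeff_ofFun]
  congr

theorem classSum_ne_zero_iff {H : Subgroup G} (c y : G) :
    (classSum k H c).coeff y ≠ 0 ↔ ∃ h ∈ H, h * c * h⁻¹ = y := by
  classical
  rw [coeff_classSum]
  by_cases h : ∃ h ∈ H, h * c * h⁻¹ = y <;> simp [h]

theorem classSum_self {H : Subgroup G} (c : G) : (classSum k H c).coeff c = 1 := by
  classical
  rw [coeff_classSum, if_pos ⟨1, H.one_mem, by group⟩]

theorem inv_classSum (H : Subgroup G) (c : G) : Inv H (classSum k H c) := by
  classical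
  intro u hu g
  have : (∃ h ∈ H, h * c * h⁻¹ = u * g * u⁻¹) ↔ (∃ h ∈ H, h * c * h⁻¹ = g) := by
    constructor
    · rintro ⟨h, hh, he⟩
      exact ⟨u⁻¹ * h, H.mul_mem (H.inv_mem hu) hh, by
        rw [show u⁻¹ * h * c * (u⁻¹ * h)⁻¹ = u⁻¹ * (h * c * h⁻¹) * u by group, he]; group⟩
    · rintro ⟨h, hh, he⟩
      exact ⟨u * h, H.mul_mem hu hh, by
        rw [show u * h * c * (u * h)⁻¹ = u * (h * c * h⁻¹) * u⁻¹ by group, he]⟩
  rw [coeff_classSum, coeff_classSum, if_congr this rfl rfl]

theorem suppIn_classSum {K H : Subgroup G} (hHK : H ≤ Subgroup.normalizer (K : Set G)) {c : G}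
    (hc : c ∈ K) : SuppIn K (classSum k H c) := by
  intro y hy
  by_contra h
  obtain ⟨u, hu, he⟩ := (classSum_ne_zero_iff c y).1 h
  exact hy (he ▸ (Subgroup.mem_normalizer_iff.1 (hHK hu) c).1 hc)

theorem classSum_mem {K H : Subgroup G} (hHK : H ≤ Subgroup.normalizer (K : Set G)) {c : G}
    (hc : c ∈ K) : classSum k H c ∈ invAlg k K H :=
  ⟨suppIn_classSum hHK hc, inv_classSum H c⟩

/-- A linear map which does not vanish on an invariant element does not vanish on the class sum
of some element of its support. -/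
theorem exists_classSum_ne_zero {K H : Subgroup G} (hHK : H ≤ Subgroup.normalizer (K : Set G))
    (f : invAlg k K H →ₗ[k] k) (x : invAlg k K H) (hx : f x ≠ 0) :
    ∃ c, ∃ hc : c ∈ K, x.1.coeff c ≠ 0 ∧ f ⟨classSum k H c, classSum_mem hHK hc⟩ ≠ 0 := by
  classical
  induction hn : x.1.coeff.support.card using Nat.strong_induction_on generalizing x with
  | _ n ih =>
    have hne : x.1 ≠ 0 := fun h => hx (by rw [show x = 0 from Subtype.ext h, map_zero])
    obtain ⟨c, hc⟩ : ∃ c, x.1.coeff c ≠ 0 := by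
      by_contra h
      push Not at h
      exact hne (MonoidAlgebra.ext (Finsupp.ext h))
    have hcK : c ∈ K := by_contra fun h => hc (x.2.1 c h)
    by_cases hf : f ⟨classSum k H c, classSum_mem hHK hcK⟩ = 0
    · let x' : invAlg k K H := x - x.1.coeff c • ⟨classSum k H c, classSum_mem hHK hcK⟩
      have hcoe : ∀ y, x'.1.coeff y = x.1.coeff y - x.1.coeff c * (classSum k H c).coeff y := by
        intro y; simp [x']
      have hsub : x'.1.coeff.support ⊂ x.1.coeff.support := by
        refine ⟨fun y hy => ?_, fun hss => ?_⟩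
        · rw [Finsupp.mem_support_iff] at hy ⊢
          intro h0
          apply hy
          rw [hcoe, h0]
          by_cases hy' : (classSum k H c).coeff y = 0
          · simp [hy']
          · obtain ⟨u, hu, he⟩ := (classSum_ne_zero_iff c y).1 hy'
            have := x.2.2 u hu c
            rw [he, h0] at this
            exact absurd this.symm hc
        · have h1 := hss (Finsupp.mem_support_iff.2 hc)
          rw [Finsupp.mem_support_iff, hcoe, classSum_self, mul_one, sub_self] at h1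
          exact h1 rfl
      obtain ⟨d, hd, hd1, hd2⟩ := ih _ (hn ▸ Finset.card_lt_card hsub) x'
        (by simp only [x', map_sub, map_smul, hf, smul_zero, sub_zero]; exact hx) rfl
      exact ⟨d, hd, fun h => (Finsupp.mem_support_iff.1
        (hsub.subset (Finsupp.mem_support_iff.2 hd1))) h, hd2⟩
    · exact ⟨c, hcK, hc, hf⟩

variable {K H : Subgroup G}

/-- `e`, `lam` form a block of `invAlg k K H`. -/
structure IsBlockDatum (e : invAlg k K H) (lam : invAlg k K H →ₐ[k] k) : Prop where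
  idem : e * e = e
  map_e : lam e = 1
  nil : ∀ a, IsNilpotent ((a - algebraMap k _ (lam a)) * e)

theorem IsBlockDatum.algHom_eq {e : invAlg k K H} {lam : invAlg k K H →ₐ[k] k}
    (hb : IsBlockDatum e lam) (mu : invAlg k K H →ₐ[k] k) (hmu : mu e = 1) : mu = lam := by
  ext a
  have := IsNilpotent.eq_zero ((hb.nil a).map mu)
  rw [map_mul, hmu, mul_one, map_sub, AlgHom.commutes] at this
  exact sub_eq_zero.1 this

variable {p : ℕ} [Fact p.Prime]

theorem IsBlockDatum.inDefectIdeal (hpk : (p : k) = 0) (hKH : K ≤ H) {e : invAlg k K H}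
    {lam : invAlg k K H →ₐ[k] k} (hb : IsBlockDatum e lam) {D : Subgroup G} {a : invAlg k K H}
    (ha : lam a ≠ 0) (haD : InDefectIdeal p H D a.1) : InDefectIdeal p H D e.1 := by
  have hcomm : ∀ x y : invAlg k K H, Commute x y := fun x y =>
    Subtype.ext (commute_of_inv x.2.1 (y.2.2.mono hKH))
  set n := (algebraMap k (invAlg k K H) (lam a)⁻¹) *
    ((a - algebraMap k _ (lam a)) * e) with hn
  have hnil : IsNilpotent n :=
    (hcomm _ _).isNilpotent_mul_left (hb.nil a)
  obtain ⟨u, hu⟩ := hnil.isUnit_one_add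
  have key : algebraMap k (invAlg k K H) (lam a)⁻¹ * (a * e) = (1 + n) * e := by
    rw [hn, add_mul, one_mul, mul_assoc, mul_assoc (a - _) e e, hb.idem, sub_mul, mul_sub,
      ← mul_assoc _ (algebraMap k (invAlg k K H) (lam a)) e, ← map_mul, inv_mul_cancel₀ ha,
      map_one, one_mul]
    abel
  have he : e = a * (algebraMap k (invAlg k K H) (lam a)⁻¹ * (e * ↑u⁻¹)) := by
    calc e = (1 + n) * ↑u⁻¹ * e := by rw [← hu, Units.mul_inv, one_mul]
      _ = ↑u⁻¹ * ((1 + n) * e) := by rw [(hcomm (1 + n) _).eq, mul_assoc]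
      _ = _ := by
        rw [← key, (hcomm e _).eq]
        simp only [← mul_assoc]
        rw [(hcomm _ a).eq]
        simp only [mul_assoc]
        rw [← mul_assoc (↑u⁻¹ : invAlg k K H) (algebraMap k _ _) e, (hcomm (↑u⁻¹ : invAlg k K H) _).eq, mul_assoc]
  rw [he, Subalgebra.coe_mul]
  exact haD.mul hpk a.2.2 (SetLike.coe_mem _ : _ ∈ invAlg k K H).2

/-- `D` is a defect subgroup of the invariant element `x`. -/
def IsDefectSub (p : ℕ) (H D : Subgroup G) (x : MonoidAlgebra k G) : Prop :=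
  D ≤ H ∧ IsPGroup p D ∧ InDefectIdeal p H D x ∧ br D x ≠ 0

theorem exists_mem_centralizer_of_br_ne_zero {P : Subgroup G} {x : MonoidAlgebra k G}
    (h : br P x ≠ 0) : ∃ c, x.coeff c ≠ 0 ∧ c ∈ Subgroup.centralizer (P : Set G) := by
  by_contra hcon
  push Not at hcon
  refine h (MonoidAlgebra.ext (Finsupp.ext fun g => ?_))
  by_cases hg : g ∈ Subgroup.centralizer (P : Set G)
  · rw [coeff_br_of_mem hg]; exact by_contra fun hne => hcon g hne hg
  · exact suppIn_br P x g hg

theorem le_centralizer_singleton_iff {P : Subgroup G} {c : G} :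
    P ≤ Subgroup.centralizer ({c} : Set G) ↔ c ∈ Subgroup.centralizer (P : Set G) := by
  simp only [SetLike.le_def, Subgroup.mem_centralizer_iff, Set.mem_singleton_iff, forall_eq,
    SetLike.mem_coe]
  exact ⟨fun h r hr => (h hr).symm, fun h r hr => (h r hr).symm⟩

theorem IsDefectSub.br_ne_zero_iff {D : Subgroup G} {x : MonoidAlgebra k G}
    (hD : IsDefectSub p H D x) (hx : Inv H x) {P : Subgroup G} (hP : IsPGroup p P) (hPH : P ≤ H) :
    br P x ≠ 0 ↔ ∃ h ∈ H, ∀ r ∈ P, h * r * h⁻¹ ∈ D := by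
  constructor
  · intro h
    obtain ⟨c, hc, hcP⟩ := exists_mem_centralizer_of_br_ne_zero h
    exact hD.2.2.1 c hc P hP hPH (le_centralizer_singleton_iff.2 hcP)
  · rintro ⟨h, hh, hPD⟩ h0
    obtain ⟨c, hc, hcD⟩ := exists_mem_centralizer_of_br_ne_zero hD.2.2.2
    have hmem : h⁻¹ * c * h ∈ Subgroup.centralizer (P : Set G) := by
      rw [Subgroup.mem_centralizer_iff]
      intro r hr
      have := Subgroup.mem_centralizer_iff.1 hcD _ (hPD r hr)
      calc r * (h⁻¹ * c * h) = h⁻¹ * (h * r * h⁻¹ * c) * h := by group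
        _ = h⁻¹ * (c * (h * r * h⁻¹)) * h := by rw [this]
        _ = h⁻¹ * c * h * r := by group
    have := congrArg (fun y : MonoidAlgebra k G => y.coeff (h⁻¹ * c * h)) h0
    simp only [coeff_br_of_mem hmem, coeff_zero, Finsupp.coe_zero, Pi.zero_apply] at this
    have h2 := hx h⁻¹ (H.inv_mem hh) c
    rw [inv_inv, this] at h2
    exact hc h2.symm

theorem IsDefectSub.conj {D E : Subgroup G} {x : MonoidAlgebra k G}
    (hD : IsDefectSub p H D x) (hE : IsDefectSub p H E x) (hx : Inv H x) :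
    ∃ h ∈ H, D.map (MulAut.conj h).toMonoidHom = E := by
  obtain ⟨h, hh, hDE⟩ := (hE.br_ne_zero_iff hx hD.2.1 hD.1).1 hD.2.2.2
  obtain ⟨g, -, hED⟩ := (hD.br_ne_zero_iff hx hE.2.1 hE.1).1 hE.2.2.2
  refine ⟨h, hh, Subgroup.eq_of_le_of_card_ge ?_ ?_⟩
  · rintro _ ⟨r, hr, rfl⟩; exact hDE r hr
  · rw [Subgroup.card_map_of_injective (MulEquiv.injective _)]
    refine le_trans (Nat.card_le_card_of_injective
      (fun r : E => (⟨g * r * g⁻¹, hED r r.2⟩ : D)) fun r s hrs => ?_) le_rfl
    simpa using congrArg Subtype.val hrs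

theorem IsDefectSub.conjugate {D : Subgroup G} {x : MonoidAlgebra k G}
    (hD : IsDefectSub p H D x) (hx : Inv H x) {g : G} (hg : g ∈ H) :
    IsDefectSub p H (D.map (MulAut.conj g).toMonoidHom) x := by
  have hle : D.map (MulAut.conj g).toMonoidHom ≤ H := by
    rintro _ ⟨r, hr, rfl⟩
    exact H.mul_mem (H.mul_mem hg (hD.1 hr)) (H.inv_mem hg)
  refine ⟨hle, hD.2.1.map _, fun c hc R hR hRH hRc => ?_, ?_⟩
  · obtain ⟨h, hh, hhR⟩ := hD.2.2.1 c hc R hR hRH hRc
    exact ⟨g * h, H.mul_mem hg hh, fun r hr => ⟨h * r * h⁻¹, hhR r hr, by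
      simp [mul_assoc]⟩⟩
  · refine (hD.br_ne_zero_iff hx (hD.2.1.map _) hle).2 ⟨g⁻¹, H.inv_mem hg, ?_⟩
    rintro _ ⟨r, hr, rfl⟩
    simpa [mul_assoc] using hr

/-- A Sylow subgroup of the `H`-centraliser of an element of the support at whose class `lam` is
non-zero is a defect subgroup. -/
theorem IsBlockDatum.isDefectSub_of_class (hpk : (p : k) = 0) (hKH : K ≤ H)
    (hHK : H ≤ Subgroup.normalizer (K : Set G)) {e : invAlg k K H} {lam : invAlg k K H →ₐ[k] k}
    (hb : IsBlockDatum e lam) {c : G} (hcK : c ∈ K) (hc : e.1.coeff c ≠ 0)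
    (hl : lam ⟨classSum k H c, classSum_mem hHK hcK⟩ ≠ 0) {D : Subgroup G} (hD : IsPGroup p D)
    (hDle : D ≤ H ⊓ Subgroup.centralizer ({c} : Set G))
    (hSyl : ∀ R : Subgroup G, IsPGroup p R → R ≤ H ⊓ Subgroup.centralizer ({c} : Set G) →
      ∃ h ∈ H ⊓ Subgroup.centralizer ({c} : Set G), ∀ r ∈ R, h * r * h⁻¹ ∈ D) :
    IsDefectSub p H D e.1 := by
  refine ⟨hDle.trans inf_le_left, hD, hb.inDefectIdeal hpk hKH hl ?_, fun h0 => ?_⟩
  · intro y hy R hR hRH hRy
    obtain ⟨u, hu, rfl⟩ := (classSum_ne_zero_iff c y).1 hy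
    obtain ⟨h, hh, hhR⟩ := hSyl (R.map (MulAut.conj u⁻¹).toMonoidHom) (hR.map _) (le_inf
      (by rintro _ ⟨r, hr, rfl⟩
          exact H.mul_mem (H.mul_mem (H.inv_mem hu) (hRH hr)) (H.inv_mem (H.inv_mem hu)))
      (by
        rintro _ ⟨r, hr, rfl⟩
        rw [Subgroup.mem_centralizer_iff]
        intro c' hc'
        rw [Set.mem_singleton_iff] at hc'
        subst hc'
        have := Subgroup.mem_centralizer_iff.1 (hRy hr) _ rfl
        simp only [MulEquiv.coe_toMonoidHom, MulAut.conj_apply]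
        calc c' * (u⁻¹ * r * u⁻¹⁻¹) = u⁻¹ * (u * c' * u⁻¹ * r) * u := by group
          _ = u⁻¹ * (r * (u * c' * u⁻¹)) * u := by rw [this]
          _ = u⁻¹ * r * u⁻¹⁻¹ * c' := by group))
    refine ⟨h * u⁻¹, H.mul_mem hh.1 (H.inv_mem hu), fun r hr => ?_⟩
    simpa [mul_assoc] using hhR _ (Subgroup.mem_map_of_mem _ hr)
  · have hcD : c ∈ Subgroup.centralizer (D : Set G) :=
      le_centralizer_singleton_iff.1 (hDle.trans inf_le_right)
    have := congrArg (fun y : MonoidAlgebra k G => y.coeff c) h0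
    exact hc (by simpa [coeff_br_of_mem hcD] using this)

/-- A Sylow subgroup of `L`, seen in `G`, absorbs the `p`-subgroups of `L` up to conjugation. -/
theorem sylow_map_absorb {L : Subgroup G} (P : Sylow p L) {R : Subgroup G} (hR : IsPGroup p R)
    (hRL : R ≤ L) : ∃ h ∈ L, ∀ r ∈ R, h * r * h⁻¹ ∈ (P : Subgroup L).map L.subtype := by
  have hR' : IsPGroup p (R.subgroupOf L) := hR.comap_subtype
  obtain ⟨Q, hQ⟩ := hR'.exists_le_sylow
  obtain ⟨h, rfl⟩ := MulAction.exists_smul_eq L Q P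
  refine ⟨h, h.2, fun r hr => ⟨h * ⟨r, hRL hr⟩ * h⁻¹, ?_, rfl⟩⟩
  rw [Sylow.coe_subgroup_smul]
  exact Subgroup.smul_mem_pointwise_smul (⟨r, hRL hr⟩ : L) (MulAut.conj h) _ (hQ hr)

theorem isPGroup_sylow_map {L : Subgroup G} (P : Sylow p L) :
    IsPGroup p ((P : Subgroup L).map L.subtype) := P.isPGroup'.map _

theorem sylow_map_le {L : Subgroup G} (P : Sylow p L) :
    (P : Subgroup L).map L.subtype ≤ L := Subgroup.map_subtype_le _

theorem IsBlockDatum.exists_class (hHK : H ≤ Subgroup.normalizer (K : Set G))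
    {e : invAlg k K H} {lam : invAlg k K H →ₐ[k] k} (hb : IsBlockDatum e lam) :
    ∃ c, ∃ hcK : c ∈ K, e.1.coeff c ≠ 0 ∧
      lam ⟨classSum k H c, classSum_mem hHK hcK⟩ ≠ 0 :=
  exists_classSum_ne_zero hHK lam.toLinearMap e (by simp [hb.map_e])

theorem IsBlockDatum.exists_isDefectSub (hpk : (p : k) = 0) (hKH : K ≤ H)
    (hHK : H ≤ Subgroup.normalizer (K : Set G)) {e : invAlg k K H} {lam : invAlg k K H →ₐ[k] k}
    (hb : IsBlockDatum e lam) : ∃ D, IsDefectSub p H D e.1 := by
  obtain ⟨c, hcK, hc, hl⟩ := hb.exists_class hHK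
  let P : Sylow p (H ⊓ Subgroup.centralizer ({c} : Set G) : Subgroup G) := default
  exact ⟨_, hb.isDefectSub_of_class hpk hKH hHK hcK hc hl (isPGroup_sylow_map P) (sylow_map_le P)
    fun R hR hRle => sylow_map_absorb P hR hRle⟩

/-- A normal `p`-subgroup of `H` centralised by the support lies in every defect subgroup. -/
theorem IsDefectSub.le_of_normal {D P : Subgroup G} {x : MonoidAlgebra k G}
    (hD : IsDefectSub p H D x) (hx : Inv H x) (hP : IsPGroup p P) (hPH : P ≤ H)
    (hn : H ≤ Subgroup.normalizer (P : Set G)) (hne : br P x ≠ 0) : P ≤ D := by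
  obtain ⟨h, hh, hhP⟩ := (hD.br_ne_zero_iff hx hP hPH).1 hne
  intro r hr
  have := hhP _ ((Subgroup.mem_normalizer_iff''.1 (hn hh) r).1 hr)
  simpa [mul_assoc] using this

end CfsgLib.BlockAlg
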