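import Cfsg.Agent.Lib.BrauerPairs.Bridge
import Cfsg.Agent.Lib.Blocks.DefectZeroCriterion

/-!
# A defect group lies under the centralizer of a class with non-vanishing central character
-/

set_option autoImplicit false
set_option linter.style.haveILetI false

noncomputable section

namespace CfsgLib.DefectUpper

open Cfsg MonoidAlgebra CfsgLib.BrauerPairs CfsgLib.Blocks

variable {G : Type*} [Group G] [Fintype G] {p : ℕ} [Fact p.Prime] {M : Ideal AlgInt}

/-- If the central character of a member of `B` at `g` is a unit, every defect group of `B` is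
conjugate into a Sylow `p`-subgroup of the centralizer of `g`. -/
theorem le_conj_of_centralChar (hM : IsPModular p M) {B : Set (IrrCharacter G)}
    (hB : IsPBlock M B) {ξ : IrrCharacter G} (hξ : ξ ∈ B) {g : G}
    (hg : ¬ MemLocalIdeal M (centralChar (ξ : G → ℂ) g))
    (S : Sylow p (Subgroup.centralizer ({g} : Set G))) {D : Subgroup G}
    (hD : D = (S : Subgroup (Subgroup.centralizer ({g} : Set G))).map
      (Subgroup.centralizer ({g} : Set G)).subtype)
    {D' : Subgroup G} (hD' : IsDefectGroup p M B D') :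
    ∃ t : G, D' ≤ D.map (MulAut.conj t).toMonoidHom := by
  classical
  haveI : M.IsMaximal := hM.2.1
  have := charP_res hM
  have hDC : D ≤ (Subgroup.centralizer ({g} : Set G)) := hD ▸ Subgroup.map_subtype_le _
  have hsing : single g (1 : ResK M) ∈ fixAlg (ResK M) (Subgroup.centralizer ({g} : Set G)) := by
    intro u hu
    have hug : g * u = u * g := Subgroup.mem_centralizer_iff.1 hu g rfl
    rw [conjA, single_mul_single, single_mul_single, one_mul, one_mul, ← hug,
      mul_inv_cancel_right]
  have hidx : ((D.relIndex (Subgroup.centralizer ({g} : Set G)) : ℕ) : ResK M) ≠ 0 := by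
    rw [Ne, CharP.cast_eq_zero_iff (ResK M) p, Subgroup.relIndex, hD, Subgroup.subgroupOf,
      Subgroup.comap_map_eq_self_of_injective (Subgroup.subtype_injective _)]
    exact S.not_dvd_index
  let c : G → ℂ := fun y => if ∃ h ∈ (⊤ : Subgroup G), h * g * h⁻¹ = y then 1 else 0
  have hc : ∀ y, c y ∈ lRing hM := fun y => by
    simp only [c]; split_ifs
    · exact Subring.one_mem _
    · exact Subring.zero_mem _
  have hcl : ∀ x y, c (x * y * x⁻¹) = c y := by
    intro x y
    simp only [c, Subgroup.mem_top, true_and]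
    refine if_congr ⟨?_, ?_⟩ rfl rfl
    · rintro ⟨h, hh⟩
      exact ⟨x⁻¹ * h, by rw [mul_inv_rev, inv_inv, show x⁻¹ * h * g * (h⁻¹ * x) =
        x⁻¹ * (h * g * h⁻¹) * x by group, hh]; group⟩
    · rintro ⟨h, hh⟩
      exact ⟨x * h, by rw [mul_inv_rev, show x * h * g * (h⁻¹ * x⁻¹) =
        x * (h * g * h⁻¹) * x⁻¹ by group, hh]⟩
  have hz : redFun hM c = relTr (ResK M) (Subgroup.centralizer ({g} : Set G)) ⊤ (single g (1 : ResK M)) := by
    rw [← top_inf_eq (Subgroup.centralizer ({g} : Set G)), relTr_single_self]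
    ext y
    rw [coeff_redFun hM (hc y), Blocks.coeff_ofFun]
    by_cases hy : ∃ h ∈ (⊤ : Subgroup G), h * g * h⁻¹ = y
    · rw [if_pos hy]
      have h1 : (⟨c y, hc y⟩ : lRing hM) = 1 := Subtype.ext (by simp only [c]; rw [if_pos hy]; rfl)
      rw [h1, map_one]
    · rw [if_neg hy]
      have h1 : (⟨c y, hc y⟩ : lRing hM) = 0 := Subtype.ext (by simp only [c]; rw [if_neg hy]; rfl)
      rw [h1, map_zero]
  have hTr : InTr (⊥ : Subgroup G) D ⊤ (redFun hM c) := by
    refine ⟨((D.relIndex (Subgroup.centralizer ({g} : Set G)) : ℕ) : ResK M)⁻¹ • single g (1 : ResK M),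
      by rw [cz_bot]; exact mem_suppAlg_top _,
      Subalgebra.smul_mem _ (fixAlg_anti hDC hsing) _, ?_⟩
    rw [hz, ← relTr_relTr hDC le_top (Subalgebra.smul_mem _ (fixAlg_anti hDC hsing) _),
      relTr_smul D (Subgroup.centralizer ({g} : Set G)), relTr_of_fixed hsing, smul_smul, inv_mul_cancel₀ hidx, one_smul]
  have hS := brSetup_block (p := p) hM hB
  have hTrB : InTr (⊥ : Subgroup G) D ⊤ (eG hM B) := by
    refine hS.inTr_of_not_nilpotent le_top hTr fun hn => ?_
    have hl : resK hM ⟨_, omega_sum_mem hM ξ hc hcl⟩ ≠ 0 := by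
      intro h0
      apply hg
      have h1 := (resK_eq_zero_iff hM _).1 h0
      have h2 : (∑ᶠ x : G, c x * (ξ : G → ℂ) x / (ξ : G → ℂ) 1) =
          centralChar (ξ : G → ℂ) g := by
        rw [omega_sum_eq, ← Blocks.omega_classSum (Characters.irr_isClassFunction ξ) g]
        congr 1
        ext y
        rw [Blocks.coeff_ofFun, Blocks.coeff_classSum]
        simp only [c, Subgroup.mem_top, true_and, isConj_iff]
      rwa [← h2]
    obtain ⟨n, hn⟩ := hn
    have hb := isBlockIdem_eG hM hB
    have h1 := nilpotent_sub hM hB hξ hc hcl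
    apply hb.ne_zero
    set l := resK hM ⟨_, omega_sum_mem hM ξ hc hcl⟩
    have hcomm : Commute (redFun hM c * eG hM B) (l • eG hM B) := by
      refine Commute.smul_right ?_ _
      exact commute_of_supp_fix (mem_suppAlg_top _) hb.fixed
    have h2 : IsNilpotent (l • eG hM B) := by
      have h3 := ((Commute.refl (redFun hM c * eG hM B)).sub_right hcomm).isNilpotent_sub ⟨n, hn⟩ h1
      simpa using h3
    have h4 := h2.smul l⁻¹
    rw [smul_smul, inv_mul_cancel₀ hl, one_smul] at h4
    exact eq_zero_of_nilpotent_idem h4 hb.idem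
  have hd := isDefect_of_isDefectGroup hM hB hD'
  obtain ⟨t, -, ht⟩ := hS.exists_le_conj hTrB hd.pgroup le_top hd.br_ne
  exact ⟨t, ht⟩

end CfsgLib.DefectUpper
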