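import Cfsg.Agent.Lib.Blocks.Homo949Setup
import Cfsg.Agent.Lib.Blocks.Homo949Dual
import Cfsg.Agent.Lib.Characters.Generalized

/-!
# Orbit sums of linear characters of a homocyclic Sylow 2-subgroup
-/

set_option autoImplicit false
set_option linter.style.haveILetI false
set_option linter.unusedSectionVars false

noncomputable section

namespace CfsgLib.Blocks.Homo949

open Cfsg CfsgLib.Characters
open scoped ComplexConjugate Classical

universe u

variable {G : Type u} [Group G] [Fintype G] (D : Data G)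

instance Data.instFiniteDual : Finite (D.A →* ℂˣ) := finite_dual D.comm

instance Data.instFintypeDual : Fintype (D.A →* ℂˣ) := Fintype.ofFinite _

/-- The action on linear characters. -/
def Data.rot (θ : D.A →* ℂˣ) : D.A →* ℂˣ := θ.comp D.σ.toMonoidHom

theorem Data.rot_apply (θ : D.A →* ℂˣ) (x : D.A) : D.rot θ x = θ (D.σ x) := rfl

theorem Data.rot_cube (θ : D.A →* ℂˣ) : D.rot (D.rot (D.rot θ)) = θ :=
  MonoidHom.ext fun x => by simp only [rot_apply, D.cube_apply]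

theorem Data.rot_bijective : Function.Bijective D.rot :=
  Function.bijective_iff_has_inverse.2 ⟨fun θ => D.rot (D.rot θ), D.rot_cube, D.rot_cube⟩

theorem Data.rot_ne_one {θ : D.A →* ℂˣ} (h : θ ≠ 1) : D.rot θ ≠ 1 := fun h' => h (by
  rw [← D.rot_cube θ, h']
  ext x
  simp [rot_apply])

theorem Data.rot_fix {θ : D.A →* ℂˣ} (h : D.rot θ = θ) : θ = 1 := by
  refine MonoidHom.ext fun x => ?_
  have h1 : θ (D.σ x) = θ x := DFunLike.congr_fun h x
  have h2 : θ (D.σ (D.σ x)) = θ x := (DFunLike.congr_fun h (D.σ x)).trans h1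
  have h3 : θ x ^ 3 = 1 := by
    have := congrArg θ (D.orbit_prod x)
    rw [map_mul, map_mul, h1, h2, map_one] at this
    rw [pow_succ, pow_two]
    exact this
  obtain ⟨k, hk⟩ := D.isPGroup x
  have h4 : θ x ^ 2 ^ k = 1 := by rw [← map_pow, hk, map_one]
  have h5 := pow_gcd_eq_one.2 ⟨h3, h4⟩
  have h6 : Nat.gcd 3 (2 ^ k) = 1 := Nat.Coprime.pow_right k (by norm_num)
  rw [h6, pow_one] at h5
  exact h5

theorem Data.rot_fix_sq {θ : D.A →* ℂˣ} (h : D.rot (D.rot θ) = θ) : θ = 1 :=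
  D.rot_fix (by conv_rhs => rw [← D.rot_cube θ, h])

/-- The orbit sum. -/
def Data.lam (θ : D.A →* ℂˣ) (x : D.A) : ℂ :=
  (θ x : ℂ) + (θ (D.σ x) : ℂ) + (θ (D.σ (D.σ x)) : ℂ)

theorem Data.lam_σ (θ : D.A →* ℂˣ) (x : D.A) : D.lam θ (D.σ x) = D.lam θ x := by
  simp only [Data.lam, D.cube_apply]
  ring

theorem Data.lam_rot (θ : D.A →* ℂˣ) : D.lam (D.rot θ) = D.lam θ := funext fun x => by
  simp only [Data.lam, rot_apply, D.cube_apply]
  ring

theorem Data.sum_lam_mul (θ η : D.A →* ℂˣ) :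
    ∑ x : D.A, D.lam θ x * conj (η x : ℂ) = (if θ = η then (Nat.card D.A : ℂ) else 0) +
      (if D.rot θ = η then (Nat.card D.A : ℂ) else 0) +
        (if D.rot (D.rot θ) = η then (Nat.card D.A : ℂ) else 0) := by
  have e : ∀ θ' : D.A →* ℂˣ, ∑ x : D.A, (θ' x : ℂ) * conj (η x : ℂ) =
      if θ' = η then (Nat.card D.A : ℂ) else 0 := fun θ' => by convert sum_hom_orth θ' η
  simp only [Data.lam, add_mul, Finset.sum_add_distrib]
  exact congrArg₂ (· + ·) (congrArg₂ (· + ·) (e θ) (e (D.rot θ))) (e (D.rot (D.rot θ)))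

theorem Data.lam_eq_iff {θ η : D.A →* ℂˣ} (hη : η ≠ 1) :
    D.lam θ = D.lam η ↔ θ = η ∨ D.rot θ = η ∨ D.rot (D.rot θ) = η := by
  refine ⟨fun h => ?_, ?_⟩
  · by_contra! hne
    have h1 := D.sum_lam_mul η η
    rw [← h, D.sum_lam_mul θ η, if_neg hne.1, if_neg hne.2.1, if_neg hne.2.2, if_pos rfl,
      if_neg fun e => hη (D.rot_fix e), if_neg fun e => hη (D.rot_fix_sq e), add_zero, add_zero,
      add_zero] at h1
    exact (Nat.cast_ne_zero (R := ℂ)).2 (Nat.card_pos (α := D.A)).ne' (by linear_combination -h1)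
  · rintro (rfl | rfl | rfl)
    · rfl
    · exact (D.lam_rot θ).symm
    · rw [D.lam_rot, D.lam_rot]

/-- The orbit sums of the non-trivial linear characters. -/
def Data.orbs : Finset (D.A → ℂ) := (Finset.univ.erase 1).image D.lam

/-- The index type. -/
abbrev Data.Idx : Type u := D.orbs

theorem Data.exists_rep (L : D.Idx) : ∃ θ : D.A →* ℂˣ, θ ≠ 1 ∧ D.lam θ = L.1 := by
  obtain ⟨θ, hθ, h⟩ := Finset.mem_image.1 L.2
  exact ⟨θ, (Finset.mem_erase.1 hθ).1, h⟩

theorem Data.lam_mem {θ : D.A →* ℂˣ} (h : θ ≠ 1) : D.lam θ ∈ D.orbs :=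
  Finset.mem_image.2 ⟨θ, Finset.mem_erase.2 ⟨h, Finset.mem_univ _⟩, rfl⟩

theorem Data.L_σ (L : D.Idx) (x : D.A) : L.1 (D.σ x) = L.1 x := by
  obtain ⟨θ, -, h⟩ := D.exists_rep L
  rw [← h]
  exact D.lam_σ θ x

theorem Data.L_one (L : D.Idx) : L.1 1 = 3 := by
  obtain ⟨θ, -, h⟩ := D.exists_rep L
  rw [← h]
  simp [Data.lam]
  norm_num

theorem Data.L_sum (L : D.Idx) : ∑ x : D.A, L.1 x = 0 := by
  obtain ⟨θ, hθ, h⟩ := D.exists_rep L
  have h1 := D.sum_lam_mul θ 1
  rw [if_neg hθ, if_neg (D.rot_ne_one hθ), if_neg (D.rot_ne_one (D.rot_ne_one hθ))] at h1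
  rw [← h]
  simpa using h1

theorem Data.L_orth (L L' : D.Idx) :
    ∑ x : D.A, L.1 x * conj (L'.1 x) = if L = L' then 3 * (Nat.card D.A : ℂ) else 0 := by
  obtain ⟨θ, hθ, h⟩ := D.exists_rep L
  obtain ⟨η, hη, h'⟩ := D.exists_rep L'
  have hs : ∀ η : D.A →* ℂˣ, η ≠ 1 → ∑ x : D.A, D.lam θ x * conj (η x : ℂ) =
      if D.lam θ = D.lam η then (Nat.card D.A : ℂ) else 0 := by
    intro η hη
    rw [D.sum_lam_mul]
    by_cases he : D.lam θ = D.lam η
    · rw [if_pos he]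
      rcases (D.lam_eq_iff hη).1 he with rfl | rfl | rfl
      · rw [if_pos rfl, if_neg fun e => hθ (D.rot_fix e), if_neg fun e => hθ (D.rot_fix_sq e)]
        ring
      · rw [if_pos rfl, if_neg fun e => hθ (D.rot_fix e.symm),
          if_neg fun e => hθ (D.rot_fix (D.rot_bijective.1 e))]
        ring
      · rw [if_pos rfl, if_neg fun e => hθ (D.rot_fix_sq e.symm),
          if_neg fun e => hθ (D.rot_fix (D.rot_bijective.1 e.symm))]
        ring
    · rw [if_neg he]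
      have := mt (D.lam_eq_iff (θ := θ) hη).2 he
      simp only [not_or] at this
      rw [if_neg this.1, if_neg this.2.1, if_neg this.2.2]
      ring
  have hx : ∀ x, D.lam θ x * conj (D.lam η x) = D.lam θ x * conj (η x : ℂ) +
      D.lam θ x * conj (D.rot η x : ℂ) + D.lam θ x * conj (D.rot (D.rot η) x : ℂ) := by
    intro x
    rw [← mul_add, ← mul_add, ← map_add, ← map_add]
    rfl
  have hiff : L = L' ↔ D.lam θ = D.lam η := by rw [Subtype.ext_iff, h, h']
  rw [← h, ← h', Finset.sum_congr rfl fun x _ => hx x, Finset.sum_add_distrib,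
    Finset.sum_add_distrib, hs η hη, hs _ (D.rot_ne_one hη),
    hs _ (D.rot_ne_one (D.rot_ne_one hη))]
  simp only [D.lam_rot, hiff]
  split_ifs <;> ring

theorem Data.sum_idx {R : Type*} [CommRing R] (f : (D.A → ℂ) → R) :
    3 * ∑ L : D.Idx, f L.1 = ∑ θ ∈ Finset.univ.erase (1 : D.A →* ℂˣ), f (D.lam θ) := by
  rw [← Finset.sum_fiberwise_of_maps_to (t := D.orbs) (g := D.lam)
    (fun θ hθ => D.lam_mem (Finset.mem_erase.1 hθ).1), Finset.mul_sum]
  rw [← Finset.sum_attach D.orbs, Finset.univ_eq_attach]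
  refine Finset.sum_congr rfl fun L _ => ?_
  obtain ⟨θ, hθ, h⟩ := D.exists_rep L
  have hset : (Finset.univ.erase (1 : D.A →* ℂˣ)).filter (fun η => D.lam η = L.1) =
      {θ, D.rot θ, D.rot (D.rot θ)} := by
    ext η
    simp only [Finset.mem_filter, Finset.mem_erase, Finset.mem_univ, and_true, Finset.mem_insert,
      Finset.mem_singleton]
    constructor
    · rintro ⟨hη, he⟩
      rcases (D.lam_eq_iff hη).1 (h.trans he.symm) with h1 | h1 | h1
      · exact Or.inl h1.symm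
      · exact Or.inr (Or.inl h1.symm)
      · exact Or.inr (Or.inr h1.symm)
    · rintro (rfl | rfl | rfl)
      · exact ⟨hθ, h⟩
      · exact ⟨D.rot_ne_one hθ, by rw [D.lam_rot, h]⟩
      · exact ⟨D.rot_ne_one (D.rot_ne_one hθ), by rw [D.lam_rot, D.lam_rot, h]⟩
  have h1 : θ ≠ D.rot θ := fun e => hθ (D.rot_fix e.symm)
  have h2 : θ ≠ D.rot (D.rot θ) := fun e => hθ (D.rot_fix_sq e.symm)
  have h3 : D.rot θ ≠ D.rot (D.rot θ) := fun e => h1 (D.rot_bijective.1 e)
  rw [hset, Finset.sum_insert (by simp [h1, h2]), Finset.sum_pair h3]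
  simp only [D.lam_rot, h]
  ring

theorem Data.card_idx : 3 * Fintype.card D.Idx + 1 = Nat.card D.A := by
  have h := D.sum_idx (R := ℤ) (fun _ => 1)
  simp only [Finset.sum_const, nsmul_eq_mul, mul_one, Finset.card_univ] at h
  have h2 : 3 * Fintype.card D.Idx = (Finset.univ.erase (1 : D.A →* ℂˣ)).card := by exact_mod_cast h
  rw [h2, Finset.card_erase_add_one (Finset.mem_univ _), Finset.card_univ, ← Nat.card_eq_fintype_card,
    card_dual D.comm]

theorem Data.five_le : 5 ≤ Fintype.card D.Idx := by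
  have h := D.card_idx
  have := Nat.le_of_dvd Nat.card_pos D.sixteen_dvd
  omega

theorem Data.sum_L (x : D.A) :
    1 + ∑ L : D.Idx, L.1 x = if x = 1 then (Nat.card D.A : ℂ) else 0 := by
  have h := D.sum_idx (R := ℂ) (fun f => f x)
  have hz : ∀ y : D.A, (y = 1 ↔ x = 1) →
      ∑ θ : D.A →* ℂˣ, (θ y : ℂ) = if x = 1 then (Nat.card D.A : ℂ) else 0 := by
    intro y hy
    rw [sum_hom_eval D.comm]
    simp only [hy]
  have h1 : ∑ θ : D.A →* ℂˣ, D.lam θ x = 3 * (if x = 1 then (Nat.card D.A : ℂ) else 0) := by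
    simp only [Data.lam, Finset.sum_add_distrib]
    rw [hz x Iff.rfl, hz _ (MulEquiv.map_eq_one_iff D.σ),
      hz _ ((MulEquiv.map_eq_one_iff D.σ).trans (MulEquiv.map_eq_one_iff D.σ))]
    ring
  rw [← Finset.add_sum_erase _ _ (Finset.mem_univ (1 : D.A →* ℂˣ)), ← h] at h1
  have h2 : D.lam 1 x = 3 := by simp [Data.lam]; norm_num
  rw [h2] at h1
  linear_combination h1 / 3

theorem Data.L_sq (L : D.Idx) {u : D.A} (hu : u ^ 2 = 1) : L.1 u ^ 2 = 3 + 2 * L.1 u := by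
  obtain ⟨θ, -, h⟩ := D.exists_rep L
  rw [← h]
  have hs : ∀ v : D.A, v ^ 2 = 1 → (θ v : ℂ) * θ v = 1 := fun v hv => by
    rw [← Units.val_mul, ← map_mul, ← pow_two, hv, map_one, Units.val_one]
  have ha := hs u hu
  have hb := hs (D.σ u) (by rw [← map_pow, hu, map_one])
  have hc := hs (D.σ (D.σ u)) (by rw [← map_pow, ← map_pow, hu, map_one, map_one])
  have habc : (θ u : ℂ) * θ (D.σ u) * θ (D.σ (D.σ u)) = 1 := by
    rw [← Units.val_mul, ← Units.val_mul, ← map_mul, ← map_mul, D.orbit_prod, map_one,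
      Units.val_one]
  show (_ + _ + _) ^ 2 = (3 : ℂ) + 2 * (_ + _ + _)
  linear_combination ha + hb + hc - 2 * (θ u : ℂ) * θ (D.σ u) * hc +
    2 * (θ (D.σ (D.σ u)) : ℂ) * habc - 2 * (θ (D.σ u) : ℂ) * θ (D.σ (D.σ u)) * ha +
    2 * (θ u : ℂ) * habc - 2 * (θ u : ℂ) * θ (D.σ (D.σ u)) * hb + 2 * (θ (D.σ u) : ℂ) * habc

theorem Data.sum_L_mul {u x : D.A} (hu : u ^ 2 = 1) (_hu1 : u ≠ 1) (hx : x ^ 2 ≠ 1) :
    ∑ L : D.Idx, L.1 u * conj (L.1 x) = -3 := by
  have h := D.sum_idx (R := ℂ) (fun f => f u * conj (f x))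
  have hne : ∀ a b : D.A, a ^ 2 = 1 → b ^ 2 ≠ 1 → ∑ θ : D.A →* ℂˣ, (θ a : ℂ) * conj (θ b : ℂ) = 0 :=
    fun a b ha hb => by
      rw [sum_hom_mul_conj D.comm, if_neg fun e => hb (by rw [← e, ha])]
  have u1 : (D.σ u) ^ 2 = 1 := by rw [← map_pow, hu, map_one]
  have u2 : (D.σ (D.σ u)) ^ 2 = 1 := by rw [← map_pow, u1, map_one]
  have x1 : (D.σ x) ^ 2 ≠ 1 := by rw [← map_pow, ne_eq, MulEquiv.map_eq_one_iff]; exact hx
  have x2 : (D.σ (D.σ x)) ^ 2 ≠ 1 := by rw [← map_pow, ne_eq, MulEquiv.map_eq_one_iff]; exact x1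
  have h1 : ∑ θ : D.A →* ℂˣ, D.lam θ u * conj (D.lam θ x) = 0 := by
    simp only [Data.lam, map_add, add_mul, mul_add, Finset.sum_add_distrib]
    rw [hne u x hu hx, hne u _ hu x1, hne u _ hu x2, hne _ x u1 hx, hne _ _ u1 x1, hne _ _ u1 x2,
      hne _ x u2 hx, hne _ _ u2 x1, hne _ _ u2 x2]
    simp
  rw [← Finset.add_sum_erase _ _ (Finset.mem_univ (1 : D.A →* ℂˣ)), ← h] at h1
  have h2 : ∀ y, D.lam 1 y = 3 := fun y => by simp [Data.lam]; norm_num
  rw [h2, h2, map_ofNat] at h1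
  linear_combination h1 / 3

theorem Data.sum_L_sq_mul {u x : D.A} (hu : u ^ 2 = 1) (hu1 : u ≠ 1) (hx : x ^ 2 ≠ 1) :
    ∑ L : D.Idx, L.1 u ^ 2 * conj (L.1 x) = -9 := by
  have hx1 : x ≠ 1 := fun h => hx (by rw [h, one_pow])
  have h1 := congrArg conj (D.sum_L x)
  rw [if_neg hx1, map_add, map_one, map_sum, map_zero] at h1
  simp only [D.L_sq _ hu, add_mul, mul_assoc, Finset.sum_add_distrib, ← Finset.mul_sum,
    D.sum_L_mul hu hu1 hx]
  linear_combination 3 * h1

theorem Data.L_generalized (L : D.Idx) (E : Subgroup G) (h : E →* D.A) :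
    IsGeneralizedCharacter E (fun a => L.1 (h a)) := by
  obtain ⟨θ, -, hL⟩ := D.exists_rep L
  have e : (fun a => L.1 (h a)) = (fun a : E => ((θ.comp h) a : ℂ)) +
      (fun a : E => (((D.rot θ).comp h) a : ℂ)) +
      fun a : E => (((D.rot (D.rot θ)).comp h) a : ℂ) := by
    funext a
    rw [← hL]
    rfl
  rw [e]
  exact isGeneralizedCharacter_add (isGeneralizedCharacter_add
    (isGeneralizedCharacter_of_isCharacter (isCharacter_of_irr (isIrrCharacter_of_hom _)))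
    (isGeneralizedCharacter_of_isCharacter (isCharacter_of_irr (isIrrCharacter_of_hom _))))
    (isGeneralizedCharacter_of_isCharacter (isCharacter_of_irr (isIrrCharacter_of_hom _)))

/-- An invariant function with integral coefficients is determined by its inner products with the
differences of orbit sums. -/
theorem Data.decomposition {r : D.A → ℂ} (hr : ∀ x, r (D.σ x) = r x)
    (hint : ∀ θ : D.A →* ℂˣ, ∃ z : ℤ, ∑ x, r x * conj (θ x : ℂ) = (Nat.card D.A : ℂ) * z)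
    (L0 : D.Idx) (t : D.Idx → ℤ) (e : ℤ)
    (ht : ∀ L : D.Idx, ∑ x, (L.1 x - L0.1 x) * conj (r x) = 3 * (Nat.card D.A : ℂ) * t L)
    (he : ∑ x, (3 - L0.1 x) * conj (r x) = 3 * (Nat.card D.A : ℂ) * e) :
    ∃ z : ℤ, r 1 = e + 3 * ∑ L, (t L : ℂ) + (Nat.card D.A : ℂ) * z ∧
      ∀ x, x ≠ 1 → r x = e + ∑ L, (t L : ℂ) * L.1 x := by
  have hA : (Nat.card D.A : ℂ) ≠ 0 := Nat.cast_ne_zero.2 Nat.card_pos.ne'
  choose z hz using hint
  have hzrot : ∀ θ, z (D.rot θ) = z θ := by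
    intro θ
    have : ∑ x, r x * conj (D.rot θ x : ℂ) = ∑ x, r x * conj (θ x : ℂ) :=
      Fintype.sum_equiv D.σ.toEquiv _ _ fun x => by
        show r x * conj (θ (D.σ x) : ℂ) = r (D.σ x) * conj (θ (D.σ x) : ℂ)
        rw [hr]
    rw [hz, hz] at this
    exact_mod_cast mul_left_cancel₀ hA this
  have hconj : ∀ θ : D.A →* ℂˣ, ∑ x, (θ x : ℂ) * conj (r x) = (Nat.card D.A : ℂ) * z θ := by
    intro θ
    have := congrArg conj (hz θ)
    rw [map_sum, map_mul, map_natCast, map_intCast] at this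
    rw [← this]
    exact Finset.sum_congr rfl fun x _ => by rw [map_mul, Complex.conj_conj, mul_comm]
  have hlam : ∀ θ, ∑ x, D.lam θ x * conj (r x) = 3 * (Nat.card D.A : ℂ) * z θ := by
    intro θ
    have e1 := hconj θ
    have e2 := hconj (D.rot θ)
    have e3 := hconj (D.rot (D.rot θ))
    simp only [rot_apply, hzrot] at e2 e3
    simp only [Data.lam, add_mul, Finset.sum_add_distrib]
    linear_combination e1 + e2 + e3
  choose rep hrep1 hrep2 using D.exists_rep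
  set z1 := z 1
  set z0 := z (rep L0)
  have hL0 := hlam (rep L0)
  rw [hrep2] at hL0
  have ht' : ∀ L : D.Idx, (t L : ℂ) = z (rep L) - z0 := by
    intro L
    have h1 := hlam (rep L)
    rw [hrep2] at h1
    have h2 := ht L
    simp only [sub_mul, Finset.sum_sub_distrib, h1, hL0] at h2
    refine mul_left_cancel₀ (mul_ne_zero (three_ne_zero (α := ℂ)) hA) ?_
    linear_combination -h2
  have he' : (e : ℂ) = z1 - z0 := by
    have h1 := hconj 1
    simp only [MonoidHom.one_apply, Units.val_one, one_mul] at h1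
    simp only [sub_mul, Finset.sum_sub_distrib, ← Finset.mul_sum, h1, hL0] at he
    refine mul_left_cancel₀ (mul_ne_zero (three_ne_zero (α := ℂ)) hA) ?_
    linear_combination -he
  have hexp : ∀ x, r x = (z1 : ℂ) + ∑ L : D.Idx, (z (rep L) : ℂ) * L.1 x := by
    intro x
    have h1 := eq_sum_coef D.comm r x
    simp only [hz] at h1
    rw [show ∑ θ : D.A →* ℂˣ, (Nat.card D.A : ℂ) * (z θ : ℂ) * (θ x : ℂ) =
      (Nat.card D.A : ℂ) * ∑ θ : D.A →* ℂˣ, (z θ : ℂ) * (θ x : ℂ) by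
        rw [Finset.mul_sum]; exact Finset.sum_congr rfl fun θ _ => by ring] at h1
    rw [mul_left_cancel₀ hA h1]
    have hshift : ∀ F : (D.A →* ℂˣ) → ℂ,
        ∑ θ : D.A →* ℂˣ, F (D.rot θ) = ∑ θ, F θ := fun F =>
      Function.Bijective.sum_comp D.rot_bijective F
    have h2 : 3 * ∑ θ : D.A →* ℂˣ, (z θ : ℂ) * (θ x : ℂ) =
        ∑ θ : D.A →* ℂˣ, (z θ : ℂ) * D.lam θ x := by
      have e2 := hshift fun θ => (z θ : ℂ) * (θ x : ℂ)
      have e3 := hshift fun θ => (z (D.rot θ) : ℂ) * (D.rot θ x : ℂ)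
      simp only [rot_apply, hzrot] at e2 e3
      simp only [Data.lam, mul_add, Finset.sum_add_distrib]
      linear_combination -2 * e2 - e3
    rw [← Finset.add_sum_erase _ (fun θ : D.A →* ℂˣ => (z θ : ℂ) * D.lam θ x)
      (Finset.mem_univ (1 : D.A →* ℂˣ))] at h2
    have h3 : ∑ θ ∈ Finset.univ.erase (1 : D.A →* ℂˣ), (z θ : ℂ) * D.lam θ x =
        3 * ∑ L : D.Idx, (z (rep L) : ℂ) * L.1 x := by
      have h4 := D.sum_idx (R := ℂ) fun f => if hf : f ∈ D.orbs then (z (rep ⟨f, hf⟩) : ℂ) * f x else 0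
      simp only [Finset.coe_mem, dif_pos, Subtype.coe_eta] at h4
      rw [h4]
      refine Finset.sum_congr rfl fun θ hθ => ?_
      have hθ1 := (Finset.mem_erase.1 hθ).1
      rw [dif_pos (D.lam_mem hθ1)]
      have h5 := hrep2 ⟨_, D.lam_mem hθ1⟩
      congr 2
      rcases (D.lam_eq_iff hθ1).1 h5 with h6 | h6 | h6
      · rw [h6]
      · conv_lhs => rw [← h6]
        rw [hzrot]
      · conv_lhs => rw [← h6]
        rw [hzrot, hzrot]
    have h6 : D.lam 1 x = 3 := by simp [Data.lam]; norm_num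
    rw [h3, h6] at h2
    linear_combination h2 / 3
  have hsum : ∀ x, r x = e + ∑ L, (t L : ℂ) * L.1 x + z0 * (1 + ∑ L : D.Idx, L.1 x) := by
    intro x
    rw [hexp x, he']
    simp only [ht', sub_mul, Finset.sum_sub_distrib, ← Finset.mul_sum]
    ring
  refine ⟨z0, ?_, fun x hx => ?_⟩
  · rw [hsum 1, D.sum_L, if_pos rfl]
    simp only [D.L_one, ← Finset.sum_mul]
    ring
  · rw [hsum x, D.sum_L, if_neg hx]
    ring

end CfsgLib.Blocks.Homo949
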