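import Cfsg.Agent.Lib.Blocks.Homo949Phi
import Cfsg.Agent.Lib.Blocks.Homo949Lam
import Cfsg.Agent.Lib.Characters.Exceptional
import Cfsg.Agent.Lib.Characters.LinearTwist
import Cfsg.Agent.Lib.Blocks.Knorr

/-!
# A linear character from a homocyclic Sylow 2-subgroup with non-trivial automiser
-/

set_option autoImplicit false
set_option linter.style.haveILetI false
set_option linter.unusedSectionVars false

noncomputable section

namespace CfsgLib.Blocks.Homo949

open Cfsg CfsgLib.Characters CfsgLib.ClassCount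
open scoped ComplexConjugate Classical

universe u

variable {G : Type u} [Group G] [Fintype G] (D : Data G) {M : Ideal AlgInt}

theorem Data.irr_σ (χ : IrrCharacter G) (x : D.A) :
    (χ : G → ℂ) (D.σ x : G) = (χ : G → ℂ) x :=
  (classFunction_eq_of_isConj (irr_isClassFunction χ) (D.isConj_σ x)).symm

theorem Data.irr_int (χ : IrrCharacter G) (θ : D.A →* ℂˣ) :
    ∃ z : ℤ, ∑ x : D.A, (χ : G → ℂ) x * conj (θ x : ℂ) = (Nat.card D.A : ℂ) * z := by
  obtain ⟨k, hk⟩ := classInner_char_nat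
    (CfsgLib.Clifford.isCharacter_subtype (irr_isCharacter χ) D.A)
    (isCharacter_of_irr (isIrrCharacter_of_hom θ))
  refine ⟨k, ?_⟩
  rw [classInner, inv_mul_eq_iff_eq_mul₀ (by simp)] at hk
  rw [Int.cast_natCast]
  exact hk

/-- The principal block values on the Sylow subgroup in terms of the coefficients. -/
theorem Data.values (hM : IsPModular 2 M) (L0 : D.Idx) {χ : IrrCharacter G}
    (hχ : χ ∈ principalBlock M G) (t : D.Idx → ℤ) (e : ℤ)
    (ht : ∀ L : D.Idx, classInner (D.Phi fun x => L.1 x - L0.1 x) (χ : G → ℂ) = t L)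
    (he : classInner (D.Phi fun x => 3 - L0.1 x) (χ : G → ℂ) = e) :
    ∃ z : ℤ, (χ : G → ℂ) 1 = e + 3 * ∑ L, (t L : ℂ) + (Nat.card D.A : ℂ) * z ∧
      ∀ x : D.A, x ≠ 1 → (χ : G → ℂ) x = e + ∑ L, (t L : ℂ) * L.1 x := by
  have hA : (3 : ℂ) * (Nat.card D.A : ℂ) ≠ 0 := by simp
  obtain ⟨z, hz, hz'⟩ := D.decomposition (r := fun x => (χ : G → ℂ) x) (D.irr_σ χ) (D.irr_int χ)
    L0 t e (fun L => by
      have h := ht L
      rw [D.inner_irr hM _ (by simp [D.L_one]), if_pos hχ, inv_mul_eq_iff_eq_mul₀ hA] at h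
      exact h) (by
      have h := he
      rw [D.inner_irr hM _ (by simp [D.L_one]), if_pos hχ, inv_mul_eq_iff_eq_mul₀ hA] at h
      exact h)
  exact ⟨z, by simpa using hz, hz'⟩

theorem Data.isGeneralized_diff (L L0 : D.Idx) :
    IsGeneralizedCharacter G (D.Phi fun x => L.1 x - L0.1 x) :=
  D.Phi_isGeneralized _ (fun x => by rw [D.L_σ, D.L_σ]) (by simp [D.L_one]) fun E h =>
    isGeneralizedCharacter_sub (D.L_generalized L E h) (D.L_generalized L0 E h)

theorem Data.isGeneralized_base (L0 : D.Idx) :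
    IsGeneralizedCharacter G (D.Phi fun x => 3 - L0.1 x) :=
  D.Phi_isGeneralized _ (fun x => by rw [D.L_σ]) (by simp [D.L_one]) fun E h => by
    have h3 : IsGeneralizedCharacter E (((3 : ℕ) : ℂ) • (1 : E → ℂ)) :=
      isGeneralizedCharacter_natCast_smul isGeneralizedCharacter_one 3
    convert isGeneralizedCharacter_sub h3 (D.L_generalized L0 E h) using 1
    funext a
    simp

theorem Data.inner_diff (L L' L0 : D.Idx) :
    classInner (D.Phi fun x => L.1 x - L0.1 x) (D.Phi fun x => L'.1 x - L0.1 x) =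
      (if L = L' then 1 else 0) - (if L0 = L' then 1 else 0) -
        ((if L = L0 then 1 else 0) - 1) := by
  rw [D.inner_Phi _ _ (by simp [D.L_one]) (fun x => by rw [D.L_σ, D.L_σ])]
  simp only [map_sub, mul_sub, sub_mul, Finset.sum_sub_distrib, D.L_orth, if_true]
  split_ifs <;> field_simp <;> ring

theorem Data.sum_L_const (L : D.Idx) : ∑ x : D.A, (3 : ℂ) * conj (L.1 x) = 0 := by
  rw [← Finset.mul_sum, ← map_sum, D.L_sum, map_zero, mul_zero]

theorem Data.inner_base_diff (L L0 : D.Idx) (hL : L ≠ L0) :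
    classInner (D.Phi fun x => 3 - L0.1 x) (D.Phi fun x => L.1 x - L0.1 x) = 1 := by
  rw [D.inner_Phi _ _ (by simp [D.L_one]) (fun x => by rw [D.L_σ, D.L_σ])]
  simp only [map_sub, mul_sub, sub_mul, Finset.sum_sub_distrib, D.L_orth, D.sum_L_const, if_true,
    if_neg hL.symm]
  field_simp
  ring

theorem Data.inner_base (L0 : D.Idx) :
    classInner (D.Phi fun x => 3 - L0.1 x) (D.Phi fun x => 3 - L0.1 x) = 4 := by
  rw [D.inner_Phi _ _ (by simp [D.L_one]) (fun x => by rw [D.L_σ])]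
  have h : ∑ x : D.A, L0.1 x * (3 : ℂ) = 0 := by rw [← Finset.sum_mul, D.L_sum, zero_mul]
  simp only [map_sub, mul_sub, sub_mul, Finset.sum_sub_distrib, D.L_orth, D.sum_L_const, h,
    if_true, map_ofNat, Finset.sum_const, Finset.card_univ, ← Nat.card_eq_fintype_card,
    nsmul_eq_mul]
  field_simp
  ring

theorem Data.count_zero (hM : IsPModular 2 M) {u x : D.A} (hu : u ^ 2 = 1) (hx : x ^ 2 ≠ 1) :
    ∑ χ ∈ Finset.univ.filter (fun χ : IrrCharacter G => χ ∈ principalBlock M G),
      (χ : G → ℂ) u ^ 2 * conj ((χ : G → ℂ) x) / (χ : G → ℂ) 1 = 0 := by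
  have hx1 : x ≠ 1 := fun h => hx (by rw [h, one_pow])
  have hinj : Function.Injective fun y : D.O x => (x : G) * (y : G) :=
    fun a b h => Subtype.ext (Subtype.ext (mul_left_cancel h))
  set T : Finset G := Finset.univ.image fun y : D.O x => (x : G) * (y : G) with hT
  have hempty : pairs (u : G) (u : G) T = ∅ := by
    rw [Finset.eq_empty_iff_forall_notMem]
    rintro ⟨s, t⟩ h
    obtain ⟨hst, hmem⟩ := Finset.mem_filter.1 h
    obtain ⟨hs, ht⟩ := Finset.mem_product.1 hst
    obtain ⟨y, -, hy⟩ := Finset.mem_image.1 hmem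
    have hu' : (u : G) * u = 1 := by
      rw [← Subgroup.coe_mul, ← pow_two, hu, OneMemClass.coe_one]
    have hsq : ∀ w : G, IsConj (u : G) w → w * w = 1 := by
      intro w hw
      obtain ⟨c, hc⟩ := isConj_iff.1 hw
      rw [← hc, show c * (u : G) * c⁻¹ * (c * (u : G) * c⁻¹) = c * ((u : G) * u) * c⁻¹ by group,
        hu', mul_one, mul_inv_cancel]
    have hs1 := hsq s (mem_cls.1 hs)
    have ht1 := hsq t (mem_cls.1 ht)
    -- `s` inverts the product and so its `2`-part
    have hg : IsPPart 2 (s * t) (x : G) :=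
      hy ▸ isPPart_mul (commute_centralizer y.1) (D.orderOf_pow x) ((D.mem_O hx1 y.1).1 y.2)
    have hconj := IsPPart.conj hg s
    have hts : s * (s * t) * s⁻¹ = (s * t)⁻¹ := by
      rw [← mul_assoc, hs1, one_mul, mul_inv_rev, inv_eq_of_mul_eq_one_right ht1]
    rw [hts] at hconj
    have hinv : IsPPart 2 (s * t)⁻¹ (x : G)⁻¹ := by
      obtain ⟨w, hw, hc, hk, hw2⟩ := hg
      exact ⟨w⁻¹, by rw [← hw, hc.eq, mul_inv_rev], hc.inv_inv, by rwa [orderOf_inv],
        by rwa [orderOf_inv]⟩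
    exact hx (D.sq_eq_one_of_real
      (isConj_iff.2 ⟨s, IsPPart.unique Nat.prime_two hconj hinv⟩))
  have h1 := card_pairs_mul (u : G) (u : G) T
  rw [hempty, Finset.card_empty, Nat.cast_zero, zero_mul] at h1
  set K : ℂ := ((Subgroup.centralizer ({(u : G)} : Set G)).index : ℂ) with hK
  have hK0 : K ^ 2 * (Nat.card (D.O x) : ℂ) ≠ 0 :=
    mul_ne_zero (pow_ne_zero _ (Nat.cast_ne_zero.2 Subgroup.index_ne_zero_of_finite))
      (Nat.cast_ne_zero.2 Nat.card_pos.ne')
  refine (mul_eq_zero.1 ?_).resolve_left hK0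
  rw [Finset.mul_sum, Finset.sum_filter]
  refine Eq.trans (Finset.sum_congr rfl fun χ _ => ?_) h1.symm
  have h2 : ∑ t ∈ T, (χ : G → ℂ) t⁻¹ =
      if χ ∈ principalBlock M G then (Nat.card (D.O x) : ℂ) * conj ((χ : G → ℂ) x) else 0 := by
    rw [hT, Finset.sum_image hinj.injOn]
    simp only [irr_apply_inv, ← map_sum, D.sum_O hM hx1]
    split_ifs
    · rw [map_mul, map_natCast]
    · exact map_zero _
  rw [h2, centralChar, ← hK]
  have h0 := irr_one_ne_zero χ
  split_ifs
  · field_simp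
  · simp

theorem sum_two {ι : Type*} {s : Finset ι} {e : ι → ℤ} (h : ∑ i ∈ s, e i ^ 2 = 2) :
    ∃ a ∈ s, ∃ b ∈ s, a ≠ b ∧ e a ^ 2 = 1 ∧ e b ^ 2 = 1 ∧
      ∀ i ∈ s, i ≠ a → i ≠ b → e i = 0 := by
  set S := s.filter fun i => e i ≠ 0 with hS
  have hs : ∑ i ∈ S, e i ^ 2 = 2 := by
    rw [← h]
    exact Finset.sum_subset (Finset.filter_subset _ _) fun i hi hi' => by
      rw [show e i = 0 by simpa [hS, hi] using hi']
      ring
  have hsq : ∀ i ∈ S, e i ^ 2 = 1 := by
    intro i hi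
    have hle : e i ^ 2 ≤ 2 := hs ▸ Finset.single_le_sum (fun _ _ => sq_nonneg _) hi
    have hne : e i ≠ 0 := (Finset.mem_filter.1 hi).2
    have h3 : e i ≤ 1 := by nlinarith
    have h4 : -1 ≤ e i := by nlinarith
    have : e i = 1 ∨ e i = -1 := by omega
    rcases this with h | h <;> rw [h] <;> norm_num
  have hcard : S.card = 2 := by
    rw [Finset.sum_congr rfl hsq, Finset.sum_const, nsmul_one] at hs
    exact_mod_cast hs
  obtain ⟨a, b, hab, hSab⟩ := Finset.card_eq_two.1 hcard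
  have ha : a ∈ S := hSab ▸ Finset.mem_insert_self a _
  have hb : b ∈ S := hSab ▸ Finset.mem_insert_of_mem (Finset.mem_singleton_self b)
  refine ⟨a, Finset.filter_subset _ _ ha, b, Finset.filter_subset _ _ hb, hab, hsq a ha, hsq b hb,
    fun i hi hia hib => ?_⟩
  by_contra hne
  have : i ∈ S := Finset.mem_filter.2 ⟨hi, hne⟩
  rw [hSab, Finset.mem_insert, Finset.mem_singleton] at this
  exact this.elim hia hib

/-- The arithmetic of the degrees. -/
theorem degree_arith {A δ a b za zb z : ℤ} (hA : 16 ∣ A) (ha : a = 1 + za * A) (hb : b = 1 + zb * A)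
    (hδ : δ = 3 + z * A) (hd : 1 + a + b = δ)
    (hc : (1 : ℂ) + 1 / (a : ℂ) + 1 / (b : ℂ) = 9 / (δ : ℂ)) : a = 1 ∨ b = 1 := by
  obtain ⟨w, rfl⟩ := hA
  have ha' : a = 1 + (za * w) * 16 := by rw [ha]; ring
  have hb' : b = 1 + (zb * w) * 16 := by rw [hb]; ring
  have hd' : δ = 3 + (z * w) * 16 := by rw [hδ]; ring
  generalize za * w = i at ha'
  generalize zb * w = j at hb'
  generalize z * w = k at hd'
  have h : δ * (a * b + b + a) = 9 * (a * b) := by
    have ha0 : (a : ℂ) ≠ 0 := by exact_mod_cast (show a ≠ 0 by omega)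
    have hb0 : (b : ℂ) ≠ 0 := by exact_mod_cast (show b ≠ 0 by omega)
    have hd0 : (δ : ℂ) ≠ 0 := by exact_mod_cast (show δ ≠ 0 by omega)
    field_simp at hc
    have : (δ : ℂ) * ((a : ℂ) * b + b + a) = 9 * ((a : ℂ) * b) := by linear_combination hc
    exact_mod_cast this
  by_contra! hne
  obtain ⟨hna, hnb⟩ := hne
  have hia : 17 ≤ a ∨ a ≤ -15 := by omega
  have hjb : 17 ≤ b ∨ b ≤ -15 := by omega
  have hk : δ = 3 ∨ 19 ≤ δ ∨ δ ≤ -13 := by omega
  have h' : a * b * (δ - 9) = -(δ * (δ - 1)) := by rw [← hd] at h ⊢; linear_combination h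
  rcases hk with rfl | hk | hk
  · have hab : a * b = 1 := by omega
    rcases hia with hi | hi <;> rcases hjb with hj | hj <;> nlinarith
  · have h2 : -(a * b) ≤ 2 * δ := by
      refine le_of_mul_le_mul_right ?_ (show 0 < δ - 9 by omega)
      nlinarith
    have h3 : a * b < 0 := by
      by_contra h3
      nlinarith [mul_nonneg (not_lt.1 h3) (show (0 : ℤ) ≤ δ - 9 by omega)]
    rcases hia with hi | hi <;> rcases hjb with hj | hj <;> nlinarith
  · have h2 : a * b ≤ -δ := by
      refine le_of_mul_le_mul_right ?_ (show 0 < 9 - δ by omega)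
      nlinarith
    have h3 : 0 < a * b := by
      by_contra h3
      nlinarith [mul_nonneg (show (0 : ℤ) ≤ -(a * b) by omega) (show (0 : ℤ) ≤ 9 - δ by omega)]
    rcases hia with hi | hi <;> rcases hjb with hj | hj <;> nlinarith

variable (hM : IsPModular 2 M)

include hM in
theorem Data.exists_linear : ∃ f : G →* ℂˣ, f ≠ 1 ∧ ∀ x ∈ D.A, f x = 1 := by
  haveI : Fact (Nat.Prime 2) := ⟨Nat.prime_two⟩
  have h5 := D.five_le
  obtain ⟨L0⟩ : Nonempty D.Idx := Fintype.card_pos_iff.1 (by omega)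
  obtain ⟨L1, hL1⟩ : ∃ L : D.Idx, L ≠ L0 := Fintype.exists_ne_of_one_lt_card (by omega) L0
  set Φ0 := D.Phi fun x => 3 - L0.1 x with hΦ0
  set τ : D.Idx → G → ℂ := fun L => D.Phi fun x => L.1 x - L0.1 x with hτ
  obtain ⟨εc, hεc, μ, hμinj, hτμ⟩ := CfsgLib.CharExceptional.exceptional_family L0 τ
    (by funext g; simp [hτ, Data.Phi]) (fun L => D.isGeneralized_diff L L0) (fun L => D.Phi_one _)
    (fun L hL => by rw [hτ, D.inner_diff, if_pos rfl, if_neg hL.symm, if_neg hL]; norm_num)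
    (fun L L' hL hL' hne => by
      rw [hτ, D.inner_diff, if_neg hne, if_neg hL'.symm, if_neg hL]; norm_num)
  obtain ⟨ε, hε, rfl⟩ : ∃ ε : ℤ, ε ^ 2 = 1 ∧ (ε : ℂ) = εc := by
    rcases hεc with h | h
    · exact ⟨1, by norm_num, by rw [h]; norm_num⟩
    · exact ⟨-1, by norm_num, by rw [h]; norm_num⟩
  -- the coefficients of the family
  let t : IrrCharacter G → D.Idx → ℤ := fun χ L =>
    ε * ((if μ L = χ then 1 else 0) - (if μ L0 = χ then 1 else 0))
  have ht : ∀ (χ : IrrCharacter G) (L : D.Idx), classInner (τ L) (χ : G → ℂ) = t χ L := by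
    intro χ L
    rw [hτμ L, classInner_smul_left, classInner_sub_left, classInner_irr, classInner_irr]
    simp only [t]
    push_cast
    rfl
  choose e he using (isGeneralizedCharacter_iff.1 (D.isGeneralized_base L0)).2
  have hcl := D.Phi_isClassFunction (fun x => 3 - L0.1 x)
  have hB : ∀ (φ : D.A → ℂ) (χ : IrrCharacter G), φ 1 = 0 →
      classInner (D.Phi φ) (χ : G → ℂ) ≠ 0 → χ ∈ principalBlock M G := by
    intro φ χ hφ hne
    by_contra h
    rw [D.inner_irr hM φ hφ, if_neg h] at hne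
    exact hne rfl
  have heB : ∀ χ, e χ ≠ 0 → χ ∈ principalBlock M G := fun χ h =>
    hB (fun x => 3 - L0.1 x) χ (by simp [D.L_one]) (by rw [he]; exact Int.cast_ne_zero.2 h)
  have hε0 : ε ≠ 0 := by rintro rfl; norm_num at hε
  have hμB : ∀ L, μ L ∈ principalBlock M G := by
    intro L
    by_cases hL : L = L0
    · subst hL
      refine hB _ _ (by simp [D.L_one]) (?_ : classInner (τ L1) _ ≠ 0)
      rw [ht]
      simp only [t, hμinj.eq_iff, if_neg hL1, if_true]
      simpa using hε0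
    · refine hB _ _ (by simp [D.L_one]) (?_ : classInner (τ L) _ ≠ 0)
      rw [ht]
      simp only [t, hμinj.eq_iff, if_neg (Ne.symm hL), if_true]
      simpa using hε0
  -- the principal character
  set one := principalIrr G with hone
  have honeB : one ∈ principalBlock M G := principalIrr_mem hM
  have hA : (Nat.card D.A : ℂ) ≠ 0 := by simp
  have he1 : e one = 1 := by
    have h := he one
    rw [D.inner_irr hM _ (by simp [D.L_one]), if_pos honeB] at h
    simp only [hone, principalIrr_apply, map_one, mul_one, Finset.sum_sub_distrib, D.L_sum,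
      Finset.sum_const, Finset.card_univ, ← Nat.card_eq_fintype_card, nsmul_eq_mul, sub_zero] at h
    field_simp at h
    exact_mod_cast h.symm
  have hnot : ∀ L, μ L ≠ one := by
    intro L hL
    have key : ∀ L', L' ≠ L0 → t one L' = 0 := fun L' _ => by
      have h := ht one L'
      rw [hτ, D.inner_irr hM _ (by simp [D.L_one]), if_pos honeB] at h
      simp only [hone, principalIrr_apply, map_one, mul_one, Finset.sum_sub_distrib, D.L_sum,
        sub_zero, mul_zero] at h
      exact_mod_cast h.symm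
    rw [← hL] at key
    by_cases h : L = L0
    · subst h
      have := key L1 hL1
      simp only [t, hμinj.eq_iff, if_neg hL1, if_true] at this
      omega
    · have := key L h
      simp only [t, hμinj.eq_iff, if_neg (Ne.symm h), if_true] at this
      omega
  -- coefficients of the base function on the family
  have heμ : ∀ L, L ≠ L0 → e (μ L) = e (μ L0) + ε := by
    intro L hL
    have h := D.inner_base_diff L L0 hL
    rw [show (D.Phi fun x => L.1 x - L0.1 x) = τ L from rfl, hτμ L, classInner_smul_right,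
      classInner_sub_right, he, he, map_intCast] at h
    have h' : ε * (e (μ L) - e (μ L0)) = 1 := by exact_mod_cast h
    linear_combination ε * h' - (e (μ L) - e (μ L0)) * hε
  have hnorm : ∑ χ, e χ ^ 2 = 4 := by
    have h := D.inner_base L0
    rw [classInner_self_eq_sum_sq hcl he] at h
    exact_mod_cast h
  set rest := Finset.univ.filter fun χ : IrrCharacter G => χ ≠ one ∧ χ ∉ Finset.univ.image μ
    with hrest
  have hsplit : ∀ {R : Type} [AddCommMonoid R] (F : IrrCharacter G → R),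
      ∑ χ, F χ = F one + ∑ L, F (μ L) + ∑ χ ∈ rest, F χ := by
    intro R _ F
    rw [← Finset.add_sum_erase _ _ (Finset.mem_univ one), add_assoc]
    congr 1
    rw [← Finset.sum_image (f := F) hμinj.injOn]
    rw [← Finset.sum_union (Finset.disjoint_left.2 fun χ h h' => (Finset.mem_filter.1 h').2.2 h)]
    refine Finset.sum_congr ?_ fun _ _ => rfl
    ext χ
    simp only [Finset.mem_erase, Finset.mem_univ, and_true, Finset.mem_union, hrest,
      Finset.mem_filter, true_and]
    refine ⟨fun h => (Classical.em _).imp id fun h' => ⟨h, h'⟩, ?_⟩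
    rintro (h | h)
    · obtain ⟨L, -, rfl⟩ := Finset.mem_image.1 h
      exact hnot L
    · exact h.1
  rw [hsplit, he1] at hnorm
  have he0 : e (μ L0) + ε = 0 := by
    by_contra hne
    have h1 : ((Finset.univ.erase L0).card : ℤ) ≤ ∑ L, e (μ L) ^ 2 := by
      calc ((Finset.univ.erase L0).card : ℤ) = ∑ L ∈ Finset.univ.erase L0, (1 : ℤ) := by simp
        _ ≤ ∑ L ∈ Finset.univ.erase L0, e (μ L) ^ 2 := Finset.sum_le_sum fun L hL => by
            rw [heμ L (Finset.mem_erase.1 hL).1]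
            exact Int.add_one_le_of_lt (pow_two_pos_of_ne_zero hne)
        _ ≤ _ := Finset.sum_le_sum_of_subset_of_nonneg (Finset.erase_subset _ _)
            fun _ _ _ => sq_nonneg _
    rw [Finset.card_erase_of_mem (Finset.mem_univ _), Finset.card_univ] at h1
    have h2 : (0 : ℤ) ≤ ∑ χ ∈ rest, e χ ^ 2 := Finset.sum_nonneg fun _ _ => sq_nonneg _
    omega
  have heL : ∀ L, L ≠ L0 → e (μ L) = 0 := fun L hL => by rw [heμ L hL, he0]
  have heL0 : e (μ L0) = -ε := eq_neg_of_add_eq_zero_left he0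
  have hsumμ : ∀ {R : Type} [AddCommMonoid R] (F : ℤ → IrrCharacter G → R),
      (∀ χ, F 0 χ = 0) → ∑ L, F (e (μ L)) (μ L) = F (-ε) (μ L0) := fun F hF => by
    rw [Finset.sum_eq_single L0 (fun L _ hL => by rw [heL L hL, hF]) (by simp), heL0]
  rw [hsumμ (fun z _ => z ^ 2) (fun _ => by norm_num)] at hnorm
  obtain ⟨a, ha, b, hb, hab, hea, heb, hzero⟩ := sum_two (s := rest) (e := e) (by
    linear_combination hnorm - hε)
  have hrestμ : ∀ χ ∈ rest, ∀ L, t χ L = 0 := by
    intro χ hχ L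
    obtain ⟨-, h⟩ := (Finset.mem_filter.1 hχ).2
    have : ∀ L', μ L' ≠ χ := fun L' hL' => h (Finset.mem_image.2 ⟨L', Finset.mem_univ _, hL'⟩)
    simp [t, this]
  -- values
  have hvalrest : ∀ χ ∈ rest, χ ∈ principalBlock M G → ∃ z : ℤ,
      (χ : G → ℂ) 1 = e χ + (Nat.card D.A : ℂ) * z ∧ ∀ x : D.A, x ≠ 1 → (χ : G → ℂ) x = e χ := by
    intro χ hχ hχB
    obtain ⟨z, hz, hz'⟩ := D.values hM L0 hχB (t χ) (e χ) (ht χ) (he χ)
    refine ⟨z, ?_, fun x hx => ?_⟩
    · simpa [hrestμ χ hχ] using hz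
    · simpa [hrestμ χ hχ] using hz' x hx
  have hvalμ : ∀ L, ∀ x : D.A, x ≠ 1 → (μ L : G → ℂ) x = ε * L.1 x := by
    intro L x hx
    obtain ⟨z, -, hz'⟩ := D.values hM L0 (hμB L) (t (μ L)) (e (μ L)) (ht _) (he _)
    rw [hz' x hx]
    simp only [t, hμinj.eq_iff]
    by_cases hL : L = L0
    · subst hL
      rw [heL0]
      have h1 := D.sum_L x
      rw [if_neg hx] at h1
      simp only [if_true, Int.cast_sub, Int.cast_ite, Int.cast_zero,
        Int.cast_neg, mul_sub, sub_mul, mul_ite, ite_mul, mul_one, mul_zero, zero_mul,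
        Finset.sum_sub_distrib, Finset.sum_ite_eq', Finset.mem_univ, ← Finset.mul_sum]
      linear_combination (-(ε : ℂ)) * h1
    · rw [heL L hL]
      simp [mul_ite, ite_mul, Finset.sum_ite_eq', if_neg (Ne.symm hL)]
  -- degrees
  have hdeg : ∀ χ : IrrCharacter G, (χ : G → ℂ) 1 = (charDegree (χ : G → ℂ) : ℂ) :=
    fun χ => (degree_eq χ).1
  have hμdeg : ∀ L, (μ L : G → ℂ) 1 = (μ L0 : G → ℂ) 1 := by
    intro L
    have h : τ L 1 = 0 := D.Phi_one _
    rw [hτμ L, Pi.smul_apply, Pi.sub_apply, smul_eq_mul, mul_eq_zero, sub_eq_zero] at h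
    exact h.resolve_left (Int.cast_ne_zero.2 hε0)
  obtain ⟨z, hz, -⟩ := D.values hM L0 (hμB L1) (t (μ L1)) (e (μ L1)) (ht _) (he _)
  rw [heL L1 hL1] at hz
  have hz : (μ L0 : G → ℂ) 1 = 3 * (ε : ℂ) + (Nat.card D.A : ℂ) * z := by
    rw [← hμdeg L1, hz]
    simp [t, hμinj.eq_iff, mul_ite, Finset.sum_ite_eq', if_neg (Ne.symm hL1)]
  have hea0 : e a ≠ 0 := by intro h; rw [h] at hea; norm_num at hea
  have heb0 : e b ≠ 0 := by intro h; rw [h] at heb; norm_num at heb
  obtain ⟨za, hza, hva⟩ := hvalrest a ha (heB a hea0)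
  obtain ⟨zb, hzb, hvb⟩ := hvalrest b hb (heB b heb0)
  rw [hdeg] at hz hza hzb
  set d := charDegree (μ L0 : G → ℂ) with hd
  set da := charDegree (a : G → ℂ) with hda
  set db := charDegree (b : G → ℂ) with hdb
  have hz' : (d : ℤ) = 3 * ε + (Nat.card D.A : ℤ) * z := by exact_mod_cast hz
  have hza' : (da : ℤ) = e a + (Nat.card D.A : ℤ) * za := by exact_mod_cast hza
  have hzb' : (db : ℤ) = e b + (Nat.card D.A : ℤ) * zb := by exact_mod_cast hzb
  have hrestsum : ∀ F : IrrCharacter G → ℂ, (∀ χ ∈ rest, χ ≠ a → χ ≠ b → F χ = 0) →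
      ∑ χ ∈ rest, F χ = F a + F b := by
    intro F hF
    rw [← Finset.sum_pair hab]
    refine (Finset.sum_subset (fun χ hχ => ?_) fun χ hχ h => ?_).symm
    · rcases Finset.mem_insert.1 hχ with rfl | h
      · exact ha
      · rw [Finset.mem_singleton.1 h]; exact hb
    · simp only [Finset.mem_insert, Finset.mem_singleton, not_or] at h
      exact hF χ hχ h.1 h.2
  have hsum : (1 : ℤ) + e a * da + e b * db = ε * d := by
    have h := congrFun (classFunction_eq_sum hcl) 1
    rw [D.Phi_one, Finset.sum_apply] at h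
    simp only [Pi.smul_apply, smul_eq_mul, he] at h
    rw [hsplit, hrestsum _ fun χ hχ h1 h2 => by rw [hzero χ hχ h1 h2]; simp, he1,
      hsumμ (fun z χ => (z : ℂ) * (χ : G → ℂ) 1) (fun _ => by simp), hdeg (μ L0), hdeg a,
      hdeg b] at h
    simp only [hone, principalIrr_apply] at h
    have h' : (0 : ℂ) = (((1 + e a * da + e b * db - ε * d : ℤ)) : ℂ) := by
      rw [h, ← hd, ← hda, ← hdb]; push_cast; ring
    have h'' : (1 + e a * da + e b * db - ε * d : ℤ) = 0 := by exact_mod_cast h'.symm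
    omega
  -- the count
  obtain ⟨u, hu, hu1⟩ := D.exists_involution
  obtain ⟨x, hx⟩ := D.exists_sq_ne_one
  have hx1 : x ≠ 1 := fun h => hx (by rw [h, one_pow])
  have hcount := D.count_zero hM hu hx
  rw [Finset.sum_filter, hsplit, if_pos honeB,
    hrestsum _ fun χ hχ h1 h2 => by
      split_ifs with hχB
      · obtain ⟨w, -, hw⟩ := hvalrest χ hχ hχB
        rw [hw u hu1, hzero χ hχ h1 h2]
        simp
      · rfl, if_pos (heB a hea0), if_pos (heB b heb0), hva u hu1, hva x hx1, hvb u hu1, hvb x hx1,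
    hdeg a, hdeg b, ← hda, ← hdb] at hcount
  have hμsum : ∑ L, (if μ L ∈ principalBlock M G then
      (μ L : G → ℂ) u ^ 2 * conj ((μ L : G → ℂ) x) / (μ L : G → ℂ) 1 else 0) =
      -9 * (ε : ℂ) / (d : ℂ) := by
    have hεC : (ε : ℂ) ^ 2 = 1 := by exact_mod_cast hε
    rw [Finset.sum_congr rfl fun L _ => by
      rw [if_pos (hμB L), hvalμ L u hu1, hvalμ L x hx1, hμdeg L, hdeg (μ L0), map_mul,
        map_intCast, mul_pow, hεC, one_mul, mul_left_comm]]
    rw [← Finset.sum_div, ← Finset.mul_sum, D.sum_L_sq_mul hu hu1 hx, ← hd]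
    ring
  rw [hμsum] at hcount
  simp only [hone, principalIrr_apply, map_one, one_pow, one_mul, div_one, map_intCast] at hcount
  have hsign : ∀ (s : ℤ) (n : ℕ), s ^ 2 = 1 → ((s : ℂ) / (n : ℂ)) = 1 / ((s * n : ℤ) : ℂ) := by
    intro s n hs
    push_cast
    rcases sq_eq_one_iff.1 hs with rfl | rfl <;> simp [div_eq_mul_inv]
  have hc : (1 : ℂ) + 1 / ((e a * da : ℤ) : ℂ) + 1 / ((e b * db : ℤ) : ℂ) =
      9 / ((ε * d : ℤ) : ℂ) := by
    have hpow : ∀ s : ℤ, s ^ 2 = 1 → (s : ℂ) ^ 2 * (s : ℂ) = s := fun s hs => by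
      have : (s : ℂ) ^ 2 = 1 := by exact_mod_cast hs
      rw [this, one_mul]
    rw [hpow _ hea, hpow _ heb, hsign _ _ hea, hsign _ _ heb] at hcount
    have h9 := hsign ε d hε
    linear_combination hcount + 9 * h9
  have hAdvd : (16 : ℤ) ∣ (Nat.card D.A : ℤ) := by exact_mod_cast D.sixteen_dvd
  have key : ∀ χ ∈ rest, e χ ^ 2 = 1 → e χ * (charDegree (χ : G → ℂ) : ℤ) = 1 →
      (∀ y : D.A, y ≠ 1 → (χ : G → ℂ) y = e χ) → ∃ f : G →* ℂˣ, f ≠ 1 ∧ ∀ y ∈ D.A, f y = 1 := by
    intro χ hχ hsq h1 hv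
    have hd1 : charDegree (χ : G → ℂ) = 1 ∧ e χ = 1 := by
      rcases sq_eq_one_iff.1 hsq with h | h <;> rw [h] at h1 <;> omega
    obtain ⟨f, hf⟩ := CfsgLib.LinearTwist.exists_hom_of_charDegree_one (irr_isCharacter χ) hd1.1
    refine ⟨f, fun h => (Finset.mem_filter.1 hχ).2.1 (Subtype.ext ?_), fun y hy => ?_⟩
    · rw [hf, h]
      funext g
      simp [hone]
    · by_cases hy1 : (⟨y, hy⟩ : D.A) = 1
      · rw [show y = 1 from congrArg Subtype.val hy1, map_one]
      · have h := hv ⟨y, hy⟩ hy1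
        rw [hd1.2, hf, Int.cast_one] at h
        exact Units.ext h
  rcases degree_arith (za := e a * za) (zb := e b * zb) (z := ε * z) hAdvd
    (by linear_combination (e a) * hza' + hea) (by linear_combination (e b) * hzb' + heb)
    (by linear_combination ε * hz' + 3 * hε) hsum hc with h | h
  · exact key a ha hea h hva
  · exact key b hb heb h hvb

end CfsgLib.Blocks.Homo949
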