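import Cfsg.Agent.Lib.Blocks.Homo949Setup
import Cfsg.Agent.Lib.Blocks.SectionNorm
import Cfsg.Agent.Lib.Blocks.ClassCount
import Cfsg.Agent.Lib.Blocks.DefectZeroVanish
import Cfsg.Agent.Lib.Characters.BrauerInduction

/-!
# The isometry from the invariant functions on a homocyclic Sylow 2-subgroup
-/

set_option autoImplicit false
set_option linter.style.haveILetI false
set_option linter.unusedSectionVars false

noncomputable section

namespace CfsgLib.Blocks.Homo949

open Cfsg CfsgLib.Characters CfsgLib.ClassCount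
open scoped ComplexConjugate Classical

universe u

variable {G : Type u} [Group G] [Fintype G]

/-- The element lies in the `2`-section of `x`. -/
def InSec (x g : G) : Prop := ∃ z, IsPPart 2 g z ∧ IsConj x z

theorem inSec_conj {x g : G} (h : InSec x g) (c : G) : InSec x (c * g * c⁻¹) := by
  obtain ⟨z, hz, hxz⟩ := h
  exact ⟨_, IsPPart.conj hz c, hxz.trans (isConj_iff.2 ⟨c, rfl⟩)⟩

theorem inSec_iff {g z : G} (hz : IsPPart 2 g z) (x : G) : InSec x g ↔ IsConj x z :=
  ⟨fun ⟨w, hw, hxw⟩ => IsPPart.unique Nat.prime_two hw hz ▸ hxw, fun h => ⟨z, hz, h⟩⟩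

variable (D : Data G)

/-- The class function attached to a function on the Sylow subgroup. -/
def Data.Phi (φ : D.A → ℂ) (g : G) : ℂ :=
  (3 : ℂ)⁻¹ * ∑ x : D.A, if x ≠ 1 ∧ InSec (x : G) g then φ x else 0

theorem Data.Phi_isClassFunction (φ : D.A → ℂ) : IsClassFunction G (D.Phi φ) := by
  intro g c
  simp only [Data.Phi]
  congr 1
  refine Finset.sum_congr rfl fun x _ => ?_
  have h : InSec (x : G) (c * g * c⁻¹) ↔ InSec (x : G) g :=
    ⟨fun h => by simpa [mul_assoc] using inSec_conj h c⁻¹, fun h => inSec_conj h c⟩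
  simp only [h]

theorem Data.Phi_eq_zero (φ : D.A → ℂ) {g : G} (hg : IsPPart 2 g 1) : D.Phi φ g = 0 := by
  rw [Data.Phi, Finset.sum_eq_zero fun x _ => if_neg ?_, mul_zero]
  rintro ⟨hx, hs⟩
  exact hx (Subtype.ext (isConj_one_left.1 ((inSec_iff hg _).1 hs)))

theorem Data.Phi_one (φ : D.A → ℂ) : D.Phi φ 1 = 0 :=
  D.Phi_eq_zero φ ⟨1, one_mul 1, Commute.refl 1, ⟨0, by rw [orderOf_one, pow_zero]⟩,
    by rw [orderOf_one]; exact Nat.prime_two.not_dvd_one⟩

theorem Data.Phi_eq (φ : D.A → ℂ) (hφ : ∀ x, φ (D.σ x) = φ x) {g z : G} (hg : IsPPart 2 g z)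
    {x : D.A} (hx : x ≠ 1) (hxz : IsConj (x : G) z) : D.Phi φ g = φ x := by
  have hset : Finset.univ.filter (fun y : D.A => y ≠ 1 ∧ InSec (y : G) g) =
      {x, D.σ x, D.σ (D.σ x)} := by
    ext y
    simp only [Finset.mem_filter, Finset.mem_univ, true_and, Finset.mem_insert, Finset.mem_singleton,
      inSec_iff hg]
    constructor
    · rintro ⟨-, hy⟩
      exact D.fusion (hxz.trans hy.symm)
    · rintro (rfl | rfl | rfl)
      · exact ⟨hx, hxz⟩
      · exact ⟨fun h => hx ((MulEquiv.map_eq_one_iff D.σ).1 h), (D.isConj_σ x).symm.trans hxz⟩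
      · exact ⟨fun h => hx ((MulEquiv.map_eq_one_iff D.σ).1 ((MulEquiv.map_eq_one_iff D.σ).1 h)),
          (((D.isConj_σ x).trans (D.isConj_σ _)).symm).trans hxz⟩
  have h1 : x ≠ D.σ x := fun h => hx (D.fix h.symm)
  have h2 : x ≠ D.σ (D.σ x) := fun h => hx (D.fix_sq h.symm)
  have h3 : D.σ x ≠ D.σ (D.σ x) := fun h => h1 (D.σ.injective h)
  rw [Data.Phi, ← Finset.sum_filter, hset, Finset.sum_insert (by simp [h1, h2]),
    Finset.sum_pair h3, hφ, hφ, hφ]
  ring

/-- The odd core of the centraliser of `x`. -/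
abbrev Data.O (x : D.A) : Subgroup (Subgroup.centralizer ({(x : G)} : Set G)) :=
  pPrimeCore 2 (Subgroup.centralizer ({(x : G)} : Set G))

theorem Data.exists_card_pow : ∃ k : ℕ, Nat.card D.A = 2 ^ k := by
  haveI : Fact (Nat.Prime 2) := ⟨Nat.prime_two⟩
  exact D.isPGroup.exists_card_eq

theorem Data.mem_O {x : D.A} (hx : x ≠ 1) (y : Subgroup.centralizer ({(x : G)} : Set G)) :
    y ∈ D.O x ↔ ¬ 2 ∣ orderOf (y : G) := by
  haveI : Fact (Nat.Prime 2) := ⟨Nat.prime_two⟩
  rw [Subgroup.orderOf_coe]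
  refine ⟨fun h hd => CfsgLib.PCore.not_dvd_card_pPrimeCore
    (hd.trans (Subgroup.orderOf_dvd_natCard _ h)), fun hy => ?_⟩
  obtain ⟨k, hk⟩ := D.exists_card_pow
  have h1 := Subgroup.pow_index_mem (D.O x) y
  rw [D.complement hx, hk] at h1
  obtain ⟨m, hm⟩ := exists_pow_eq_self_of_coprime
    (Nat.Coprime.pow_left k (Nat.prime_two.coprime_iff_not_dvd.2 hy))
  rw [← hm]
  exact Subgroup.pow_mem _ h1 m

theorem Data.card_cls {x : D.A} (hx : x ≠ 1) :
    (cls (x : G)).card * (Nat.card D.A * Nat.card (D.O x)) = Nat.card G := by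
  rw [← D.complement hx, mul_comm (Subgroup.index _), Subgroup.card_mul_index]
  exact card_cls_mul_centralizer (x : G)

/-- Summing a class function over a section. -/
theorem Data.sum_sec {x : D.A} (hx : x ≠ 1) {F : G → ℂ} (hF : IsClassFunction G F) :
    ∑ g, (if InSec (x : G) g then F g else 0) =
      ((cls (x : G)).card : ℂ) * ∑ y : D.O x, F ((x : G) * (y : G)) := by
  have e1 : ∀ g, (if InSec (x : G) g then F g else 0) =
      ∑ z ∈ cls (x : G), if IsPPart 2 g z then F g else 0 := by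
    intro g
    obtain ⟨w, hw⟩ := exists_isPPart Nat.prime_two g
    have hu : ∀ z, IsPPart 2 g z ↔ w = z :=
      fun z => ⟨fun h => IsPPart.unique Nat.prime_two hw h, fun h => h ▸ hw⟩
    simp only [hu, Finset.sum_ite_eq, mem_cls, inSec_iff hw]
  rw [Finset.sum_congr rfl (fun g _ => e1 g), Finset.sum_comm]
  have e2 : ∀ z ∈ cls (x : G), (∑ g, if IsPPart 2 g z then F g else 0) =
      ∑ g, if IsPPart 2 g (x : G) then F g else 0 := by
    intro z hz
    obtain ⟨c, hc⟩ := isConj_iff.1 (mem_cls.1 hz)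
    refine (Fintype.sum_equiv (MulAut.conj c).toEquiv _ _ fun g => ?_).symm
    show _ = if IsPPart 2 (c * g * c⁻¹) z then F (c * g * c⁻¹) else 0
    have hiff : IsPPart 2 (c * g * c⁻¹) z ↔ IsPPart 2 g (x : G) := by
      constructor
      · intro h
        have h' := IsPPart.conj h c⁻¹
        rw [← hc] at h'
        simpa [mul_assoc] using h'
      · intro h
        exact hc ▸ IsPPart.conj h c
    simp only [hiff, hF g c]
  rw [Finset.sum_congr rfl e2, Finset.sum_const, nsmul_eq_mul]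
  congr 1
  rw [← Finset.sum_filter]
  refine (Finset.sum_bij (fun (y : D.O x) _ => (x : G) * (y : G)) ?_ ?_ ?_ ?_).symm
  · intro y _
    rw [Finset.mem_filter]
    exact ⟨Finset.mem_univ _, isPPart_mul (commute_centralizer y.1) (D.orderOf_pow x)
      ((D.mem_O hx y.1).1 y.2)⟩
  · intro y _ y' _ h
    exact Subtype.ext (Subtype.ext (mul_left_cancel h))
  · intro g hg
    obtain ⟨y, hy, hc, -, hy2⟩ := (Finset.mem_filter.1 hg).2
    have hyC : y ∈ Subgroup.centralizer ({(x : G)} : Set G) :=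
      Subgroup.mem_centralizer_singleton_iff.2 hc.eq.symm
    exact ⟨⟨⟨y, hyC⟩, (D.mem_O hx ⟨y, hyC⟩).2 hy2⟩, Finset.mem_univ _, hy⟩
  · exact fun _ _ => rfl

variable {M : Ideal AlgInt}

/-- Summing an irreducible character over `x * O(C(x))`. -/
theorem Data.sum_O (hM : IsPModular 2 M) {x : D.A} (hx : x ≠ 1) (χ : IrrCharacter G) :
    ∑ y : D.O x, (χ : G → ℂ) ((x : G) * (y : G)) =
      if χ ∈ principalBlock M G then (Nat.card (D.O x) : ℂ) * (χ : G → ℂ) x else 0 := by
  haveI : Fact (Nat.Prime 2) := ⟨Nat.prime_two⟩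
  haveI : (D.O x).Normal := pPrimeCore_normal 2 _
  have hN : ¬ 2 ∣ Nat.card (D.O x) := CfsgLib.PCore.not_dvd_card_pPrimeCore
  split_ifs with hχ
  · rw [Finset.sum_congr rfl fun y _ => principal_apply_mul hM (D.orderOf_pow x) hN y.2 hχ,
      Finset.sum_const, Finset.card_univ, ← Nat.card_eq_fintype_card, nsmul_eq_mul]
  · obtain ⟨k, hk⟩ := D.exists_card_pow
    have hb := Cfsg.Agent.S0939.result 2 M hM
      (G := Subgroup.centralizer ({(x : G)} : Set G)) ⟨k, (D.complement hx).trans hk⟩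
    set C := Subgroup.centralizer ({(x : G)} : Set G) with hC
    have hb0 : ∀ ξ : IrrCharacter C, ξ ∉ principalBlock M C →
        ∑ y : D.O x, (ξ : C → ℂ) y = 0 := by
      intro ξ hξ
      have h3 : omega (ξ : C → ℂ) (avgElt (D.O x)) * omega (ξ : C → ℂ) (avgElt (D.O x)) =
          omega (ξ : C → ℂ) (avgElt (D.O x)) := by
        rw [← omega_mul ξ (avgElt_mem_center _), isIdempotentElem_avgElt (D.O x)]
      have h5 : omega (ξ : C → ℂ) (avgElt (D.O x)) = 0 :=
        (mul_left_eq_self₀.1 h3).resolve_left fun h4 => hξ (by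
          rw [hb]
          exact fun n hn => apply_eq_one_of_omega_avgElt h4 hn)
      rw [omega_avgElt, div_eq_zero_iff, or_iff_left (irr_one_ne_zero ξ), div_eq_zero_iff,
        or_iff_left (by simp)] at h5
      rw [← h5]
      exact (Finset.sum_subtype (Finset.univ.filter (· ∈ D.O x)) (fun y => by simp) _).symm
    have hy : ∀ y : D.O x, ¬ 2 ∣ orderOf (y : C) := fun y h =>
      hN (h.trans (Subgroup.orderOf_dvd_natCard _ y.2))
    have hval : ∀ y : D.O x, (χ : G → ℂ) ((x : G) * (y : G)) =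
        ∑ ξ ∈ Finset.univ.filter (fun ξ : IrrCharacter C => ξ ∉ principalBlock M C),
          classInner (sectionFun (x : G) (χ : G → ℂ)) (ξ : C → ℂ) * (ξ : C → ℂ) y := by
      intro y
      show sectionFun (x : G) (χ : G → ℂ) (y : C) = _
      have h0 := blockPart_principal_section hM (D.orderOf_pow x) (hy y) χ
      rw [if_neg hχ, blockPart_eq_sum] at h0
      conv_lhs => rw [classFunction_eq_sum (isClassFunction_sectionFun (irr_isClassFunction χ))]
      simp only [Finset.sum_apply, Pi.smul_apply, smul_eq_mul]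
      rw [← Finset.sum_filter_add_sum_filter_not Finset.univ
        (fun ξ : IrrCharacter C => ξ ∈ principalBlock M C)]
      rw [h0, zero_add]
    rw [Finset.sum_congr rfl fun y _ => hval y, Finset.sum_comm]
    refine Finset.sum_eq_zero fun ξ hξ => ?_
    rw [← Finset.mul_sum, hb0 ξ (Finset.mem_filter.1 hξ).2, mul_zero]

theorem Data.inner_irr (hM : IsPModular 2 M) (φ : D.A → ℂ) (hφ : φ 1 = 0) (χ : IrrCharacter G) :
    classInner (D.Phi φ) (χ : G → ℂ) = if χ ∈ principalBlock M G then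
      (3 * (Nat.card D.A : ℂ))⁻¹ * ∑ x : D.A, φ x * conj ((χ : G → ℂ) x) else 0 := by
  have hG : (Nat.card G : ℂ) ≠ 0 := Nat.cast_ne_zero.2 Nat.card_pos.ne'
  have hA : (Nat.card D.A : ℂ) ≠ 0 := Nat.cast_ne_zero.2 Nat.card_pos.ne'
  have e : ∀ x : D.A, (∑ g, if x ≠ 1 ∧ InSec (x : G) g then φ x * conj ((χ : G → ℂ) g) else 0) =
      if χ ∈ principalBlock M G then
        (Nat.card G : ℂ) / (Nat.card D.A : ℂ) * (φ x * conj ((χ : G → ℂ) x)) else 0 := by
    intro x
    by_cases hx : x = 1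
    · subst hx; simp [hφ]
    have hcl : ((cls (x : G)).card : ℂ) * (Nat.card (D.O x) : ℂ) =
        (Nat.card G : ℂ) / (Nat.card D.A : ℂ) := by
      rw [eq_div_iff hA, ← D.card_cls hx]
      push_cast
      ring
    simp only [ne_eq, hx, not_false_eq_true, true_and, ← mul_ite_zero]
    rw [← Finset.mul_sum, D.sum_sec hx (F := fun g => conj ((χ : G → ℂ) g))
      (fun a b => congrArg conj (irr_isClassFunction χ a b)), ← map_sum, D.sum_O hM hx χ]
    split_ifs
    · rw [map_mul, map_natCast, ← hcl]; ring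
    · simp
  simp only [classInner, Data.Phi, mul_assoc, Finset.sum_mul, ite_mul, zero_mul]
  rw [← Finset.mul_sum, Finset.sum_comm, Finset.sum_congr rfl fun x _ => e x]
  split_ifs
  · rw [← Finset.mul_sum, mul_inv]
    field_simp
  · simp

theorem Data.inner_Phi (φ ψ : D.A → ℂ) (hφ : φ 1 = 0) (hψ : ∀ x, ψ (D.σ x) = ψ x) :
    classInner (D.Phi φ) (D.Phi ψ) =
      (3 * (Nat.card D.A : ℂ))⁻¹ * ∑ x : D.A, φ x * conj (ψ x) := by
  have hA : (Nat.card D.A : ℂ) ≠ 0 := Nat.cast_ne_zero.2 Nat.card_pos.ne'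
  have hG : (Nat.card G : ℂ) ≠ 0 := Nat.cast_ne_zero.2 Nat.card_pos.ne'
  have e : ∀ x : D.A, (∑ g, if x ≠ 1 ∧ InSec (x : G) g then φ x * conj (D.Phi ψ g) else 0) =
      (Nat.card G : ℂ) / (Nat.card D.A : ℂ) * (φ x * conj (ψ x)) := by
    intro x
    by_cases hx : x = 1
    · subst hx; simp [hφ]
    have hcl : ((cls (x : G)).card : ℂ) * (Nat.card (D.O x) : ℂ) =
        (Nat.card G : ℂ) / (Nat.card D.A : ℂ) := by
      rw [eq_div_iff hA, ← D.card_cls hx]
      push_cast
      ring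
    have hy : ∀ y : D.O x, D.Phi ψ ((x : G) * (y : G)) = ψ x := fun y =>
      D.Phi_eq ψ hψ (isPPart_mul (commute_centralizer y.1) (D.orderOf_pow x)
        ((D.mem_O hx y.1).1 y.2)) hx (IsConj.refl _)
    simp only [ne_eq, hx, not_false_eq_true, true_and, ← mul_ite_zero]
    rw [← Finset.mul_sum, D.sum_sec hx (F := fun g => conj (D.Phi ψ g))
      (fun a b => congrArg conj (D.Phi_isClassFunction ψ a b))]
    simp only [hy, Finset.sum_const, Finset.card_univ, ← Nat.card_eq_fintype_card, nsmul_eq_mul]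
    rw [← hcl]; ring
  rw [classInner]
  nth_rewrite 1 [show D.Phi φ = fun g => (3 : ℂ)⁻¹ *
    ∑ x : D.A, if x ≠ 1 ∧ InSec (x : G) g then φ x else 0 from rfl]
  simp only [mul_assoc, Finset.sum_mul, ite_mul, zero_mul]
  rw [← Finset.mul_sum, Finset.sum_comm, Finset.sum_congr rfl fun x _ => e x, ← Finset.mul_sum,
    mul_inv]
  field_simp

/-- An invariant generalized character vanishing at the identity gives a generalized character. -/
theorem Data.Phi_isGeneralized (φ : D.A → ℂ) (hφ : ∀ x, φ (D.σ x) = φ x) (h1 : φ 1 = 0)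
    (hgen : ∀ (E : Subgroup G) (h : E →* D.A), IsGeneralizedCharacter E (fun a => φ (h a))) :
    IsGeneralizedCharacter G (D.Phi φ) := by
  haveI : Fact (Nat.Prime 2) := ⟨Nat.prime_two⟩
  refine CfsgLib.Brauer.isGeneralizedCharacter_of_restrictions (D.Phi_isClassFunction φ)
    fun E q hq hE => ?_
  obtain ⟨S, hScard, hmem, ⟨a, ha⟩, -⟩ := CfsgLib.DefectZeroVanish.elementary_split (p := 2) hq hE
  haveI : S.Normal := ⟨fun s hs c => by
    rw [hmem] at hs ⊢
    rwa [show c * s * c⁻¹ = MulAut.conj c s from rfl, MulEquiv.orderOf_eq]⟩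
  have hquot : IsPGroup 2 (E ⧸ S) := IsPGroup.of_card (n := a) (by rw [← Subgroup.index, ha])
  let Q : Sylow 2 E := default
  have hc := (CfsgLib.Transfer.isComplement'_of_coprime S hScard hquot Q).symm
  -- conjugate the Sylow subgroup of `E` into the given one
  obtain ⟨R, hR⟩ := (Q.2.map E.subtype).exists_le_sylow
  obtain ⟨g, hg⟩ := MulAction.exists_smul_eq G R D.P
  let ψ : (Q : Subgroup E) →* D.A := (((MulAut.conj g).toMonoidHom.comp
    (E.subtype.comp (Q : Subgroup E).subtype))).codRestrict D.A fun b => by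
      have hb : (b : G) ∈ (R : Subgroup G) := hR ⟨b, b.2, rfl⟩
      have := Subgroup.smul_mem_pointwise_smul (b : G) (MulAut.conj g) (R : Subgroup G) hb
      show _ ∈ (D.P : Subgroup G)
      rw [← hg]
      exact this
  let h : E →* D.A := ψ.comp (hc.QuotientMulEquiv.toMonoidHom.comp (QuotientGroup.mk' S))
  have hψconj : ∀ b : (Q : Subgroup E), IsConj ((b : E) : G) (ψ b : G) :=
    fun b => isConj_iff.2 ⟨g, rfl⟩
  have hhQ : ∀ b : (Q : Subgroup E), h (b : E) = ψ b := by
    intro b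
    show ψ (hc.QuotientMulEquiv (QuotientGroup.mk (b : E))) = ψ b
    congr 1
    rw [← MulEquiv.eq_symm_apply]
    rfl
  have hhS : ∀ s ∈ S, h s = 1 := by
    intro s hs
    show ψ (hc.QuotientMulEquiv (QuotientGroup.mk s)) = 1
    rw [(QuotientGroup.eq_one_iff s).2 hs, map_one, map_one]
  suffices hfun : (fun e : E => D.Phi φ e) = fun e => φ (h e) by rw [hfun]; exact hgen E h
  funext e
  obtain ⟨k, hk, -⟩ := exists_pPart_exponent Nat.prime_two (isOfFinOrder_of_finite (e : G))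
  obtain ⟨y, hy, hcy, ⟨j, hj⟩, hy2⟩ := id hk
  have hs : (e ^ k)⁻¹ * e ∈ S := by
    rw [hmem, ← Subgroup.orderOf_coe]
    have : (((e ^ k)⁻¹ * e : E) : G) = y := by
      simp only [Subgroup.coe_mul, Subgroup.coe_inv, SubgroupClass.coe_pow]
      rw [inv_mul_eq_iff_eq_mul]
      exact hy.symm
    rwa [this]
  have he : h e = h (e ^ k) := by
    have h0 := hhS _ hs
    rw [map_mul, map_inv, inv_mul_eq_one] at h0
    exact h0.symm
  -- the `2`-part is conjugate into the Sylow subgroup of `E`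
  obtain ⟨Q', hQ'⟩ := (IsPGroup.of_card (p := 2) (n := j) (G := Subgroup.zpowers (e ^ k)) (by
    rw [Nat.card_zpowers, ← Subgroup.orderOf_coe, SubgroupClass.coe_pow, hj])).exists_le_sylow
  obtain ⟨c, hc'⟩ := MulAction.exists_smul_eq E Q' Q
  have hcQ : c * e ^ k * c⁻¹ ∈ (Q : Subgroup E) := by
    rw [← hc']
    exact Subgroup.smul_mem_pointwise_smul (e ^ k) (MulAut.conj c) (Q' : Subgroup E)
      (hQ' (Subgroup.mem_zpowers _))
  have he' : h e = ψ ⟨c * e ^ k * c⁻¹, hcQ⟩ := by
    rw [he, ← hhQ]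
    show h (e ^ k) = h (c * e ^ k * c⁻¹)
    rw [map_mul, map_mul, map_inv, D.comm (h c), mul_inv_cancel_right]
  have hconj : IsConj ((e : G) ^ k) (h e : G) := by
    rw [he']
    refine (isConj_iff.2 ⟨(c : G), ?_⟩).trans (hψconj _)
    simp
  by_cases h0 : h e = 1
  · rw [h0, h1]
    rw [h0, OneMemClass.coe_one, isConj_one_left] at hconj
    exact D.Phi_eq_zero φ (hconj ▸ hk)
  · exact D.Phi_eq φ hφ hk h0 hconj.symm

end CfsgLib.Blocks.Homo949
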