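import Cfsg.Agent.Lib.Blocks.Homocyclic
import Cfsg.Agent.Lib.Transfer.NormalComplement
import Cfsg.Agent.Lib.PCore.Basic
import Cfsg.Prelude.Def_Blocks

/-!
# Homocyclic Sylow 2-subgroups of rank two: the local data
-/

set_option autoImplicit false
set_option linter.style.haveILetI false

namespace CfsgLib.Blocks.Homo949

open Cfsg

universe u

/-- A homocyclic Sylow `2`-subgroup of rank two with an element of its normaliser acting
non-trivially. -/
structure Data (G : Type u) [Group G] where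
  P : Sylow 2 G
  m : ℕ
  hm : 2 ≤ m
  e : (P : Subgroup G) ≃* Multiplicative (ZMod (2 ^ m) × ZMod (2 ^ m))
  n : G
  hn : n ∈ Subgroup.normalizer ((P : Subgroup G) : Set G)
  hnC : n ∉ Subgroup.centralizer ((P : Subgroup G) : Set G)

variable {G : Type u} [Group G]

/-- The Sylow subgroup. -/
abbrev Data.A (D : Data G) : Subgroup G := (D.P : Subgroup G)

/-- The automorphism induced by the chosen element. -/
def Data.σ (D : Data G) : MulAut D.A := D.A.normalizerMonoidHom ⟨D.n, D.hn⟩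

variable (D : Data G)

theorem Data.comm (a b : D.A) : a * b = b * a := D.e.injective (by rw [map_mul, map_mul, mul_comm])

theorem Data.coe_σ (x : D.A) : ((D.σ x : D.A) : G) = D.n * x * D.n⁻¹ := rfl

theorem Data.le_centralizer : D.A ≤ Subgroup.centralizer (D.A : Set G) := fun x hx =>
  Subgroup.mem_centralizer_iff.2 fun y hy => congrArg Subtype.val (D.comm ⟨y, hy⟩ ⟨x, hx⟩)

theorem Data.card_eq : Nat.card D.A = 2 ^ D.m * 2 ^ D.m := by
  rw [Nat.card_congr D.e.toEquiv, Nat.card_congr Multiplicative.toAdd, Nat.card_prod, Nat.card_zmod]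

theorem Data.sixteen_dvd : 16 ∣ Nat.card D.A := by
  rw [D.card_eq, ← pow_add, show (16 : ℕ) = 2 ^ 4 from rfl]
  exact pow_dvd_pow 2 (by have := D.hm; omega)

theorem Data.exists_sq_ne_one : ∃ x : D.A, x ^ 2 ≠ 1 := by
  refine ⟨D.e.symm (Multiplicative.ofAdd (1, 0)), fun h => ?_⟩
  have h1 := congrArg D.e h
  rw [map_pow, MulEquiv.apply_symm_apply, map_one] at h1
  have h2 := congrArg (fun z => (Multiplicative.toAdd z).1) h1
  simp only [toAdd_pow, toAdd_ofAdd, toAdd_one, Prod.smul_mk, Prod.fst_zero, nsmul_eq_mul,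
    mul_one] at h2
  have h3 : (2 ^ D.m : ℕ) ∣ 2 := (ZMod.natCast_eq_zero_iff _ _).1 h2
  have h4 : 2 ^ 2 ≤ 2 ^ D.m := Nat.pow_le_pow_right (by norm_num) D.hm
  have := Nat.le_of_dvd (by norm_num) h3
  omega

variable [Finite G]

theorem Data.exists_involution : ∃ u : D.A, u ^ 2 = 1 ∧ u ≠ 1 := by
  classical
  haveI := Fintype.ofFinite {a : D.A // a ^ 2 = 1}
  have h4 := natCard_sq_eq_one D.m (by have := D.hm; omega) D.e
  have h1 : 1 < Fintype.card {a : D.A // a ^ 2 = 1} := by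
    rw [← Nat.card_eq_fintype_card, h4]; omega
  obtain ⟨a, ha⟩ := Fintype.exists_ne_of_one_lt_card h1 (⟨1, one_pow 2⟩ : {a : D.A // a ^ 2 = 1})
  exact ⟨a.1, a.2, fun h => ha (Subtype.ext h)⟩

theorem Data.relIndex_eq_three :
    (Subgroup.centralizer (D.A : Set G)).relIndex (Subgroup.normalizer (D.A : Set G)) = 3 := by
  refine (homocyclic_automizer D.P D.m (by have := D.hm; omega) D.e).1.resolve_left fun h => D.hnC ?_
  exact Subgroup.relIndex_eq_one.1 h D.hn

theorem Data.range_card : Nat.card D.A.normalizerMonoidHom.range = 3 := by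
  rw [← Subgroup.index_ker, Subgroup.normalizerMonoidHom_ker]
  exact D.relIndex_eq_three

theorem Data.fix {x : D.A} (h : D.σ x = x) : x = 1 := by
  by_contra hx
  refine D.hnC ((homocyclic_automizer D.P D.m (by have := D.hm; omega) D.e).2 D.n D.hn x x.2 ?_ ?_)
  · exact fun hx1 => hx (Subtype.ext hx1)
  · have := congrArg Subtype.val h
    rw [D.coe_σ, mul_inv_eq_iff_eq_mul] at this
    exact this

theorem Data.cube_apply (x : D.A) : D.σ (D.σ (D.σ x)) = x := by
  have h : (⟨D.σ, ⟨_, rfl⟩⟩ : D.A.normalizerMonoidHom.range) ^ 3 = 1 := by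
    rw [← D.range_card]
    exact pow_card_eq_one'
  have h1 : D.σ ^ 3 = 1 := congrArg Subtype.val h
  have h2 := DFunLike.congr_fun h1 x
  rwa [pow_succ, pow_two, MulAut.mul_apply, MulAut.mul_apply, MulAut.one_apply] at h2

theorem Data.fix_sq {x : D.A} (h : D.σ (D.σ x) = x) : x = 1 :=
  D.fix (by conv_rhs => rw [← D.cube_apply x, h])

theorem Data.orbit_prod (x : D.A) : x * D.σ x * D.σ (D.σ x) = 1 :=
  D.fix (by rw [map_mul, map_mul, D.cube_apply, D.comm _ x, mul_assoc])

/-- Conjugate elements of the Sylow subgroup differ by a power of the automorphism. -/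
theorem Data.fusion {x y : D.A} (h : IsConj (x : G) (y : G)) :
    y = x ∨ y = D.σ x ∨ y = D.σ (D.σ x) := by
  haveI : IsMulCommutative D.A := ⟨⟨D.comm⟩⟩
  obtain ⟨g, hg⟩ := isConj_iff.1 h
  have hy : g⁻¹⁻¹ * (x : G) * g⁻¹ ∈ D.A := by rw [inv_inv, hg]; exact y.2
  obtain ⟨k, hk, hk'⟩ := D.P.conj_eq_normalizer_conj_of_mem (x : G) g⁻¹ x.2 hy
  rw [inv_inv, hg] at hk'
  have hy' : y = D.A.normalizerMonoidHom ⟨k⁻¹, inv_mem hk⟩ x := Subtype.ext (by
    rw [hk']
    show _ = k⁻¹ * (x : G) * k⁻¹⁻¹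
    rw [inv_inv])
  have hmem : (⟨_, ⟨_, rfl⟩⟩ : D.A.normalizerMonoidHom.range) ∈
      Subgroup.zpowers (⟨D.σ, ⟨_, rfl⟩⟩ : D.A.normalizerMonoidHom.range) :=
    haveI : Fact (Nat.Prime 3) := ⟨Nat.prime_three⟩
    mem_zpowers_of_prime_card (g := (⟨D.σ, ⟨_, rfl⟩⟩ : D.A.normalizerMonoidHom.range))
      (g' := ⟨D.A.normalizerMonoidHom ⟨k⁻¹, inv_mem hk⟩, ⟨_, rfl⟩⟩) D.range_card fun h1 => by
        obtain ⟨a, ha⟩ := D.exists_sq_ne_one
        have h1' : D.σ = 1 := congrArg Subtype.val h1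
        have := D.fix (x := a) (by rw [h1']; rfl)
        exact ha (by rw [this, one_pow])
  obtain ⟨i, hi⟩ := Subgroup.mem_zpowers_iff.1 hmem
  have hi' : D.σ ^ i = D.A.normalizerMonoidHom ⟨k⁻¹, inv_mem hk⟩ := congrArg Subtype.val hi
  have h3 : D.σ ^ i = D.σ ^ (i % 3) := by
    have h1 : D.σ ^ (3 : ℤ) = 1 := MulEquiv.ext fun z => by
      show (D.σ ^ (3 : ℕ)) z = z
      rw [pow_succ, pow_two, MulAut.mul_apply, MulAut.mul_apply, D.cube_apply]
    conv_lhs => rw [← Int.emod_add_mul_ediv i 3]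
    rw [zpow_add, zpow_mul, h1, one_zpow, mul_one]
  rw [hy', ← hi', h3]
  obtain h | h | h : i % 3 = 0 ∨ i % 3 = 1 ∨ i % 3 = 2 := by omega
  all_goals rw [h]
  · exact Or.inl rfl
  · exact Or.inr (Or.inl rfl)
  · exact Or.inr (Or.inr rfl)

omit [Finite G] in
theorem Data.isConj_σ (x : D.A) : IsConj (x : G) (D.σ x : G) := isConj_iff.2 ⟨D.n, rfl⟩

theorem Data.sq_eq_one_of_real {x : D.A} (h : IsConj (x : G) (x⁻¹ : G)) : x ^ 2 = 1 := by
  have hp := D.orbit_prod x
  rcases D.fusion (y := x⁻¹) h with h1 | h1 | h1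
  · rw [pow_two]
    exact mul_eq_one_iff_inv_eq.2 h1
  · rw [← h1, mul_inv_cancel, one_mul] at hp
    rw [inv_eq_one.1 ((MulEquiv.map_eq_one_iff D.σ).1 hp), one_pow]
  · rw [D.comm x, mul_assoc, ← h1, mul_inv_cancel, mul_one] at hp
    rw [(MulEquiv.map_eq_one_iff D.σ).1 hp, one_pow]

omit [Finite G] in
theorem Data.isPGroup : IsPGroup 2 D.A := D.P.2

omit [Finite G] in
theorem Data.orderOf_pow (x : D.A) : ∃ k : ℕ, orderOf (x : G) = 2 ^ k := by
  rw [Subgroup.orderOf_coe]
  exact IsPGroup.iff_orderOf.1 D.isPGroup x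

omit [Finite G] in
theorem Data.le_centralizer_singleton (x : D.A) :
    D.A ≤ Subgroup.centralizer ({(x : G)} : Set G) := fun a ha =>
  Subgroup.mem_centralizer_singleton_iff.2 (congrArg Subtype.val (D.comm ⟨a, ha⟩ x))

/-- The centraliser of a non-trivial element has a normal complement to the Sylow subgroup. -/
theorem Data.complement {x : D.A} (hx : x ≠ 1) :
    (pPrimeCore 2 (Subgroup.centralizer ({(x : G)} : Set G))).index = Nat.card D.A := by
  haveI : Fact (Nat.Prime 2) := ⟨Nat.prime_two⟩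
  set C := Subgroup.centralizer ({(x : G)} : Set G) with hC
  let P' : Sylow 2 C := D.P.subtype (D.le_centralizer_singleton x)
  have hP' : Nat.card P' = Nat.card D.A :=
    Nat.card_congr (Subgroup.subgroupOfEquivOfLe (D.le_centralizer_singleton x)).toEquiv
  have hle : Subgroup.normalizer ((P' : Subgroup C) : Set C) ≤
      Subgroup.centralizer ((P' : Subgroup C) : Set C) := by
    intro c hc
    have hcN : (c : G) ∈ Subgroup.normalizer (D.A : Set G) := by
      exact Subgroup.mem_normalizer_fintype fun a ha =>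
        ((Subgroup.mem_normalizer_iff.1 hc ⟨a, D.le_centralizer_singleton x ha⟩).1 ha :)
    have hcC := (homocyclic_automizer D.P D.m (by have := D.hm; omega) D.e).2 c hcN x x.2
      (fun h => hx (Subtype.ext h)) (Subgroup.mem_centralizer_singleton_iff.1 c.2)
    exact Subgroup.mem_centralizer_iff.2 fun a ha =>
      Subtype.ext (Subgroup.mem_centralizer_iff.1 hcC (a : G) ha)
  let N := (MonoidHom.transferSylow P' hle).ker
  have hc : N.IsComplement' (P' : Subgroup C) := MonoidHom.ker_transferSylow_isComplement' P' hle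
  haveI : N.Normal := MonoidHom.normal_ker _
  have hN : ¬ 2 ∣ Nat.card N := by rw [← hc.index_eq_card]; exact P'.not_dvd_index
  have hNO : N ≤ pPrimeCore 2 C := CfsgLib.PCore.le_pPrimeCore_of_not_dvd inferInstance hN
  have h1 : N.relIndex (pPrimeCore 2 C) = 1 := by
    have hd1 : N.relIndex (pPrimeCore 2 C) ∣ Nat.card (pPrimeCore 2 C) :=
      Subgroup.relIndex_dvd_card _ _
    have hd2 : N.relIndex (pPrimeCore 2 C) ∣ Nat.card P' := by
      rw [← hc.symm.index_eq_card]
      exact ⟨_, (Subgroup.relIndex_mul_index hNO).symm⟩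
    obtain ⟨k, hk⟩ := P'.2.exists_card_eq
    rw [hk] at hd2
    exact Nat.eq_one_of_dvd_coprimes ((CfsgLib.PCore.pPrimeCore_coprime).pow_right k) hd1 hd2
  rw [← hP', le_antisymm (Subgroup.relIndex_eq_one.1 h1) hNO, hc.symm.index_eq_card]

end CfsgLib.Blocks.Homo949
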