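import Mathlib.GroupTheory.Sylow
import Mathlib.GroupTheory.Subgroup.Centralizer
import Mathlib.GroupTheory.Perm.Basic
import Mathlib.Data.Fintype.Perm
import Mathlib.Data.ZMod.Basic
import Mathlib.GroupTheory.OrderOfElement

/-!
# Automisers of homocyclic Sylow 2-subgroups of rank two
-/

set_option autoImplicit false

namespace CfsgLib.Blocks

/-- An automorphism of odd order of an abelian `2`-group fixing the elements of order `2` is
trivial. -/
theorem mulAut_eq_one_of_fix {A : Type*} [Group A] (hcomm : ∀ a b : A, a * b = b * a)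
    (hA : IsPGroup 2 A) (σ : MulAut A) {k : ℕ} (hk : Odd k) (hσ : σ ^ k = 1)
    (hfix : ∀ a : A, a ^ 2 = 1 → σ a = a) : σ = 1 := by
  have key : ∀ j : ℕ, ∀ a : A, a ^ 2 ^ j = 1 → σ a = a := by
    intro j
    induction j with
    | zero =>
      intro a ha
      rw [pow_zero, pow_one] at ha
      rw [ha, map_one]
    | succ j ih =>
      intro a ha
      have h2 : σ (a ^ 2) = a ^ 2 := ih _ (by rw [← pow_mul, ← pow_succ', ha])
      set d := a⁻¹ * σ a with hd
      have hd2 : d ^ 2 = 1 := by
        rw [hd, Commute.mul_pow (hcomm _ _), ← map_pow, h2, inv_pow, inv_mul_cancel]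
      have hs : σ a = a * d := by rw [hd, mul_inv_cancel_left]
      have hit : ∀ i : ℕ, (σ ^ i) a = a * d ^ i := by
        intro i
        induction i with
        | zero => simp
        | succ i hi =>
          rw [pow_succ', MulAut.mul_apply, hi, map_mul, map_pow, hfix d hd2, hs, mul_assoc,
            ← pow_succ']
      have h1 := hit k
      rw [hσ, MulAut.one_apply] at h1
      obtain ⟨l, rfl⟩ := hk
      rw [pow_succ, pow_mul, hd2, one_pow, one_mul] at h1
      rw [hs]
      exact h1.symm
  refine MulEquiv.ext fun a => ?_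
  obtain ⟨j, hj⟩ := hA a
  exact key j a hj

/-- There are exactly four elements killed by `2`. -/
theorem natCard_sq_eq_one {A : Type*} [Group A] (m : ℕ) (hm : 1 ≤ m)
    (e : A ≃* Multiplicative (ZMod (2 ^ m) × ZMod (2 ^ m))) :
    Nat.card {a : A // a ^ 2 = 1} = 4 := by
  have hn : NeZero (2 ^ m) := ⟨by positivity⟩
  have h1 : Nat.card {x : ZMod (2 ^ m) // 2 • x = 0} = 2 := by
    have hcyc := IsAddCyclic.card_nsmulAddMonoidHom_ker (G := ZMod (2 ^ m)) 2
    rw [Nat.card_zmod, Nat.gcd_eq_right (dvd_pow_self 2 (by omega))] at hcyc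
    exact hcyc
  have hiff : ∀ a : A, a ^ 2 = 1 ↔
      2 • (Multiplicative.toAdd (e a)).1 = 0 ∧ 2 • (Multiplicative.toAdd (e a)).2 = 0 := by
    intro a
    rw [← MulEquiv.map_eq_one_iff e, map_pow, ← Multiplicative.toAdd.injective.eq_iff, toAdd_pow,
      toAdd_one, Prod.ext_iff]
    rfl
  have e1 : {a : A // a ^ 2 = 1} ≃ {x : ZMod (2 ^ m) // 2 • x = 0} × {x : ZMod (2 ^ m) // 2 • x = 0} :=
    { toFun := fun a => (⟨_, ((hiff a.1).1 a.2).1⟩, ⟨_, ((hiff a.1).1 a.2).2⟩)
      invFun := fun y => ⟨e.symm (Multiplicative.ofAdd (y.1.1, y.2.1)), (hiff _).2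
        (by rw [MulEquiv.apply_symm_apply]; exact ⟨y.1.2, y.2.2⟩)⟩
      left_inv := fun a => Subtype.ext (e.symm_apply_apply a.1)
      right_inv := fun y => by
        refine Prod.ext (Subtype.ext ?_) (Subtype.ext ?_) <;> simp }
  rw [Nat.card_congr e1, Nat.card_prod, h1]

/-- With four elements killed by `2`, an automorphism fixing one involution squares to one fixing
all of them. -/
theorem sq_fix_of_fix {A : Type*} [Group A] [Finite A] (hcomm : ∀ a b : A, a * b = b * a)
    (h4 : Nat.card {a : A // a ^ 2 = 1} = 4) (σ : MulAut A) {a : A} (ha : a ^ 2 = 1) (ha1 : a ≠ 1)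
    (hσa : σ a = a) {b : A} (hb : b ^ 2 = 1) : (σ ^ 2) b = b := by
  classical
  cases nonempty_fintype A
  rw [pow_two, MulAut.mul_apply]
  rcases eq_or_ne b 1 with rfl | hb1
  · simp
  rcases eq_or_ne b a with rfl | hba
  · rw [hσa, hσa]
  set T : Finset A := Finset.univ.filter fun x => x ^ 2 = 1
  have hT : T.card = 4 := by rw [← h4, Nat.card_eq_fintype_card, Fintype.card_subtype]
  have hab : (a * b) ^ 2 = 1 := by rw [Commute.mul_pow (hcomm a b), ha, hb, one_mul]
  have hab1 : a * b ≠ 1 := fun h => hba (by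
    have := congrArg (fun x => a * x) h
    simpa [← mul_assoc, ← pow_two, ha] using this)
  have hsub : ({1, a, b, a * b} : Finset A) = T := by
    refine Finset.eq_of_subset_of_card_le ?_ ?_
    · intro x hx
      simp only [Finset.mem_insert, Finset.mem_singleton] at hx
      simp only [T, Finset.mem_filter, Finset.mem_univ, true_and]
      rcases hx with rfl | rfl | rfl | rfl
      · exact one_pow 2
      · exact ha
      · exact hb
      · exact hab
    · rw [hT, Finset.card_insert_of_notMem, Finset.card_insert_of_notMem,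
        Finset.card_insert_of_notMem, Finset.card_singleton]
      · simp [ha1]
      · simp [hba.symm, hb1]
      · simp [ha1.symm, hb1.symm, hab1.symm]
  have hmem : σ b ∈ ({1, a, b, a * b} : Finset A) := by
    rw [hsub]
    simp only [T, Finset.mem_filter, Finset.mem_univ, true_and]
    rw [← map_pow, hb, map_one]
  simp only [Finset.mem_insert, Finset.mem_singleton] at hmem
  rcases hmem with h | h | h | h
  · exact absurd (σ.injective (h.trans (map_one σ).symm)) hb1
  · exact absurd (σ.injective (h.trans hσa.symm)) hba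
  · rw [h, h]
  · rw [h, map_mul, hσa, h, ← mul_assoc, ← pow_two, ha, one_mul]

variable {G : Type*} [Group G] [Finite G]

/-- The automiser of a homocyclic Sylow `2`-subgroup of rank two. -/
theorem homocyclic_automizer (P : Sylow 2 G) (m : ℕ) (hm : 1 ≤ m)
    (e : (P : Subgroup G) ≃* Multiplicative (ZMod (2 ^ m) × ZMod (2 ^ m))) :
    ((Subgroup.centralizer (P : Set G)).relIndex (Subgroup.normalizer (P : Set G)) = 1 ∨
      (Subgroup.centralizer (P : Set G)).relIndex (Subgroup.normalizer (P : Set G)) = 3) ∧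
    ∀ n ∈ Subgroup.normalizer (P : Set G), ∀ z ∈ (P : Subgroup G), z ≠ 1 → n * z = z * n →
      n ∈ Subgroup.centralizer (P : Set G) := by
  classical
  set A := (P : Subgroup G)
  have hcomm : ∀ a b : A, a * b = b * a := fun a b => e.injective (by rw [map_mul, map_mul, mul_comm])
  have hA : IsPGroup 2 A := P.2
  set N := Subgroup.normalizer (A : Set G) with hN
  set f := A.normalizerMonoidHom with hf
  have hker : f.ker = (Subgroup.centralizer (A : Set G)).subgroupOf N :=
    Subgroup.normalizerMonoidHom_ker A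
  have hAC : A ≤ Subgroup.centralizer (A : Set G) := fun x hx => Subgroup.mem_centralizer_iff.2
    fun y hy => congrArg Subtype.val (hcomm ⟨y, hy⟩ ⟨x, hx⟩)
  have hodd : Odd f.ker.index := by
    rw [hker]
    show Odd ((Subgroup.centralizer (A : Set G)).relIndex N)
    have hd : (Subgroup.centralizer (A : Set G)).relIndex N ∣ A.index :=
      (Subgroup.relIndex_dvd_of_le_left N hAC).trans
        (Subgroup.relIndex_dvd_index_of_le Subgroup.le_normalizer)
    exact Odd.of_dvd_nat (Nat.odd_iff.2 (Nat.two_dvd_ne_zero.1 P.not_dvd_index)) hd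
  have hpow : ∀ n : N, (f n) ^ f.ker.index = 1 := by
    intro n
    rw [← map_pow]
    exact Subgroup.pow_index_mem f.ker n
  have h4 := natCard_sq_eq_one m hm e
  let ρ : MulAut A →* Equiv.Perm {a : A // a ^ 2 = 1} :=
    { toFun := fun σ => σ.toEquiv.subtypeEquiv fun a => by
        rw [MulEquiv.toEquiv_eq_coe, EquivLike.coe_coe, ← map_pow, MulEquiv.map_eq_one_iff]
      map_one' := Equiv.ext fun a => rfl
      map_mul' := fun σ τ => Equiv.ext fun a => rfl }
  have hρ : (ρ.comp f).ker = f.ker := by
    refine le_antisymm (fun n hn => ?_) (fun n hn => ?_)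
    · refine mulAut_eq_one_of_fix hcomm hA (f n) hodd (hpow n) fun a ha => ?_
      have := congrFun (congrArg DFunLike.coe (show ρ (f n) = 1 from hn)) ⟨a, ha⟩
      exact congrArg Subtype.val this
    · show ρ (f n) = 1
      rw [show f n = 1 from hn, map_one]
  constructor
  · show ((Subgroup.centralizer (A : Set G)).subgroupOf N).index = 1 ∨ _ = 3
    show ((Subgroup.centralizer (A : Set G)).subgroupOf N).index = 1 ∨
      ((Subgroup.centralizer (A : Set G)).subgroupOf N).index = 3
    rw [← hker, ← hρ, Subgroup.index_ker]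
    have hd := Subgroup.card_subgroup_dvd_card (ρ.comp f).range
    haveI : Fintype {a : A // a ^ 2 = 1} := Fintype.ofFinite _
    rw [Nat.card_eq_fintype_card (α := Equiv.Perm _), Fintype.card_perm, ← Nat.card_eq_fintype_card, h4] at hd
    have ho : Odd (Nat.card (ρ.comp f).range) := by rw [← Subgroup.index_ker, hρ]; exact hodd
    have hle := Nat.le_of_dvd (by decide) hd
    generalize Nat.card (ρ.comp f).range = c at hd ho hle
    have h24 : Nat.factorial 4 = 24 := rfl
    rw [h24] at hd hle
    obtain ⟨l, rfl⟩ := ho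
    have : l ≤ 11 := by omega
    interval_cases l <;> omega
  · intro n hn z hz hz1 hnz
    obtain ⟨j, hj⟩ := IsPGroup.iff_orderOf.1 hA ⟨z, hz⟩
    have hj0 : j ≠ 0 := by
      rintro rfl
      rw [pow_zero, orderOf_eq_one_iff] at hj
      exact hz1 (congrArg Subtype.val hj)
    obtain ⟨i, rfl⟩ := Nat.exists_eq_succ_of_ne_zero hj0
    set a : A := (⟨z, hz⟩ : A) ^ 2 ^ i with ha
    have ha2 : a ^ 2 = 1 := by rw [ha, ← pow_mul, ← pow_succ, ← hj, pow_orderOf_eq_one]
    have ha1 : a ≠ 1 := by
      intro h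
      have := orderOf_dvd_of_pow_eq_one h
      rw [hj, Nat.pow_dvd_pow_iff_le_right (by norm_num)] at this
      omega
    have hfz : f ⟨n, hn⟩ ⟨z, hz⟩ = ⟨z, hz⟩ :=
      Subtype.ext (show n * z * n⁻¹ = z by rw [hnz, mul_inv_cancel_right])
    have hfa : f ⟨n, hn⟩ a = a := by rw [ha, map_pow, hfz]
    have h2 : (f ⟨n, hn⟩) ^ 2 = 1 := by
      refine mulAut_eq_one_of_fix hcomm hA _ hodd ?_ fun b hb =>
        sq_fix_of_fix hcomm h4 _ ha2 ha1 hfa hb
      rw [← pow_mul, mul_comm, pow_mul, hpow, one_pow]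
    have h1 : f ⟨n, hn⟩ = 1 := by
      obtain ⟨l, hl⟩ := hodd
      have := hpow ⟨n, hn⟩
      rwa [hl, pow_succ, pow_mul, h2, one_pow, one_mul] at this
    have hm' : (⟨n, hn⟩ : N) ∈ f.ker := h1
    rw [hker] at hm'
    exact hm'

end CfsgLib.Blocks
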