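import Cfsg.Agent.Lib.Blocks.Homocyclic
import Mathlib.GroupTheory.Transfer

/-!
# Involutions in groups with homocyclic Sylow 2-subgroups of rank two
-/

set_option autoImplicit false
set_option linter.style.haveILetI false

namespace CfsgLib.Blocks

variable {G : Type*} [Group G] [Finite G]

/-- Either `N(P) = C(P)` or the involutions of `P` are conjugate in `N(P)`. -/
theorem homocyclic_involutions (P : Sylow 2 G) (m : ℕ) (hm : 1 ≤ m)
    (e : (P : Subgroup G) ≃* Multiplicative (ZMod (2 ^ m) × ZMod (2 ^ m))) :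
    Subgroup.normalizer ((P : Subgroup G) : Set G) ≤ Subgroup.centralizer ((P : Subgroup G) : Set G) ∨
      ∀ a b : G, a ∈ (P : Subgroup G) → b ∈ (P : Subgroup G) → orderOf a = 2 → orderOf b = 2 →
        ∃ n ∈ Subgroup.normalizer ((P : Subgroup G) : Set G), n * a * n⁻¹ = b := by
  classical
  haveI := Fintype.ofFinite G
  by_contra! h
  obtain ⟨hle, a, b, ha, hb, ha2, hb2, hno⟩ := h
  obtain ⟨n, hn, hnC⟩ := SetLike.not_le_iff_exists.1 hle
  have hC := (homocyclic_automizer P m hm e).2
  obtain ⟨hidx, -⟩ := homocyclic_automizer P m hm e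
  have hne : ∀ x : G, orderOf x = 2 → x ≠ 1 := fun x hx h => by simp [h] at hx
  have hfix : ∀ x ∈ (P : Subgroup G), x ≠ 1 → n * x * n⁻¹ ≠ x := fun x hx hx1 h =>
    hnC (hC n hn x hx hx1 (mul_inv_eq_iff_eq_mul.1 h))
  have hmem : ∀ x ∈ (P : Subgroup G), n * x * n⁻¹ ∈ (P : Subgroup G) := fun x hx =>
    (Subgroup.mem_normalizer_iff.1 hn x).1 hx
  have h2 : ∀ x, orderOf x = 2 → orderOf (n * x * n⁻¹) = 2 := fun x hx => by
    rw [show n * x * n⁻¹ = MulAut.conj n x from rfl, MulEquiv.orderOf_eq, hx]
  have hn2 : n * n ∉ Subgroup.centralizer ((P : Subgroup G) : Set G) := by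
    intro h
    refine hnC ?_
    set C := (Subgroup.centralizer ((P : Subgroup G) : Set G)).subgroupOf
      (Subgroup.normalizer ((P : Subgroup G) : Set G))
    haveI : C.Normal := by
      have := Subgroup.normalizerMonoidHom_ker (P : Subgroup G)
      show ((Subgroup.centralizer ((P : Subgroup G) : Set G)).subgroupOf
        (Subgroup.normalizer ((P : Subgroup G) : Set G))).Normal
      rw [← this]
      exact MonoidHom.normal_ker _
    have h3 := Subgroup.pow_index_mem C ⟨n, hn⟩
    have hidx' : C.index = 1 ∨ C.index = 3 := hidx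
    rcases hidx' with hi | hi
    · rw [hi, pow_one] at h3
      exact h3
    · rw [hi, pow_succ, pow_two, Subgroup.mem_subgroupOf] at h3
      exact (Subgroup.mul_mem_cancel_left _ h).1 h3
  set c := n * a * n⁻¹ with hc
  set d := n * c * n⁻¹ with hd
  have hac : c ≠ a := hfix a ha (hne a ha2)
  have hdc : d ≠ c := hfix c (hmem a ha) (hne c (h2 a ha2))
  have hda : d ≠ a := fun h => hn2 (hC (n * n) (mul_mem hn hn) a ha (hne a ha2) (by
    refine mul_inv_eq_iff_eq_mul.1 ?_
    rw [← h]
    nth_rewrite 2 [hd]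
    rw [hc, h]
    group))
  have hb' : b ∈ ({1, a, c, d} : Finset G) := by
    set T : Finset G := Finset.univ.filter fun x => x ∈ (P : Subgroup G) ∧ x ^ 2 = 1
    have hT : T.card = 4 := by
      rw [← natCard_sq_eq_one m hm e, ← Fintype.card_subtype, ← Nat.card_eq_fintype_card]
      exact Nat.card_congr
        { toFun := fun x => ⟨⟨x.1, x.2.1⟩, Subtype.ext x.2.2⟩
          invFun := fun x => ⟨x.1, x.1.2, congrArg Subtype.val x.2⟩
          left_inv := fun x => rfl
          right_inv := fun x => rfl }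
    have hin : ∀ x ∈ (P : Subgroup G), orderOf x = 2 → x ∈ T := fun x hx hx2 => by
      simp only [T, Finset.mem_filter, Finset.mem_univ, true_and]
      exact ⟨hx, hx2 ▸ pow_orderOf_eq_one x⟩
    have hsub : ({1, a, c, d} : Finset G) = T := by
      refine Finset.eq_of_subset_of_card_le ?_ ?_
      · intro x hx
        simp only [Finset.mem_insert, Finset.mem_singleton] at hx
        rcases hx with rfl | rfl | rfl | rfl
        · simp [T, one_mem]
        · exact hin _ ha ha2
        · exact hin _ (hmem a ha) (h2 a ha2)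
        · exact hin _ (hmem _ (hmem a ha)) (h2 _ (h2 a ha2))
      · rw [hT, Finset.card_insert_of_notMem, Finset.card_insert_of_notMem,
          Finset.card_insert_of_notMem, Finset.card_singleton]
        · simp [hdc.symm]
        · simp [hac.symm, hda.symm]
        · simp [(hne a ha2).symm, (hne c (h2 a ha2)).symm, (hne d (h2 c (h2 a ha2))).symm]
    rw [hsub]
    exact hin b hb hb2
  simp only [Finset.mem_insert, Finset.mem_singleton] at hb'
  rcases hb' with h | h | h | h
  · exact hne b hb2 h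
  · exact hno 1 (one_mem _) (by rw [h]; group)
  · exact hno n hn h.symm
  · exact hno (n * n) (mul_mem hn hn) (by rw [h, hd, hc]; group)

/-- Either a normal complement or one class of involutions. -/
theorem homocyclic_dichotomy (P : Sylow 2 G) (m : ℕ) (hm : 1 ≤ m)
    (e : (P : Subgroup G) ≃* Multiplicative (ZMod (2 ^ m) × ZMod (2 ^ m))) :
    (∃ N : Subgroup G, N.Normal ∧ Subgroup.IsComplement' N (P : Subgroup G)) ∨
      ∀ s t : G, orderOf s = 2 → orderOf t = 2 → IsConj s t := by
  rcases homocyclic_involutions P m hm e with h | h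
  · exact Or.inl ⟨_, MonoidHom.normal_ker _, MonoidHom.ker_transferSylow_isComplement' P h⟩
  · refine Or.inr fun s t hs ht => ?_
    have key : ∀ x : G, orderOf x = 2 → ∃ g : G, g * x * g⁻¹ ∈ (P : Subgroup G) := by
      intro x hx
      obtain ⟨Q, hQ⟩ := (IsPGroup.of_card (p := 2) (n := 1) (G := Subgroup.zpowers x)
        (by rw [Nat.card_zpowers, hx, pow_one])).exists_le_sylow
      obtain ⟨g, rfl⟩ := MulAction.exists_smul_eq G P Q
      obtain ⟨y, hy, hyx⟩ := hQ (Subgroup.mem_zpowers x)
      refine ⟨g⁻¹, ?_⟩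
      have h' : g⁻¹ * x * g⁻¹⁻¹ = y := by
        rw [← hyx]
        show g⁻¹ * (g * y * g⁻¹) * g⁻¹⁻¹ = y
        group
      rw [h']
      exact hy
    obtain ⟨g, hg⟩ := key s hs
    obtain ⟨k, hk⟩ := key t ht
    have o : ∀ (g x : G), orderOf (g * x * g⁻¹) = orderOf x := fun g x => by
      rw [show g * x * g⁻¹ = MulAut.conj g x from rfl, MulEquiv.orderOf_eq]
    obtain ⟨n, -, hn⟩ := h _ _ hg hk (by rw [o, hs]) (by rw [o, ht])
    exact (isConj_iff.2 ⟨g, rfl⟩).trans ((isConj_iff.2 ⟨n, hn⟩).trans (isConj_iff.2 ⟨k, rfl⟩).symm)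

end CfsgLib.Blocks
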