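import Mathlib.RingTheory.Valuation.LocalSubring
import Mathlib.RingTheory.Flat.TorsionFree
import Mathlib.RingTheory.LocalRing.Module
import Mathlib.Algebra.Module.Lattice
import Mathlib.Analysis.Complex.Basic
import Mathlib.RepresentationTheory.Basic
import Mathlib.LinearAlgebra.Matrix.ToLin

/-!
# Integral forms of complex representations over a valuation ring

For a prime `p` there is a valuation subring of `ℂ` in whose maximal ideal `p` lies, and every
finite dimensional complex representation of a finite group has, in a suitable basis, matrix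
entries in such a ring.
-/

set_option autoImplicit false

noncomputable section

namespace CfsgLib.IntegralForm

/-- A valuation subring of `ℂ` having `p` in its maximal ideal. -/
theorem exists_valuationSubring (p : ℕ) (hp : p.Prime) :
    ∃ O : ValuationSubring ℂ, (p : O) ∈ IsLocalRing.maximalIdeal O := by
  let A : Subring ℂ := (Int.castRingHom ℂ).range
  let I : Ideal A := Ideal.span {(p : A)}
  have hI : I ≠ ⊤ := by
    intro h
    rw [Ideal.span_singleton_eq_top] at h
    obtain ⟨⟨c, a, rfl⟩, hc⟩ := isUnit_iff_exists_inv.1 h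
    have h1 : (((p : ℤ) * a : ℤ) : ℂ) = ((1 : ℤ) : ℂ) := by
      have := congrArg Subtype.val hc
      push_cast at this ⊢
      simpa using this
    have h2 : (p : ℤ) * a = 1 := by exact_mod_cast h1
    have h3 : (p : ℤ) ∣ 1 := ⟨a, h2.symm⟩
    have : p = 1 := Nat.eq_one_of_dvd_one (by exact_mod_cast h3)
    exact hp.ne_one this
  obtain ⟨B, -, hB⟩ := Ideal.image_subset_nonunits_valuationSubring I hI
  refine ⟨B, ?_⟩
  have hp' : (p : ℂ) ∈ B.nonunits :=
    hB ⟨(p : A), Ideal.subset_span rfl, by simp⟩
  have hp'' : (p : ℂ) ∈ (B.nonunits : Set ℂ) := hp'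
  rw [← B.image_maximalIdeal] at hp''
  obtain ⟨x, hx, hxp⟩ := hp''
  have : x = (p : B) := Subtype.ext (by simpa using hxp)
  rw [← this]; exact hx

variable {G : Type*} [Group G] {W : Type*} [AddCommGroup W] [Module ℂ W]

/-- A representation of a finite group on a finite dimensional complex space has, in a suitable
basis, all matrix entries in a given valuation subring. -/
theorem exists_integral_basis [Finite G] [FiniteDimensional ℂ W] (O : ValuationSubring ℂ)
    (σ : Representation ℂ G W) :
    ∃ (N : ℕ) (b : Module.Basis (Fin N) ℂ W), ∀ g i j, b.repr (σ g (b j)) i ∈ O := by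
  classical
  let c := Module.finBasis ℂ W
  let L : Submodule O W := Submodule.span O (Set.range fun x : G × _ => σ x.1 (c x.2))
  have hLfg : L.FG := Submodule.fg_span (Set.finite_range _)
  have hspan : Submodule.span ℂ (L : Set W) = ⊤ := by
    rw [eq_top_iff, ← c.span_eq]
    apply Submodule.span_mono
    rintro _ ⟨i, rfl⟩
    exact Submodule.subset_span ⟨(1, i), by simp⟩
  have : Submodule.IsLattice ℂ L := ⟨hLfg, hspan⟩
  have : Module.Finite O L := Module.Finite.iff_fg.2 hLfg
  have : Module.Flat O L := by
    rw [Module.Flat.flat_iff_torsion_eq_bot_of_isBezout, eq_bot_iff]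
    rintro ⟨x, hx⟩ ⟨⟨r, hr⟩, hrx⟩
    have hr0 : (r : ℂ) ≠ 0 := fun h => nonZeroDivisors.ne_zero hr (Subtype.ext h)
    have h1 : (r : ℂ) • x = 0 := congrArg Subtype.val hrx
    exact Subtype.ext ((smul_eq_zero.1 h1).resolve_left hr0)
  have : Module.Free O L := Module.free_of_flat_of_isLocalRing
  let bL := Module.Free.chooseBasis O L
  let bW := bL.extendOfIsLattice ℂ
  let e := Fintype.equivFin (Module.Free.ChooseBasisIndex O L)
  have hstable : ∀ (g : G), ∀ v ∈ L, σ g v ∈ L := by
    intro g v hv
    induction hv using Submodule.span_induction with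
    | mem x hx =>
        obtain ⟨⟨h, i⟩, rfl⟩ := hx
        exact Submodule.subset_span ⟨(g * h, i), by simp⟩
    | zero => simp
    | add x y _ _ hx hy => rw [map_add]; exact add_mem hx hy
    | smul a x _ hx =>
        have : σ g (a • x) = a • σ g x := by
          rw [show a • x = (a : ℂ) • x from rfl, map_smul]; rfl
        rw [this]; exact L.smul_mem a hx
  refine ⟨_, bW.reindex e, fun g i j => ?_⟩
  have hmem : σ g ((bW.reindex e) j) ∈ L := by
    rw [Module.Basis.reindex_apply, Module.Basis.extendOfIsLattice_apply]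
    exact hstable g _ (bL (e.symm j)).2
  have hrepr : ∀ v (hv : v ∈ L) k, bW.repr v k = ((bL.repr ⟨v, hv⟩ k : O) : ℂ) := by
    intro v hv k
    have h1 : v = ∑ i, ((bL.repr ⟨v, hv⟩ i : O) : ℂ) • bW i := by
      conv_lhs => rw [show v = ((⟨v, hv⟩ : L) : W) from rfl, ← bL.sum_repr ⟨v, hv⟩]
      simp only [Submodule.coe_sum, bW, Module.Basis.extendOfIsLattice_apply]
      rfl
    conv_lhs => rw [h1, bW.repr_sum_self]
  rw [Module.Basis.repr_reindex_apply, hrepr _ hmem]
  exact SetLike.coe_mem _

/-- A representation of a finite group on a finite dimensional complex space is, up to a change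
of coordinates, given by matrices over a given valuation subring. -/
theorem exists_integral_matrices [Finite G] [FiniteDimensional ℂ W] (O : ValuationSubring ℂ)
    (σ : Representation ℂ G W) :
    ∃ (N : ℕ) (e : W ≃ₗ[ℂ] (Fin N → ℂ)) (R : G →* Matrix (Fin N) (Fin N) O),
      ∀ g w, e (σ g w) = Matrix.mulVec ((R g).map (fun a : O => (a : ℂ))) (e w) := by
  classical
  obtain ⟨N, b, hb⟩ := exists_integral_basis O σ
  let A : G → Matrix (Fin N) (Fin N) O := fun g => Matrix.of fun i j => ⟨_, hb g i j⟩
  have hA : ∀ g, (A g).map (fun a : O => (a : ℂ)) = LinearMap.toMatrix b b (σ g) := fun g => by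
    ext i j; simp [A, LinearMap.toMatrix_apply]
  have hinj : Function.Injective (fun M : Matrix (Fin N) (Fin N) O => M.map (fun a : O => (a : ℂ))) :=
    Matrix.map_injective Subtype.val_injective
  refine ⟨N, b.equivFun, { toFun := A, map_one' := hinj ?_, map_mul' := fun g h => hinj ?_ }, ?_⟩
  · show (A 1).map _ = (1 : Matrix (Fin N) (Fin N) O).map _
    rw [hA, map_one, LinearMap.toMatrix_one, Matrix.map_one _ (by simp) (by simp)]
  · show (A (g * h)).map _ = (A g * A h).map _
    rw [hA, map_mul, LinearMap.toMatrix_mul, ← hA, ← hA]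
    exact (Matrix.map_mul (f := O.subtype)).symm
  · intro g w
    show b.equivFun (σ g w) = _
    change _ = ((A g).map fun a : O => (a : ℂ)).mulVec _
    rw [hA]
    exact (LinearMap.toMatrix_mulVec_repr b b (σ g) w).symm

end CfsgLib.IntegralForm
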