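import Cfsg.Agent.Lib.Blocks.TraceVanish
import Cfsg.Agent.Lib.Blocks.BrauerMap
import Mathlib.Algebra.CharP.Frobenius
import Mathlib.Algebra.CharP.Reduced

/-!
# Sums over `p`-elements in a modular group algebra

The sum of the coefficients at the `p`-elements, raised to a large power of `p`, is the coefficient
at `1` of the same power of the element.  So it kills nilpotent elements.
-/

set_option autoImplicit false
set_option linter.style.haveILetI false

namespace CfsgLib.Blocks

open MonoidAlgebra

variable {k : Type*} [CommRing k] {G : Type*} [Group G] [Fintype G] {p : ℕ} [Fact p.Prime]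

open scoped Classical in
/-- The coefficient at `1` of a `p ^ n`-th power. -/
theorem coeff_one_pow_prime_pow (hpk : (p : k) = 0) (a : MonoidAlgebra k G) (n : ℕ) :
    (a ^ p ^ n).coeff 1 =
      ∑ x ∈ Finset.univ.filter (fun x : G => x ^ p ^ n = 1), a.coeff x ^ p ^ n := by
  set N := p ^ n
  haveI : NeZero N := ⟨pow_ne_zero _ (Fact.out : p.Prime).ne_zero⟩
  have hexp : a = ∑ x : G, single x (a.coeff x) := by
    ext x
    simp [Finsupp.single_apply]
  let F : (Fin N → G) → k := fun s =>
    if seqProd (periodicSeq s) N = 1 then ∏ i, a.coeff (s i) else 0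
  have h1 : (a ^ N).coeff 1 = ∑ s, F s := by
    conv_lhs => rw [hexp, sum_pow_single]
    simp only [coeff_sum, Finsupp.finsetSum_apply, coeff_single, Finsupp.single_apply, F]
  let σ := rotTuple G N
  have hσN : σ ^ N = 1 := by
    ext s i
    rw [rotTuple_pow_apply, Equiv.Perm.one_apply]
    congr 1
    open Fin.NatCast in simp
  let K := Subgroup.zpowers σ
  have hK : IsPGroup p K := by
    rintro ⟨g, hg⟩
    obtain ⟨j, rfl⟩ := Subgroup.mem_zpowers_iff.1 hg
    refine ⟨n, Subtype.ext ?_⟩
    show (σ ^ j) ^ p ^ n = 1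
    rw [← zpow_natCast, ← zpow_mul, mul_comm, zpow_mul, zpow_natCast, hσN, one_zpow]
  have hrot : ∀ s, F (σ s) = F s := by
    intro s
    simp only [F]
    have hper : periodicSeq (σ s) = fun i => periodicSeq s (i + 1) :=
      funext fun i => by simpa using periodicSeq_rot 1 s i
    have hiff : seqProd (periodicSeq (σ s)) N = 1 ↔ seqProd (periodicSeq s) N = 1 := by
      rw [hper, seqProd_shift _ (by simpa using periodicSeq_add_self s 0)]
      constructor
      · intro h
        rwa [mul_assoc, inv_mul_eq_one, eq_comm, mul_eq_right] at h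
      · intro h
        rw [h]
        group
    have hprod : ∏ i, a.coeff (σ s i) = ∏ i, a.coeff (s i) := by
      simp only [σ, rotTuple_apply]
      exact Fintype.prod_equiv (Equiv.addRight (1 : Fin N)) _ _ fun i => rfl
    rw [hprod]
    exact if_congr hiff rfl rfl
  have hinv : ∀ (u : K) (s : Fin N → G), F (u • s) = F s := by
    rintro ⟨u, hu⟩ s
    obtain ⟨j, rfl⟩ := Subgroup.mem_zpowers_iff.1 hu
    show F ((σ ^ j) s) = F s
    induction j using Int.induction_on with
    | zero => rfl
    | succ j ih =>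
      rw [zpow_add_one, (Commute.zpow_self σ _).eq, Equiv.Perm.mul_apply, hrot]
      exact ih ⟨_, rfl⟩
    | pred j ih =>
      rw [zpow_sub_one, (Commute.zpow_self σ _).inv_right.eq, Equiv.Perm.mul_apply]
      have h2 := hrot (σ⁻¹ ((σ ^ (-(j : ℤ))) s))
      rw [show σ (σ⁻¹ ((σ ^ (-(j : ℤ))) s)) = (σ ^ (-(j : ℤ))) s from
        Equiv.apply_symm_apply σ _] at h2
      rw [← h2]
      exact ih ⟨_, rfl⟩
  rw [h1, CfsgLib.BlockAlg.sum_eq_sum_fixed (fun z => by rw [nsmul_eq_mul, hpk, zero_mul]) hK F hinv]
  have hfix : Finset.univ.filter (· ∈ MulAction.fixedPoints K (Fin N → G)) =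
      Finset.univ.image (fun x : G => (fun _ => x : Fin N → G)) := by
    ext s
    simp only [Finset.mem_filter, Finset.mem_univ, true_and, Finset.mem_image,
      MulAction.mem_fixedPoints]
    constructor
    · intro h
      refine ⟨s 0, funext fun i => ?_⟩
      have h3 := congrFun (h (⟨σ, Subgroup.mem_zpowers σ⟩ ^ (i : ℕ))) 0
      change (σ ^ (i : ℕ)) s 0 = s 0 at h3
      rw [rotTuple_pow_apply] at h3
      rw [← h3]
      congr 1
      open Fin.NatCast in simp
    · rintro ⟨x, rfl⟩ ⟨u, hu⟩
      obtain ⟨j, rfl⟩ := Subgroup.mem_zpowers_iff.1 hu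
      show (σ ^ j) (fun _ => x) = fun _ => x
      have hc : σ (fun _ => x) = fun _ => x := funext fun i => rotTuple_apply _ i
      exact Equiv.Perm.zpow_apply_eq_self_of_apply_eq_self hc j
  rw [hfix, Finset.sum_image fun x _ y _ h => congrFun h 0, Finset.sum_filter]
  refine Finset.sum_congr rfl fun x _ => ?_
  have hx : seqProd (periodicSeq (fun _ : Fin N => x)) N = x ^ N := by
    have : ∀ m, seqProd (periodicSeq (fun _ : Fin N => x)) m = x ^ m := by
      intro m
      induction m with
      | zero => simp [seqProd]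
      | succ m ih => rw [seqProd, ih, periodicSeq, pow_succ]
    exact this N
  simp only [F, hx, Finset.prod_const, Finset.card_univ, Fintype.card_fin]

open scoped Classical in
/-- The sum of the coefficients at the `p`-elements. -/
noncomputable def pEltSum (p : ℕ) (a : MonoidAlgebra k G) : k :=
  ∑ x ∈ Finset.univ.filter (fun x : G => ∃ j : ℕ, orderOf x = p ^ j), a.coeff x

theorem pow_eq_one_iff_pElement {n : ℕ} (hn : (Nat.card G).factorization p ≤ n) (x : G) :
    x ^ p ^ n = 1 ↔ ∃ j : ℕ, orderOf x = p ^ j := by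
  have hp : p.Prime := Fact.out
  constructor
  · intro h
    obtain ⟨j, -, hj⟩ := (Nat.dvd_prime_pow hp).1 (orderOf_dvd_of_pow_eq_one h)
    exact ⟨j, hj⟩
  · rintro ⟨j, hj⟩
    refine orderOf_dvd_iff_pow_eq_one.1 (hj ▸ pow_dvd_pow p (le_trans ?_ hn))
    exact (hp.pow_dvd_iff_le_factorization Nat.card_pos.ne').1 (hj ▸ orderOf_dvd_natCard x)

variable [CharP k p]

theorem pEltSum_pow (a : MonoidAlgebra k G) {n : ℕ} (hn : (Nat.card G).factorization p ≤ n) :
    pEltSum p a ^ p ^ n = (a ^ p ^ n).coeff 1 := by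
  classical
  rw [coeff_one_pow_prime_pow (CharP.cast_eq_zero k p), pEltSum, sum_pow_char_pow]
  refine Finset.sum_congr (Finset.filter_congr fun x _ => (pow_eq_one_iff_pElement hn x).symm) ?_
  exact fun _ _ => rfl

theorem pEltSum_eq_zero_of_isNilpotent [IsReduced k] {a : MonoidAlgebra k G} (h : IsNilpotent a) :
    pEltSum p a = 0 := by
  obtain ⟨r, hr⟩ := h
  set n := (Nat.card G).factorization p + r
  have hle : r ≤ p ^ n :=
    (Nat.lt_pow_self (Fact.out : p.Prime).one_lt).le.trans'
      (Nat.le_add_left r _)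
  have h1 := pEltSum_pow (p := p) a (n := n) (Nat.le_add_right _ _)
  rw [pow_eq_zero_of_le hle hr] at h1
  exact IsNilpotent.eq_zero ⟨p ^ n, by simpa using h1⟩

end CfsgLib.Blocks
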