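import Cfsg.Agent.Lib.Blocks.ThirdMain
import Cfsg.Agent.Lib.Blocks.Reynolds
import Cfsg.Agent.Lib.Blocks.RootsMod
import Cfsg.Agent.Lib.Blocks.PPart

/-!
# Külshammer's formula for the principal block idempotent
-/

set_option autoImplicit false
set_option linter.style.haveILetI false

namespace CfsgLib.Blocks

open Cfsg MonoidAlgebra CfsgLib.Characters
open scoped ComplexConjugate

variable {G : Type*} [Group G] [Fintype G] {p : ℕ} {M : Ideal AlgInt}

theorem lResD_natCast (hM : IsPModular p M) (n : ℕ) : lResD hM (n : ℂ) = (n : AlgInt ⧸ M) := by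
  have := lResD_algInt hM (n : AlgInt)
  simpa using this

theorem redAlg_regSum (hM : IsPModular p M) :
    redAlg hM (regSum ℂ G p) = regSum (AlgInt ⧸ M) G p := by
  classical
  ext x
  simp only [coeff_redAlg, regSum, Blocks.coeff_ofFun]
  split_ifs <;> simp [lResD_one, lResD_zero]

/-- The residue of the regular sum under a central character. -/
theorem lamB_regSum (hM : IsPModular p M) (χ : IrrCharacter G) [Decidable (χ ∈ principalBlock M G)] :
    lamB hM χ ⟨regSum (AlgInt ⧸ M) G p, regSum_mem_center _ p⟩ =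
      if χ ∈ principalBlock M G then (Nat.card {y : G // ¬ p ∣ orderOf y} : AlgInt ⧸ M) else 0 := by
  classical
  rw [lamB_apply]
  show lamFun hM χ (regSum (AlgInt ⧸ M) G p) = _
  rw [← redAlg_regSum hM,
    lamFun_redAlg hM χ (regSum_mem_center ℂ p) (coeff_regSum_memLocalRing hM)]
  split_ifs with hχ
  · have h2 := omega_congr_of_sameBlock hM (χ := principalIrr G) (ψ := χ) hχ
      (regSum_mem_center ℂ p) (coeff_regSum_memLocalRing hM)
    rw [← lResD_eq_iff hM (omega_mem_lRing hM _ (regSum_mem_center ℂ p)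
      (coeff_regSum_memLocalRing hM)) (omega_mem_lRing hM _ (regSum_mem_center ℂ p)
      (coeff_regSum_memLocalRing hM))] at h2
    rw [← h2, omega_regSum]
    simp only [principalIrr_apply, div_one, Finset.sum_const, nsmul_eq_mul, mul_one]
    rw [lResD_natCast, Nat.card_eq_fintype_card, Fintype.card_subtype]
  · rw [omega_regSum_eq_zero hM hχ, lResD_zero]

variable [Fact p.Prime]

open scoped Classical in
/-- Külshammer's formula in the residue ring. -/
theorem kulshammer_residue (hM : IsPModular p M) {g : G} (hg : ¬ p ∣ orderOf g) :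
    (Nat.card {xy : G × G // (∃ j : ℕ, orderOf xy.1 = p ^ j) ∧ ¬ p ∣ orderOf xy.2 ∧
        xy.1 * xy.2 = g} : AlgInt ⧸ M) =
      (Nat.card {y : G // ¬ p ∣ orderOf y} : AlgInt ⧸ M) *
        lResD hM (blockCoeff (principalBlock M G) g) := by
  haveI := IsPModular.isMaximal hM
  letI := Ideal.Quotient.field M
  haveI := charP_residue hM
  set B₀ := principalBlock M G
  have hB₀ : IsPBlock M B₀ := isPBlock_principalBlock M
  set c : AlgInt ⧸ M := (Nat.card {y : G // ¬ p ∣ orderOf y} : AlgInt ⧸ M)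
  let Z := Subalgebra.center (AlgInt ⧸ M) (MonoidAlgebra (AlgInt ⧸ M) G)
  let e : Z := ⟨blockIdemRes hM B₀, blockIdemRes_mem_center hM B₀⟩
  let R : Z := ⟨regSum (AlgInt ⧸ M) G p, regSum_mem_center _ p⟩
  have hnil : IsNilpotent (R - c • e) := isNilpotent_of_lamB_eq_zero hM fun χ => by
    rw [map_sub (lamB hM χ), map_smul, lamB_regSum, lamB_blockIdemRes hM hB₀, smul_eq_mul]
    split_ifs <;> simp [c]
  have hnil' : IsNilpotent (((R - c • e : Z) : MonoidAlgebra (AlgInt ⧸ M) G) *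
      single g⁻¹ (1 : AlgInt ⧸ M)) := by
    have h1 : IsNilpotent ((R - c • e : Z) : MonoidAlgebra (AlgInt ⧸ M) G) := hnil.map Z.val
    have hc : Commute ((R - c • e : Z) : MonoidAlgebra (AlgInt ⧸ M) G) (single g⁻¹ (1 : AlgInt ⧸ M)) :=
      (Subalgebra.mem_center_iff.1 (R - c • e : Z).2 _).symm
    exact hc.isNilpotent_mul_right h1
  have h0 := pEltSum_eq_zero_of_isNilpotent (p := p) hnil'
  have hcoe : ((R - c • e : Z) : MonoidAlgebra (AlgInt ⧸ M) G) =
      regSum (AlgInt ⧸ M) G p - c • blockIdemRes hM B₀ := rfl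
  rw [hcoe, pEltSum] at h0
  simp only [coeff_mul_single_apply, inv_inv, mul_one, coeff_sub, Finsupp.sub_apply, coeff_smul,
    Finsupp.smul_apply, smul_eq_mul, Finset.sum_sub_distrib, ← Finset.mul_sum, sub_eq_zero] at h0
  -- the number of pairs
  have hpairs : (Nat.card {xy : G × G // (∃ j : ℕ, orderOf xy.1 = p ^ j) ∧ ¬ p ∣ orderOf xy.2 ∧
      xy.1 * xy.2 = g} : AlgInt ⧸ M) =
      ∑ x ∈ Finset.univ.filter (fun x : G => ∃ j : ℕ, orderOf x = p ^ j),
        (regSum (AlgInt ⧸ M) G p).coeff (x * g) := by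
    simp only [regSum, Blocks.coeff_ofFun]
    rw [Finset.sum_ite, Finset.sum_const_zero, zero_add, Finset.sum_const, nsmul_one,
      Finset.filter_filter, ← Fintype.card_subtype, ← Nat.card_eq_fintype_card]
    congr 1
    refine Nat.card_congr
      { toFun := fun z => ⟨z.1.1⁻¹, ⟨z.2.1.imp fun j hj => by rw [orderOf_inv, hj], by
          rw [show z.1.1⁻¹ * g = z.1.2 from inv_mul_eq_of_eq_mul z.2.2.2.symm]; exact z.2.2.1⟩⟩
        invFun := fun x => ⟨(x.1⁻¹, x.1 * g), x.2.1.imp (fun j hj => by rw [orderOf_inv, hj]),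
          x.2.2, inv_mul_cancel_left _ _⟩
        left_inv := fun z => Subtype.ext (Prod.ext (inv_inv _) (by
          show z.1.1⁻¹ * g = z.1.2
          exact inv_mul_eq_of_eq_mul z.2.2.2.symm))
        right_inv := fun x => Subtype.ext (inv_inv _) }
  rw [hpairs, h0]
  congr 1
  -- the sum of the idempotent over the shifted `p`-elements
  set eg : AlgInt ⧸ M := lResD hM (blockCoeff B₀ g)
  have hp : p.Prime := Fact.out
  obtain ⟨m, hm, hem⟩ : ∃ m : ℕ, ¬ p ∣ m ∧ (eg = 0 ∨ eg ^ m = 1) := by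
    by_cases h : eg = 0
    · exact ⟨1, hp.not_dvd_one, Or.inl h⟩
    · obtain ⟨m, hm, -, hpow⟩ := exists_pow_eq_one_residue hM h
      exact ⟨m, hm, Or.inr hpow⟩
  set aG := (Nat.card G).factorization p
  have hm0 : 0 < m := Nat.pos_of_ne_zero fun h => hm (h ▸ dvd_zero p)
  set n := (aG + 1) * (Nat.totient (orderOf g) * Nat.totient m)
  have hn : aG ≤ n := by
    have h1 : 0 < Nat.totient (orderOf g) * Nat.totient m :=
      Nat.mul_pos (Nat.totient_pos.2 (orderOf_pos g)) (Nat.totient_pos.2 hm0)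
    calc aG ≤ (aG + 1) * 1 := by omega
      _ ≤ n := Nat.mul_le_mul_left _ h1
  have hmod : ∀ d : ℕ, ¬ p ∣ d → Nat.totient d ∣ n → p ^ n ≡ 1 [MOD d] := by
    rintro d hd ⟨r, hr⟩
    rw [hr, pow_mul]
    simpa using (Nat.ModEq.pow_totient ((hp.coprime_iff_not_dvd).2 hd)).pow r
  have hgn : g ^ p ^ n = g := by
    conv_rhs => rw [← pow_one g]
    exact pow_eq_pow_iff_modEq.2
      (hmod _ hg (Dvd.dvd.mul_left (dvd_mul_right _ _) _))
  have hen : eg ^ p ^ n = eg := by
    rcases hem with h | h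
    · rw [h, zero_pow (pow_ne_zero _ hp.ne_zero)]
    · have h2 := hmod m hm (Dvd.dvd.mul_left (dvd_mul_left _ _) _)
      conv_rhs => rw [← pow_one eg]
      rw [pow_eq_pow_mod _ h, pow_eq_pow_mod 1 h, h2]
  have hS : (∑ x ∈ Finset.univ.filter (fun x : G => ∃ j : ℕ, orderOf x = p ^ j),
      (blockIdemRes hM B₀).coeff (x * g)) ^ p ^ n = eg := by
    have h1 := pEltSum_pow (p := p) (blockIdemRes hM B₀ * single g⁻¹ (1 : AlgInt ⧸ M)) hn
    rw [pEltSum] at h1
    simp only [coeff_mul_single_apply, inv_inv, mul_one] at h1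
    rw [h1]
    have hc : Commute (blockIdemRes hM B₀) (single g⁻¹ (1 : AlgInt ⧸ M)) :=
      (Subalgebra.mem_center_iff.1 (blockIdemRes_mem_center hM B₀) _).symm
    rw [hc.mul_pow, (isIdempotentElem_blockIdemRes hM hB₀).pow_eq (pow_ne_zero _ hp.ne_zero),
      single_pow, one_pow, coeff_mul_single_apply, mul_one, inv_pow, inv_inv, one_mul, hgn,
      coeff_blockIdemRes]
  exact iterateFrobenius_inj (AlgInt ⧸ M) p n (by simp only [iterateFrobenius_def]; rw [hS, hen])

open scoped Classical in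
/-- Külshammer's formula. -/
theorem kulshammer (hM : IsPModular p M) {g : G} (hg : ¬ p ∣ orderOf g) :
    MemLocalIdeal M (blockCoeff (principalBlock M G) g -
      (Nat.card {xy : G × G // (∃ j : ℕ, orderOf xy.1 = p ^ j) ∧ ¬ p ∣ orderOf xy.2 ∧
          xy.1 * xy.2 = g} : ℂ) / (Nat.card {y : G // ¬ p ∣ orderOf y} : ℂ)) := by
  set N := Nat.card {xy : G × G // (∃ j : ℕ, orderOf xy.1 = p ^ j) ∧ ¬ p ∣ orderOf xy.2 ∧
          xy.1 * xy.2 = g}
  set r := Nat.card {y : G // ¬ p ∣ orderOf y}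
  have hr : ¬ p ∣ r := not_dvd_card_regular
  have hbc := memLocalRing_blockCoeff hM (isPBlock_principalBlock (G := G) M) g
  have hN : (N : ℂ) ∈ lRing hM := natCast_mem (lRing hM) N
  have hrR : (r : ℂ) ∈ lRing hM := natCast_mem (lRing hM) r
  have hr1 := inv_natCast_mem_lRing hM hr
  have hr0 : (r : ℂ) ≠ 0 := by
    exact_mod_cast fun h : r = 0 => hr (h ▸ dvd_zero p)
  have hinv : lResD hM ((r : ℂ)⁻¹) * (r : AlgInt ⧸ M) = 1 := by
    rw [← lResD_natCast hM r, ← lResD_mul hM hr1 hrR, inv_mul_cancel₀ hr0, lResD_one]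
  rw [← lResD_eq_iff hM hbc (by rw [div_eq_mul_inv]; exact (lRing hM).mul_mem hN hr1),
    div_eq_mul_inv, lResD_mul hM hN hr1, lResD_natCast, kulshammer_residue hM hg,
    mul_comm ((r : AlgInt ⧸ M)), mul_assoc, mul_comm ((r : AlgInt ⧸ M)), hinv, mul_one]

end CfsgLib.Blocks
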