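import Cfsg.Agent.Lib.BrauerPairs.Principal
import Cfsg.Agent.Lib.Blk7.FongAlgebra
import Cfsg.Agent.Lib.Blocks.WeakOrth
import Cfsg.Agent.Lib.Blocks.ClassCount
import Mathlib.GroupTheory.Sylow

/-!
# A principal block of least possible dimension

If the squared degrees in the principal block sum to the order of a Sylow `p`-subgroup, then the
group has a normal `p`-complement.
-/

set_option autoImplicit false

namespace CfsgLib.MinimalPrincipal

open Cfsg MonoidAlgebra CfsgLib.Characters CfsgLib.BrauerPairs
open CfsgLib.Blocks (lRing)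
open scoped ComplexConjugate

variable {G : Type*} [Group G] [Fintype G] {p : ℕ} [hp : Fact p.Prime] {M : Ideal AlgInt}

omit hp in
/-- The idempotent law for the coefficients. -/
theorem convol (A : Set (IrrCharacter G)) (a b : G) :
    ∑ x : G, blockCoeff A (a⁻¹ * x) * blockCoeff A (x⁻¹ * b) = blockCoeff A (a⁻¹ * b) := by
  have h := congrArg (fun z : MonoidAlgebra ℂ G => z.coeff (a⁻¹ * b))
    (Blocks.isIdempotentElem_blockIdem A).eq
  rw [BrauerPairs.coeff_mul_fintype] at h
  simp only [Blocks.coeff_blockIdem] at h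
  rw [← h]
  refine Fintype.sum_equiv (Equiv.mulLeft a⁻¹) _ _ fun x => ?_
  simp only [Equiv.coe_mulLeft, mul_inv_rev, inv_inv]
  rw [mul_assoc x⁻¹ a, mul_inv_cancel_left]

omit hp in
theorem conj_coeff (A : Set (IrrCharacter G)) (x : G) :
    conj (blockCoeff A x) = blockCoeff A x⁻¹ := by
  classical
  rw [blockCoeff, blockCoeff, finsum_mem_eq_sum_of_inter_support_eq _
      (t := Finset.univ.filter (fun χ => χ ∈ A)) (by simp),
    finsum_mem_eq_sum_of_inter_support_eq _
      (t := Finset.univ.filter (fun χ => χ ∈ A)) (by simp), map_mul, map_inv₀,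
    Complex.conj_natCast, map_sum]
  congr 1
  refine Finset.sum_congr rfl fun χ _ => ?_
  rw [map_mul, irr_apply_inv, (CfsgLib.ClassCount.degree_eq χ).1, Complex.conj_natCast]

/-- The translates of the idempotent by a Sylow group span all translates. -/
theorem span_identity (hM : IsPModular p M) {B : Set (IrrCharacter G)} (hB : IsPBlock M B)
    (P : Sylow p G) (h1 : (Nat.card G : ℂ) * blockCoeff B 1 = Nat.card (P : Subgroup G)) (y x : G)
    [Fintype (P : Subgroup G)] :
    blockCoeff B 1 * blockCoeff B (y⁻¹ * x) =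
      ∑ u : (P : Subgroup G), blockCoeff B (y⁻¹ * u) * blockCoeff B ((u : G)⁻¹ * x) := by
  classical
  set c := blockCoeff B with hc
  set T : G → G → ℂ := fun a b => c (a⁻¹ * b) with hT
  set Q : G → G → ℂ := fun a b => ∑ u : (P : Subgroup G), T a u * T u b with hQ
  set D : G → G → ℂ := fun a b => c 1 * T a b - Q a b with hD
  suffices h : ∀ a b, D a b = 0 from sub_eq_zero.1 (h y x)
  have hTT : ∀ a b, ∑ z : G, T a z * T z b = T a b := fun a b => convol B a b
  have hdiag : ∀ a, T a a = c 1 := fun a => by simp [hT]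
  have hoff : ∀ u w : (P : Subgroup G), T u w = if u = w then c 1 else 0 := by
    intro u w
    split_ifs with huw
    · rw [huw, hdiag]
    · refine Blocks.blockCoeff_eq_zero_of_singular hM hB ?_
      obtain ⟨k, hk⟩ := IsPGroup.iff_orderOf.1 P.isPGroup' (u⁻¹ * w)
      rw [← Subgroup.orderOf_coe] at hk
      simp only [Subgroup.coe_mul, Subgroup.coe_inv] at hk
      rw [hk]
      refine dvd_pow_self p fun hk0 => huw ?_
      rw [hk0, pow_zero, orderOf_eq_one_iff] at hk
      exact Subtype.ext (inv_mul_eq_one.1 hk)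
  have hDconj : ∀ a b, conj (D a b) = D b a := fun a b => by
    simp only [hD, hQ, hT, map_sub, map_mul, map_sum, hc, conj_coeff, mul_inv_rev, inv_inv, inv_one]
    congr 1
    exact Finset.sum_congr rfl fun u _ => mul_comm _ _
  -- the squared norm vanishes
  have e1 : ∑ a : G, ∑ b : G, T a b * T b a = (Nat.card (P : Subgroup G) : ℂ) := by
    simp only [hTT, hdiag, Finset.sum_const, Finset.card_univ, nsmul_eq_mul,
      ← Nat.card_eq_fintype_card]
    exact h1
  have eTT : ∀ (u : (P : Subgroup G)), ∑ a : G, T (u : G) a * T a u = c 1 := fun u => by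
    rw [hTT, hdiag]
  have e2 : ∑ a : G, ∑ b : G, T a b * Q b a = (Nat.card (P : Subgroup G) : ℂ) * c 1 := by
    calc ∑ a : G, ∑ b : G, T a b * Q b a
        = ∑ u : (P : Subgroup G), ∑ a : G, T u a * (∑ b : G, T a b * T b u) := by
          simp only [hQ, Finset.mul_sum]
          rw [Finset.sum_congr rfl fun a _ => Finset.sum_comm, Finset.sum_comm]
          exact Finset.sum_congr rfl fun u _ => Finset.sum_congr rfl fun a _ =>
            Finset.sum_congr rfl fun b _ => by ring
      _ = ∑ u : (P : Subgroup G), c 1 := Finset.sum_congr rfl fun u _ => by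
          rw [← eTT u]; exact Finset.sum_congr rfl fun a _ => by rw [hTT]
      _ = _ := by rw [Finset.sum_const, Finset.card_univ, nsmul_eq_mul, Nat.card_eq_fintype_card]
  have e3 : ∑ a : G, ∑ b : G, Q a b * Q b a = (Nat.card (P : Subgroup G) : ℂ) * c 1 ^ 2 := by
    calc ∑ a : G, ∑ b : G, Q a b * Q b a
        = ∑ u : (P : Subgroup G), ∑ w : (P : Subgroup G),
            (∑ a : G, T (w : G) a * T a u) * (∑ b : G, T (u : G) b * T b w) := by
          simp only [hQ, Finset.sum_mul_sum]
          simp only [Finset.sum_comm (s := (Finset.univ : Finset G))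
            (t := (Finset.univ : Finset (P : Subgroup G)))]
          exact Finset.sum_congr rfl fun u _ => Finset.sum_congr rfl fun w _ =>
            Finset.sum_congr rfl fun a _ => Finset.sum_congr rfl fun b _ => by ring
      _ = ∑ u : (P : Subgroup G), c 1 ^ 2 := Finset.sum_congr rfl fun u _ => by
          rw [Finset.sum_eq_single u (fun w _ hw => by rw [hTT, hoff, if_neg hw, zero_mul]) (by simp),
            eTT u, sq]
      _ = _ := by rw [Finset.sum_const, Finset.card_univ, nsmul_eq_mul, Nat.card_eq_fintype_card]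
  have e2' : ∑ a : G, ∑ b : G, Q a b * T b a = (Nat.card (P : Subgroup G) : ℂ) * c 1 := by
    rw [← e2, Finset.sum_comm]
    exact Finset.sum_congr rfl fun a _ => Finset.sum_congr rfl fun b _ => mul_comm _ _
  have e0 : ∑ a : G, ∑ b : G, D a b * D b a = 0 := by
    have : ∀ a b, D a b * D b a = c 1 ^ 2 * (T a b * T b a) - c 1 * (T a b * Q b a) -
        c 1 * (Q a b * T b a) + Q a b * Q b a := fun a b => by simp only [hD]; ring
    simp only [this, Finset.sum_add_distrib, Finset.sum_sub_distrib, ← Finset.mul_sum, e1, e2, e2', e3]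
    ring
  intro a b
  have hre : ∑ a : G, ∑ b : G, Complex.normSq (D a b) = 0 := by
    have h5 : ∑ a : G, ∑ b : G, D a b * conj (D a b) = 0 := by simpa only [hDconj] using e0
    simp only [Complex.mul_conj] at h5
    exact_mod_cast h5
  have h6 := (Finset.sum_eq_zero_iff_of_nonneg fun a _ =>
    Finset.sum_nonneg fun b _ => Complex.normSq_nonneg _).1 hre a (Finset.mem_univ a)
  exact Complex.normSq_eq_zero.1
    ((Finset.sum_eq_zero_iff_of_nonneg fun b _ => Complex.normSq_nonneg _).1 h6 b (Finset.mem_univ b))

variable [M.IsMaximal]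

omit [Fintype G] hp in
theorem single_commute [Finite G] {E : MonoidAlgebra (ResK M) G}
    (hE : E ∈ fixAlg (ResK M) (⊤ : Subgroup G)) (g : G) :
    single g (1 : ResK M) * E = E * single g 1 := by
  classical
  haveI := Fintype.ofFinite G
  ext x
  rw [coeff_mul_fintype, coeff_mul_fintype,
    Finset.sum_eq_single g (fun b _ hb => by simp [hb]) (by simp),
    Finset.sum_eq_single (x * g⁻¹) (fun b _ hb => ?_) (by simp)]
  · rw [show (x * g⁻¹)⁻¹ * x = g by group]
    simp only [MonoidAlgebra.coeff_single, Finsupp.single_eq_same, one_mul, mul_one]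
    rw [← (mem_fixAlg_iff_coeff.1 hE) g (Subgroup.mem_top g) (g⁻¹ * x)]
    congr 2
    group
  · have : b⁻¹ * x ≠ g := fun h => hb (by rw [← h]; group)
    simp [this.symm]

/-- The elements fixing the reduced idempotent contain all `p`-regular ones. -/
theorem regular_fix (hM : IsPModular p M) (P : Sylow p G)
    (h1 : (Nat.card G : ℂ) * blockCoeff (principalBlock M G) 1 = Nat.card (P : Subgroup G))
    (hne : ¬ MemLocalIdeal M (blockCoeff (principalBlock M G) 1)) {y : G} (hy : ¬ p ∣ orderOf y) :
    single y (1 : ResK M) * eG hM (principalBlock M G) = eG hM (principalBlock M G) := by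
  classical
  have := charP_res hM
  have hB : IsPBlock M (principalBlock M G) := Blocks.isPBlock_principalBlock M
  let _ := Fintype.ofFinite (P : Subgroup G)
  set E := eG hM (principalBlock M G) with hEdef
  have hEE : E * E = E := (isBlockIdem_eG hM hB).idem
  have hEc : ∀ g, single g (1 : ResK M) * E = E * single g 1 :=
    single_commute (isBlockIdem_eG hM hB).fixed
  have hcoef : ∀ x, E.coeff x = resK hM ⟨blockCoeff (principalBlock M G) x, blockCoeff_mem hM hB x⟩ :=
    fun x => coeff_redFun hM _
  have hE1 : E.coeff 1 ≠ 0 := by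
    rw [hcoef, Ne, resK_eq_zero_iff]; exact hne
  -- spanning
  let a : G → ↥(P : Subgroup G) → ResK M := fun z u => E.coeff (z⁻¹ * u) / E.coeff 1
  have hspan : ∀ z : G, single z (1 : ResK M) * E =
      ∑ u : (P : Subgroup G), a z u • (single (u : G) (1 : ResK M) * E) := by
    intro z
    ext x
    have hid : E.coeff 1 * E.coeff (z⁻¹ * x) =
        ∑ u : (P : Subgroup G), E.coeff (z⁻¹ * u) * E.coeff ((u : G)⁻¹ * x) := by
      simp only [hcoef, ← map_mul, ← map_sum]
      congr 1
      apply Subtype.ext
      push_cast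
      exact span_identity hM hB P h1 z x
    have hs : ∀ w : G, (single w (1 : ResK M) * E).coeff x = E.coeff (w⁻¹ * x) := fun w => by
      rw [coeff_mul_fintype, Finset.sum_eq_single w (fun b _ hb => by simp [hb]) (by simp)]
      simp
    simp only [coeff_sum, coeff_smul, Finsupp.finsetSum_apply, Finsupp.smul_apply, smul_eq_mul, hs,
      a, div_mul_eq_mul_div, ← Finset.sum_div]
    rw [← hid, mul_div_cancel_left₀ _ hE1]
  have haug : ∀ z : G, ∑ u : (P : Subgroup G), a z u = 1 := fun z => by
    have h := congrArg (aug (ResK M) G) (hspan z)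
    simp only [map_mul, map_sum, map_smul, hEdef, aug_eG_principal hM, mul_one, smul_eq_mul] at h
    simp only [aug, MonoidAlgebra.lift_single, MonoidHom.one_apply, one_smul, mul_one] at h
    exact h.symm
  set n := single y (1 : ResK M) * E - E with hn
  have hEn : E * n = n := by
    rw [hn, mul_sub, ← mul_assoc, ← hEc, mul_assoc, hEE]
  set W : Submodule (ResK M) (MonoidAlgebra (ResK M) G) :=
    Submodule.span (ResK M) (Set.range fun u : (P : Subgroup G) => single (u : G) (1 : ResK M) * n)
    with hW
  have hnW : n ∈ W := Submodule.subset_span ⟨1, by simp [← MonoidAlgebra.one_def]⟩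
  have hstab : ∀ (γ : (P : Subgroup G)), ∀ v ∈ W, single ((γ⁻¹ : (P : Subgroup G)) : G) (1 : ResK M) * v ∈ W := by
    intro γ v hv
    induction hv using Submodule.span_induction with
    | mem x hx =>
      obtain ⟨u, rfl⟩ := hx
      refine Submodule.subset_span ⟨γ⁻¹ * u, ?_⟩
      simp only [← mul_assoc, single_mul_single, one_mul, Subgroup.coe_mul]
    | zero => simp
    | add x z _ _ hx hz => rw [mul_add]; exact W.add_mem hx hz
    | smul c x _ hx => rw [mul_smul_comm]; exact W.smul_mem c hx
  let u : ↥(P : Subgroup G) → (W →ₗ[ResK M] W) := fun γ =>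
    (LinearMap.mulLeft (ResK M) (single ((γ⁻¹ : (P : Subgroup G)) : G) (1 : ResK M))).restrict
      (hstab γ)
  have hzero := FongAlg.eq_bot_of_augmentation_top P.isPGroup' u
    (LinearMap.ext fun v => Subtype.ext (by simp [u, ← MonoidAlgebra.one_def]))
    (fun a b => LinearMap.ext fun v => Subtype.ext (by
      simp [u, ← mul_assoc, single_mul_single]))
    (fun φ hφ => by
      have hfix : ∀ w : (P : Subgroup G), ∀ hw, φ ⟨single (w : G) (1 : ResK M) * n, hw⟩ = φ ⟨n, hnW⟩ := by
        intro w hw
        have := hφ w⁻¹ ⟨n, hnW⟩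
        rw [← this]
        congr 1
        apply Subtype.ext
        simp [u]
      have hmem : ∀ w : (P : Subgroup G), single (w : G) (1 : ResK M) * n ∈ W :=
        fun w => Submodule.subset_span ⟨w, rfl⟩
      set q := orderOf y
      -- the telescoping sum
      have htel : ∑ i ∈ Finset.range q, single (y ^ i) (1 : ResK M) * n = 0 := by
        have : ∀ i, single (y ^ i) (1 : ResK M) * n =
            single (y ^ (i + 1)) (1 : ResK M) * E - single (y ^ i) (1 : ResK M) * E := fun i => by
          rw [hn, mul_sub, ← mul_assoc, single_mul_single, one_mul, pow_succ]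
        rw [Finset.sum_congr rfl fun i _ => this i,
          Finset.sum_range_sub (fun i => single (y ^ i) (1 : ResK M) * E), pow_orderOf_eq_one,
          pow_zero, sub_self]
      have hexp : ∀ i, single (y ^ i) (1 : ResK M) * n =
          ∑ w : (P : Subgroup G), a (y ^ i) w • (single (w : G) (1 : ResK M) * n) := fun i => by
        conv_lhs => rw [← hEn, ← mul_assoc, hspan, Finset.sum_mul]
        refine Finset.sum_congr rfl fun w _ => ?_
        rw [smul_mul_assoc, mul_assoc, hEn]
      have hval : ∀ i, ∀ hi, φ ⟨single (y ^ i) (1 : ResK M) * n, hi⟩ = φ ⟨n, hnW⟩ := fun i hi => by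
        have : (⟨single (y ^ i) (1 : ResK M) * n, hi⟩ : W) =
            ∑ w : (P : Subgroup G), a (y ^ i) w • ⟨single (w : G) (1 : ResK M) * n, hmem w⟩ :=
          Subtype.ext (by rw [Submodule.coe_sum]; simp only [Submodule.coe_smul]; exact hexp i)
        rw [this, map_sum]
        simp only [map_smul, hfix, smul_eq_mul]
        exact (Finset.sum_mul Finset.univ (a (y ^ i)) (φ ⟨n, hnW⟩)).symm.trans ((congrArg (· * φ ⟨n, hnW⟩) (haug (y ^ i))).trans (one_mul _))
      have hmem' : ∀ i, single (y ^ i) (1 : ResK M) * n ∈ W := fun i => by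
        rw [hexp i]; exact W.sum_mem fun w _ => W.smul_mem _ (hmem w)
      have h0 : (q : ResK M) * φ ⟨n, hnW⟩ = 0 := by
        have := congrArg φ (show (∑ i ∈ Finset.range q,
          (⟨single (y ^ i) (1 : ResK M) * n, hmem' i⟩ : W)) = 0 from
            Subtype.ext (by rw [Submodule.coe_sum]; exact htel))
        rw [map_sum, map_zero, Finset.sum_congr rfl fun i _ => hval i (hmem' i), Finset.sum_const,
          Finset.card_range, nsmul_eq_mul] at this
        exact this
      have hq : (q : ResK M) ≠ 0 := fun h => hy ((CharP.cast_eq_zero_iff (ResK M) p q).1 h)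
      have hφn := (mul_eq_zero.1 h0).resolve_left hq
      apply LinearMap.ext
      rintro ⟨v, hv⟩
      induction hv using Submodule.span_induction with
      | mem x hx =>
        obtain ⟨w, rfl⟩ := hx
        rw [hfix w, hφn, LinearMap.zero_apply]
      | zero => exact map_zero φ
      | add x z hx' hz' hx hz =>
        rw [show (⟨x + z, W.add_mem hx' hz'⟩ : W) = ⟨x, hx'⟩ + ⟨z, hz'⟩ from rfl, map_add, hx, hz]
        simp
      | smul c x hx' hx =>
        rw [show (⟨c • x, W.smul_mem c hx'⟩ : W) = c • ⟨x, hx'⟩ from rfl, map_smul, hx]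
        simp) ⟨n, hnW⟩
  exact sub_eq_zero.1 (congrArg Subtype.val hzero)

/-- **The normal `p`-complement.** -/
theorem normal_complement (hM : IsPModular p M) (P : Sylow p G)
    (h : ∑ᶠ χ ∈ principalBlock M G, charDegree (χ : G → ℂ) ^ 2 = Nat.card (P : Subgroup G)) :
    ∃ R : Subgroup G, R.Normal ∧ ¬ p ∣ Nat.card R ∧ R ⊔ (P : Subgroup G) = ⊤ := by
  classical
  have hB : IsPBlock M (principalBlock M G) := Blocks.isPBlock_principalBlock M
  set c1 := blockCoeff (principalBlock M G) 1
  have h1 : (Nat.card G : ℂ) * c1 = Nat.card (P : Subgroup G) := by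
    rw [← h]
    simp only [c1, blockCoeff, finsum_mem_eq_sum_of_inter_support_eq _
      (t := Finset.univ.filter (fun χ => χ ∈ principalBlock M G)) (by simp :
        principalBlock M G ∩ _ = _)]
    rw [mul_inv_cancel_left₀ (Nat.cast_ne_zero.mpr Nat.card_pos.ne')]
    push_cast
    refine Finset.sum_congr rfl fun χ _ => ?_
    rw [(CfsgLib.ClassCount.degree_eq χ).1, Complex.conj_natCast, sq]
  have hidx : ((P : Subgroup G).index : ℂ) * c1 = 1 := by
    apply mul_left_cancel₀ (Nat.cast_ne_zero.mpr
      (Nat.card_pos (α := (P : Subgroup G))).ne' : (Nat.card (P : Subgroup G) : ℂ) ≠ 0)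
    rw [← mul_assoc, ← Nat.cast_mul, Subgroup.card_mul_index, h1, mul_one]
  have hne : ¬ MemLocalIdeal M c1 := fun hI => Blocks.not_memLocalIdeal_one hM (by
    rw [← hidx]; exact Blocks.MemLocalIdeal.mul_left hM (natCast_mem (lRing hM) _) hI)
  set E := eG hM (principalBlock M G) with hE
  let R : Subgroup G :=
    { carrier := {g | single g (1 : ResK M) * E = E}
      one_mem' := by simp [← MonoidAlgebra.one_def]
      mul_mem' := fun {a b} (ha : _ = _) (hb : _ = _) => show _ = _ by
        rw [← one_mul (1 : ResK M), ← single_mul_single, mul_assoc, hb, ha]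
      inv_mem' := fun {a} (ha : _ = _) => show _ = _ by
        conv_lhs => rw [← ha, ← mul_assoc, single_mul_single, inv_mul_cancel, one_mul]
        rw [← MonoidAlgebra.one_def, one_mul] }
  have hreg : ∀ y : G, ¬ p ∣ orderOf y → y ∈ R := fun y hy => regular_fix hM P h1 hne hy
  have hsing : ∀ u ∈ R, p ∣ orderOf u → False := by
    intro u hu hd
    have h2 := congrArg (fun z : MonoidAlgebra (ResK M) G => z.coeff 1) (show _ = E from hu)
    have hs : (single u (1 : ResK M) * E).coeff 1 = E.coeff u⁻¹ := by
      rw [coeff_mul_fintype, Finset.sum_eq_single u (fun b _ hb => by simp [hb]) (by simp)]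
      simp
    rw [hs, hE, eG, coeff_redFun hM (blockCoeff_mem hM hB _),
      coeff_redFun hM (blockCoeff_mem hM hB _)] at h2
    rw [resK_eq_iff] at h2
    have h3 : blockCoeff (principalBlock M G) u⁻¹ = 0 :=
      Blocks.blockCoeff_eq_zero_of_singular hM hB (by rwa [orderOf_inv])
    simp only [h3, zero_sub] at h2
    exact hne (by simpa using Blocks.MemLocalIdeal.neg hM h2)
  refine ⟨R, ⟨fun g hg t => ?_⟩, fun hd => ?_, ?_⟩
  · show single (t * g * t⁻¹) (1 : ResK M) * E = E
    rw [show single (t * g * t⁻¹) (1 : ResK M) =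
      single t 1 * single g 1 * single t⁻¹ 1 by simp [single_mul_single], mul_assoc,
      single_commute (isBlockIdem_eG hM hB).fixed, mul_assoc, ← mul_assoc (single g 1),
      show single g (1 : ResK M) * E = E from hg, ← single_commute (isBlockIdem_eG hM hB).fixed,
      ← mul_assoc, single_mul_single, mul_inv_cancel, one_mul, ← MonoidAlgebra.one_def, one_mul]
  · obtain ⟨u, hu⟩ := exists_prime_orderOf_dvd_card' p hd
    exact hsing u u.2 (by rw [Subgroup.orderOf_coe, hu])
  · have hindex : ∀ q : ℕ, q.Prime → q ∣ (R ⊔ (P : Subgroup G)).index → False := by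
      intro q hq hqd
      haveI := Fact.mk hq
      rcases eq_or_ne q p with rfl | hqp
      · exact P.not_dvd_index (hqd.trans (Subgroup.index_dvd_of_le le_sup_right))
      · obtain ⟨S⟩ : Nonempty (Sylow q G) := inferInstance
        refine S.not_dvd_index (hqd.trans (Subgroup.index_dvd_of_le
          (le_trans (fun s hs => hreg s fun hd => ?_) le_sup_left)))
        obtain ⟨k, hk⟩ := IsPGroup.iff_orderOf.1 S.isPGroup' ⟨s, hs⟩
        rw [Subgroup.orderOf_mk] at hk
        rw [hk] at hd
        exact hqp ((Nat.prime_dvd_prime_iff_eq hp.out hq).1 (hp.out.dvd_of_dvd_pow hd)).symm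
    rw [← Subgroup.index_eq_one]
    exact Nat.eq_one_iff_not_exists_prime_dvd.2 fun q hq => hindex q hq

end CfsgLib.MinimalPrincipal
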