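import Cfsg.Agent.Lib.Blocks.DefectZeroCriterion
import Mathlib.LinearAlgebra.Matrix.Rank
import Mathlib.RingTheory.Ideal.Quotient.Basic

/-!
# Squares of class sums of elements of order three modulo two

For an element `g` of order three normalizing no non-trivial 2-subgroup, the number of ways to
write `g` as a product of two conjugates of `a` is odd exactly when `a` is conjugate to `g⁻¹`.
Hence there are at least as many characters of 2-defect zero as such classes.
-/

set_option autoImplicit false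

noncomputable section

namespace CfsgLib.OrderThreeSquares

open Cfsg CfsgLib.ClassCount CfsgLib.Characters

variable {G : Type*} [Group G]

/-- `g` has order three and normalizes no non-trivial 2-subgroup. -/
def Good (g : G) : Prop :=
  orderOf g = 3 ∧ ∀ Q : Subgroup G, IsPGroup 2 ↥Q → g ∈ Subgroup.normalizer (Q : Set G) → Q = ⊥

theorem Good.cube {g : G} (h : Good g) : g * g * g = 1 := by
  have := pow_orderOf_eq_one g
  rw [h.1, pow_succ, pow_two] at this
  exact this

theorem Good.inv {g : G} (h : Good g) : Good g⁻¹ :=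
  ⟨(orderOf_inv g).trans h.1, fun Q hQ hg => h.2 Q hQ ((Subgroup.inv_mem_iff _).1 hg)⟩

theorem Good.of_isConj {g g' : G} (h : Good g) (hc : IsConj g g') : Good g' := by
  obtain ⟨c, rfl⟩ := isConj_iff.1 hc
  refine ⟨(Involutions.orderOf_conj_eq c g).trans h.1, fun Q hQ hg => ?_⟩
  have h1 := h.2 (Q.map (MulAut.conj c⁻¹).toMonoidHom) (hQ.map _) ?_
  · rwa [Subgroup.map_eq_bot_iff_of_injective _ (MulAut.conj c⁻¹).injective] at h1
  · have h2 := Subgroup.mem_map_of_mem (MulAut.conj c⁻¹).toMonoidHom hg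
    rw [Subgroup.map_normalizer_eq_of_bijective _ (MulAut.conj c⁻¹).bijective] at h2
    simpa [MulAut.conj_apply, mul_assoc] using h2

/-- No involution `t` makes `t * g⁻¹` an element of order three. -/
theorem Good.no_involution {g t : G} (h : Good g) (ht : t * t = 1)
    (h3 : t * g⁻¹ * (t * g⁻¹) * (t * g⁻¹) = 1) : t = 1 := by
  by_contra htne
  have hg3 := h.cube
  have hgi : g⁻¹ = g * g := inv_eq_of_mul_eq_one_right (by rw [← mul_assoc]; exact hg3)
  set a := t with ha
  set b := g * t * g⁻¹ with hb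
  set c := g * g * t * (g * g)⁻¹ with hc
  have haa : a * a = 1 := ht
  have hbb : b * b = 1 := by
    rw [hb]; calc g * t * g⁻¹ * (g * t * g⁻¹) = g * (t * t) * g⁻¹ := by group
      _ = 1 := by rw [ht]; group
  have hcc : c * c = 1 := by
    rw [hc]; calc g * g * t * (g * g)⁻¹ * (g * g * t * (g * g)⁻¹)
          = g * g * (t * t) * (g * g)⁻¹ := by group
      _ = 1 := by rw [ht]; group
  have hacb : a * c * b = 1 := by
    calc a * c * b = t * g⁻¹ * (g * g * g) * t * g⁻¹ * t * g⁻¹ := by rw [hb, hc, ha]; group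
      _ = t * g⁻¹ * (t * g⁻¹) * (t * g⁻¹) := by rw [hg3]; group
      _ = 1 := h3
  have hainv : a⁻¹ = a := inv_eq_of_mul_eq_one_right haa
  have hbinv : b⁻¹ = b := inv_eq_of_mul_eq_one_right hbb
  have hcab : c = a * b := by
    calc c = a⁻¹ * (a * c * b) * b⁻¹ := by group
      _ = a * b := by rw [hacb, hainv, hbinv, mul_one]
  have hab : a * b = b * a := by
    rw [hcab] at hcc
    calc a * b = (a * b)⁻¹ := (inv_eq_of_mul_eq_one_right hcc).symm
      _ = b * a := by rw [mul_inv_rev, hainv, hbinv]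
  let Q := Subgroup.closure ({a, b} : Set G)
  have hcomm : ∀ x ∈ Q, ∀ y ∈ Q, x * y = y * x := by
    have : IsMulCommutative Q := Subgroup.isMulCommutative_closure (by
      rintro x (rfl | rfl) y (rfl | rfl) <;> first | rfl | exact hab | exact hab.symm)
    intro x hx y hy
    exact congrArg Subtype.val (this.is_comm.comm ⟨x, hx⟩ ⟨y, hy⟩)
  have hsq : ∀ x ∈ Q, x * x = 1 := by
    intro x hx
    induction hx using Subgroup.closure_induction with
    | mem y hy => rcases hy with rfl | rfl <;> assumption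
    | one => simp
    | mul y z hy hz ihy ihz =>
        calc y * z * (y * z) = y * (z * y) * z := by group
          _ = (y * y) * (z * z) := by rw [hcomm z hz y hy]; group
          _ = 1 := by rw [ihy, ihz, one_mul]
    | inv y hy ih => rw [← mul_inv_rev, ih, inv_one]
  have hQ : IsPGroup 2 Q := fun x => ⟨1, Subtype.ext (by
    show ((x : G)) ^ 2 ^ 1 = 1
    rw [pow_one, pow_two]; exact hsq x x.2)⟩
  have hmaps : ∀ x ∈ Q, g * x * g⁻¹ ∈ Q := by
    intro x hx
    induction hx using Subgroup.closure_induction with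
    | mem y hy =>
      rcases hy with rfl | rfl
      · exact Subgroup.subset_closure (by simp [hb, ha])
      · have : g * b * g⁻¹ = a * b := by rw [← hcab, hb, hc]; group
        rw [this]
        exact mul_mem (Subgroup.subset_closure (by simp)) (Subgroup.subset_closure (by simp))
    | one => simp
    | mul y z _ _ ihy ihz =>
        rw [show g * (y * z) * g⁻¹ = (g * y * g⁻¹) * (g * z * g⁻¹) by group]
        exact mul_mem ihy ihz
    | inv y _ ih =>
        rw [show g * y⁻¹ * g⁻¹ = (g * y * g⁻¹)⁻¹ by group]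
        exact inv_mem ih
  have hnorm : g ∈ Subgroup.normalizer (Q : Set G) := by
    rw [Subgroup.mem_normalizer_iff]
    refine fun x => ⟨hmaps x, fun hx => ?_⟩
    have h1 := hmaps _ (hmaps _ hx)
    have h2 : g * (g * (g * x * g⁻¹) * g⁻¹) * g⁻¹ = x := by
      calc g * (g * (g * x * g⁻¹) * g⁻¹) * g⁻¹ = g * g * g * x * (g * g * g)⁻¹ := by group
        _ = x := by rw [hg3]; group
    rwa [h2] at h1
  have hbot := h.2 Q hQ hnorm
  have : a ∈ Q := Subgroup.subset_closure (by simp)
  rw [hbot, Subgroup.mem_bot] at this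
  exact htne this

/-- A good element has centralizer of odd order. -/
theorem Good.odd_centralizer [Finite G] {g : G} (h : Good g) :
    ¬ 2 ∣ Nat.card (Subgroup.centralizer ({g} : Set G)) := by
  intro h2
  obtain ⟨x, hx⟩ := exists_prime_orderOf_dvd_card' 2 h2
  have hx' : orderOf (x : G) = 2 := by rw [Subgroup.orderOf_coe]; exact hx
  have hcomm : g * (x : G) = x * g := Subgroup.mem_centralizer_iff.1 x.2 g rfl
  have hbot := h.2 (Subgroup.zpowers (x : G)) (IsPGroup.of_card (n := 1) (by
    rw [Nat.card_zpowers, hx', pow_one])) ?_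
  · rw [Subgroup.zpowers_eq_bot] at hbot
    exact Involutions.ne_one_of_involution hx' hbot
  · refine Subgroup.mem_normalizer_iff.2 fun y => ?_
    have key : ∀ k : ℤ, g * (x : G) ^ k * g⁻¹ = (x : G) ^ k := fun k => by
      rw [mul_inv_eq_iff_eq_mul]
      exact (Commute.zpow_right hcomm k).eq
    constructor
    · rintro ⟨k, rfl⟩
      exact ⟨k, (key k).symm⟩
    · rintro ⟨k, hk⟩
      refine ⟨k, ?_⟩
      have h1 := key k
      simp only at hk ⊢
      have h2 : g * (x : G) ^ k * g⁻¹ = g * y * g⁻¹ := h1.trans hk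
      exact mul_left_cancel (mul_right_cancel h2)

/-- Parity of the number of decompositions of a good element into two conjugates of `a`. -/
theorem card_pairs_parity [Fintype G] {a g : G} (ha : Good a) (hg : Good g)
    [Decidable (IsConj a g⁻¹)] :
    ((pairs a a {g}).card : ZMod 2) = if IsConj a g⁻¹ then 1 else 0 := by
  classical
  have hg3 := hg.cube
  let f : G × G → G × G := fun z => (g⁻¹ * z.2 * g, g⁻¹ * (z.2⁻¹ * z.1 * z.2) * g)
  have hX : ∀ x y : G, (x, y) ∈ pairs a a {g} ↔ IsConj a x ∧ IsConj a y ∧ x * y = g := by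
    intro x y; simp [pairs, mem_cls, and_assoc]
  have hf : ∀ z ∈ pairs a a {g}, f z ∈ pairs a a {g} := by
    rintro ⟨x, y⟩ hz
    obtain ⟨hx, hy, hxy⟩ := (hX x y).1 hz
    refine (hX _ _).2 ⟨hy.trans (isConj_iff.2 ⟨g⁻¹, by group⟩),
      hx.trans (isConj_iff.2 ⟨g⁻¹ * y⁻¹, by group⟩), ?_⟩
    calc g⁻¹ * y * g * (g⁻¹ * (y⁻¹ * x * y) * g) = g⁻¹ * (x * y) * g := by group
      _ = g := by rw [hxy]; group
  have hff : ∀ z ∈ pairs a a {g}, f (f z) = z := by
    rintro ⟨x, y⟩ hz
    obtain ⟨hx, hy, hxy⟩ := (hX x y).1 hz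
    have hxe : x = g * y⁻¹ := by rw [← hxy]; group
    have hgi : g⁻¹ * g⁻¹ = g := by
      rw [← mul_inv_rev]; exact inv_eq_of_mul_eq_one_right hg3
    refine Prod.ext ?_ ?_
    · show g⁻¹ * (g⁻¹ * (y⁻¹ * x * y) * g) * g = x
      calc g⁻¹ * (g⁻¹ * (y⁻¹ * x * y) * g) * g = (g⁻¹ * g⁻¹) * y⁻¹ * (g * (g * g)) := by
            rw [hxe]; group
        _ = g * y⁻¹ := by rw [hgi, ← mul_assoc g g g, hg3, mul_one]
        _ = x := hxe.symm
    · show g⁻¹ * ((g⁻¹ * (y⁻¹ * x * y) * g)⁻¹ * (g⁻¹ * y * g) *
          (g⁻¹ * (y⁻¹ * x * y) * g)) * g = y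
      calc g⁻¹ * ((g⁻¹ * (y⁻¹ * x * y) * g)⁻¹ * (g⁻¹ * y * g) *
            (g⁻¹ * (y⁻¹ * x * y) * g)) * g = (g⁻¹ * g⁻¹ * g⁻¹) * y * (g * g * g) := by
            rw [hxe]; group
        _ = y := by rw [hg3, show g⁻¹ * g⁻¹ * g⁻¹ = (g * g * g)⁻¹ by group, hg3]; group
  have hfix : ∀ x y : G, (x, y) ∈ pairs a a {g} → f (x, y) = (x, y) → x = g⁻¹ ∧ y = g⁻¹ := by
    intro x y hz hzf
    obtain ⟨hx, hy, hxy⟩ := (hX x y).1 hz
    have h1 : g⁻¹ * y * g = x := congrArg Prod.fst hzf
    set t := y * g with ht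
    have htt : t * t = 1 := by
      calc t * t = g * (g⁻¹ * y * g * y) * g := by rw [ht]; group
        _ = g * g * g := by rw [h1, hxy]
        _ = 1 := hg3
    have hy' : y = t * g⁻¹ := by rw [ht]; group
    have hy3 : y * y * y = 1 := (ha.of_isConj hy).cube
    have ht1 : t = 1 := hg.no_involution htt (by rwa [hy'] at hy3)
    have hyg : y = g⁻¹ := by rw [hy', ht1, one_mul]
    refine ⟨?_, hyg⟩
    rw [← h1, hyg]; group
  have hsum : ∑ z ∈ (pairs a a {g}).filter (fun z => f z ≠ z), (1 : ZMod 2) = 0 := by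
    refine Finset.sum_involution (fun z _ => f z) (fun _ _ => by decide) ?_ ?_ ?_
    · intro z hz _
      exact (Finset.mem_filter.1 hz).2
    · intro z hz
      obtain ⟨hz1, hz2⟩ := Finset.mem_filter.1 hz
      exact Finset.mem_filter.2 ⟨hf z hz1, fun h => hz2 (by rw [hff z hz1] at h; exact h.symm)⟩
    · intro z hz
      exact hff z (Finset.mem_filter.1 hz).1
  have hsplit : ((pairs a a {g}).card : ZMod 2) =
      ((pairs a a {g}).filter (fun z => f z = z)).card := by
    rw [← Finset.card_filter_add_card_filter_not (s := pairs a a {g}) (fun z => f z = z),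
      Nat.cast_add]
    simp only [Finset.sum_const, nsmul_eq_mul, mul_one] at hsum
    rw [hsum, add_zero]
  rw [hsplit]
  have hgg : g⁻¹ * g⁻¹ = g := by
    rw [← mul_inv_rev]; exact inv_eq_of_mul_eq_one_right hg3
  split_ifs with hc
  · have : (pairs a a {g}).filter (fun z => f z = z) = {(g⁻¹, g⁻¹)} := by
      refine Finset.eq_singleton_iff_unique_mem.2 ⟨Finset.mem_filter.2 ⟨(hX _ _).2 ⟨hc, hc, hgg⟩,
        ?_⟩, ?_⟩
      · simp [f]
      · rintro ⟨x, y⟩ hz
        obtain ⟨h1, h2⟩ := Finset.mem_filter.1 hz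
        obtain ⟨rfl, rfl⟩ := hfix x y h1 h2
        rfl
    rw [this, Finset.card_singleton, Nat.cast_one]
  · have : (pairs a a {g}).filter (fun z => f z = z) = ∅ := by
      refine Finset.filter_eq_empty_iff.2 ?_
      rintro ⟨x, y⟩ hz hzf
      obtain ⟨rfl, rfl⟩ := hfix x y hz hzf
      exact hc ((hX _ _).1 hz).1
    rw [this, Finset.card_empty, Nat.cast_zero]

/-- There are at least as many characters of 2-defect zero as classes of good elements. -/
theorem card_good_le [Fintype G] {ι : Type*} [Fintype ι] (rep : ι → G)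
    (hgood : ∀ i, Good (rep i)) (hinj : ∀ i j, IsConj (rep i) (rep j) → i = j)
    (hsurj : ∀ g, Good g → ∃ i, IsConj (rep i) g) :
    Fintype.card ι ≤ Nat.card {χ : IrrCharacter G //
      (charDegree (χ : G → ℂ)).factorization 2 = (Nat.card G).factorization 2} := by
  classical
  -- a residue field of characteristic two
  obtain ⟨M, hM, hle⟩ : ∃ M : Ideal AlgInt, M.IsMaximal ∧ Ideal.span {(2 : AlgInt)} ≤ M := by
    refine Ideal.exists_le_maximal _ fun h => ?_
    rw [Ideal.span_singleton_eq_top] at h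
    obtain ⟨b, hb⟩ := isUnit_iff_exists_inv.1 h
    have h2 : ((1 : ℕ) : ℂ) = ((2 : ℕ) : ℂ) * (b : ℂ) := by
      have := congrArg Subtype.val hb
      push_cast at this ⊢
      exact this.symm
    exact absurd (DefectZeroCriterion.dvd_of_eq_mul_isIntegral Nat.prime_two b.2 h2) (by norm_num)
  let k := AlgInt ⧸ M
  let : Field k := Ideal.Quotient.field M
  let π : AlgInt →+* k := Ideal.Quotient.mk M
  have h2k : (2 : k) = 0 := by
    rw [← map_ofNat π 2]
    exact Ideal.Quotient.eq_zero_iff_mem.2 (hle (Ideal.subset_span rfl))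
  have hchar : CharP k 2 := (CharP.charP_iff_prime_eq_zero Nat.prime_two).2 (by exact_mod_cast h2k)
  let val : IrrCharacter G → G → AlgInt := fun χ g => ⟨(χ : G → ℂ) g, irr_isIntegral χ g⟩
  let Z := {χ : IrrCharacter G //
      (charDegree (χ : G → ℂ)).factorization 2 = (Nat.card G).factorization 2}
  let A : Matrix ι Z k := fun i χ => (cofDegree χ.1 : k) * π (val χ.1 (rep i)) ^ 2
  let B : Matrix Z ι k := fun χ j => π (val χ.1 (rep j)⁻¹)
  -- the inversion permutation
  choose inv' hinv' using fun i => hsurj _ (hgood i).inv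
  have hinvinj : Function.Injective inv' := by
    intro i j hij
    apply hinj
    have h1 : IsConj (rep i)⁻¹ (rep j)⁻¹ := (hinv' i).symm.trans (hij ▸ hinv' j)
    obtain ⟨c, hc⟩ := isConj_iff.1 h1
    exact isConj_iff.2 ⟨c, inv_injective (by rw [← hc]; group)⟩
  have key : ∀ i j, (A * B) i j = if inv' j = i then 1 else 0 := by
    intro i j
    have hodd : ∀ i, (Nat.card (Subgroup.centralizer ({rep i} : Set G)) : k) = 1 := by
      intro i
      obtain ⟨m, hm⟩ := Nat.odd_iff.2 (Nat.two_dvd_ne_zero.1 (hgood i).odd_centralizer)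
      rw [hm]; push_cast; rw [h2k]; simp
    have h1 := card_pairs_mul_centralizers (rep i) (rep i) ({rep j} : Finset G)
    have h2 : (((pairs (rep i) (rep i) {rep j}).card : AlgInt)) *
        (Nat.card (Subgroup.centralizer ({rep i} : Set G)) : AlgInt) *
        (Nat.card (Subgroup.centralizer ({rep i} : Set G)) : AlgInt) =
        ∑ χ : IrrCharacter G, (cofDegree χ : AlgInt) *
          (val χ (rep i) * val χ (rep i) * val χ (rep j)⁻¹) := by
      apply Subtype.ext
      push_cast
      simpa [val] using h1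
    have h3 := congrArg π h2
    simp only [map_mul, map_natCast, hodd, mul_one, map_sum] at h3
    have h4 : (A * B) i j = ∑ χ : IrrCharacter G, (cofDegree χ : k) *
        (π (val χ (rep i)) * π (val χ (rep i)) * π (val χ (rep j)⁻¹)) := by
      rw [Matrix.mul_apply]
      simp only [A, B, pow_two, mul_assoc]
      refine Finset.sum_bij_ne_zero (fun χ _ _ => χ.1) (fun _ _ _ => Finset.mem_univ _)
        (fun _ _ _ _ _ _ h => Subtype.ext h) (fun χ _ hne => ?_) (fun _ _ _ => rfl)
      by_cases hχ : (charDegree (χ : G → ℂ)).factorization 2 = (Nat.card G).factorization 2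
      · exact ⟨⟨χ, hχ⟩, Finset.mem_univ _, hne, rfl⟩
      · obtain ⟨m, hm⟩ := DefectZeroCriterion.dvd_cofDegree Nat.prime_two χ hχ
        exfalso
        apply hne
        rw [hm]; push_cast; rw [h2k]; simp
    rw [h4, ← h3]
    have h5 := card_pairs_parity (hgood i) (hgood j)
    have h6 : ((pairs (rep i) (rep i) {rep j}).card : k) =
        ZMod.castHom (dvd_refl 2) k ((pairs (rep i) (rep i) {rep j}).card : ZMod 2) := by
      rw [map_natCast]
    rw [h6, h5]
    by_cases hij : inv' j = i
    · rw [if_pos hij, if_pos (hij ▸ hinv' j), map_one]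
    · rw [if_neg hij, if_neg fun h => hij (hinj _ _ ((hinv' j).trans h.symm)), map_zero]
  let e : Equiv.Perm ι := Equiv.ofBijective inv' (Finite.injective_iff_bijective.1 hinvinj)
  have hAB : A * B = (1 : Matrix ι ι k).submatrix id e := by
    ext i j
    rw [key, Matrix.submatrix_apply, Matrix.one_apply]
    simp [e, eq_comm]
  have hrank : (A * B).rank = Fintype.card ι := by
    rw [hAB]
    exact (Matrix.rank_submatrix (1 : Matrix ι ι k) (Equiv.refl ι) e).trans Matrix.rank_one
  rw [Nat.card_eq_fintype_card, ← hrank]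
  exact (Matrix.rank_mul_le_left A B).trans (Matrix.rank_le_card_width A)

end CfsgLib.OrderThreeSquares
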