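import Cfsg.Agent.Lib.Blocks.PRational
import Cfsg.Agent.Lib.Blk4.AlperinDade
import Cfsg.Agent.S4937

/-!
# The canonical extension in the covered case

`N` normal with a Sylow `p`-subgroup `P` such that `G = N C_G(P)`, and `θ` an invariant principal
block character of `N` of degree prime to `p` whose determinant has order prime to `p`: there is
exactly one extension with determinant of order prime to `p` whose normalised values at the
`p'`-elements of `C_G(P)` are congruent to one, and it lies in the principal block.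
-/

set_option autoImplicit false
set_option linter.unusedSectionVars false
set_option linter.style.haveILetI false

noncomputable section

namespace CfsgLib.PRationalExt

open Cfsg CfsgLib.Characters CfsgLib.Blocks CfsgLib.PrincipalSq CfsgLib.Blk4.AlperinDade
  CfsgLib.PRational

universe u

variable {p : ℕ} {M : Ideal AlgInt}

/-- The canonical extension property. -/
structure Canon {G : Type u} [Group G] (M : Ideal AlgInt) (N : Subgroup G) (C : Set G)
    (θ : N → ℂ) (q : ℕ) (χ : G → ℂ) : Prop where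
  irr : IsIrrCharacter G χ
  ext : ∀ n : N, χ n = θ n
  det : ∀ g : G, detChar χ g ^ q = 1
  congr : ∀ z ∈ C, z ^ q = 1 → Congr1 M χ z

variable {G : Type u} [Group G] [Finite G]

theorem not_dvd_index_centralizer [Fact p.Prime] (N : Subgroup G) [N.Normal] (P : Sylow p N)
    {J : Subgroup G} (hNJ : N ≤ J) (hJ : ¬ p ∣ N.relIndex J) (z : J)
    (hz : (z : G) ∈ Subgroup.centralizer (((P : Subgroup N).map N.subtype : Subgroup G) : Set G)) :
    ¬ p ∣ (Subgroup.centralizer ({z} : Set J)).index := by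
  intro hdvd
  set Pc : Subgroup G := (P : Subgroup N).map N.subtype with hPc
  have hle : Pc.subgroupOf J ≤ Subgroup.centralizer ({z} : Set J) := fun y hy => by
    rw [Subgroup.mem_centralizer_singleton_iff]
    exact Subtype.ext (Subgroup.mem_centralizer_iff.1 hz y hy)
  have h1 : p ∣ Pc.relIndex J := hdvd.trans (Subgroup.index_dvd_of_le hle)
  rw [← Subgroup.relIndex_mul_relIndex Pc N J (Subgroup.map_subtype_le _) hNJ] at h1
  rcases (Fact.out : p.Prime).dvd_mul.1 h1 with h2 | h2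
  · refine P.not_dvd_index ?_
    rwa [hPc, Subgroup.relIndex, Subgroup.subgroupOf,
      Subgroup.comap_map_eq_self_of_injective N.subtype_injective] at h2
  · exact hJ h2

theorem exists_lift (N : Subgroup G) [N.Normal] {C : Subgroup G} (h : N ⊔ C = ⊤) (g : G) :
    ∃ z ∈ C, g⁻¹ * z ∈ N := by
  obtain ⟨n, hn, z, hz, rfl⟩ :=
    Subgroup.mem_sup_of_normal_left.1 (h ▸ Subgroup.mem_top g : g ∈ N ⊔ C)
  refine ⟨z, hz, ?_⟩
  simpa [mul_assoc] using (inferInstance : N.Normal).conj_mem' n⁻¹ (N.inv_mem hn) z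

/-- An exponent that is one on `q`-th roots and kills `p ^ a`-th roots. -/
theorem exists_exp_one_zero {a q : ℕ} (hp : p.Prime) (hq : ¬ p ∣ q) :
    ∃ k : ℕ, p ^ a ∣ k ∧ k ≡ 1 [MOD q] := by
  obtain ⟨k, h1, h2⟩ :=
    Nat.chineseRemainder (Nat.Coprime.pow_left a (hp.coprime_iff_not_dvd.2 hq)) 0 1
  exact ⟨k, Nat.modEq_zero_iff_dvd.1 h1, h2⟩

/-- The covered case. -/
theorem exists_canon [Fact p.Prime] (hM : IsPModular p M) (N : Subgroup G) [N.Normal]
    (P : Sylow p N)
    (hcov : N ⊔ Subgroup.centralizer (((P : Subgroup N).map N.subtype : Subgroup G) : Set G) = ⊤)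
    (θ : IrrCharacter N)
    (hinv : ∀ (g : G) (n : N),
      (θ : N → ℂ) ⟨g * n * g⁻¹, (inferInstance : N.Normal).conj_mem (n : G) n.2 g⟩ = (θ : N → ℂ) n)
    (hθ : θ ∈ principalBlock M N) (hdeg : ¬ p ∣ charDegree (θ : N → ℂ))
    {a q : ℕ} (hpq : ¬ p ∣ q) (hcard : Nat.card G ∣ p ^ a * q)
    (hdet : ∀ n : N, detChar (θ : N → ℂ) n ^ q = 1) :
    ∃ χ : IrrCharacter G, χ ∈ principalBlock M G ∧
      Canon M N (Subgroup.centralizer (((P : Subgroup N).map N.subtype : Subgroup G) : Set G))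
        (θ : N → ℂ) q χ ∧
      ∀ ψ : G → ℂ,
        Canon M N (Subgroup.centralizer (((P : Subgroup N).map N.subtype : Subgroup G) : Set G))
          (θ : N → ℂ) q ψ → ψ = χ := by
  classical
  have hp : p.Prime := Fact.out
  haveI := Fintype.ofFinite G
  haveI := Fintype.ofFinite N
  set C := Subgroup.centralizer (((P : Subgroup N).map N.subtype : Subgroup G) : Set G) with hC
  set d := charDegree (θ : N → ℂ) with hd
  have hθ1 : (θ : N → ℂ) 1 = d := CfsgLib.LinearTwist.apply_one_eq_charDegree (irr_isCharacter θ)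
  have hd0 : (d : ℂ) ≠ 0 := Nat.cast_ne_zero.2 fun h => hdeg (h ▸ dvd_zero p)
  have hq0 : q ≠ 0 := fun h => hpq (h ▸ dvd_zero p)
  -- extensions to overgroups of prime power index
  have hN' : ∀ R : Subgroup G, ∀ r : ℕ, IsPGroup r R → r.Prime →
      ∃ k, (N.subgroupOf (N ⊔ R)).index = r ^ k := fun R r hR hr => by
    haveI : Fact r.Prime := ⟨hr⟩
    obtain ⟨k, hk⟩ := IsPGroup.iff_card.1 hR
    have h1 : N.relIndex (N ⊔ R) ∣ r ^ k := by
      rw [sup_comm, Subgroup.relIndex_sup_right, ← hk]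
      exact Subgroup.index_dvd_card _
    obtain ⟨j, -, hj⟩ := (Nat.dvd_prime_pow hr).1 h1
    exact ⟨j, hj⟩
  have hext0 : ∃ ψ : G → ℂ, IsIrrCharacter G ψ ∧ ∀ n : N, ψ n = (θ : N → ℂ) n := by
    refine CfsgLib.CharExtension.extends_of_forall_prime_subgroup N θ.2 hinv fun r hr => ?_
    haveI : Fact r.Prime := ⟨hr⟩
    let R : Sylow r G := default
    set J := N ⊔ (R : Subgroup G)
    have hNJ : N ≤ J := le_sup_left
    have hRJ : ¬ r ∣ J.index := fun h =>
      R.not_dvd_index (h.trans (Subgroup.index_dvd_of_le le_sup_right))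
    haveI := Fintype.ofFinite J
    haveI := Fintype.ofFinite (N.subgroupOf J)
    obtain ⟨θ', hθ', hθ'v⟩ := principal_subgroupOf (K := J) hNJ θ hθ
    obtain ⟨k, hk⟩ := hN' R r R.2 hr
    suffices h : ∃ χ : J → ℂ, IsIrrCharacter J χ ∧
        ∀ n : N.subgroupOf J, χ n = (θ' : N.subgroupOf J → ℂ) n by
      obtain ⟨χ, hχ, hχv⟩ := h
      exact ⟨J, hNJ, χ, hRJ, isCharacter_of_irr hχ,
        fun n => (hχv ⟨⟨(n : G), hNJ n.2⟩, n.2⟩).trans (hθ'v _)⟩
    have hθ'c : (θ' : N.subgroupOf J → ℂ) =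
        fun x => (θ : N → ℂ) (Subgroup.subgroupOfEquivOfLe hNJ x) := funext hθ'v
    by_cases hrp : r = p
    · subst hrp
      have hinv' : ∀ (g : J) (n : N.subgroupOf J),
          (θ' : N.subgroupOf J → ℂ) ⟨g * n * g⁻¹,
            (inferInstance : (N.subgroupOf J).Normal).conj_mem (n : J) n.2 g⟩ =
          (θ' : N.subgroupOf J → ℂ) n := fun g n => by
        rw [hθ'v, hθ'v]
        exact hinv (g : G) ⟨((n : J) : G), n.2⟩
      obtain ⟨D, hD⟩ := exists_detHom θ'.2
      have hDv : ∀ x : N.subgroupOf J,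
          (D x : ℂ) = detChar (θ : N → ℂ) (Subgroup.subgroupOfEquivOfLe hNJ x) := fun x => by
        have h1 := detChar_comp θ.2 (Subgroup.subgroupOfEquivOfLe hNJ).toMonoidHom (hθ'c ▸ θ'.2)
        rw [← congrFun hD x, hθ'c]
        exact congrFun h1 x
      have hDinv : CfsgLib.LinearExt.InvHom (N.subgroupOf J) D := fun g n => by
        refine Units.ext ?_
        rw [← congrFun hD, ← congrFun hD]
        exact CfsgLib.CharExtension.detChar_invariant (N.subgroupOf J) θ'.2 hinv' g n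
      have hDq : D ^ q = 1 := MonoidHom.ext fun x => Units.ext (by
        rw [MonoidHom.pow_apply, Units.val_pow_eq_pow_val, hDv, hdet, MonoidHom.one_apply,
          Units.val_one])
      obtain ⟨μ, hμ⟩ := CfsgLib.LinearExt.extends_of_coprime
        (a := (N.subgroupOf J).index) (b := q)
        (by rw [hk]; exact Nat.Coprime.pow_left k (hp.coprime_iff_not_dvd.2 hpq))
        (CfsgLib.LinearExt.powExtends_index hDinv le_rfl D fun _ => rfl)
        (CfsgLib.LinearExt.powExtends_of_pow_eq_one hDq)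
      exact CfsgLib.CharExtension.extends_of_det (N.subgroupOf J) θ'.2 hinv' d
        (by rw [hθ'v]; exact hθ1)
        (by rw [hk]; exact Nat.Coprime.pow_left k (hp.coprime_iff_not_dvd.2 hdeg))
        (fun g => (μ g : ℂ)) (isCharacter_of_irr (isIrrCharacter_of_hom μ)) (by simp)
        (fun n => by rw [hD]; exact congrArg Units.val (hμ n))
    · have hidx : ¬ p ∣ (N.subgroupOf J).index := by
        rw [hk]
        exact fun h => hrp ((Nat.prime_dvd_prime_iff_eq hp hr).1 (hp.dvd_of_dvd_pow h)).symm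
      have hgood : Good p (N.subgroupOf J) := fun c => by
        obtain ⟨z, hz, hcz⟩ := exists_lift N hcov (c : G)
        have hzJ : z ∈ J := by
          have := J.mul_mem c.2 (hNJ hcz)
          rwa [mul_inv_cancel_left] at this
        exact ⟨⟨z, hzJ⟩, hcz, not_dvd_index_centralizer N P hNJ hidx ⟨z, hzJ⟩ hz⟩
      obtain ⟨F, -, hF⟩ := exists_extension hM (N.subgroupOf J) hidx hgood θ' hθ'
      exact ⟨F, F.2, hF⟩
  obtain ⟨ψ0, hψ0, hψ0v⟩ := hext0
  obtain ⟨χ1, hχ1B, hχ1v, hχ1J⟩ :=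
    Cfsg.Agent.S4937.main hM N P hcov θ hθ ⟨⟨ψ0, hψ0⟩, hψ0v⟩
  have hχ11 : (χ1 : G → ℂ) 1 = d := (hχ1v 1).trans hθ1
  have hregular : ∀ z : G, z ^ q = 1 → ¬ p ∣ N.relIndex (N ⊔ Subgroup.zpowers z) := by
    intro z hz h
    rw [sup_comm, Subgroup.relIndex_sup_right] at h
    have h1 := h.trans (Subgroup.index_dvd_card _)
    rw [Nat.card_zpowers] at h1
    exact hpq (h1.trans (orderOf_dvd_of_pow_eq_one hz))
  have hχ1c : ∀ z ∈ C, z ^ q = 1 → Congr1 M (χ1 : G → ℂ) z := by
    intro z hz hzq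
    set J := N ⊔ Subgroup.zpowers z
    have hzJ : z ∈ J := Subgroup.mem_sup_right (Subgroup.mem_zpowers z)
    obtain ⟨ξ, hξ, hξv⟩ := hχ1J J le_sup_left
    have h := congr_of_principal hM ξ hξ
      (not_dvd_index_centralizer N P le_sup_left (hregular z hzq) ⟨z, hzJ⟩ hz)
    rw [Congr1, hξv, hξv] at h
    exact h
  obtain ⟨D1, hD1⟩ := exists_detHom χ1.2
  have hD1N : ∀ n : N, (D1 n : ℂ) = detChar (θ : N → ℂ) n := fun n => by
    have e : (fun x : N => (χ1 : G → ℂ) (N.subtype x)) = (θ : N → ℂ) := funext hχ1v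
    have h1 := detChar_comp χ1.2 N.subtype (e ▸ θ.2)
    rw [e] at h1
    rw [h1, hD1]
    rfl
  have hord : ∀ (f : G →* ℂˣ) (g : G), f g ^ (p ^ a * q) = 1 := fun f g => by
    obtain ⟨c, hc⟩ := hcard
    rw [hc, pow_mul, ← map_pow f g, pow_card_eq_one', map_one, one_pow]
  -- kill the `p`-part of the determinant
  obtain ⟨k, hkq, hkd⟩ : ∃ k, q ∣ k ∧ p ^ a ∣ k * d + 1 := by
    have hco : Nat.Coprime (q * d) (p ^ a) :=
      (Nat.Coprime.pow_left a (hp.coprime_iff_not_dvd.2 (hp.not_dvd_mul hpq hdeg))).symm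
    set w := (((ZMod.unitOfCoprime (q * d) hco)⁻¹ : (ZMod (p ^ a))ˣ) : ZMod (p ^ a)) with hw
    haveI : NeZero (p ^ a) := ⟨pow_ne_zero _ hp.ne_zero⟩
    refine ⟨q * (-w).val, dvd_mul_right _ _, (ZMod.natCast_eq_zero_iff _ _).1 ?_⟩
    push_cast
    rw [ZMod.natCast_zmod_val]
    have h1 : ((q * d : ℕ) : ZMod (p ^ a)) * w = 1 := by
      rw [hw, ← ZMod.coe_unitOfCoprime (q * d) hco, ← Units.val_mul, mul_inv_cancel, Units.val_one]
    push_cast at h1
    linear_combination (-1 : ZMod (p ^ a)) * h1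
  let lam : G →* ℂˣ := D1 ^ k
  have hlamp : ∀ g, lam g ^ p ^ a = 1 := fun g => by
    obtain ⟨c, hc⟩ := hkq
    show (D1 ^ k) g ^ p ^ a = 1
    rw [MonoidHom.pow_apply, ← pow_mul, hc, show q * c * p ^ a = p ^ a * q * c by ring, pow_mul,
      hord, one_pow]
  let χ2 : IrrCharacter G := ⟨_, CfsgLib.LinearTwist.isIrr_mul_hom χ1.2 lam⟩
  have hχ2v : ∀ g, (χ2 : G → ℂ) g = (χ1 : G → ℂ) g * (lam g : ℂ) := fun g => rfl
  have hχ21 : (χ2 : G → ℂ) 1 = d := by simp [hχ2v, hχ11]
  have hcanon : Canon M N C (θ : N → ℂ) q χ2 := by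
    refine ⟨χ2.2, fun n => ?_, fun g => ?_, fun z hz hzq => ?_⟩
    · obtain ⟨c, hc⟩ := hkq
      have h1 : (lam n : ℂ) = 1 := by
        show (((D1 ^ k) n : ℂˣ) : ℂ) = 1
        rw [MonoidHom.pow_apply, Units.val_pow_eq_pow_val, hD1N, hc, pow_mul, hdet, one_pow]
      rw [hχ2v, h1, mul_one, hχ1v]
    · obtain ⟨c, hc⟩ := hkd
      have e : detChar (χ2 : G → ℂ) g = ((D1 g ^ (k * d + 1) : ℂˣ) : ℂ) := by
        show detChar (fun x => (χ1 : G → ℂ) x * (lam x : ℂ)) g = _
        rw [detChar_mul_hom χ1.2 hχ11 lam, hD1, Units.val_pow_eq_pow_val, pow_succ, pow_mul]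
        congr 2
      rw [e, ← Units.val_pow_eq_pow_val, ← pow_mul, hc, show p ^ a * c * q = p ^ a * q * c by ring,
        pow_mul, hord, one_pow, Units.val_one]
    · have hpow : (lam z : ℂ) ^ p ^ a = 1 := by
        rw [← Units.val_pow_eq_pow_val, hlamp, Units.val_one]
      have hint : IsIntegral ℤ (lam z : ℂ) :=
        IsIntegral.of_pow (pow_pos hp.pos a) (by rw [hpow]; exact isIntegral_one)
      have h1 := MemLocalIdeal.add hM
        (MemLocalIdeal.mul_left hM (isIntegral_mem_lRing hM hint) (hχ1c z hz hzq))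
        (sub_one_mem_of_pow_prime_pow hM hpow)
      unfold Congr1
      convert h1 using 1
      rw [hχ21, hχ2v, hχ11]
      ring
  refine ⟨χ2, mem_principal_mul_hom hM hχ1B lam hlamp χ2 hχ2v, hcanon, fun ψ hψ => ?_⟩
  -- uniqueness
  obtain ⟨α, hαN, hα⟩ := Cfsg.Agent.S4937.twist_of_extensions N θ.2 χ2 ⟨ψ, hψ.irr⟩
    hcanon.ext hψ.ext
  change ∀ x, ψ x = (α x : ℂ) * (χ2 : G → ℂ) x at hα
  have hαq : ∀ g, α g ^ q = 1 := fun g => by
    have e : ψ = fun x => (χ2 : G → ℂ) x * (α x : ℂ) := funext fun x => (hα x).trans (mul_comm _ _)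
    have h1 := hψ.det g
    rw [e, detChar_mul_hom χ2.2 hχ21 α] at h1
    simp only [mul_pow, hcanon.det g, mul_one, ← pow_mul] at h1
    have h2 : α g ^ (d * q) = 1 := Units.ext (by
      rw [Units.val_pow_eq_pow_val, h1, Units.val_one])
    have h3 := pow_gcd_eq_one.2 ⟨h2, hord α g⟩
    rwa [Nat.gcd_mul_right, (Nat.Coprime.pow_right a (hp.coprime_iff_not_dvd.2 hdeg).symm).gcd_eq_one,
      one_mul] at h3
  funext x
  suffices α x = 1 by rw [hα, this, Units.val_one, one_mul]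
  obtain ⟨k0, hk0a, hk0q⟩ := exists_exp_one_zero (a := a) hp hpq
  obtain ⟨z, hz, hxz⟩ := exists_lift N hcov x
  have hzq : (z ^ k0) ^ q = 1 := by
    obtain ⟨c, hc⟩ := hk0a
    obtain ⟨e, he⟩ := hcard
    rw [← pow_mul, hc, show p ^ a * c * q = p ^ a * q * c by ring, he, mul_assoc, pow_mul,
      pow_card_eq_one', one_pow]
  have hax : α (z ^ k0) = α x := by
    have h1 : α z = α x := by
      conv_lhs => rw [show z = x * (x⁻¹ * z) by group]
      rw [map_mul, hαN ⟨_, hxz⟩, mul_one]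
    rw [map_pow, h1, pow_eq_of_modEq (hαq x) hk0q, pow_one]
  rw [← hax]
  refine Units.ext (eq_one_of_congr hM hpq (by
    rw [← Units.val_pow_eq_pow_val, hαq, Units.val_one]) ?_)
  have hint : IsIntegral ℤ ((α (z ^ k0) : ℂˣ) : ℂ) := IsIntegral.of_pow (Nat.pos_of_ne_zero hq0) (by
    rw [← Units.val_pow_eq_pow_val, hαq, Units.val_one]; exact isIntegral_one)
  have h1 := hψ.congr _ (C.pow_mem hz k0) hzq
  have h2 := hcanon.congr _ (C.pow_mem hz k0) hzq
  unfold Congr1 at h1 h2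
  rw [hα, hα 1, map_one, Units.val_one, one_mul] at h1
  have h3 := MemLocalIdeal.sub hM h1
    (MemLocalIdeal.mul_left hM (isIntegral_mem_lRing hM hint) h2)
  convert h3 using 1
  ring

end CfsgLib.PRationalExt
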