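import Cfsg.Agent.Lib.Characters.FrobSchur
import Cfsg.Agent.Lib.Characters.Induction
import Cfsg.Agent.Lib.Characters.Decomp
import Cfsg.Agent.Lib.Characters.Scalar

/-!
# Real constituents of a transitive permutation character
-/

set_option autoImplicit false

noncomputable section

namespace CfsgLib.PermReal

open Cfsg CfsgLib.Characters CfsgLib.FrobSchur
open scoped ComplexConjugate

variable {G : Type*} [Group G] [Fintype G]

/-- The Frobenius–Schur sum, written as in statements. -/
def nu (χ : G → ℂ) : ℂ := (Nat.card G : ℂ)⁻¹ * ∑ g : G, χ (g * g)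

open scoped Classical in
theorem indFun_one_eq (H : Subgroup G) (x : G) :
    indFun H (fun _ : H => (1 : ℂ)) x =
      (Nat.card H : ℂ)⁻¹ * ((Finset.univ.filter fun y : G => y⁻¹ * x * y ∈ H).card : ℂ) := by
  rw [indFun]
  congr 1
  rw [Finset.card_filter, Nat.cast_sum]
  refine Finset.sum_congr rfl fun y _ => ?_
  by_cases h : y⁻¹ * x * y ∈ H
  · rw [CfsgLib.Induction.extendByZero_mem H _ h, if_pos h, Nat.cast_one]
  · rw [CfsgLib.Induction.extendByZero_notMem H _ h, if_neg h, Nat.cast_zero]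

/-- If an irreducible character occurs in `(1_H)^G` then the core of `H` lies in its kernel. -/
theorem core_fixed (H : Subgroup G) [Fintype H] (χ : IrrCharacter G)
    (h : classInner (fun _ : H => (1 : ℂ)) (fun x : H => (χ : G → ℂ) x) ≠ 0) (g k : G)
    (hk : k ∈ H.normalCore) : (χ : G → ℂ) (g * k) = (χ : G → ℂ) g := by
  obtain ⟨c, n, ρ, hρ, rfl⟩ := χ
  show ρ.character (g * k) = ρ.character g
  let σ : Representation ℂ H (Fin n → ℂ) := ρ.comp H.subtype
  have hinv : Representation.invariants σ ≠ ⊥ := by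
    intro hbot
    apply h
    have : Invertible (Nat.card H : ℂ) := invertibleOfNonzero (Nat.cast_ne_zero.2 Nat.card_pos.ne')
    have h1 := Representation.card_inv_mul_sum_char_eq_finrank σ
    rw [hbot, finrank_bot, Nat.cast_zero] at h1
    show (Nat.card H : ℂ)⁻¹ * ∑ x : H, 1 * conj (ρ.character x) = 0
    rw [← h1]
    congr 1
    refine Fintype.sum_equiv (Equiv.inv H) _ _ fun x => ?_
    rw [one_mul, ← char_inv_eq_conj]
    rfl
  let W : Submodule ℂ (Fin n → ℂ) :=
    Representation.invariants (ρ.comp H.normalCore.subtype : Representation ℂ H.normalCore (Fin n → ℂ))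
  have hle : Representation.invariants σ ≤ W := by
    intro v hv k'
    exact hv ⟨k', Subgroup.normalCore_le H k'.2⟩
  have htop : W = ⊤ := by
    refine (CharScalar.eq_bot_or_eq_top ρ W ?_).resolve_left
      fun hb => hinv (le_bot_iff.1 (hb ▸ hle))
    intro a v hv k'
    show ρ (k' : G) (ρ a v) = ρ a v
    have hm : a⁻¹ * (k' : G) * a ∈ H.normalCore := by
      simpa using H.normalCore_normal.conj_mem _ k'.2 a⁻¹
    have h2 : ρ (a⁻¹ * (k' : G) * a) v = v := hv ⟨_, hm⟩
    calc ρ (k' : G) (ρ a v) = ρ (a * (a⁻¹ * (k' : G) * a)) v := by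
          rw [show a * (a⁻¹ * (k' : G) * a) = (k' : G) * a by group, map_mul]; rfl
      _ = ρ a v := by rw [map_mul, Module.End.mul_apply, h2]
  have hk1 : ρ k = 1 := LinearMap.ext fun v => by
    have : v ∈ W := by rw [htop]; exact Submodule.mem_top
    exact this ⟨k, hk⟩
  simp only [Representation.character, map_mul, hk1, mul_one]

/-- With odd index core, non-trivial constituents have indicator zero. -/
theorem nu_eq_zero_of_odd (K : Subgroup G) [K.Normal] (hK : Odd K.index) (χ : IrrCharacter G)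
    (hχ : (χ : G → ℂ) ≠ fun _ => 1) (hfix : ∀ g, ∀ k ∈ K, (χ : G → ℂ) (g * k) = (χ : G → ℂ) g) :
    nu (χ : G → ℂ) = 0 := by
  classical
  have h0 : ∑ g : G, (χ : G → ℂ) g = 0 := by
    have h := classInner_irr_ne (G := G) χ.2 isIrrCharacter_one hχ
    simpa [classInner] using h
  let f : G ⧸ K → ℂ := Quotient.lift (χ : G → ℂ) (by
    intro a b hab
    have := hfix a _ (QuotientGroup.leftRel_apply.1 hab)
    rwa [mul_inv_cancel_left, eq_comm] at this)
  have hfib : ∀ F : G ⧸ K → ℂ, ∑ g : G, F (g : G ⧸ K) = (Nat.card K : ℂ) * ∑ q, F q := by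
    intro F
    rw [← (Subgroup.groupEquivQuotientProdSubgroup (s := K)).symm.sum_comp, Fintype.sum_prod_type,
      Finset.mul_sum]
    refine Finset.sum_congr rfl fun q _ => ?_
    rw [Finset.sum_congr rfl (g := fun _ => F q) fun k _ => ?_, Finset.sum_const, Finset.card_univ,
      nsmul_eq_mul, Nat.card_eq_fintype_card]
    congr 1
    have h := (Subgroup.groupEquivQuotientProdSubgroup (s := K)).apply_symm_apply (q, k)
    exact congrArg Prod.fst h
  have hbij : Function.Bijective (fun q : G ⧸ K => q * q) := by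
    have := (Nat.Coprime.pow_left_bijective (G := G ⧸ K) (n := 2)
      (by rw [← Subgroup.index_eq_card]; exact Nat.coprime_two_right.2 hK))
    simpa [pow_two] using this
  rw [nu]
  have e1 : ∑ g : G, (χ : G → ℂ) (g * g) = ∑ g : G, (fun q => f (q * q)) (g : G ⧸ K) := rfl
  have e2 : ∑ g : G, (χ : G → ℂ) g = ∑ g : G, f (g : G ⧸ K) := rfl
  rw [e1, hfib (fun q => f (q * q)), Function.Bijective.sum_comp hbij f, ← hfib f, ← e2, h0,
    mul_zero]

/-- With even index core, some non-trivial constituent has indicator one. -/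
theorem exists_of_even (H : Subgroup G) [Fintype H] (hev : ¬ Odd H.normalCore.index) :
    ∃ χ : IrrCharacter G, (χ : G → ℂ) ≠ (fun _ => 1) ∧
      classInner (indFun H (fun _ : H => (1 : ℂ))) (χ : G → ℂ) ≠ 0 ∧ nu (χ : G → ℂ) = 1 := by
  classical
  set π := indFun H (fun _ : H => (1 : ℂ)) with hπ
  have hdec : π = ∑ χ : IrrCharacter G, classInner π (χ : G → ℂ) • (χ : G → ℂ) :=
    (classFunction_eq_sum (CfsgLib.Induction.isClassFunction_indFun H _))
  -- multiplicities
  have hm : ∀ χ : IrrCharacter G, ∃ m : ℕ, classInner π (χ : G → ℂ) = m := by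
    intro χ
    exact classInner_char_nat (CfsgLib.Induction.isCharacter_indFun H (isCharacter_one)) (irr_isCharacter χ)
  choose m hm using hm
  -- the lower bound
  let A : G → Finset G := fun g => Finset.univ.filter fun y : G => y⁻¹ * (g * g) * y ∈ H
  let B : G → Finset G := fun g => Finset.univ.filter fun y : G => y⁻¹ * g * y ∈ H
  have hBA : ∀ g, B g ⊆ A g := by
    intro g y hy
    simp only [A, B, Finset.mem_filter, Finset.mem_univ, true_and] at hy ⊢
    rw [show y⁻¹ * (g * g) * y = (y⁻¹ * g * y) * (y⁻¹ * g * y) by group]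
    exact mul_mem hy hy
  obtain ⟨g₀, y₀, hy₀A, hy₀B⟩ : ∃ g y, y ∈ A g ∧ y ∉ B g := by
    have hK : 2 ∣ Nat.card (G ⧸ H.normalCore) := by
      rw [← Subgroup.index_eq_card, ← even_iff_two_dvd, ← Nat.not_odd_iff_even]; exact hev
    obtain ⟨q, hq⟩ := exists_prime_orderOf_dvd_card' 2 hK
    induction q using QuotientGroup.induction_on with
    | _ g =>
      have hg2 : g * g ∈ H.normalCore := by
        rw [← QuotientGroup.eq_one_iff, QuotientGroup.mk_mul]
        have := pow_orderOf_eq_one (g : G ⧸ H.normalCore)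
        rwa [hq, pow_two] at this
      have hg : g ∉ H.normalCore := by
        intro h
        rw [(QuotientGroup.eq_one_iff g).2 h, orderOf_one] at hq
        norm_num at hq
      obtain ⟨y, hy⟩ := not_forall.1 hg
      refine ⟨g, y⁻¹, Finset.mem_filter.2 ⟨Finset.mem_univ _, ?_⟩, fun h => hy ?_⟩
      · rw [inv_inv]; exact hg2 y
      · have := (Finset.mem_filter.1 h).2
        rwa [inv_inv] at this
  have hlt : ∑ g : G, (B g).card < ∑ g : G, (A g).card := by
    refine Finset.sum_lt_sum (fun g _ => Finset.card_le_card (hBA g)) ⟨g₀, Finset.mem_univ _, ?_⟩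
    exact Finset.card_lt_card ⟨hBA g₀, fun h => hy₀B (h hy₀A)⟩
  have hB : ((∑ g : G, (B g).card : ℕ) : ℂ) = (Nat.card H : ℂ) * Nat.card G := by
    have e : ∀ g, ((B g).card : ℂ) = (Nat.card H : ℂ) * π g := by
      intro g
      rw [hπ, indFun_one_eq, ← mul_assoc, mul_inv_cancel₀ (Nat.cast_ne_zero.2 Nat.card_pos.ne'),
        one_mul]
    rw [Nat.cast_sum, Finset.sum_congr rfl fun g _ => e g, ← Finset.mul_sum]
    congr 1
    have h1 := CfsgLib.Induction.classInner_indFun (H := H) (fun _ : H => (1 : ℂ))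
      (ψ := fun _ : G => (1 : ℂ)) (fun _ _ => rfl)
    rw [← hπ] at h1
    simp [classInner] at h1
    rw [Nat.card_eq_fintype_card]
    field_simp at h1
    linear_combination h1
  have hsum : ∑ χ : IrrCharacter G, (m χ : ℂ) * nu (χ : G → ℂ) =
      (Nat.card G : ℂ)⁻¹ * ((Nat.card H : ℂ)⁻¹ * ((∑ g : G, (A g).card : ℕ) : ℂ)) := by
    rw [Nat.cast_sum, Finset.mul_sum (a := (Nat.card H : ℂ)⁻¹)]
    have e : ∀ g, (Nat.card H : ℂ)⁻¹ * ((A g).card : ℂ) = π (g * g) := by
      intro g; rw [hπ, indFun_one_eq]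
    rw [Finset.sum_congr rfl fun g _ => e g]
    conv_rhs => rw [hdec]
    simp only [Finset.sum_apply, Pi.smul_apply, smul_eq_mul, hm, nu, Finset.mul_sum]
    rw [Finset.sum_comm]
    refine Finset.sum_congr rfl fun g _ => Finset.sum_congr rfl fun χ _ => ?_
    ring
  by_contra hno
  simp only [not_exists, not_and] at hno
  let one : IrrCharacter G := ⟨fun _ => 1, isIrrCharacter_one⟩
  have hm1 : m one = 1 := by
    have h1 := CfsgLib.Induction.classInner_indFun (H := H) (fun _ : H => (1 : ℂ))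
      (ψ := fun _ : G => (1 : ℂ)) (fun _ _ => rfl)
    rw [← hπ] at h1
    have h2 := hm one
    rw [show ((one : IrrCharacter G) : G → ℂ) = fun _ => (1 : ℂ) from rfl, h1] at h2
    have h3 : classInner (fun _ : H => (1 : ℂ)) (fun _ : H => (1 : ℂ)) = 1 := by
      simp [classInner]
    rw [h3] at h2
    exact_mod_cast h2.symm
  have hnu : ∀ χ : IrrCharacter G, χ ≠ one → ∃ r : ℕ, (m χ : ℂ) * nu (χ : G → ℂ) = -(r : ℂ) := by
    intro χ hχ
    have hne : (χ : G → ℂ) ≠ fun _ => 1 := fun h => hχ (Subtype.ext h)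
    by_cases h0 : m χ = 0
    · exact ⟨0, by simp [h0]⟩
    · have hfs : nu (χ : G → ℂ) = fsInd (χ : G → ℂ) := (fsInd_eq_sum _).symm
      have h1 := hno χ hne (by rw [hm]; exact_mod_cast h0)
      rw [hfs] at h1 ⊢
      rcases fsInd_cases χ.2 with ⟨-, h | h⟩ | ⟨-, h⟩
      · exact absurd h h1
      · exact ⟨m χ, by rw [h]; ring⟩
      · exact ⟨0, by rw [h]; simp⟩
  choose! r hr using hnu
  have hnu1 : nu (one : G → ℂ) = 1 := by simp [nu, one]
  rw [← Finset.add_sum_erase _ _ (Finset.mem_univ one), hm1, hnu1,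
    Finset.sum_congr rfl fun χ hχ => hr χ (Finset.mem_erase.1 hχ).1, Finset.sum_neg_distrib,
    ← Nat.cast_sum] at hsum
  have hH : (Nat.card H : ℂ) ≠ 0 := Nat.cast_ne_zero.2 Nat.card_pos.ne'
  have hG : (Nat.card G : ℂ) ≠ 0 := Nat.cast_ne_zero.2 Nat.card_pos.ne'
  set R := ∑ χ ∈ Finset.univ.erase one, r χ with hR
  have h5 : ((∑ g : G, (A g).card : ℕ) : ℂ) + (R : ℂ) * (Nat.card H * Nat.card G : ℕ) =
      ((∑ g : G, (B g).card : ℕ) : ℂ) := by
    rw [hB, Nat.cast_mul]
    field_simp at hsum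
    linear_combination -hsum
  norm_cast at h5
  omega

end CfsgLib.PermReal
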