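import Cfsg.Agent.S0106
import Cfsg.Agent.Lib.Transfer.NormalComplement

/-!
# Fusion in the normalizer of a quaternion Sylow subgroup of order 8
-/

set_option autoImplicit false
set_option linter.style.haveILetI false

namespace CfsgLib.Blocks

open Cfsg

theorem q8_pow_four : ∀ q : QuaternionGroup 2, q ^ 4 = 1 := by decide +kernel

theorem q8_swap : ∀ u v : QuaternionGroup 2, u * u ≠ 1 → v * v ≠ 1 → v ≠ u → v ≠ u⁻¹ →
    v * u = (u * v)⁻¹ := by decide +kernel

theorem q8_sq_le_two : Fintype.card {q : QuaternionGroup 2 // q * q = 1} ≤ 2 := by decide +kernel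

/-- An automorphism of odd order fixing a pair of elements of order four is trivial. -/
theorem q8_aut_eq_one {σ : MulAut (QuaternionGroup 2)} {k : ℕ} (hk : Odd k) (hσ : σ ^ k = 1)
    {u : QuaternionGroup 2} (hu : u * u ≠ 1) (hσu : σ u = u ∨ σ u = u⁻¹) : σ = 1 := by
  obtain ⟨l, rfl⟩ := hk
  have hfix : σ u = u := by
    rcases hσu with h | h
    · exact h
    · have h2 : (σ ^ 2) u = u := by rw [pow_two, MulAut.mul_apply, h, map_inv, h, inv_inv]
      have h3 : ∀ i : ℕ, ((σ ^ 2) ^ i) u = u := by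
        intro i
        induction i with
        | zero => simp
        | succ i ih => rw [pow_succ, MulAut.mul_apply, h2, ih]
      have := DFunLike.congr_fun hσ u
      rw [pow_succ', pow_mul, MulAut.mul_apply, h3, MulAut.one_apply] at this
      exact this
  have hfixv : ∀ v : QuaternionGroup 2, v * v ≠ 1 → σ v = v := by
    intro v hv
    rcases eq_or_ne v u with rfl | h1
    · exact hfix
    rcases eq_or_ne v u⁻¹ with rfl | h2
    · rw [map_inv, hfix]
    obtain ⟨a, b, hab⟩ := (Cfsg.Agent.S0106.q8_pair u v hu hv h1 h2).2.2.2 (σ v)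
    fin_cases b
    · simp only [pow_zero, mul_one] at hab
      have : v = u ^ a.val := σ.injective (by rw [hab, map_pow, hfix])
      rw [this, map_pow, hfix]
    · simp only [pow_one] at hab
      have hit : ∀ i : ℕ, (σ ^ i) v = (u ^ a.val) ^ i * v := by
        intro i
        induction i with
        | zero => simp
        | succ i ih =>
          rw [pow_succ', MulAut.mul_apply, ih, map_mul, map_pow, map_pow, hfix, hab, ← mul_assoc,
            ← pow_succ]
      have h := hit (2 * l + 1)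
      rw [hσ, MulAut.one_apply] at h
      replace h : (u ^ a.val) ^ (2 * l + 1) = 1 := mul_right_cancel (b := v) (by rw [one_mul]; exact h.symm)
      have h4 : (u ^ a.val) ^ 4 = 1 := q8_pow_four _
      have hg := (pow_gcd_eq_one (a := u ^ a.val)).2 ⟨h, h4⟩
      have hc : Nat.gcd (2 * l + 1) 4 = 1 := by
        show Nat.Coprime (2 * l + 1) (2 ^ 2)
        exact Nat.Coprime.pow_right 2 (Nat.coprime_two_right.2 ⟨l, rfl⟩)
      rw [hc, pow_one] at hg
      rw [hab, hg, one_mul]
  refine MulEquiv.ext fun g => ?_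
  obtain ⟨a, b, rfl⟩ := (Cfsg.Agent.S0106.q8_pair (QuaternionGroup.a 1) (QuaternionGroup.xa 0)
    (by decide) (by decide) (by decide) (by decide)).2.2.2 g
  rw [map_mul, map_pow, map_pow, hfixv _ (by decide), hfixv _ (by decide), MulAut.one_apply]

/-- A nontrivial automorphism of odd order is transitive on the pairs of elements of order four. -/
theorem q8_aut_transitive {σ : MulAut (QuaternionGroup 2)} {k : ℕ} (hk : Odd k) (hσ : σ ^ k = 1)
    (hne : σ ≠ 1) {u w : QuaternionGroup 2} (hu : u * u ≠ 1) (hw : w * w ≠ 1) :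
    ∃ i : ℕ, (σ ^ i) u = w ∨ (σ ^ i) u = w⁻¹ := by
  have sq_ne : ∀ x, x * x ≠ 1 → σ x * σ x ≠ 1 := fun x hx h =>
    hx (σ.injective (by rw [map_mul, h, map_one]))
  have hmove : ∀ x, x * x ≠ 1 → σ x ≠ x ∧ σ x ≠ x⁻¹ := fun x hx =>
    ⟨fun h => hne (q8_aut_eq_one hk hσ hx (Or.inl h)),
      fun h => hne (q8_aut_eq_one hk hσ hx (Or.inr h))⟩
  have hne2 : σ ^ 2 ≠ 1 := by
    intro h
    obtain ⟨l, rfl⟩ := hk
    rw [pow_succ, pow_mul, h, one_pow, one_mul] at hσ
    exact hne hσ
  have hσ2 : (σ ^ 2) ^ k = 1 := by rw [← pow_mul, mul_comm, pow_mul, hσ, one_pow]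
  set v := σ u with hv
  set t := σ v with ht
  obtain ⟨h1, h2⟩ := hmove u hu
  obtain ⟨h3, h4⟩ := hmove v (sq_ne u hu)
  have h5 : t ≠ u := fun h => hne2 (q8_aut_eq_one hk hσ2 hu (Or.inl (by
    rw [pow_two, MulAut.mul_apply]; exact h)))
  have h6 : t ≠ u⁻¹ := fun h => hne2 (q8_aut_eq_one hk hσ2 hu (Or.inr (by
    rw [pow_two, MulAut.mul_apply]; exact h)))
  have e2 : (σ ^ 2) u = t := by rw [pow_two, MulAut.mul_apply]
  rcases eq_or_ne w u with rfl | w1
  · exact ⟨0, Or.inl (by simp)⟩
  rcases eq_or_ne w u⁻¹ with rfl | w2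
  · exact ⟨0, Or.inr (by simp)⟩
  rcases eq_or_ne w v with rfl | w3
  · exact ⟨1, Or.inl (by rw [pow_one])⟩
  rcases eq_or_ne w v⁻¹ with rfl | w4
  · exact ⟨1, Or.inr (by rw [pow_one, inv_inv])⟩
  have hsw := q8_swap u v hu (sq_ne u hu) h1 h2
  refine ⟨2, ?_⟩
  rw [e2]
  rcases Cfsg.Agent.S0106.q8_third u v t hu (sq_ne u hu) h1 h2 (sq_ne v (sq_ne u hu)) h5 h6 h3 h4
    with a | a <;>
  rcases Cfsg.Agent.S0106.q8_third u v w hu (sq_ne u hu) h1 h2 hw w1 w2 w3 w4 with b | b <;>
  simp [a, b, hsw]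

variable {G : Type*} [Group G] [Finite G]

/-- A nontrivial element of odd order in the automiser of a quaternion Sylow subgroup. -/
theorem exists_odd_automizer (S : Sylow 2 G) (e : (S : Subgroup G) ≃* QuaternionGroup 2)
    (hnc : ∀ N : Subgroup G, N.Normal → ¬ Subgroup.IsComplement' N (S : Subgroup G)) :
    ∃ g ∈ Subgroup.normalizer ((S : Subgroup G) : Set G), Odd (orderOf g) ∧
      g ∉ Subgroup.centralizer ((S : Subgroup G) : Set G) := by
  by_contra! hcon
  have hF : CfsgLib.Transfer.FrobeniusCond 2 G := by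
    refine CfsgLib.Transfer.frobeniusCond_of_le_sylow S fun Q hQ g hg hcop => ?_
    have hodd : Odd (orderOf g) := Nat.coprime_two_right.1 hcop
    rcases eq_or_lt_of_le hQ with rfl | hlt
    · exact hcon g hg hodd
    let ι : Q →* QuaternionGroup 2 := e.toMonoidHom.comp (Subgroup.inclusion hQ)
    have hι : Function.Injective ι := e.injective.comp (Subgroup.inclusion_injective hQ)
    have hpair : ∀ x y : Q, ι x * ι x ≠ 1 → ι y * ι y ≠ 1 → y = x ∨ y = x⁻¹ := by
      intro x y hx hy
      by_contra! h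
      refine hlt.ne (le_antisymm hQ fun s hs => ?_)
      obtain ⟨a, b, hab⟩ := (Cfsg.Agent.S0106.q8_pair (ι x) (ι y) hx hy (fun h' => h.1 (hι h'))
        (fun h' => h.2 (hι (by rw [h', map_inv])))).2.2.2 (e ⟨s, hs⟩)
      have : (⟨s, hs⟩ : (S : Subgroup G)) = Subgroup.inclusion hQ (x ^ a.val * y ^ b.val) :=
        e.injective (by rw [hab]; simp [ι])
      rw [show s = ((Subgroup.inclusion hQ (x ^ a.val * y ^ b.val)) : G) from congrArg Subtype.val this]
      exact (x ^ a.val * y ^ b.val).2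
    rw [Subgroup.mem_centralizer_iff]
    intro q hq
    set φ := Q.normalizerMonoidHom ⟨g, hg⟩ with hφ
    obtain ⟨l, hl⟩ := hodd
    have hφp : φ ^ orderOf g = 1 := by
      rw [hφ, ← map_pow, show (⟨g, hg⟩ : Subgroup.normalizer (Q : Set G)) ^ orderOf g = 1 from
        Subtype.ext (pow_orderOf_eq_one g), map_one]
    suffices hfix : φ ⟨q, hq⟩ = ⟨q, hq⟩ by
      have h' : g * q * g⁻¹ = q := congrArg Subtype.val hfix
      exact (mul_inv_eq_iff_eq_mul.1 h').symm
    set x : Q := ⟨q, hq⟩
    have hsq : φ (φ x) = x := by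
      by_cases hx : ι x * ι x = 1
      · have hmem : ∀ y : Q, ι y * ι y = 1 → ι y = 1 ∨ ι y = QuaternionGroup.a 2 := fun y =>
          (by decide +kernel : ∀ q : QuaternionGroup 2, q * q = 1 → q = 1 ∨ q = QuaternionGroup.a 2) _
        have hx2 : x * x = 1 := hι (by rw [map_mul, hx, map_one])
        have hφx : ι (φ x) * ι (φ x) = 1 := by rw [← map_mul, ← map_mul, hx2, map_one, map_one]
        rcases hmem x hx with h1 | h1
        · have : x = 1 := hι (by rw [h1, map_one])
          rw [this, map_one, map_one]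
        · rcases hmem _ hφx with h2 | h2
          · have : φ x = 1 := hι (by rw [h2, map_one])
            have hx1 : x = 1 := φ.injective (by rw [this, map_one])
            rw [hx1, map_one, map_one]
          · have : φ x = x := hι (h2.trans h1.symm)
            rw [this, this]
      · have hφx : ι (φ x) * ι (φ x) ≠ 1 := fun h => hx (by
          have h2 : φ (x * x) = 1 := hι (by rw [map_mul φ, map_mul ι, h, map_one])
          rw [← map_mul, φ.injective (h2.trans (map_one φ).symm), map_one])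
        rcases hpair x (φ x) hx hφx with h | h
        · rw [h, h]
        · rw [h, map_inv, h, inv_inv]
    have hev : ∀ i : ℕ, ((φ ^ 2) ^ i) x = x := by
      intro i
      induction i with
      | zero => simp
      | succ i ih => rw [pow_succ, MulAut.mul_apply, pow_two, MulAut.mul_apply, hsq, ← pow_two, ih]
    have := DFunLike.congr_fun hφp x
    rw [hl, pow_succ', pow_mul, MulAut.mul_apply, hev, MulAut.one_apply] at this
    exact this
  obtain ⟨P, N, hN, hc⟩ := CfsgLib.Transfer.hasNormalPComplement_of_frobeniusCond hF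
  haveI := hN
  have hnd := (CfsgLib.Transfer.eq_pResidual_of_isComplement' P N hc).2
  refine hnc N hN (CfsgLib.Transfer.isComplement'_of_coprime N hnd ?_ S)
  refine IsPGroup.of_card (n := (Nat.card G).factorization 2) ?_
  rw [← Subgroup.index_eq_card, hc.symm.index_eq_card, P.card_eq_multiplicity]

/-- The subgroups of order 4 are conjugate in the normalizer. -/
theorem q8_subgroups_conj (S : Sylow 2 G) (e : (S : Subgroup G) ≃* QuaternionGroup 2)
    (hnc : ∀ N : Subgroup G, N.Normal → ¬ Subgroup.IsComplement' N (S : Subgroup G))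
    (A B : Subgroup G) (hA : A ≤ S) (hB : B ≤ S) (hA4 : Nat.card A = 4) (hB4 : Nat.card B = 4) :
    ∃ n ∈ Subgroup.normalizer ((S : Subgroup G) : Set G),
      B = A.map (MulAut.conj n).toMonoidHom := by
  obtain ⟨g, hg, hodd, hgC⟩ := exists_odd_automizer S e hnc
  have hgen : ∀ C : Subgroup G, ∀ hC : C ≤ (S : Subgroup G), Nat.card C = 4 →
      ∃ x : (S : Subgroup G), e x * e x ≠ 1 ∧ C = Subgroup.zpowers (x : G) := by
    intro C hC hC4
    obtain ⟨c, hc⟩ : ∃ c : C, e (Subgroup.inclusion hC c) * e (Subgroup.inclusion hC c) ≠ 1 := by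
      by_contra! h
      have := Nat.card_le_card_of_injective
        (fun c : C => (⟨e (Subgroup.inclusion hC c), h c⟩ : {q : QuaternionGroup 2 // q * q = 1}))
        fun a b hab => Subgroup.inclusion_injective hC (e.injective (congrArg Subtype.val hab))
      rw [hC4, Nat.card_eq_fintype_card] at this
      exact absurd (this.trans q8_sq_le_two) (by norm_num)
    refine ⟨Subgroup.inclusion hC c, hc, (Subgroup.eq_of_le_of_card_ge
      (Subgroup.zpowers_le.2 c.2) ?_).symm⟩
    rw [hC4, Nat.card_zpowers]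
    show 4 ≤ orderOf ((c : G))
    have h4 : (c : G) ^ 4 = 1 := by
      have h1 : (Subgroup.inclusion hC c) ^ 4 = 1 := e.injective (by rw [map_pow, q8_pow_four, map_one])
      exact congrArg Subtype.val h1
    have h2 : (c : G) ^ 2 ≠ 1 := fun h => hc (by
      rw [← map_mul, ← pow_two, show (Subgroup.inclusion hC c) ^ 2 = 1 from Subtype.ext h, map_one])
    have := orderOf_eq_prime_pow (p := 2) (n := 1) (x := (c : G)) (by rw [pow_one]; exact h2) h4
    rw [this]
    norm_num
  obtain ⟨x, hx, rfl⟩ := hgen A hA hA4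
  obtain ⟨y, hy, rfl⟩ := hgen B hB hB4
  set φ := (S : Subgroup G).normalizerMonoidHom ⟨g, hg⟩ with hφ
  set σ : MulAut (QuaternionGroup 2) := MulAut.congr e φ with hσdef
  have hφp : φ ^ orderOf g = 1 := by
    rw [hφ, ← map_pow, show (⟨g, hg⟩ : Subgroup.normalizer ((S : Subgroup G) : Set G)) ^ orderOf g = 1
      from Subtype.ext (pow_orderOf_eq_one g), map_one]
  have hσp : σ ^ orderOf g = 1 := by rw [hσdef, ← map_pow, hφp, map_one]
  have hσ1 : σ ≠ 1 := by
    intro h
    refine hgC (Subgroup.mem_centralizer_iff.2 fun s hs => ?_)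
    have h1 : φ = 1 := (MulAut.congr e).injective (h.trans (map_one _).symm)
    have h3 := DFunLike.congr_fun h1 (⟨s, hs⟩ : (S : Subgroup G))
    have h2 : g * s * g⁻¹ = s := congrArg Subtype.val h3
    exact (mul_inv_eq_iff_eq_mul.1 h2).symm
  obtain ⟨i, hi⟩ := q8_aut_transitive hodd hσp hσ1 hx hy
  refine ⟨g ^ i, pow_mem hg i, ?_⟩
  have hstep : (σ ^ i) (e x) = e ((φ ^ i) x) := by
    rw [hσdef, ← map_pow]
    simp [MulAut.congr]
  rw [hstep] at hi
  have hval : (((φ ^ i) x : (S : Subgroup G)) : G) = g ^ i * x * (g ^ i)⁻¹ := by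
    rw [hφ, ← map_pow]
    rfl
  rw [MonoidHom.map_zpowers]
  show _ = Subgroup.zpowers (g ^ i * (x : G) * (g ^ i)⁻¹)
  rw [← hval]
  rcases hi with h | h
  · rw [e.injective h]
  · rw [e.injective (h.trans (map_inv e y).symm)]
    simp [Subgroup.zpowers_inv]

end CfsgLib.Blocks
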