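import Cfsg.Agent.Lib.Blocks.IntegralForm
import Mathlib.GroupTheory.PGroup
import Mathlib.GroupTheory.Sylow
import Mathlib.GroupTheory.GroupAction.Quotient
import Mathlib.RingTheory.Finiteness.Cardinality
import Mathlib.Algebra.Field.ZMod
import Mathlib.Algebra.Algebra.ZMod
import Mathlib.FieldTheory.Finiteness
import Mathlib.RepresentationTheory.Invariants

/-!
# Fixed points over a TI Sylow normalizer

If a Sylow `p`-subgroup `P` of a finite group `G` is a TI subgroup, `N_G(P) ≤ H`, and a complex
representation of `G` of dimension at most `#P` has a non-zero fixed vector, then every vector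
fixed by `H` is fixed by `G`.
-/

set_option autoImplicit false

noncomputable section

open scoped Pointwise

namespace CfsgLib.RelativeTrace

open IsLocalRing

/-- The free orbit lemma: an equivariant function on a finite free `P`-set sums to a full trace. -/
theorem exists_trace_of_free {P S : Type*} [Group P] [Fintype P] [MulAction P S] [Fintype S]
    {V : Type*} [AddCommMonoid V] (T : P → V → V)
    (hT0 : ∀ u, T u 0 = 0) (hTadd : ∀ u v w, T u (v + w) = T u v + T u w)
    (hfree : ∀ (u : P) (s : S), u • s = s → u = 1)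
    (f : S → V) (hf : ∀ (u : P) (s : S), f (u • s) = T u (f s)) :
    ∃ w : V, ∑ s, f s = ∑ u, T u w := by
  classical
  let Q := MulAction.orbitRel.Quotient P S
  let r : Q → S := Quotient.out
  have hb : Function.Bijective (fun x : P × Q => x.1 • r x.2) := by
    constructor
    · rintro ⟨u, q⟩ ⟨u', q'⟩ h
      simp only at h
      have hq : q = q' := by
        rw [← Quotient.out_eq q, ← Quotient.out_eq q']
        apply Quotient.sound
        refine MulAction.orbitRel_apply.2 ⟨u⁻¹ * u', ?_⟩
        show (u⁻¹ * u') • r q' = r q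
        rw [mul_smul, ← h, inv_smul_smul]
      subst hq
      have : u'⁻¹ * u = 1 := hfree _ (r q) (by rw [mul_smul, h, inv_smul_smul])
      rw [inv_mul_eq_one.1 this]
    · intro s
      obtain ⟨u, hu⟩ : s ∈ MulAction.orbit P (r (Quotient.mk (MulAction.orbitRel P S) s)) :=
        MulAction.orbitRel_apply.1
          ((MulAction.orbitRel P S).symm (Quotient.exact (Quotient.out_eq (Quotient.mk (MulAction.orbitRel P S) s))))
      exact ⟨(u, _), hu⟩
  let hom : P → (V →+ V) := fun u => ⟨⟨T u, hT0 u⟩, hTadd u⟩
  refine ⟨∑ q, f (r q), ?_⟩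
  rw [← Equiv.sum_comp (Equiv.ofBijective _ hb), Fintype.sum_prod_type]
  refine Finset.sum_congr rfl fun u _ => ?_
  simp only [Equiv.ofBijective_apply, hf]
  exact (map_sum (hom u) (fun q => f (r q)) Finset.univ).symm

/-- In characteristic `p`, a non-zero trace vector of a finite `p`-group spans a regular module:
if `∑ u, u • w ≠ 0` then the module has dimension at least `#P`, and in case of equality its
fixed vectors form a line. -/
theorem regular_of_trace_ne_zero {P : Type*} [Group P] [Fintype P] {p : ℕ} [Fact p.Prime]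
    (hP : IsPGroup p P) {k : Type*} [Field k] [CharP k p] {V : Type*} [AddCommGroup V]
    [Module k V] [FiniteDimensional k V] (T : Representation k P V) (w : V)
    (hw : ∑ u, T u w ≠ 0) :
    Fintype.card P ≤ Module.finrank k V ∧
      (Module.finrank k V = Fintype.card P →
        ∀ v, (∀ u, T u v = v) → ∃ c : k, v = c • ∑ u, T u w) := by
  classical
  let φ : (P → k) →ₗ[k] V := Fintype.linearCombination k (fun u => T u w)
  have hφ : ∀ a, φ a = ∑ u, a u • T u w := fun a => Fintype.linearCombination_apply k _ a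
  have hequiv : ∀ (x : P) a, φ (fun u => a (x⁻¹ * u)) = T x (φ a) := by
    intro x a
    rw [hφ, hφ, map_sum]
    rw [← Equiv.sum_comp (Equiv.mulLeft x)]
    simp [map_smul]
  have hinj : Function.Injective φ := by
    rw [injective_iff_map_eq_zero]
    intro a ha
    by_contra hne
    let : Algebra (ZMod p) k := ZMod.algebra k p
    let sh : P → P → k := fun x u => a (x⁻¹ * u)
    let S : Submodule (ZMod p) (P → k) := Submodule.span (ZMod p) (Set.range sh)
    have hSker : ∀ s ∈ S, φ s = 0 := by
      intro s hs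
      induction hs using Submodule.span_induction with
      | mem x hx => obtain ⟨x, rfl⟩ := hx; rw [hequiv, ha, map_zero]
      | zero => simp
      | add x y _ _ hx hy => rw [map_add, hx, hy, add_zero]
      | smul c x _ hx =>
          rw [← algebraMap_smul k c x, map_smul, hx, smul_zero]
    have : Module.Finite (ZMod p) S :=
      Module.Finite.span_of_finite _ (Set.finite_range sh)
    have hfin : Finite S := Module.finite_of_finite (ZMod p)
    let : Fintype S := Fintype.ofFinite S
    have hmem : ∀ (x : P) (s : S), (fun u => (s : P → k) (x⁻¹ * u)) ∈ S := by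
      rintro x ⟨s, hs⟩
      induction hs using Submodule.span_induction with
      | mem y hy =>
          obtain ⟨y, rfl⟩ := hy
          exact Submodule.subset_span ⟨x * y, by funext u; simp [sh, mul_assoc]⟩
      | zero => exact S.zero_mem
      | add y z _ _ hy hz => exact S.add_mem hy hz
      | smul c y _ hy => exact S.smul_mem c hy
    let : MulAction P S :=
      { smul := fun x s => ⟨_, hmem x s⟩
        one_smul := fun s => Subtype.ext (by funext u; show (s : P → k) (1⁻¹ * u) = _; simp)
        mul_smul := fun x y s => Subtype.ext (by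
          funext u; show (s : P → k) ((x * y)⁻¹ * u) = (s : P → k) (y⁻¹ * (x⁻¹ * u))
          simp [mul_assoc]) }
    have hdvd : p ∣ Nat.card S := by
      have hne' : (⟨a, Submodule.subset_span ⟨1, by simp [sh]⟩⟩ : S) ≠ 0 := by
        intro h; exact hne (congrArg Subtype.val h)
      have : Nontrivial S := ⟨⟨_, _, hne'⟩⟩
      rw [Module.natCard_eq_pow_finrank (K := ZMod p), Nat.card_zmod]
      exact dvd_pow_self _ Module.finrank_pos.ne'
    obtain ⟨s, hs, hs0⟩ := hP.exists_fixed_point_of_prime_dvd_card_of_fixed_point S hdvd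
      (a := (0 : S)) (fun x => Subtype.ext (by funext u; rfl))
    have hconst : ∀ u, (s : P → k) u = (s : P → k) 1 := by
      intro u
      have h := congrFun (congrArg Subtype.val (hs u)) u
      rw [← h]
      show (s : P → k) (u⁻¹ * u) = _
      simp
    have h2 : φ (s : P → k) = (s : P → k) 1 • ∑ u, T u w := by
      rw [hφ, Finset.smul_sum]
      exact Finset.sum_congr rfl fun u _ => by rw [hconst u]
    rw [hSker _ s.2, eq_comm, smul_eq_zero] at h2
    rcases h2 with h2 | h2
    · exact hs0.symm (Subtype.ext (funext fun u => (hconst u).trans h2))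
    · exact hw h2
  have hle := LinearMap.finrank_le_finrank_of_injective hinj
  rw [Module.finrank_pi] at hle
  refine ⟨hle, fun heq v hv => ?_⟩
  have hsurj : Function.Surjective φ :=
    (LinearMap.injective_iff_surjective_of_finrank_eq_finrank
      (by rw [Module.finrank_pi, heq])).1 hinj
  obtain ⟨a, rfl⟩ := hsurj v
  refine ⟨a 1, ?_⟩
  rw [hφ a, Finset.smul_sum]
  refine Finset.sum_congr rfl fun u _ => ?_
  have h := congrFun (hinj ((hequiv u a).trans (hv u))) u
  simp only [inv_mul_cancel] at h
  rw [← h]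

/-- For a TI Sylow subgroup `P` and `N_G(P) ≤ H`, the subgroup `P` acts freely on `G/H` away from
the trivial coset. -/
theorem free_on_cosets {G : Type*} [Group G] [Finite G] {p : ℕ} [Fact p.Prime] (P : Sylow p G)
    (hTI : ∀ g : G, g ∉ Subgroup.normalizer ((P : Subgroup G) : Set G) →
      (P : Subgroup G) ⊓ (MulAut.conj g • (P : Subgroup G)) = ⊥)
    {H : Subgroup G} (hH : Subgroup.normalizer ((P : Subgroup G) : Set G) ≤ H) {g : G}
    (hg : g ∉ H) {u : G} (hu : u ∈ (P : Subgroup G)) (hug : g⁻¹ * u * g ∈ H) : u = 1 := by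
  have hPH : (P : Subgroup G) ≤ H := Subgroup.le_normalizer.trans hH
  let Q : Sylow p H := P.subtype hPH
  let x : H := ⟨g⁻¹ * u * g, hug⟩
  obtain ⟨k, hk⟩ := IsPGroup.iff_orderOf.1 P.2 ⟨u, hu⟩
  have hxord : orderOf x = p ^ k := by
    rw [← hk]
    have h1 : orderOf x = orderOf (g⁻¹ * u * g) :=
      (orderOf_injective H.subtype Subtype.val_injective x).symm
    rw [h1]
    have h2 : g⁻¹ * u * g = MulAut.conj g⁻¹ u := by simp
    rw [h2, MulEquiv.orderOf_eq]
    exact orderOf_injective (P : Subgroup G).subtype Subtype.val_injective ⟨u, hu⟩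
  have hxP : IsPGroup p (Subgroup.zpowers x) :=
    IsPGroup.of_card (n := k) (by rw [Nat.card_zpowers, hxord])
  obtain ⟨R, hR⟩ := hxP.exists_le_sylow
  obtain ⟨h, hh⟩ := MulAction.exists_smul_eq H Q R
  have hxR : x ∈ (R : Subgroup H) := hR (Subgroup.mem_zpowers x)
  rw [← hh, Sylow.coe_subgroup_smul, Subgroup.mem_smul_pointwise_iff_exists] at hxR
  obtain ⟨y, hy, hyx⟩ := hxR
  have hyP : (y : G) ∈ (P : Subgroup G) := hy
  have hyval : (h : G) * y * (h : G)⁻¹ = g⁻¹ * u * g := congrArg Subtype.val hyx
  have hgh : g * (h : G) ∉ Subgroup.normalizer ((P : Subgroup G) : Set G) := by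
    intro hn
    exact hg ((Subgroup.mul_mem_cancel_right H h.2).1 (hH hn))
  have hmem : u ∈ (P : Subgroup G) ⊓ (MulAut.conj (g * (h : G)) • (P : Subgroup G)) := by
    refine ⟨hu, (Subgroup.mem_smul_pointwise_iff_exists _ _ _).2 ⟨y, hyP, ?_⟩⟩
    show g * (h : G) * y * (g * (h : G))⁻¹ = u
    rw [mul_inv_rev]
    calc g * (h : G) * y * ((h : G)⁻¹ * g⁻¹) = g * ((h : G) * y * (h : G)⁻¹) * g⁻¹ := by group
      _ = u := by rw [hyval]; group
  rw [hTI _ hgh] at hmem
  exact hmem

/-- Choose an integral multiple of a non-zero vector having some coordinate equal to `1`. -/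
theorem exists_primitive {N : ℕ} (O : ValuationSubring ℂ) (v : Fin N → ℂ) (hv : v ≠ 0) :
    ∃ (c : ℂ) (i : Fin N) (z : Fin N → O), c ≠ 0 ∧ z i = 1 ∧ v = c • (fun j => (z j : ℂ)) := by
  classical
  obtain ⟨j₀, hj₀⟩ := Function.ne_iff.1 hv
  obtain ⟨i, -, hi⟩ := Finset.exists_max_image (Finset.univ : Finset (Fin N))
    (fun j => O.valuation (v j)) ⟨j₀, Finset.mem_univ _⟩
  have hvi : v i ≠ 0 := by
    intro h
    have h1 := hi j₀ (Finset.mem_univ _)
    simp only [h, map_zero, le_zero_iff, map_eq_zero] at h1
    exact hj₀ h1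
  refine ⟨v i, i, fun j => ⟨v j / v i, ?_⟩, hvi, Subtype.ext (div_self hvi), ?_⟩
  · rw [← ValuationSubring.valuation_le_one_iff, map_div₀,
      div_le_one₀ (pos_iff_ne_zero.2 ((map_ne_zero _).2 hvi))]
    exact hi j (Finset.mem_univ _)
  · funext j
    simp [mul_div_cancel₀ _ hvi]

section Main

variable {G : Type*} [Group G] [Finite G] {p : ℕ} [Fact p.Prime]

/-- Coordinate form of `fixed_of_overgroup`. -/
theorem not_linearIndependent_fixed (O : ValuationSubring ℂ) (hpO : (p : O) ∈ maximalIdeal O)
    (P : Sylow p G)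
    (hTI : ∀ g : G, g ∉ Subgroup.normalizer ((P : Subgroup G) : Set G) →
      (P : Subgroup G) ⊓ (MulAut.conj g • (P : Subgroup G)) = ⊥)
    (H : Subgroup G) (hH : Subgroup.normalizer ((P : Subgroup G) : Set G) ≤ H)
    {N : ℕ} (R : G →* Matrix (Fin N) (Fin N) O) (hN : N ≤ Nat.card (P : Subgroup G))
    (e y : Fin N → ℂ)
    (he : ∀ u ∈ H, Matrix.mulVec ((R u).map fun a : O => (a : ℂ)) e = e)
    (hy : ∀ u ∈ H, Matrix.mulVec ((R u).map fun a : O => (a : ℂ)) y = y)
    (hsum : ∀ [Fintype G], ∑ g : G, Matrix.mulVec ((R g).map fun a : O => (a : ℂ)) y = 0)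
    (hy0 : y ≠ 0) : ∃ c : ℂ, e = c • y := by
  classical
  let := Fintype.ofFinite G
  let ι : (Fin N → O) → (Fin N → ℂ) := fun v j => (v j : ℂ)
  have hι : Function.Injective ι := fun a b h => funext fun j => Subtype.ext (congrFun h j)
  have hιmul : ∀ g v, ι ((R g).mulVec v) = ((R g).map fun a : O => (a : ℂ)).mulVec (ι v) := by
    intro g v; funext j
    exact RingHom.map_mulVec O.subtype (R g) v j
  obtain ⟨c, i, z, hc, hzi, hyz⟩ := exists_primitive O y hy0
  have hz : ∀ u ∈ H, (R u).mulVec z = z := by
    intro u hu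
    apply hι
    rw [hιmul]
    have h1 := hy u hu
    rw [hyz, Matrix.mulVec_smul] at h1
    exact smul_right_injective _ hc h1
  have hzsum : ∑ g : G, (R g).mulVec z = 0 := by
    apply hι
    have h1 := @hsum _
    rw [hyz] at h1
    simp only [Matrix.mulVec_smul, ← Finset.smul_sum] at h1
    have h2 := (smul_eq_zero.1 h1).resolve_left hc
    have h3 : ι (∑ g : G, (R g).mulVec z) = ∑ g : G, ι ((R g).mulVec z) := by
      funext j; simp [ι, Finset.sum_apply]
    rw [h3]
    simp only [hιmul]
    rw [h2]; funext j; simp [ι]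
  have hPH : (P : Subgroup G) ≤ H := Subgroup.le_normalizer.trans hH
  -- the function on cosets
  let f : G ⧸ H → (Fin N → O) := Quotient.lift (fun g => (R g).mulVec z) (by
    intro a b hab
    have hm : a⁻¹ * b ∈ H := QuotientGroup.leftRel_apply.1 hab
    calc (R a).mulVec z = (R a).mulVec ((R (a⁻¹ * b)).mulVec z) := by rw [hz _ hm]
      _ = (R b).mulVec z := by rw [Matrix.mulVec_mulVec, ← map_mul, mul_inv_cancel_left])
  have hf : ∀ g : G, f (g : G ⧸ H) = (R g).mulVec z := fun g => rfl
  let := Fintype.ofFinite (G ⧸ H)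
  have hfs : ∀ (u : G) (C : G ⧸ H), f (u • C) = (R u).mulVec (f C) := by
    intro u C
    induction C using QuotientGroup.induction_on with
    | _ g =>
      show f ((u * g : G) : G ⧸ H) = _
      rw [hf, hf, Matrix.mulVec_mulVec, map_mul]
  have hfsum : ∑ C : G ⧸ H, f C = 0 := by
    have e1 : ∀ C : G ⧸ H, (Finset.univ.filter fun g : G => (g : G ⧸ H) = C).card = Nat.card H := by
      intro C
      induction C using QuotientGroup.induction_on with
      | _ g =>
        rw [Nat.card_eq_fintype_card, ← Fintype.card_coe]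
        refine Fintype.card_congr
          { toFun := fun a => ⟨g⁻¹ * a.1, ?_⟩
            invFun := fun h => ⟨g * h, ?_⟩
            left_inv := fun a => by simp
            right_inv := fun h => by simp }
        · exact QuotientGroup.eq.1 ((Finset.mem_filter.1 a.2).2).symm
        · simp only [Finset.mem_filter, Finset.mem_univ, true_and]
          exact QuotientGroup.mk_mul_of_mem g h.2
    have h1 : ∑ g : G, (R g).mulVec z = Nat.card H • ∑ C : G ⧸ H, f C := by
      rw [← Finset.sum_fiberwise (Finset.univ : Finset G) (fun g => (g : G ⧸ H)), Finset.smul_sum]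
      refine Finset.sum_congr rfl fun C _ => ?_
      rw [Finset.sum_congr rfl (g := fun _ => f C), Finset.sum_const, e1]
      intro g hg
      rw [← (Finset.mem_filter.1 hg).2, hf]
    rw [hzsum] at h1
    apply hι
    have h2 : (Nat.card H : ℂ) • ι (∑ C : G ⧸ H, f C) = 0 := by
      funext j
      have h3 := congrArg Subtype.val (congrFun h1 j)
      simp only [Pi.smul_apply, Pi.zero_apply] at h3 ⊢
      push_cast at h3
      simpa [ι, nsmul_eq_mul] using h3.symm
    rw [(smul_eq_zero.1 h2).resolve_left (Nat.cast_ne_zero.2 Nat.card_pos.ne')]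
    funext j; simp [ι]
  -- the set of non-trivial cosets, on which `P` acts freely
  let S := {C : G ⧸ H // C ≠ ((1 : G) : G ⧸ H)}
  have hSmul : ∀ (u : (P : Subgroup G)) (C : S), (u : G) • (C.1) ≠ ((1 : G) : G ⧸ H) := by
    intro u C h
    apply C.2
    rw [eq_inv_smul_iff.2 h]
    show (((u : G)⁻¹ * 1 : G) : G ⧸ H) = _
    rw [QuotientGroup.eq]
    simpa using hPH u.2
  let : MulAction (P : Subgroup G) S :=
    { smul := fun u C => ⟨(u : G) • C.1, hSmul u C⟩
      one_smul := fun C => Subtype.ext (one_smul G C.1)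
      mul_smul := fun u v C => Subtype.ext (mul_smul (u : G) (v : G) C.1) }
  let := Fintype.ofFinite (P : Subgroup G)
  have hfree : ∀ (u : (P : Subgroup G)) (C : S), u • C = C → u = 1 := by
    rintro ⟨u, hu⟩ ⟨C, hC⟩ h
    induction C using QuotientGroup.induction_on with
    | _ g =>
      have hg : g ∉ H := fun hg => hC (QuotientGroup.eq.2 (by simpa using hg))
      have h1 : ((u * g : G) : G ⧸ H) = (g : G ⧸ H) := congrArg Subtype.val h
      have h2 : g⁻¹ * u * g ∈ H := by
        have := QuotientGroup.eq.1 h1.symm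
        simpa [mul_assoc] using this
      exact Subtype.ext (free_on_cosets P hTI hH hg hu h2)
  obtain ⟨w, hw⟩ := exists_trace_of_free (P := (P : Subgroup G)) (S := S)
    (fun u v => (R (u : G)).mulVec v) (fun u => Matrix.mulVec_zero _)
    (fun u v v' => Matrix.mulVec_add _ v v') hfree (fun C => f C.1) (fun u C => hfs _ _)
  have hzw : ∑ u : (P : Subgroup G), (R (u : G)).mulVec (-w) = z := by
    simp only [Matrix.mulVec_neg, Finset.sum_neg_distrib, ← hw]
    have h1 : f ((1 : G) : G ⧸ H) + ∑ C : S, f C.1 = 0 := by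
      rw [← hfsum]
      exact (Fintype.sum_eq_add_sum_subtype_ne f ((1 : G) : G ⧸ H)).symm
    rw [hf, map_one, Matrix.one_mulVec] at h1
    exact (eq_neg_of_add_eq_zero_left h1).symm
  -- reduce modulo the maximal ideal
  let k := ResidueField O
  let π : O →+* k := residue O
  have : CharP k p := by
    rw [CharP.charP_iff_prime_eq_zero Fact.out, ← map_natCast π, residue_eq_zero_iff]
    exact hpO
  let T : Representation k (P : Subgroup G) (Fin N → k) :=
    { toFun := fun u => Matrix.toLin' ((R (u : G)).map π)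
      map_one' := by simp [Matrix.map_one, Module.End.one_eq_id]
      map_mul' := fun u v => by
        simp only [Subgroup.coe_mul, map_mul, Matrix.map_mul, Matrix.toLin'_mul]
        rfl }
  have hT : ∀ (u : (P : Subgroup G)) (v : Fin N → O),
      T u (fun j => π (v j)) = fun j => π ((R (u : G)).mulVec v j) := by
    intro u v
    funext j
    exact (RingHom.map_mulVec π (R (u : G)) v j).symm
  have htrace : ∑ u, T u (fun j => π ((-w) j)) = fun j => π (z j) := by
    simp only [hT]
    funext j
    rw [Finset.sum_apply, ← map_sum, ← Finset.sum_apply, hzw]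
  obtain ⟨hcard, hline⟩ := regular_of_trace_ne_zero P.2 T (fun j => π ((-w) j)) (by
    rw [htrace]
    intro h
    have := congrFun h i
    simp [hzi] at this)
  have hNP : Module.finrank k (Fin N → k) = Fintype.card (P : Subgroup G) := by
    refine le_antisymm ?_ hcard
    rw [Module.finrank_fin_fun]
    simpa [Nat.card_eq_fintype_card] using hN
  -- the second fixed vector
  by_contra hcon
  rw [not_exists] at hcon
  have hzc : (fun j => (z j : ℂ)) = c⁻¹ • y := by rw [hyz, inv_smul_smul₀ hc]
  set e' : Fin N → ℂ := e - (e i) • (fun j => (z j : ℂ)) with he'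
  have he'0 : e' ≠ 0 := fun h =>
    hcon (e i * c⁻¹) (by rw [mul_smul, ← hzc]; exact sub_eq_zero.1 h)
  obtain ⟨d, l, v, hd, hvl, hev⟩ := exists_primitive O e' he'0
  have hvi : v i = 0 := by
    have h1 : e' i = 0 := by simp [he', hzi]
    rw [hev] at h1
    simp only [Pi.smul_apply, smul_eq_mul, mul_eq_zero, hd, false_or] at h1
    exact Subtype.ext h1
  have hv : ∀ u : (P : Subgroup G), (R (u : G)).mulVec v = v := by
    intro u
    apply hι
    rw [hιmul]
    have h1 : ((R (u : G)).map fun a : O => (a : ℂ)).mulVec e' = e' := by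
      have hz' : ((R (u : G)).map fun a : O => (a : ℂ)).mulVec (fun j => (z j : ℂ))
          = fun j => (z j : ℂ) := (hιmul (u : G) z).symm.trans (by rw [hz _ (hPH u.2)])
      rw [he', Matrix.mulVec_sub, Matrix.mulVec_smul, hz', he _ (hPH u.2)]
    rw [hev, Matrix.mulVec_smul] at h1
    exact smul_right_injective _ hd h1
  obtain ⟨b, hb⟩ := hline hNP (fun j => π (v j)) (fun u => by rw [hT, hv])
  rw [htrace] at hb
  have hb0 : b = 0 := by
    have := congrFun hb i
    simpa [hvi, hzi, eq_comm] using this
  have := congrFun hb l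
  simp [hb0, hvl] at this

/-- Let `P` be a TI Sylow `p`-subgroup of `G`, `N_G(P) ≤ H`, and `σ` a complex representation of
`G` of dimension at most `#P` with a non-zero fixed vector. Then each vector fixed by `H` is
fixed by `G`. -/
theorem fixed_of_overgroup (P : Sylow p G)
    (hTI : ∀ g : G, g ∉ Subgroup.normalizer ((P : Subgroup G) : Set G) →
      (P : Subgroup G) ⊓ (MulAut.conj g • (P : Subgroup G)) = ⊥)
    (H : Subgroup G) (hH : Subgroup.normalizer ((P : Subgroup G) : Set G) ≤ H)
    {W : Type*} [AddCommGroup W] [Module ℂ W] [FiniteDimensional ℂ W] (σ : Representation ℂ G W)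
    (hW : Module.finrank ℂ W ≤ Nat.card (P : Subgroup G))
    {a : W} (ha0 : a ≠ 0) (ha : ∀ g, σ g a = a)
    {x : W} (hx : ∀ h ∈ H, σ h x = x) (g : G) : σ g x = x := by
  classical
  let := Fintype.ofFinite G
  obtain ⟨O, hpO⟩ := IntegralForm.exists_valuationSubring p Fact.out
  obtain ⟨N, E, R, hR⟩ := IntegralForm.exists_integral_matrices O σ
  have hN : N ≤ Nat.card (P : Subgroup G) := by
    rw [LinearEquiv.finrank_eq E, Module.finrank_fin_fun] at hW
    exact hW
  let m : W := (Nat.card G : ℂ)⁻¹ • ∑ g : G, σ g x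
  have hm : ∀ g, σ g m = m := by
    intro g
    show σ g ((Nat.card G : ℂ)⁻¹ • ∑ h : G, σ h x) = _
    rw [map_smul, map_sum]
    congr 1
    rw [← Equiv.sum_comp (Equiv.mulLeft g) (fun h => σ h x)]
    simp
  by_cases hy0 : x - m = 0
  · rw [sub_eq_zero] at hy0
    rw [hy0, hm]
  · exfalso
    obtain ⟨c, hc⟩ := not_linearIndependent_fixed O hpO P hTI H hH R hN (E a) (E (x - m))
      (fun u _ => by rw [← hR, ha])
      (fun u hu => by rw [← hR, map_sub, hx u hu, hm])
      (fun {inst} => by
        simp only [← hR, ← map_sum, map_sub (σ _), Finset.sum_sub_distrib]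
        rw [LinearEquiv.map_eq_zero_iff]
        simp only [hm, Finset.sum_const, Finset.card_univ]
        rw [← Nat.card_eq_fintype_card, ← Nat.cast_smul_eq_nsmul ℂ]
        simp only [m]
        rw [smul_inv_smul₀ (Nat.cast_ne_zero.2 Nat.card_pos.ne'), sub_eq_zero]
        congr!)
      (fun h => hy0 ((LinearEquiv.map_eq_zero_iff E).1 h))
    have hac : a = c • (x - m) := E.injective (by rw [hc, map_smul])
    have h0 : (Nat.card G : ℂ) • a = 0 := by
      have h1 : ∑ g : G, σ g a = (Nat.card G : ℂ) • a := by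
        simp [ha, Finset.card_univ, Nat.card_eq_fintype_card, Nat.cast_smul_eq_nsmul]
      rw [← h1, hac]
      simp only [map_smul, map_sub, ← Finset.smul_sum, Finset.sum_sub_distrib, hm]
      have h2 : ∑ g : G, σ g x = ∑ _g : G, m := by
        rw [Finset.sum_const, Finset.card_univ, ← Nat.card_eq_fintype_card,
          ← Nat.cast_smul_eq_nsmul ℂ]
        exact (smul_inv_smul₀ (Nat.cast_ne_zero.2 Nat.card_pos.ne') _).symm
      rw [h2, sub_self, smul_zero]
    exact ha0 ((smul_eq_zero.1 h0).resolve_left (Nat.cast_ne_zero.2 Nat.card_pos.ne'))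

end Main

end CfsgLib.RelativeTrace
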