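import Cfsg.Agent.Lib.Blocks.ThirdMain
import Cfsg.Agent.Lib.Blocks.TupleVanish
import Mathlib.Algebra.MonoidAlgebra.MapDomain

/-!
# Brauer's Second Main Theorem, idempotent form
-/

set_option autoImplicit false
set_option linter.style.haveILetI false

namespace CfsgLib.Blocks

open Cfsg MonoidAlgebra CfsgLib.Characters
open CfsgLib.BlockAlg (SuppIn Inv suppIn_top coeff_mul_sum)
open scoped ComplexConjugate

variable {G : Type*} [Group G]

/-- The inclusion of the group algebra of a subgroup. -/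
noncomputable def extH (H : Subgroup G) : MonoidAlgebra ℂ H →+* MonoidAlgebra ℂ G :=
  MonoidAlgebra.mapDomainRingHom ℂ H.subtype

theorem coeff_extH_mem (H : Subgroup G) (z : MonoidAlgebra ℂ H) (k : H) :
    (extH H z).coeff (k : G) = z.coeff k :=
  Finsupp.mapDomain_apply H.subtype_injective z.coeff k

theorem coeff_extH_notMem (H : Subgroup G) (z : MonoidAlgebra ℂ H) {g : G} (hg : g ∉ H) :
    (extH H z).coeff g = 0 :=
  Finsupp.mapDomain_notin_range z.coeff g (by rintro ⟨k, rfl⟩; exact hg k.2)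

theorem extH_single (H : Subgroup G) (k : H) (r : ℂ) :
    extH H (single k r) = single (k : G) r := by
  simp [extH]

variable [Fintype G] {p : ℕ} {M : Ideal AlgInt}

theorem extH_inv (H : Subgroup G) {z : MonoidAlgebra ℂ H}
    (hz : z ∈ Subalgebra.center ℂ (MonoidAlgebra ℂ H)) : Inv H (extH H z) := by
  intro h hh g
  by_cases hg : g ∈ H
  · have h1 := (mem_center_iff_coeff z).1 hz ⟨g, hg⟩ ⟨h, hh⟩
    have e1 := coeff_extH_mem H z (⟨h, hh⟩ * ⟨g, hg⟩ * ⟨h, hh⟩⁻¹)
    have e2 := coeff_extH_mem H z ⟨g, hg⟩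
    simp only [Subgroup.coe_mul, Subgroup.coe_inv] at e1 e2
    rw [e1, e2, h1]
  · rw [coeff_extH_notMem H z hg, coeff_extH_notMem H z]
    intro h2
    refine hg ?_
    have := H.mul_mem (H.mul_mem (H.inv_mem hh) h2) hh
    simpa [mul_assoc] using this

theorem extH_memLocalRing (hM : IsPModular p M) (H : Subgroup G) {z : MonoidAlgebra ℂ H}
    (hz : ∀ k, MemLocalRing M (z.coeff k)) (g : G) : MemLocalRing M ((extH H z).coeff g) := by
  by_cases hg : g ∈ H
  · rw [show g = ((⟨g, hg⟩ : H) : G) from rfl, coeff_extH_mem]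
    exact hz _
  · rw [coeff_extH_notMem H z hg]
    exact (lRing hM).zero_mem

theorem mul_memLocalRing (hM : IsPModular p M) {a b : MonoidAlgebra ℂ G}
    (ha : ∀ x, MemLocalRing M (a.coeff x)) (hb : ∀ x, MemLocalRing M (b.coeff x)) (g : G) :
    MemLocalRing M ((a * b).coeff g) := by
  rw [coeff_mul_sum]
  exact (lRing hM).sum_mem fun x _ => (lRing hM).mul_mem (ha x) (hb _)

/-- Splitting off a factor `z` from a product of differences. -/
theorem exists_prod_sub_eq {A : Type*} [CommRing A] (S : Subring A) {ι : Type*} (s : Finset ι)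
    {z : A} (hz : z ∈ S) {c : ι → A} (hc : ∀ i ∈ s, c i ∈ S) :
    ∃ q ∈ S, ∏ i ∈ s, (z - c i) = z * q + ∏ i ∈ s, - c i := by
  classical
  induction s using Finset.induction_on with
  | empty => exact ⟨0, S.zero_mem, by simp⟩
  | insert i s hi ih =>
    obtain ⟨q, hq, h⟩ := ih fun j hj => hc j (Finset.mem_insert_of_mem hj)
    have hci := hc i (Finset.mem_insert_self i s)
    refine ⟨q * (z - c i) + ∏ j ∈ s, - c j, S.add_mem (S.mul_mem hq (S.sub_mem hz hci))
      (S.prod_mem fun j hj => S.neg_mem (hc j (Finset.mem_insert_of_mem hj))), ?_⟩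
    rw [Finset.prod_insert hi, Finset.prod_insert hi, h]
    ring

/-- A central element that is a unit on a block has an inverse on that block. -/
theorem exists_inverse_on_block (hM : IsPModular p M) {B : Set (IrrCharacter G)}
    {z : Subalgebra.center ℂ (MonoidAlgebra ℂ G)} (hz : z ∈ lCentre hM)
    (hu : ∀ χ ∈ B, ¬ MemLocalIdeal M (omega (χ : G → ℂ) (z : MonoidAlgebra ℂ G))) :
    ∃ w ∈ lCentre (G := G) hM, ∀ χ ∈ B, omega (χ : G → ℂ) (z : MonoidAlgebra ℂ G) *
      omega (χ : G → ℂ) ((w : Subalgebra.center ℂ (MonoidAlgebra ℂ G)) : MonoidAlgebra ℂ G) = 1 := by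
  classical
  set s := Finset.univ.filter (· ∈ B)
  let c : IrrCharacter G → ℂ := fun χ => omega (χ : G → ℂ) (z : MonoidAlgebra ℂ G)
  have hcR : ∀ χ, c χ ∈ lRing hM := fun χ =>
    omega_mem_lRing hM χ z.2 ((mem_lCentre hM z).1 hz)
  obtain ⟨q, hq, hqe⟩ := exists_prod_sub_eq (lCentre (G := G) hM) s hz
    (c := fun χ => algebraMap ℂ _ (c χ)) fun χ _ => algebraMap_mem_lCentre hM (hcR χ)
  set h0 : ℂ := ∏ χ ∈ s, - c χ with hh0
  have hinv : h0⁻¹ ∈ lRing hM := by
    rw [hh0, ← Finset.prod_inv_distrib]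
    refine (lRing hM).prod_mem fun χ hχ => inv_mem_lRing hM ((lRing hM).neg_mem (hcR χ))
      fun h => hu χ (Finset.mem_filter.1 hχ).2 ?_
    simpa using MemLocalIdeal.neg hM h
  have h00 : h0 ≠ 0 := by
    rw [hh0, Finset.prod_ne_zero_iff]
    intro χ hχ h
    refine hu χ (Finset.mem_filter.1 hχ).2 ?_
    show MemLocalIdeal M (c χ)
    rw [neg_eq_zero.1 h]
    exact memLocalIdeal_zero hM
  refine ⟨-(algebraMap ℂ _ h0⁻¹ * q), (lCentre hM).neg_mem ((lCentre hM).mul_mem
    (algebraMap_mem_lCentre hM hinv) hq), fun χ hχ => ?_⟩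
  have h1 := congrArg (omegaAlgHom χ) hqe
  simp only [map_prod, map_sub (omegaAlgHom χ), map_add, map_mul, map_neg (omegaAlgHom χ), AlgHom.commutes,
    Algebra.algebraMap_self, RingHom.id_apply] at h1
  rw [Finset.prod_eq_zero (i := χ) (Finset.mem_filter.2 ⟨Finset.mem_univ χ, hχ⟩)
    ((map_sub (omegaAlgHom χ) _ _).trans (sub_eq_zero.2 ((omegaAlgHom χ).commutes (c χ)).symm))] at h1
  have hprod : omegaAlgHom χ (∏ i ∈ s, -algebraMap ℂ _ (c i)) = h0 := by
    rw [map_prod, hh0]
    exact Finset.prod_congr rfl fun i _ =>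
      (map_neg (omegaAlgHom χ) _).trans (congrArg Neg.neg ((omegaAlgHom χ).commutes (c i)))
  have h1' : omegaAlgHom χ z * omegaAlgHom χ q + h0 = 0 := by rw [← hprod, map_prod]; exact h1.symm
  have h2 : omegaAlgHom χ z * omegaAlgHom χ (-(algebraMap ℂ _ h0⁻¹ * q)) = 1 := by
    rw [map_neg (omegaAlgHom χ), map_mul, AlgHom.commutes, Algebra.algebraMap_self, RingHom.id_apply]
    have : omegaAlgHom χ z * omegaAlgHom χ q = -h0 := by linear_combination h1'
    linear_combination (-h0⁻¹) * this + inv_mul_cancel₀ h00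
  exact h2

open scoped Classical in
theorem omega_extH_mul_single (H : Subgroup G) [Fintype H] (χ : IrrCharacter G)
    (z : MonoidAlgebra ℂ H) (h : G) :
    omega (χ : G → ℂ) (extH H z * single h 1) =
      (∑ k : H, z.coeff k * (χ : G → ℂ) ((k : G) * h)) / (χ : G → ℂ) 1 := by
  conv_lhs => rw [show z = ∑ k : H, single k (z.coeff k) from by ext k; simp [Finsupp.single_apply]]
  rw [map_sum, Finset.sum_mul, map_sum, Finset.sum_div]
  refine Finset.sum_congr rfl fun k _ => ?_
  rw [extH_single, single_mul_single, omega_single, mul_one]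

/-- The Second Main Theorem, idempotent form. -/
theorem secondMain_idempotent (hM : IsPModular p M) {H : Subgroup G} [Fintype H]
    {b : Set (IrrCharacter H)} {B : Set (IrrCharacter G)} (hind : IsInducedBlock M H b B)
    (h : H) {u : G} (hu : IsPPart p (h : G) u)
    (hC : Subgroup.centralizer ({u} : Set G) ≤ H) {χ : IrrCharacter G} (hχ : χ ∉ B) :
    ∑ k : H, blockCoeff b k * (χ : G → ℂ) ((k : G) * (h : G)) = 0 := by
  classical
  obtain ⟨χ₀, hχ₀⟩ := IsPBlock.nonempty hM hind.2.1
  -- the part of the idempotent of `B` inside `H`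
  set eB := blockIdem B
  have heBR := coeff_blockIdem_memLocalRing hM hind.2.1
  have heBc := blockIdem_mem_center (G := G) B
  have hπc : resH H eB ∈ Subalgebra.center ℂ (MonoidAlgebra ℂ H) :=
    resH_mem_center H fun h _ g => (mem_center_iff_coeff _).1 heBc g h
  have hπS : (⟨resH H eB, hπc⟩ : Subalgebra.center ℂ (MonoidAlgebra ℂ H)) ∈ lCentre hM := by
    rw [mem_lCentre]
    intro k
    simp only [coeff_resH]
    exact heBR k
  obtain ⟨w, hw, hπw⟩ := exists_inverse_on_block hM (B := b) hπS fun ξ hξ h1 => by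
    have h2 := omega_resH_congr hM hind hξ hχ₀ heBc heBR
    rw [omega_blockIdem, if_pos hχ₀] at h2
    refine not_memLocalIdeal_one hM ?_
    have h3 := MemLocalIdeal.sub hM h1 h2
    rwa [sub_sub_cancel] at h3
  have heb : resH H eB * ((w : Subalgebra.center ℂ (MonoidAlgebra ℂ H)) : MonoidAlgebra ℂ H) *
      blockIdem b = blockIdem b := by
    refine eq_blockIdem (mul_mem (mul_mem hπc w.2) (blockIdem_mem_center b)) fun ξ => ?_
    rw [omega_mul ξ (mul_mem hπc w.2), omega_mul ξ hπc, omega_blockIdem]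
    split_ifs with hξ
    · rw [hπw ξ hξ, one_mul]
    · rw [mul_zero]
  -- the pieces in the group algebra of `G`
  set E := extH H (blockIdem b) with hE
  set W := extH H ((w : Subalgebra.center ℂ (MonoidAlgebra ℂ H)) : MonoidAlgebra ℂ H) with hW
  set β : MonoidAlgebra ℂ G := eB - extH H (resH H eB) with hβ
  set γ : MonoidAlgebra ℂ G := -(β * (W * E)) with hγ
  set e' : MonoidAlgebra ℂ G := 1 - eB with he'
  have he'c : e' ∈ Subalgebra.center ℂ (MonoidAlgebra ℂ G) := sub_mem (one_mem _) heBc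
  have hcomm : ∀ z, e' * z = z * e' := fun z => ((Subalgebra.mem_center_iff.1 he'c) z).symm
  have hy : e' * E = e' * γ := by
    have h1 : E = (eB - β) * W * E := by
      rw [hβ, sub_sub_cancel, hE, hW, ← map_mul, ← map_mul, heb]
    have h0 : e' * eB = 0 := by
      rw [he', sub_mul, one_mul, isIdempotentElem_blockIdem B, sub_self]
    conv_lhs => rw [h1]
    rw [hγ, mul_assoc (eB - β), ← mul_assoc, mul_sub, h0, zero_sub, neg_mul, mul_neg, mul_assoc]
  have hβH : ∀ g ∈ H, β.coeff g = 0 := by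
    intro g hg
    have := coeff_extH_mem H (resH H eB) ⟨g, hg⟩
    simp only [hβ, coeff_sub, Finsupp.sub_apply, this, coeff_resH, sub_self]
  have hγH : ∀ g ∈ H, γ.coeff g = 0 := by
    intro g hg
    simp only [hγ, coeff_neg, Finsupp.neg_apply, neg_eq_zero]
    rw [coeff_mul_sum]
    refine Finset.sum_eq_zero fun a _ => ?_
    by_cases ha : a ∈ H
    · rw [hβH a ha, zero_mul]
    · rw [hW, hE, ← map_mul, coeff_extH_notMem H _ (fun h2 => ha ?_), mul_zero]
      simpa using H.mul_mem hg (H.inv_mem h2)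
  have hγR : ∀ g, MemLocalRing M (γ.coeff g) := by
    intro g
    simp only [hγ, coeff_neg, Finsupp.neg_apply]
    refine (lRing hM).neg_mem (mul_memLocalRing hM (fun x => ?_)
      (mul_memLocalRing hM (extH_memLocalRing hM H ((mem_lCentre hM _).1 hw))
        (extH_memLocalRing hM H (coeff_blockIdem_memLocalRing hM hind.1))) g)
    simp only [hβ, coeff_sub, Finsupp.sub_apply]
    refine (lRing hM).sub_mem (heBR x) (extH_memLocalRing hM H (fun k => ?_) x)
    simp only [coeff_resH]
    exact heBR k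
  have hγinv : Inv H γ := by
    have h1 : Inv H β := by
      intro a ha g
      simp only [hβ, coeff_sub, Finsupp.sub_apply]
      rw [(mem_center_iff_coeff _).1 heBc g a, extH_inv H hπc a ha g]
    have h2 : Inv H (β * (W * E)) :=
      h1.mul ((extH_inv H w.2).mul (extH_inv H (blockIdem_mem_center b)))
    intro a ha g
    simp only [hγ, coeff_neg, Finsupp.neg_apply, h2 a ha g]
  -- iterate the idempotent
  have he'idem : IsIdempotentElem e' := (isIdempotentElem_blockIdem B).one_sub
  have hidem : IsIdempotentElem (e' * E) :=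
    he'idem.mul_of_commute (hcomm E) ((isIdempotentElem_blockIdem b).map (extH H))
  have hω : omega (χ : G → ℂ) e' = 1 := by
    rw [he', map_sub, omega_one, omega_blockIdem, if_neg hχ, sub_zero]
  have hiter : ∀ n : ℕ, omega (χ : G → ℂ) (E * single (h : G) 1) =
      omega (χ : G → ℂ) (γ ^ p ^ n * single (h : G) 1) := by
    intro n
    have hN : p ^ n ≠ 0 := pow_ne_zero _ hM.1.ne_zero
    have h1 : e' * E = e' * γ ^ p ^ n := by
      rw [← hidem.pow_eq hN, hy, (show Commute e' γ from hcomm γ).mul_pow, he'idem.pow_eq hN]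
    have h2 : omega (χ : G → ℂ) (e' * (E * single (h : G) 1)) =
        omega (χ : G → ℂ) (e' * (γ ^ p ^ n * single (h : G) 1)) := by
      rw [← mul_assoc, h1, mul_assoc]
    rwa [omega_mul χ he'c, omega_mul χ he'c, hω, one_mul, one_mul] at h2
  have hmain : (χ : G → ℂ) 1 * omega (χ : G → ℂ) (E * single (h : G) 1) = 0 := by
    have hdiv : ∀ n, ∃ w : ℂ, MemLocalRing M w ∧
        (χ : G → ℂ) 1 * omega (χ : G → ℂ) (E * single (h : G) 1) = (p : ℂ) ^ n * w := fun n => by
      rw [hiter n]
      exact dvd_omega_pow_mul_single hM χ hγR hu (fun x => hγinv (h : G) h.2 x)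
        (fun x hx => hγH x (hC hx)) n
    obtain ⟨w0, hw0, hw0'⟩ := hdiv 0
    rw [pow_zero, one_mul] at hw0'
    exact eq_zero_of_forall_pow_dvd hM (hw0' ▸ hw0) hdiv
  rw [hE, omega_extH_mul_single, mul_div_cancel₀ _ (irr_one_ne_zero χ)] at hmain
  simpa using hmain

end CfsgLib.Blocks
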