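import Cfsg.Agent.Lib.Blocks.DefectClassUpper
import Cfsg.Agent.Lib.Blocks.Reduced
import Mathlib.LinearAlgebra.Matrix.Determinant.Basic
import Mathlib.LinearAlgebra.Dimension.Constructions

/-!
# Blocks attached to `p`-separated classes with a common defect group
-/

set_option autoImplicit false

noncomputable section

namespace CfsgLib.SeparatedClasses

open Cfsg CfsgLib.ClassCount CfsgLib.Blocks
open scoped ComplexConjugate

variable {G : Type*} [Group G] [Fintype G] {p : ℕ} [hp : Fact p.Prime] {M : Ideal AlgInt}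

theorem cofDegree_ne_zero (χ : IrrCharacter G) : cofDegree χ ≠ 0 := by
  intro h0
  have := degree_mul_cofDegree χ
  rw [h0, mul_zero] at this
  exact (Nat.card_pos (α := G)).ne this

omit hp in
theorem factorization_cof (χ : IrrCharacter G) :
    (charDegree (χ : G → ℂ)).factorization p + (cofDegree χ).factorization p =
      (Nat.card G).factorization p := by
  rw [← Finsupp.add_apply, ← Nat.factorization_mul (degree_eq χ).2.2.ne' (cofDegree_ne_zero χ),
    degree_mul_cofDegree]

/-- `|C(a)| ω(a) = (|G| / χ(1)) χ(a)`. -/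
theorem centralizer_mul_omega (χ : IrrCharacter G) (a : G) :
    (Nat.card (Subgroup.centralizer ({a} : Set G)) : ℂ) * centralChar (χ : G → ℂ) a =
      (cofDegree χ : ℂ) * (χ : G → ℂ) a := by
  rw [mul_comm, centralChar_mul_centralizer, ← card_div_degree χ]
  ring

/-- A central character value of positive excess is in the local ideal. -/
theorem omega_mem_ideal (hM : IsPModular p M) (χ : IrrCharacter G) (a : G)
    (h : (Nat.card (Subgroup.centralizer ({a} : Set G))).factorization p <
      (cofDegree χ).factorization p) :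
    MemLocalIdeal M (centralChar (χ : G → ℂ) a) := by
  set n := Nat.card (Subgroup.centralizer ({a} : Set G)) with hn
  set e := n.factorization p with he
  obtain ⟨u, hu⟩ := (hp.out.pow_dvd_iff_le_factorization (cofDegree_ne_zero χ)).2
    (Nat.succ_le_of_lt h)
  have hc : ¬ p ∣ n / p ^ e := Nat.not_dvd_ordCompl hp.out Nat.card_pos.ne'
  have hnc : (n : ℂ) = (p : ℂ) ^ e * (n / p ^ e : ℕ) := by
    rw [← Nat.cast_pow, ← Nat.cast_mul, Nat.mul_div_cancel' (Nat.ordProj_dvd n p)]
  have h1 := centralizer_mul_omega χ a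
  rw [← hn, hnc, hu] at h1
  push_cast at h1
  rw [pow_succ] at h1
  have hp0 : (p : ℂ) ≠ 0 := Nat.cast_ne_zero.2 hp.out.ne_zero
  have hc0 : ((n / p ^ e : ℕ) : ℂ) ≠ 0 :=
    Nat.cast_ne_zero.2 fun h0 => hc (h0 ▸ dvd_zero p)
  have h2 : centralChar (χ : G → ℂ) a =
      (p : ℂ) * (((n / p ^ e : ℕ) : ℂ)⁻¹ * ((u : ℂ) * (χ : G → ℂ) a)) := by
    apply mul_left_cancel₀ (mul_ne_zero (pow_ne_zero e hp0) hc0)
    rw [h1]
    field_simp
  rw [h2]
  refine MemLocalIdeal.mul_right hM (memLocalIdeal_p hM) ?_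
  exact (lRing hM).mul_mem (inv_natCast_mem_lRing hM hc) ((lRing hM).mul_mem
    (isIntegral_mem_lRing hM (DefectZeroCriterion.isIntegral_natCast' u))
    (isIntegral_mem_lRing hM (irr_isIntegral χ a)))

/-- A character value of positive excess is in the local ideal. -/
theorem value_mem_ideal (hM : IsPModular p M) (χ : IrrCharacter G) (a : G)
    (h : (cofDegree χ).factorization p <
      (Nat.card (Subgroup.centralizer ({a} : Set G))).factorization p) :
    MemLocalIdeal M ((χ : G → ℂ) a) := by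
  set n := cofDegree χ with hn
  set e := n.factorization p with he
  obtain ⟨u, hu⟩ := (hp.out.pow_dvd_iff_le_factorization Nat.card_pos.ne').2 (Nat.succ_le_of_lt h)
  have hc : ¬ p ∣ n / p ^ e := Nat.not_dvd_ordCompl hp.out (cofDegree_ne_zero χ)
  have hnc : (n : ℂ) = (p : ℂ) ^ e * (n / p ^ e : ℕ) := by
    rw [← Nat.cast_pow, ← Nat.cast_mul, Nat.mul_div_cancel' (Nat.ordProj_dvd n p)]
  have h1 := centralizer_mul_omega χ a
  rw [← hn, hnc, hu] at h1
  push_cast at h1
  rw [pow_succ] at h1
  have hp0 : (p : ℂ) ≠ 0 := Nat.cast_ne_zero.2 hp.out.ne_zero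
  have hc0 : ((n / p ^ e : ℕ) : ℂ) ≠ 0 :=
    Nat.cast_ne_zero.2 fun h0 => hc (h0 ▸ dvd_zero p)
  have h2 : (χ : G → ℂ) a =
      (p : ℂ) * (((n / p ^ e : ℕ) : ℂ)⁻¹ * ((u : ℂ) * centralChar (χ : G → ℂ) a)) := by
    apply mul_left_cancel₀ (mul_ne_zero (pow_ne_zero e hp0) hc0)
    rw [← h1]
    field_simp
  rw [h2]
  refine MemLocalIdeal.mul_right hM (memLocalIdeal_p hM) ?_
  exact (lRing hM).mul_mem (inv_natCast_mem_lRing hM hc) ((lRing hM).mul_mem
    (isIntegral_mem_lRing hM (DefectZeroCriterion.isIntegral_natCast' u))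
    (centralChar_mem_lRing hM χ a))

/-- For a defect class, the centralizer has at least the `p`-part of `|G| / χ(1)`. -/
theorem le_defect_class (hM : IsPModular p M) {B : Set (IrrCharacter G)} {χ : IrrCharacter G}
    (hχ : χ ∈ B) {g : G} (hg : IsDefectClass M B g) :
    (cofDegree χ).factorization p ≤
      (Nat.card (Subgroup.centralizer ({g} : Set G))).factorization p :=
  not_lt.1 fun h => hg.2.2 χ hχ (omega_mem_ideal hM χ g h)

/-- The Gram identity of separated classes. -/
theorem gram {r : ℕ} (x : Fin r → G) (hx : ∀ i j : Fin r, IsConj (x i) (x j) → i = j)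
    (hsep : ∀ i j : Fin r, ∀ g h : G, IsConj (x i) g → IsConj (x j) h →
      ∀ k : ℕ, 0 < k → orderOf (g * h⁻¹) ≠ p ^ k)
    (P : Sylow p G) [Fintype (P : Subgroup G)] (m : IrrCharacter G → ℕ)
    (hm : ∀ χ : IrrCharacter G, ∑ t : (P : Subgroup G), (χ : G → ℂ) ((t : G)⁻¹) =
      (Nat.card (P : Subgroup G) : ℂ) * m χ) (i j : Fin r) :
    ∑ χ : IrrCharacter G, (m χ : ℂ) * centralChar (χ : G → ℂ) (x i) * (χ : G → ℂ) (x j)⁻¹ =
      if i = j then ((P : Subgroup G).index : ℂ) else 0 := by
  classical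
  let T : Finset G := Finset.univ.filter (· ∈ (P : Subgroup G))
  have hTmem : ∀ t, t ∈ T ↔ t ∈ (P : Subgroup G) := fun t => by simp [T]
  have hcent : Subgroup.centralizer ({(x j)⁻¹} : Set G) = Subgroup.centralizer ({x j} : Set G) := by
    ext u
    simp only [Subgroup.mem_centralizer_iff, Set.mem_singleton_iff, forall_eq]
    exact ⟨fun h => by simpa using (Commute.inv_left (a := (x j)⁻¹) h).eq,
      fun h => (Commute.inv_left (a := x j) h).eq⟩
  have hcard : (pairs (x i) (x j)⁻¹ T).card = if i = j then (cls (x i)).card else 0 := by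
    have hmem : ∀ g h : G, (g, h) ∈ pairs (x i) (x j)⁻¹ T ↔
        IsConj (x i) g ∧ IsConj (x j) h⁻¹ ∧ g * h = 1 := by
      intro g h
      simp only [pairs, Finset.mem_filter, Finset.mem_product, mem_cls, hTmem, and_assoc]
      constructor
      · rintro ⟨hg, hh, hgh⟩
        have hh' : IsConj (x j) h⁻¹ := by
          obtain ⟨c, rfl⟩ := isConj_iff.1 hh
          exact isConj_iff.2 ⟨c, by group⟩
        refine ⟨hg, hh', ?_⟩
        obtain ⟨k, hk⟩ := IsPGroup.iff_orderOf.1 P.2 ⟨g * h, hgh⟩
        rw [Subgroup.orderOf_mk] at hk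
        rcases k with _ | k
        · rwa [pow_zero, orderOf_eq_one_iff] at hk
        · exact absurd (by rwa [inv_inv]) (hsep i j g h⁻¹ hg hh' (k + 1) (Nat.succ_pos k))
      · rintro ⟨hg, hh, hgh⟩
        refine ⟨hg, ?_, by rw [hgh]; exact one_mem _⟩
        obtain ⟨c, hc⟩ := isConj_iff.1 hh
        exact isConj_iff.2 ⟨c, inv_injective (by rw [← hc]; group)⟩
    by_cases hij : i = j
    · subst hij
      rw [if_pos rfl]
      have : pairs (x i) (x i)⁻¹ T = (cls (x i)).image fun g => (g, g⁻¹) := by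
        ext ⟨g, h⟩
        rw [hmem]
        simp only [Finset.mem_image, mem_cls, Prod.mk.injEq]
        constructor
        · rintro ⟨hg, -, hgh⟩; exact ⟨g, hg, rfl, inv_eq_of_mul_eq_one_right hgh⟩
        · rintro ⟨a, ha, rfl, rfl⟩; exact ⟨ha, by rwa [inv_inv], mul_inv_cancel a⟩
      rw [this, Finset.card_image_of_injective _ fun a b h => congrArg Prod.fst h]
    · rw [if_neg hij, Finset.card_eq_zero, Finset.eq_empty_iff_forall_notMem]
      rintro ⟨g, h⟩ hgh
      obtain ⟨hg, hh, h1⟩ := (hmem g h).1 hgh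
      rw [eq_inv_of_mul_eq_one_left h1] at hg
      exact hij (hx i j (hg.trans hh.symm))
  have key := card_pairs_mul_centralizers (x i) (x j)⁻¹ T
  have hPG : ((Nat.card (P : Subgroup G) : ℂ)) * ((P : Subgroup G).index : ℂ) = Nat.card G := by
    rw [← Nat.cast_mul, Subgroup.card_mul_index]
  have hci : (Nat.card (Subgroup.centralizer ({x i} : Set G)) : ℂ) ≠ 0 := centralizer_ne_zero _
  have hP0 : (Nat.card (P : Subgroup G) : ℂ) ≠ 0 := Nat.cast_ne_zero.2 Nat.card_pos.ne'
  apply mul_left_cancel₀ (mul_ne_zero hP0 hci)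
  have hterm : ∀ χ : IrrCharacter G, (Nat.card (P : Subgroup G) : ℂ) *
      (Nat.card (Subgroup.centralizer ({x i} : Set G)) : ℂ) *
      ((m χ : ℂ) * centralChar (χ : G → ℂ) (x i) * (χ : G → ℂ) (x j)⁻¹) =
      (cofDegree χ : ℂ) * ((χ : G → ℂ) (x i) * (χ : G → ℂ) (x j)⁻¹ *
        ∑ t ∈ T, (χ : G → ℂ) t⁻¹) := by
    intro χ
    rw [Finset.sum_subtype T hTmem, hm χ]
    linear_combination ((Nat.card (P : Subgroup G) : ℂ) * (m χ : ℂ) * (χ : G → ℂ) (x j)⁻¹) *
      centralizer_mul_omega χ (x i)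
  rw [Finset.mul_sum, Finset.sum_congr rfl fun χ _ => hterm χ, ← key, hcard]
  split_ifs with hij
  · subst hij
    rw [hcent, ← Nat.cast_mul, card_cls_mul_centralizer, ← hPG]
    ring
  · simp

omit hp in
theorem centralizer_conj_card (g t : G) :
    Nat.card (Subgroup.centralizer ({t * g * t⁻¹} : Set G)) =
      Nat.card (Subgroup.centralizer ({g} : Set G)) := by
  have h1 := card_cls_mul_centralizer g
  have h2 := card_cls_mul_centralizer (t * g * t⁻¹)
  have h3 : cls (t * g * t⁻¹) = cls g := by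
    ext y
    have hc : IsConj g (t * g * t⁻¹) := isConj_iff.2 ⟨t, rfl⟩
    rw [mem_cls, mem_cls]
    exact ⟨hc.trans, hc.symm.trans⟩
  rw [h3, ← h1] at h2
  exact Nat.eq_of_mul_eq_mul_left (Finset.card_pos.2 ⟨g, mem_cls_self g⟩) h2

/-- `D` is a defect group of a block having a height-zero member of the right defect. -/
theorem isDefectGroup_of_omega (hM : IsPModular p M) {B : Set (IrrCharacter G)} (hB : IsPBlock M B)
    {χ : IrrCharacter G} (hχ : χ ∈ B) {a : G}
    (S : Sylow p (Subgroup.centralizer ({a} : Set G))) {D : Subgroup G}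
    (hD : D = (S : Subgroup (Subgroup.centralizer ({a} : Set G))).map
      (Subgroup.centralizer ({a} : Set G)).subtype)
    (hω : ¬ MemLocalIdeal M (centralChar (χ : G → ℂ) a))
    (hd : (cofDegree χ).factorization p =
      (Nat.card (Subgroup.centralizer ({a} : Set G))).factorization p) :
    IsDefectGroup p M B D := by
  classical
  have : M.IsMaximal := hM.2.1
  obtain ⟨g, hg⟩ := BrauerPairs.exists_defectClass hM hB
  obtain ⟨S'⟩ : Nonempty (Sylow p (Subgroup.centralizer ({g} : Set G))) := inferInstance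
  set D' := (S' : Subgroup (Subgroup.centralizer ({g} : Set G))).map
    (Subgroup.centralizer ({g} : Set G)).subtype with hD'
  have hD'B : IsDefectGroup p M B D' := ⟨g, hg, S', rfl⟩
  obtain ⟨t, ht⟩ := DefectUpper.le_conj_of_centralChar hM hB hχ hω S hD hD'B
  have hcD : Nat.card D =
      p ^ (Nat.card (Subgroup.centralizer ({a} : Set G))).factorization p := by
    rw [hD, Subgroup.card_map_of_injective (Subgroup.subtype_injective _), S.card_eq_multiplicity]
  have hcD' : Nat.card D' =
      p ^ (Nat.card (Subgroup.centralizer ({g} : Set G))).factorization p := by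
    rw [hD', Subgroup.card_map_of_injective (Subgroup.subtype_injective _), S'.card_eq_multiplicity]
  have hle : Nat.card D ≤ Nat.card D' := by
    rw [hcD, hcD', ← hd]
    exact Nat.pow_le_pow_right hp.out.pos (le_defect_class hM hχ hg)
  have heq : D' = D.map (MulAut.conj t).toMonoidHom :=
    Subgroup.eq_of_le_of_card_ge ht
      (by rwa [Subgroup.card_map_of_injective (MulAut.conj t).injective])
  set C' := Subgroup.centralizer ({t⁻¹ * g * t⁻¹⁻¹} : Set G)
  have hDC : D ≤ C' := by
    intro u hu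
    have h1 : t * u * t⁻¹ ∈ D' := heq ▸ ⟨u, hu, rfl⟩
    have h2 := Subgroup.mem_centralizer_iff.1 (Subgroup.map_subtype_le _ h1) g rfl
    show u ∈ Subgroup.centralizer ({t⁻¹ * g * t⁻¹⁻¹} : Set G)
    rw [Subgroup.mem_centralizer_iff]
    intro y hy
    rw [Set.mem_singleton_iff] at hy
    subst hy
    calc t⁻¹ * g * t⁻¹⁻¹ * u = t⁻¹ * (g * (t * u * t⁻¹)) * t := by group
      _ = t⁻¹ * ((t * u * t⁻¹) * g) * t := by rw [h2]
      _ = u * (t⁻¹ * g * t⁻¹⁻¹) := by group
  refine ⟨t⁻¹ * g * t⁻¹⁻¹, BrauerPairs.isDefectClass_conj hM hg t⁻¹,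
    Sylow.ofCard (D.subgroupOf C') ?_, ?_⟩
  · rw [Nat.card_congr (Subgroup.subgroupOfEquivOfLe hDC).toEquiv, centralizer_conj_card, ← hcD',
      heq, Subgroup.card_map_of_injective (MulAut.conj t).injective]
  · exact (Subgroup.map_subgroupOf_eq_of_le hDC).symm

/-- The main construction. -/
theorem exists_blocks (hM : IsPModular p M) (D : Subgroup G) {r : ℕ} (x : Fin r → G)
    (hx : ∀ i j : Fin r, IsConj (x i) (x j) → i = j)
    (hD : ∀ i : Fin r, ∃ S : Sylow p ↥(Subgroup.centralizer ({x i} : Set G)),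
      (S : Subgroup ↥(Subgroup.centralizer ({x i} : Set G))).map
        (Subgroup.centralizer ({x i} : Set G)).subtype = D)
    (hsep : ∀ i j : Fin r, ∀ g h : G, IsConj (x i) g → IsConj (x j) h →
      ∀ k : ℕ, 0 < k → orderOf (g * h⁻¹) ≠ p ^ k) :
    ∃ B : Fin r → Set (IrrCharacter G), Function.Injective B ∧
      (∀ i, IsPBlock M (B i) ∧ IsDefectGroup p M (B i) D) ∧
      ∀ χ : Fin r → IrrCharacter G,
        (∀ i, χ i ∈ B i ∧ blockHeight p (B i) (χ i : G → ℂ) = 0) →
        ¬ MemLocalIdeal M (Matrix.det (Matrix.of fun i j : Fin r => (χ i : G → ℂ) (x j))) := by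
  classical
  have : M.IsMaximal := hM.2.1
  let : Field (AlgInt ⧸ M) := Ideal.Quotient.field M
  set d₀ := (Nat.card D).factorization p with hd₀
  have hdC : ∀ i, (Nat.card (Subgroup.centralizer ({x i} : Set G))).factorization p = d₀ := by
    intro i
    obtain ⟨S, hS⟩ := hD i
    have h : Nat.card D = p ^ (Nat.card (Subgroup.centralizer ({x i} : Set G))).factorization p := by
      rw [← hS, Subgroup.card_map_of_injective (Subgroup.subtype_injective _),
        S.card_eq_multiplicity]
    rw [hd₀, h, hp.out.factorization_pow]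
    simp
  let P : Sylow p G := default
  choose m hm using fun χ => exists_mult (G := G) χ (P : Subgroup G)
  let res : lRing hM →+* AlgInt ⧸ M := lRes hM
  let val : IrrCharacter G → G → lRing hM := fun χ g =>
    ⟨(χ : G → ℂ) g, isIntegral_mem_lRing hM (irr_isIntegral χ g)⟩
  let om : IrrCharacter G → G → lRing hM := fun χ g =>
    ⟨centralChar (χ : G → ℂ) g, centralChar_mem_lRing hM χ g⟩
  let Z := {χ : IrrCharacter G // (cofDegree χ).factorization p = d₀}
  let w : Z → Fin r → AlgInt ⧸ M := fun χ i => res (om χ.1 (x i))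
  have hidx : ((P : Subgroup G).index : AlgInt ⧸ M) ≠ 0 := by
    have := charP_residue hM
    rw [Ne, CharP.cast_eq_zero_iff (AlgInt ⧸ M) p]
    exact P.not_dvd_index
  have hgram : ∀ i j, ∑ χ : Z, (m χ.1 : AlgInt ⧸ M) * w χ i * res (val χ.1 (x j)⁻¹) =
      if i = j then ((P : Subgroup G).index : AlgInt ⧸ M) else 0 := by
    intro i j
    have h1 : ∑ χ : IrrCharacter G, (m χ : lRing hM) * om χ (x i) * val χ (x j)⁻¹ =
        if i = j then ((P : Subgroup G).index : lRing hM) else 0 := by
      apply Subtype.ext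
      have h := gram x hx hsep P m hm i j
      push_cast [apply_ite Subtype.val]
      simpa [om, val] using h
    have h2 := congrArg res h1
    simp only [map_sum, map_mul, map_natCast, apply_ite res, map_zero] at h2
    rw [← h2]
    refine Finset.sum_bij_ne_zero (fun χ _ _ => χ.1) (fun _ _ _ => Finset.mem_univ _)
      (fun _ _ _ _ _ _ h => Subtype.ext h) (fun χ _ hne => ?_) (fun _ _ _ => rfl)
    rcases lt_trichotomy ((cofDegree χ).factorization p) d₀ with hlt | heq | hgt
    · exfalso
      apply hne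
      have hv : MemLocalIdeal M ((χ : G → ℂ) (x j)⁻¹) := by
        refine value_mem_ideal hM χ (x j)⁻¹ ?_
        have hcent : Subgroup.centralizer ({(x j)⁻¹} : Set G) =
            Subgroup.centralizer ({x j} : Set G) := by
          ext u
          simp only [Subgroup.mem_centralizer_iff, Set.mem_singleton_iff, forall_eq]
          exact ⟨fun h => by simpa using (Commute.inv_left (a := (x j)⁻¹) h).eq,
            fun h => (Commute.inv_left (a := x j) h).eq⟩
        rwa [hcent, hdC]
      rw [(lRes_eq_zero_iff hM (val χ (x j)⁻¹)).2 hv, mul_zero]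
    · exact ⟨⟨χ, heq⟩, Finset.mem_univ _, hne, rfl⟩
    · exfalso
      apply hne
      have hv := omega_mem_ideal hM χ (x i) (by rwa [hdC])
      rw [(lRes_eq_zero_iff hM (om χ (x i))).2 hv, mul_zero, zero_mul]
  have hspan : Submodule.span (AlgInt ⧸ M) (Set.range w) = ⊤ := by
    rw [eq_top_iff]
    intro v _
    have hv : v = ∑ χ : Z, (∑ j, (m χ.1 : AlgInt ⧸ M) * res (val χ.1 (x j)⁻¹) *
        (((P : Subgroup G).index : AlgInt ⧸ M)⁻¹ * v j)) • w χ := by
      funext i
      simp only [Finset.sum_apply, Pi.smul_apply, smul_eq_mul, Finset.sum_mul]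
      rw [Finset.sum_comm, Finset.sum_eq_single i]
      · rw [Finset.sum_congr rfl (g := fun χ : Z =>
            ((m χ.1 : AlgInt ⧸ M) * w χ i * res (val χ.1 (x i)⁻¹)) *
            (((P : Subgroup G).index : AlgInt ⧸ M)⁻¹ * v i)) fun χ _ => by ring,
          ← Finset.sum_mul, hgram, if_pos rfl, ← mul_assoc, mul_inv_cancel₀ hidx, one_mul]
      · intro j _ hji
        rw [Finset.sum_congr rfl (g := fun χ : Z =>
            ((m χ.1 : AlgInt ⧸ M) * w χ i * res (val χ.1 (x j)⁻¹)) *
            (((P : Subgroup G).index : AlgInt ⧸ M)⁻¹ * v j)) fun χ _ => by ring,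
          ← Finset.sum_mul, hgram, if_neg (Ne.symm hji), zero_mul]
      · simp
    rw [hv]
    exact Submodule.sum_mem _ fun χ _ => Submodule.smul_mem _ _ (Submodule.subset_span ⟨χ, rfl⟩)
  obtain ⟨κ, a, ha, hsp, hli⟩ := exists_linearIndependent' (AlgInt ⧸ M) w
  rw [hspan] at hsp
  have : Fintype κ := @Fintype.ofFinite κ (Finite.of_injective a ha)
  have hcard : Fintype.card κ = r := by
    have b := Module.Basis.mk hli hsp.ge
    rw [← Module.finrank_eq_card_basis b, Module.finrank_fin_fun]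
  let e : Fin r ≃ κ := (Fintype.equivFinOfCardEq hcard).symm
  let sel : Fin r → Z := fun i => a (e i)
  have hwli : LinearIndependent (AlgInt ⧸ M) (fun i => w (sel i)) :=
    hli.comp e e.injective
  have hblock : ∀ (i : Fin r) (ψ : IrrCharacter G), ψ ∈ blockOf M ((sel i).1 : G → ℂ) →
      ∀ j, res (om ψ (x j)) = w (sel i) j := by
    intro i ψ hψ j
    refine (lRes_eq_iff hM _ _).2 ?_
    exact SameBlock.symm hM hψ (x j)
  have hnz : ∀ i : Fin r, ∃ j, w (sel i) j ≠ 0 := fun i => by
    by_contra h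
    simp only [not_exists, not_not] at h
    exact hwli.ne_zero i (funext h)
  have hB : ∀ i, IsPBlock M (blockOf M ((sel i).1 : G → ℂ)) := fun i => isPBlock_blockOf _
  have hmax : ∀ (i : Fin r) (ψ : IrrCharacter G), ψ ∈ blockOf M ((sel i).1 : G → ℂ) →
      (cofDegree ψ).factorization p ≤ d₀ := by
    intro i ψ hψ
    obtain ⟨j, hj⟩ := hnz i
    rw [← hblock i ψ hψ j, Ne, lRes_eq_zero_iff] at hj
    rw [← hdC j]
    exact not_lt.1 fun h => hj (omega_mem_ideal hM ψ (x j) h)
  refine ⟨fun i => blockOf M ((sel i).1 : G → ℂ), ?_, fun i => ⟨hB i, ?_⟩, ?_⟩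
  · intro i j hij
    refine hwli.injective (funext fun l => ?_)
    rw [← hblock i (sel i).1 (mem_blockOf_self hM _) l]
    exact hblock j (sel i).1 (by
      have h := mem_blockOf_self hM (sel i).1
      simp only at hij
      rwa [← hij]) l
  · obtain ⟨j, hj⟩ := hnz i
    obtain ⟨S, hS⟩ := hD j
    refine isDefectGroup_of_omega hM (hB i) (mem_blockOf_self hM _) S hS.symm ?_ ?_
    · intro h
      exact hj ((lRes_eq_zero_iff hM _).2 h)
    · rw [hdC]; exact (sel i).2
  · intro ψ hψ
    have hd : ∀ i, (cofDegree (ψ i)).factorization p = d₀ := by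
      intro i
      obtain ⟨hmem, hh⟩ := hψ i
      refine le_antisymm (hmax i _ hmem) ?_
      have hsel : (sel i).1 ∈ blockOf M ((sel i).1 : G → ℂ) := mem_blockOf_self hM _
      rw [blockHeight] at hh
      have h1 : (charDegree (ψ i : G → ℂ)).factorization p ≤
          (charDegree ((sel i).1 : G → ℂ)).factorization p :=
        (Nat.le_of_sub_eq_zero hh).trans (Nat.sInf_le ⟨_, hsel, rfl⟩)
      have h2 := factorization_cof (p := p) (ψ i)
      have h3 := factorization_cof (p := p) (sel i).1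
      have h4 := (sel i).2
      omega
    let A : Matrix (Fin r) (Fin r) (lRing hM) := Matrix.of fun i j => val (ψ i) (x j)
    have hdetA : Matrix.det (Matrix.of fun i j : Fin r => (ψ i : G → ℂ) (x j)) =
        ((A.det : lRing hM) : ℂ) := (RingHom.map_det (lRing hM).subtype A).symm
    rw [hdetA, ← lRes_eq_zero_iff hM]
    show res A.det ≠ 0
    rw [RingHom.map_det]
    let V : Matrix (Fin r) (Fin r) (AlgInt ⧸ M) := Matrix.of fun i j => w (sel i) j
    let u : Fin r → AlgInt ⧸ M := fun i => ((cofDegree (ψ i) / p ^ d₀ : ℕ) : AlgInt ⧸ M)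
    let c : Fin r → AlgInt ⧸ M := fun j =>
      ((Nat.card (Subgroup.centralizer ({x j} : Set G)) / p ^ d₀ : ℕ) : AlgInt ⧸ M)
    have hunit : ∀ n : ℕ, n ≠ 0 → n.factorization p = d₀ →
        ((n / p ^ d₀ : ℕ) : AlgInt ⧸ M) ≠ 0 := by
      intro n hn hnd
      have := charP_residue hM
      rw [Ne, CharP.cast_eq_zero_iff (AlgInt ⧸ M) p, ← hnd]
      exact Nat.not_dvd_ordCompl hp.out hn
    have hentry : Matrix.diagonal u * res.mapMatrix A = V * Matrix.diagonal c := by
      ext i j
      rw [Matrix.diagonal_mul, Matrix.mul_diagonal]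
      have hpd : ∀ n : ℕ, n.factorization p = d₀ → (n : ℂ) = (p : ℂ) ^ d₀ * (n / p ^ d₀ : ℕ) := by
        intro n hn
        rw [← Nat.cast_pow, ← Nat.cast_mul, Nat.mul_div_cancel' (hn ▸ Nat.ordProj_dvd n p)]
      have h1 := centralizer_mul_omega (ψ i) (x j)
      rw [hpd _ (hdC j), hpd _ (hd i), mul_assoc, mul_assoc] at h1
      have h2 := mul_left_cancel₀ (pow_ne_zero d₀ (Nat.cast_ne_zero.2 hp.out.ne_zero)) h1
      have h3 : ((Nat.card (Subgroup.centralizer ({x j} : Set G)) / p ^ d₀ : ℕ) : lRing hM) *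
          om (ψ i) (x j) = ((cofDegree (ψ i) / p ^ d₀ : ℕ) : lRing hM) * val (ψ i) (x j) :=
        Subtype.ext (by push_cast; simpa [om, val] using h2)
      have h4 := congrArg res h3
      rw [map_mul, map_mul, map_natCast, map_natCast, hblock i _ (hψ i).1 j] at h4
      show u i * res (val (ψ i) (x j)) = w (sel i) j * c j
      rw [← h4, mul_comm]
    have hV : V.det ≠ 0 := by
      have hu : IsUnit V := Matrix.linearIndependent_rows_iff_isUnit.1 hwli
      exact ((Matrix.isUnit_iff_isUnit_det V).1 hu).ne_zero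
    intro h0
    have h5 := congrArg Matrix.det hentry
    rw [Matrix.det_mul, Matrix.det_mul, Matrix.det_diagonal, Matrix.det_diagonal, h0, mul_zero]
      at h5
    exact mul_ne_zero hV (Finset.prod_ne_zero_iff.2 fun j _ =>
      hunit _ Nat.card_pos.ne' (hdC j)) h5.symm

end CfsgLib.SeparatedClasses
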