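import Cfsg.Agent.Lib.Blocks.RelativeTrace
import Cfsg.Agent.Lib.Characters.Basic
import Cfsg.Prelude.Def_Blocks

/-!
# Commuting algebra of a small representation over a TI Sylow normalizer

If `P` is a TI Sylow subgroup, `ρ` has degree `n` with `n ^ 2 ≤ #P`, and `N_G(P) ≤ H`, then an
endomorphism commuting with `ρ H` commutes with `ρ G`.
-/

set_option autoImplicit false

noncomputable section

open scoped Pointwise

namespace CfsgLib.TIRestriction

variable {G : Type*} [Group G] [Finite G] {p : ℕ} [Fact p.Prime]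

/-- An endomorphism commuting with `H` commutes with `G`. -/
theorem commute_of_commute_overgroup (P : Sylow p G)
    (hTI : ∀ g : G, g ∉ Subgroup.normalizer ((P : Subgroup G) : Set G) →
      (P : Subgroup G) ⊓ (MulAut.conj g • (P : Subgroup G)) = ⊥)
    (H : Subgroup G) (hH : Subgroup.normalizer ((P : Subgroup G) : Set G) ≤ H)
    {V : Type*} [AddCommGroup V] [Module ℂ V] [FiniteDimensional ℂ V]
    (ρ : Representation ℂ G V) (hV : Module.finrank ℂ V ^ 2 ≤ Nat.card (P : Subgroup G))
    (f : V →ₗ[ℂ] V) (hf : ∀ h ∈ H, f ∘ₗ ρ h = ρ h ∘ₗ f) (g : G) : f ∘ₗ ρ g = ρ g ∘ₗ f := by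
  have hρ : ∀ a b : G, ρ a ∘ₗ ρ b = ρ (a * b) := fun a b => (map_mul ρ a b).symm
  rcases subsingleton_or_nontrivial V with hs | hs
  · exact LinearMap.ext fun v => Subsingleton.elim _ _
  let σ := Representation.linHom ρ ρ
  have hσ : ∀ (a : G) (T : V →ₗ[ℂ] V), σ a T = ρ a ∘ₗ T ∘ₗ ρ a⁻¹ := fun a T => rfl
  have hfix : ∀ h ∈ H, σ h f = f := by
    intro h hh
    rw [hσ, ← LinearMap.comp_assoc, ← hf h hh, LinearMap.comp_assoc, hρ, mul_inv_cancel, map_one]
    rfl
  have hid : ∀ a, σ a LinearMap.id = LinearMap.id := by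
    intro a
    rw [hσ, LinearMap.id_comp, hρ, mul_inv_cancel, map_one]
    rfl
  have hid0 : (LinearMap.id : V →ₗ[ℂ] V) ≠ 0 := by
    intro h
    obtain ⟨v, hv⟩ := exists_ne (0 : V)
    exact hv (LinearMap.congr_fun h v)
  have hdim : Module.finrank ℂ (V →ₗ[ℂ] V) ≤ Nat.card (P : Subgroup G) := by
    rw [Module.finrank_linearMap, ← pow_two]; exact hV
  have key := RelativeTrace.fixed_of_overgroup P hTI H hH σ hdim hid0 hid hfix g
  rw [hσ] at key
  conv_lhs => rw [← key]
  rw [LinearMap.comp_assoc, LinearMap.comp_assoc, hρ, inv_mul_cancel, map_one]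
  rfl

/-- The restriction of a small representation to an overgroup of a TI Sylow normalizer keeps
the norm of the character. -/
theorem finrank_intertwining_restrict (P : Sylow p G)
    (hTI : ∀ g : G, g ∉ Subgroup.normalizer ((P : Subgroup G) : Set G) →
      (P : Subgroup G) ⊓ (MulAut.conj g • (P : Subgroup G)) = ⊥)
    (H : Subgroup G) (hH : Subgroup.normalizer ((P : Subgroup G) : Set G) ≤ H)
    {V : Type*} [AddCommGroup V] [Module ℂ V] [FiniteDimensional ℂ V]
    (ρ : Representation ℂ G V) (hV : Module.finrank ℂ V ^ 2 ≤ Nat.card (P : Subgroup G)) :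
    Module.finrank ℂ (Representation.IntertwiningMap ρ ρ) =
      Module.finrank ℂ (Representation.IntertwiningMap (ρ.comp H.subtype) (ρ.comp H.subtype)) := by
  let e : Representation.IntertwiningMap ρ ρ →ₗ[ℂ]
      Representation.IntertwiningMap (ρ.comp H.subtype) (ρ.comp H.subtype) :=
    { toFun := fun f => ⟨f.toLinearMap, fun h => f.isIntertwining' (h : G)⟩
      map_add' := fun f f' => rfl
      map_smul' := fun c f => rfl }
  refine (LinearEquiv.ofBijective e ⟨fun f f' h => ?_, fun f => ?_⟩).finrank_eq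
  · exact Representation.IntertwiningMap.ext (congrArg (fun x => x.toLinearMap) h :)
  · exact ⟨⟨f.toLinearMap, fun g => commute_of_commute_overgroup P hTI H hH ρ hV f.toLinearMap
      (fun h hh => f.isIntertwining' ⟨h, hh⟩) g⟩, rfl⟩

end CfsgLib.TIRestriction
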